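import Cfsg.Agent.Lib.Lie.PermCover
import Cfsg.Agent.Lib.Lie.OEightTwoMult.Gens

/-!
A central table on a Sylow 5-subgroup of the orthogonal group of plus type in dimension eight over two elements (generated).
-/

set_option autoImplicit false
set_option maxRecDepth 100000
set_option maxHeartbeats 0
set_option Elab.async false

namespace Cfsg.Agent.Lie.OEightTwoMult

open Cfsg.Agent.Lie PermCover

/-- generators of the subgroup -/
def fiveGens : List Elem := [(0x1c9b0360a289846c06080f08e091698cb0340c11074231b924a02f088fcdc212d8d40a4a378f88c7631148965a098ec3274171800e48041dc403d0216458532282c34753688824380a894e4422b19862013489c387015990bc3339834286b1813cae290f9c4820e2e8c8044c130581e1e329549a5c35090860c1419c004e20074d0170197c5454, 0x23150784c138d43c2c2b97476761203c5e05050c8262a3514ce44a010a436102d9408469108cc240020148e66111020221828960c448369547e66068d03a072f158886e27194ee38319c4b4681406862233012cd64115804400b1705c6c0e320e8b8450f8500c2d3a8f49a67020586e25278e4be6f0a8704c0c1f1d0d847249c0b243018646009,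 [0, 3, 0, 1, 1, 0, 3, 3, 3, 2, 1, 2, 3, 3, 0, 3, 0, 1, 0, 1, 0, 1, 1, 2, 2, 3, 0, 1, 0, 1, 0, 1, 1, 0, 1, 2, 1, 2, 2, 1, 0, 0, 3, 3, 3, 0, 0, 1, 0, 0, 1, 1]),
  (0x368fc1a1d331540e341d05c1c45320b86c5c161509835138f08c1e2f8dc084f0b0e4de25329589c5e370e08877338b49a061e850ea1f120ec1e761795c0a5d0a8f8d8260e1d08e0c39900242119800a46138868466818968c62819128a62a39028266a01924b2302182432702c120a2620c020222225804c02b05904406b0d90820692d808a029, 0x28110923a1b88c5e182c94cee3d04080082c279ccae6b14850600d2f9508068018a83a1721158e466128c42a012e1549a65078983c161c984d8510d81814363b0f89662231bcb4522f1a4c8701989c561c219a89c67060900028318f0b04716840680924180e83b038b832133716c7e4a108d42205229b4ea3805888341238930825d0f8081c32, [0, 3, 0, 3, 0, 1, 1, 2, 3, 2, 2, 3, 2, 2, 1, 0, 1, 2, 3, 3, 2, 2, 3, 2, 2, 1, 0, 0, 1, 1, 1, 0, 0, 1, 0, 0, 1, 1, 2, 2, 2, 2, 1, 0, 0, 3, 3, 3, 0, 0, 1, 0, 0, 1, 1])]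

def fiveElt : Janko.Tree (ℕ) :=
  (.node (.node (.node (.node (.node (.leaf 432662773869576704) (.leaf 2003651116289757265)) (.node (.leaf 1659969676478019118) (.leaf 109532054525097054))) (.node (.node (.leaf 1425287649587116058) (.leaf 1605219909032485909)) (.leaf 291085817667165259))) (.node (.node (.node (.leaf 343189614787828786) (.leaf 795063736307335712)) (.leaf 1369099649951749204)) (.node (.node (.leaf 2092629773909280886) (.leaf 1192435964635279927)) (.leaf 2018745900046262313)))) (.node (.node (.node (.node (.leaf 1859287846744252425) (.leaf 90810937127512591)) (.leaf 940485145130495587)) (.node (.node (.leaf 596097282651773479) (.leaf 1173153493535745093)) (.leaf 1874028111958674538))) (.node (.node (.node (.leaf 184303233189299820) (.leaf 1568632706021756531)) (.leaf 1048428737923962436)) (.node (.node (.leaf 614890279965841981) (.leaf 525726821833271871)) (.leaf 1821219324006516838)))))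

def fiveNext : Janko.Tree (ℕ) :=
  (.node (.node (.node (.node (.node (.node (.leaf 1) (.leaf 19)) (.node (.leaf 12) (.leaf 14))) (.node (.node (.leaf 7) (.leaf 22)) (.leaf 16))) (.node (.node (.node (.leaf 4) (.leaf 21)) (.leaf 0)) (.node (.node (.leaf 10) (.leaf 9)) (.leaf 18)))) (.node (.node (.node (.node (.leaf 3) (.leaf 20)) (.leaf 13)) (.node (.node (.leaf 8) (.leaf 23)) (.leaf 17))) (.node (.node (.node (.leaf 6) (.leaf 5)) (.leaf 15)) (.node (.node (.leaf 11) (.leaf 24)) (.leaf 2))))) (.node (.node (.node (.node (.node (.leaf 2) (.leaf 20)) (.node (.leaf 13) (.leaf 10))) (.node (.node (.leaf 8) (.leaf 23)) (.leaf 17))) (.node (.node (.node (.leaf 5) (.leaf 1)) (.leaf 15)) (.node (.node (.leaf 11) (.leaf 24)) (.leaf 0)))) (.node (.node (.node (.node (.leaf 4) (.leaf 21)) (.leaf 14)) (.node (.node (.leaf 9) (.leaf 3)) (.leaf 18))) (.node (.node (.node (.leaf 7) (.leaf 22)) (.leaf 16)) (.node (.node (.leaf 12) (.leaf 6)) (.leaf 19))))))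

def fiveWord : Janko.Tree (ℕ) :=
  (.node (.node (.node (.node (.node (.leaf 1) (.leaf 1048593)) (.node (.leaf 4113) (.leaf 4294971665))) (.node (.node (.leaf 257) (.leaf 16777489)) (.leaf 65553))) (.node (.node (.node (.leaf 17) (.leaf 1052945)) (.leaf 65536)) (.node (.node (.leaf 4096) (.leaf 268435729)) (.leaf 69905)))) (.node (.node (.node (.node (.leaf 16) (.leaf 1048849)) (.leaf 4369)) (.node (.node (.leaf 273) (.leaf 16781585)) (.leaf 65809))) (.node (.node (.node (.leaf 256) (.leaf 16777233)) (.leaf 65537)) (.node (.node (.leaf 4097) (.leaf 268439825)) (.leaf 1048577)))))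

def fivePar : Janko.Tree (ℕ) :=
  (.node (.node (.node (.node (.node (.leaf 0) (.leaf 177)) (.node (.leaf 65) (.leaf 353))) (.node (.node (.leaf 17) (.leaf 257)) (.leaf 113))) (.node (.node (.node (.leaf 1) (.leaf 209)) (.leaf 96)) (.node (.node (.leaf 48) (.leaf 305)) (.leaf 145)))) (.node (.node (.node (.node (.leaf 0) (.leaf 193)) (.leaf 81)) (.node (.node (.leaf 33) (.leaf 273)) (.leaf 129))) (.node (.node (.node (.leaf 16) (.leaf 241)) (.leaf 97)) (.node (.node (.leaf 49) (.leaf 321)) (.leaf 161)))))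

def fiveL : Janko.Tree (List ℤ) :=
  (.node (.node (.node (.node (.node (.node (.leaf []) (.leaf [3, 3, -3])) (.node (.leaf [3, 3, -3]) (.leaf [-28, -29, 29]))) (.node (.node (.leaf [-1, -1, 1]) (.leaf [7, 7, -7])) (.leaf [3, 3, -3]))) (.node (.node (.node (.leaf [-1, -1, 1]) (.leaf [11, 11, -11])) (.node (.leaf [1]) (.leaf [0, 0, 1]))) (.node (.node (.leaf []) (.leaf [-12, -13, 13])) (.leaf [-4, -4, 4])))) (.node (.node (.node (.node (.leaf []) (.leaf [7, 7, -7])) (.node (.leaf [-8, -8, 8]) (.leaf [1, 0, 0]))) (.node (.node (.leaf [3, 3, -3]) (.leaf [11, 11, -11])) (.leaf [7, 7, -7]))) (.node (.node (.node (.leaf []) (.leaf [-11, -12, 12])) (.node (.leaf [-1, -1, 1]) (.leaf [8, 8, -7]))) (.node (.node (.leaf [-1, -1, 1]) (.leaf [11, 11, -11])) (.leaf [0, -1, 1]))))) (.node (.node (.node (.node (.node (.leaf []) (.leaf [])) (.node (.leaf []) (.leaf [0, 1]))) (.node (.node (.leaf []) (.leaf [])) (.leaf []))) (.node (.node (.node (.leaf []) (.leaf [0, 1])) (.node (.leaf []) (.leaf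 [4, 4, -3]))) (.node (.node (.leaf []) (.leaf [])) (.leaf [0, 1])))) (.node (.node (.node (.node (.leaf []) (.leaf [])) (.node (.leaf []) (.leaf [0, 1, 0]))) (.node (.node (.leaf []) (.leaf [0, 1])) (.leaf []))) (.node (.node (.node (.leaf []) (.leaf [])) (.node (.leaf []) (.leaf [-3, -3, 4]))) (.node (.node (.leaf []) (.leaf [0, 1])) (.leaf []))))))

def fiveKind : Janko.Tree (ℕ) :=
  (.node (.node (.node (.node (.node (.node (.leaf 0) (.leaf 3)) (.node (.leaf 3) (.leaf 3))) (.node (.node (.leaf 3) (.leaf 3)) (.leaf 3))) (.node (.node (.node (.leaf 3) (.leaf 3)) (.node (.leaf 3) (.leaf 2))) (.node (.node (.leaf 0) (.leaf 3)) (.leaf 3)))) (.node (.node (.node (.node (.leaf 0) (.leaf 3)) (.node (.leaf 3) (.leaf 2))) (.node (.node (.leaf 3) (.leaf 3)) (.leaf 3))) (.node (.node (.node (.leaf 0) (.leaf 3)) (.node (.leaf 3) (.leaf 3))) (.node (.node (.leaf 3) (.leaf 3)) (.leaf 3))))) (.node (.node (.node (.node (.node (.leaf 0) (.leaf 0)) (.node (.leaf 0) (.leaf 3))) (.node (.node (.leaf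 0) (.leaf 0)) (.leaf 0))) (.node (.node (.node (.leaf 0) (.leaf 3)) (.node (.leaf 0) (.leaf 3))) (.node (.node (.leaf 0) (.leaf 0)) (.leaf 3)))) (.node (.node (.node (.node (.leaf 0) (.leaf 0)) (.node (.leaf 0) (.leaf 2))) (.node (.node (.leaf 0) (.leaf 3)) (.leaf 0))) (.node (.node (.node (.leaf 0) (.leaf 0)) (.node (.leaf 0) (.leaf 3))) (.node (.node (.leaf 0) (.leaf 3)) (.leaf 0))))))

def fiveRank : Janko.Tree (ℕ) :=
  (.node (.node (.node (.node (.node (.node (.leaf 0) (.leaf 39)) (.node (.leaf 53) (.leaf 46))) (.node (.node (.leaf 35) (.leaf 41)) (.leaf 52))) (.node (.node (.node (.leaf 36) (.leaf 45)) (.node (.leaf 25) (.leaf 32))) (.node (.node (.leaf 9) (.leaf 50)) (.leaf 47)))) (.node (.node (.node (.node (.leaf 2) (.leaf 48)) (.node (.leaf 51) (.leaf 24))) (.node (.node (.leaf 55) (.leaf 44)) (.leaf 49))) (.node (.node (.node (.leaf 5) (.leaf 54)) (.node (.leaf 33) (.leaf 42))) (.node (.node (.leaf 34) (.leaf 43)) (.leaf 38))))) (.node (.node (.node (.node (.node (.leaf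 1) (.leaf 19)) (.node (.leaf 12) (.leaf 27))) (.node (.node (.leaf 7) (.leaf 22)) (.leaf 16))) (.node (.node (.node (.leaf 4) (.leaf 30)) (.node (.leaf 14) (.leaf 40))) (.node (.node (.leaf 10) (.leaf 23)) (.leaf 31)))) (.node (.node (.node (.node (.leaf 3) (.leaf 20)) (.node (.leaf 13) (.leaf 26))) (.node (.node (.leaf 8) (.leaf 29)) (.leaf 17))) (.node (.node (.node (.leaf 6) (.leaf 21)) (.node (.leaf 15) (.leaf 37))) (.node (.node (.leaf 11) (.leaf 28)) (.leaf 18))))))

def fiveVia : Janko.Tree (ℕ × ℕ) :=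
  (.node (.node (.node (.node (.node (.node (.leaf (0, 0)) (.leaf (2, 15))) (.node (.leaf (5, 17)) (.leaf (3, 18)))) (.node (.node (.leaf (2, 3)) (.leaf (3, 15))) (.leaf (5, 20)))) (.node (.node (.node (.leaf (2, 1)) (.leaf (4, 7))) (.node (.leaf (0, 10)) (.leaf (2, 0)))) (.node (.node (.leaf (0, 0)) (.leaf (4, 13))) (.leaf (5, 24))))) (.node (.node (.node (.node (.leaf (0, 0)) (.leaf (5, 23))) (.node (.leaf (5, 22)) (.leaf (0, 0)))) (.node (.node (.leaf (5, 19)) (.leaf (4, 11))) (.leaf (5, 21)))) (.node (.node (.node (.leaf (0, 0)) (.leaf (5, 8))) (.node (.leaf (2, 10)) (.leaf (4, 10)))) (.node (.node (.leaf (2, 6)) (.leaf (4, 15))) (.leaf (5, 15)))))) (.node (.node (.node (.node (.node (.leaf (0, 0)) (.leaf (0, 0))) (.node (.leaf (0, 0)) (.leaf (1, 24)))) (.node (.node (.leaf (0, 0)) (.leaf (0, 0))) (.leaf (0, 0)))) (.node (.node (.node (.leaf (0, 0)) (.leaf (1, 18))) (.node (.leaf (0, 0)) (.leaf (3, 10)))) (.node (.node (.leaf (0, 0)) (.leaf (0, 0))) (.leaf (1, 14))))) (.node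 (.node (.node (.node (.leaf (0, 0)) (.leaf (0, 0))) (.node (.leaf (0, 0)) (.leaf (1, 0)))) (.node (.node (.leaf (0, 0)) (.leaf (1, 21))) (.leaf (0, 0)))) (.node (.node (.node (.leaf (0, 0)) (.leaf (0, 0))) (.node (.leaf (0, 0)) (.leaf (5, 2)))) (.node (.node (.leaf (0, 0)) (.leaf (1, 23))) (.leaf (0, 0)))))))

def fiveOrd : Janko.Tree (ℕ) :=
  (.node (.node (.node (.node (.node (.leaf 17) (.leaf 19)) (.node (.leaf 7) (.leaf 6))) (.node (.node (.leaf 2) (.leaf 1)) (.leaf 21))) (.node (.node (.node (.leaf 3) (.leaf 8)) (.leaf 9)) (.node (.node (.leaf 23) (.leaf 16)) (.leaf 10)))) (.node (.node (.node (.node (.leaf 24) (.leaf 20)) (.leaf 18)) (.node (.node (.leaf 0) (.leaf 13)) (.leaf 22))) (.node (.node (.node (.leaf 12) (.leaf 15)) (.leaf 11)) (.node (.node (.leaf 5) (.leaf 14)) (.leaf 4)))))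

def fiveRels : List (List ℕ) := [[0, 0, 0, 0, 0],
  [1, 1, 1, 1, 1],
  [0, 0, 0, 0, 1, 0, 1, 1, 1, 1],
  [0, 0, 0, 0, 1, 1, 0, 1, 1, 1],
  [0, 0, 0, 0, 1, 1, 1, 0, 1, 1],
  [0, 0, 0, 0, 1, 1, 1, 1, 0, 1]]

/-- the certificate -/
def fiveCert : CentralLocal.Cert :=
  { act := actB baseB fiveGens, one := oneB, N := 25, k := 2, q := 0, rels := fiveRels, P := 3,
    elt := fiveElt, next := fiveNext, word := fiveWord, par := fivePar, L := fiveL, kind := fiveKind, rank := fiveRank,
    via := fiveVia, pv := [50, 51, 52] }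

theorem five_edges0 : ((List.range 25).all fun i => fiveCert.edgeCheck (Nat.add 0 i)) = true := by decide +kernel

theorem five_edges : ∀ i < 25, fiveCert.edgeCheck i = true := by
  intro i hi
  have := List.all_eq_true.1 five_edges0 (i - 0) (List.mem_range.2 (by omega)); rwa [show Nat.add 0 (i - 0) = i from Nat.add_sub_cancel' (by omega)] at this


theorem five_tree0 : ((List.range 25).all fun i => fiveCert.treeCheck (Nat.add 0 i)) = true := by decide +kernel

theorem five_tree : ∀ i < 25, fiveCert.treeCheck i = true := by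
  intro i hi
  have := List.all_eq_true.1 five_tree0 (i - 0) (List.mem_range.2 (by omega)); rwa [show Nat.add 0 (i - 0) = i from Nat.add_sub_cancel' (by omega)] at this


theorem five_vars0 : ((List.range 56).all fun i => fiveCert.varCheck (Nat.add 0 i)) = true := by decide +kernel

theorem five_vars : ∀ i < 56, fiveCert.varCheck i = true := by
  intro i hi
  have := List.all_eq_true.1 five_vars0 (i - 0) (List.mem_range.2 (by omega)); rwa [show Nat.add 0 (i - 0) = i from Nat.add_sub_cancel' (by omega)] at this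


theorem five_ord0 : ((List.range 25).all fun i => fiveCert.ordCheck fiveOrd (Nat.add 0 i)) = true := by decide +kernel

theorem five_ord : ∀ i < 25, fiveCert.ordCheck fiveOrd i = true := by
  intro i hi
  have := List.all_eq_true.1 five_ord0 (i - 0) (List.mem_range.2 (by omega)); rwa [show Nat.add 0 (i - 0) = i from Nat.add_sub_cancel' (by omega)] at this


theorem five_rels : (fiveCert.rels.all fun w => fiveCert.relCheck w) = true := by decide +kernel

theorem five_valid : fiveCert.Valid where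
  npos := Nat.succ_pos _
  kpos := Nat.succ_pos _
  edges := five_edges
  tree := five_tree
  rels := List.all_eq_true.1 five_rels
  vars := five_vars

/-- the lattice -/
def fiveLat : CentralBound.Lat :=
  { basis := [[-1, -1, 1]],
    compl := [[1, 0, 0], [0, 1, 0]],
    counts := [[5, 0], [0, 5]],
    piv := [0, 1],
    coord := [([0], [1, 0]),
      ([0], [0, 1]),
      ([1], [1, 1])],
    gens := [],
    ord := [],
    red := [([], ([(-8, 0)], []), [1])],
    kill := [] }

/-- conjugate commuting pairs -/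
def fiveSpecs : List Spec := [(([0], [1], [0, 0, 0, 0], [1]), (0x3b9b0dc74170d46c2c379d4da76168dc5e340c068442331988b4580c88036212d984b2600802c240924948965009820220a28928a6481d8e47e3d020140c07228f8883c238e88c38351c4e468140c8622a349ccd670158c05233138983c1c32194b85e0f8943a242e998be67068581e14279549a570a8382e0c2b130a84e201048443018080200, 0x3b9b0dc74170d46c2c379d4da76168dc5e340c068442331988b4580c88036212d984b2600802c240924948965009820220a28928a6481d8e47e3d020140c07228f8883c238e88c38351c4e468140c8622a349ccd670158c05233138983c1c32194b85e0f8943a242e998be67068581e14279549a570a8382e0c2b130a84e201048443018080200, [0, 0, 1, 0, 0, 3, 3, 2, 2, 3, 0, 0, 1, 0, 0, 1, 1, 2, 2, 3, 0, 3, 2, 2, 1, 0, 3, 0, 1, 2, 1, 0, 3, 3, 2, 1, 1, 0]))]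

theorem five_gens : fiveGens.all (elemOK 120 baseP) = true ∧ fiveSpecs.all (specOK 120 baseP baseB fiveCert fiveGens) = true := by decide +kernel

theorem five_lat : CentralBound.latOK fiveCert (fiveSpecs.map extOf) (5 ^ 2) fiveLat = true := by decide +kernel

end Cfsg.Agent.Lie.OEightTwoMult
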