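import Cfsg.Agent.Lib.Lie.OEightTwoMult.Twin
import Cfsg.Prelude.Def_KGroupFacts

/-!
The fibre product of two double covers of the orthogonal group of plus type in dimension eight over two
elements, each acting on 240 roots.
-/

set_option autoImplicit false
set_option maxRecDepth 100000
set_option maxHeartbeats 2000000
set_option Elab.async false

noncomputable section

namespace Cfsg.Agent.Lie.OEightTwoMult

open Cfsg Cfsg.Agent.Lie
open Cfsg.Agent.Lie.PermNine (Rep pg)
open scoped commutatorElement

universe u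

/-- The negative of a root. -/
def ng (i : Fin 240) : Fin 240 := ⟨(if (i : ℕ) % 2 = 0 then (i : ℕ) + 1 else (i : ℕ) - 1) % 240, Nat.mod_lt _ (by norm_num)⟩

theorem ng_ng : ∀ i, ng (ng i) = i := by decide +kernel

/-- The negation. -/
def negP : Equiv.Perm (Fin 240) := ⟨ng, ng, ng_ng, ng_ng⟩

/-- The pair of a root. -/
def pairF (i : Fin 240) : Fin 120 := ⟨(i : ℕ) / 2, by have := i.2; omega⟩

/-- The inner product one. -/
def Adj (i j : Fin 240) : Bool := Nat.testBit (nbM.getD i 0) j

theorem liftA_inv : ∀ s : Fin 4, ∀ i : Fin 240, pg (rootA.getD s 0) i < 240 ∧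
    pg (rootA.getD ((s + 2 : Fin 4) : ℕ) 0) (pg (rootA.getD s 0) i) = i := by decide +kernel

theorem liftB_inv : ∀ s : Fin 4, ∀ i : Fin 240, pg (rootB.getD s 0) i < 240 ∧
    pg (rootB.getD ((s + 2 : Fin 4) : ℕ) 0) (pg (rootB.getD s 0) i) = i := by decide +kernel

theorem add_two_two : ∀ s : Fin 4, s + 2 + 2 = s := by decide

/-- A generator on roots. -/
def liftA (s : Fin 4) : Equiv.Perm (Fin 240) :=
  ⟨fun i => ⟨pg (rootA.getD s 0) i, (liftA_inv s i).1⟩, fun i => ⟨pg (rootA.getD (s + 2 : Fin 4) 0) i, (liftA_inv _ i).1⟩,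
    fun i => Fin.ext (liftA_inv s i).2, fun i => Fin.ext (by
      have h := (liftA_inv (s + 2) i).2
      rwa [add_two_two] at h)⟩

/-- A twin generator on roots. -/
def liftB (s : Fin 4) : Equiv.Perm (Fin 240) :=
  ⟨fun i => ⟨pg (rootB.getD s 0) i, (liftB_inv s i).1⟩, fun i => ⟨pg (rootB.getD (s + 2 : Fin 4) 0) i, (liftB_inv _ i).1⟩,
    fun i => Fin.ext (liftB_inv s i).2, fun i => Fin.ext (by
      have h := (liftB_inv (s + 2) i).2
      rwa [add_two_two] at h)⟩

theorem liftA_ok : ∀ s : Fin 4, ∀ i : Fin 240, liftA s (ng i) = ng (liftA s i) ∧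
    ((liftA s i : ℕ) / 2 = pg (baseP.getD s 0) ((i : ℕ) / 2)) := by decide +kernel

theorem liftB_ok : ∀ s : Fin 4, ∀ i : Fin 240, liftB s (ng i) = ng (liftB s i) ∧
    ((liftB s i : ℕ) / 2 = pg (twinP.getD s 0) ((i : ℕ) / 2)) := by decide +kernel

theorem liftA_adj0 : ∀ i j : Fin 240, Adj i j = true → Adj (liftA 0 i) (liftA 0 j) = true := by decide +kernel

theorem liftA_adj1 : ∀ i j : Fin 240, Adj i j = true → Adj (liftA 1 i) (liftA 1 j) = true := by decide +kernel

theorem liftA_adj2 : ∀ i j : Fin 240, Adj i j = true → Adj (liftA 2 i) (liftA 2 j) = true := by decide +kernel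

theorem liftA_adj3 : ∀ i j : Fin 240, Adj i j = true → Adj (liftA 3 i) (liftA 3 j) = true := by decide +kernel

theorem liftB_adj0 : ∀ i j : Fin 240, Adj i j = true → Adj (liftB 0 i) (liftB 0 j) = true := by decide +kernel

theorem liftB_adj1 : ∀ i j : Fin 240, Adj i j = true → Adj (liftB 1 i) (liftB 1 j) = true := by decide +kernel

theorem liftB_adj2 : ∀ i j : Fin 240, Adj i j = true → Adj (liftB 2 i) (liftB 2 j) = true := by decide +kernel

theorem liftB_adj3 : ∀ i j : Fin 240, Adj i j = true → Adj (liftB 3 i) (liftB 3 j) = true := by decide +kernel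

theorem neg_adj : ∀ i j : Fin 240, Adj i j = true → Adj (ng i) (ng j) = true := by decide +kernel

theorem neg_pair : ∀ i, pairF (ng i) = pairF i ∧ ng i ≠ i := by decide +kernel

theorem pair_cases : ∀ i : Fin 240, ∀ p : Fin 120, pairF i = p →
    (i : ℕ) = 2 * (p : ℕ) ∨ (i : ℕ) = 2 * (p : ℕ) + 1 := by
  intro i p h
  have := congrArg Fin.val h
  simp only [pairF] at this
  omega

/-- The first root of a pair. -/
def firstR (p : Fin 120) : Fin 240 := ⟨2 * (p : ℕ), by have := p.2; omega⟩

theorem pairF_first : ∀ p, pairF (firstR p) = p := by decide +kernel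

theorem ng_first : ∀ p : Fin 120, ((ng (firstR p)) : ℕ) = 2 * (p : ℕ) + 1 := by decide +kernel

theorem tree_ok : ∀ p : Fin 120, p ≠ 0 → ∃ q : Fin 120,
    (treeN.getD q (0, 0, 0)).1 < (treeN.getD p (0, 0, 0)).1 ∧
      Adj (firstR q) (firstR p) ≠ Adj (firstR q) (ng (firstR p)) := by decide +kernel

/-- What an element of a double cover over a permutation of the pairs satisfies. -/
def Over (a : Equiv.Perm (Fin 240)) (g : Equiv.Perm (Fin 120)) : Prop :=
  (∀ i, pairF (a i) = g (pairF i)) ∧ (∀ i, a (ng i) = ng (a i)) ∧ ∀ i j, Adj i j = true → Adj (a i) (a j) = true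

theorem over_one : Over 1 1 := ⟨fun _ => rfl, fun _ => rfl, fun _ _ h => h⟩

theorem over_mul {a b : Equiv.Perm (Fin 240)} {g h : Equiv.Perm (Fin 120)} (x : Over a g) (y : Over b h) :
    Over (a * b) (g * h) :=
  ⟨fun i => by rw [Equiv.Perm.mul_apply, Equiv.Perm.mul_apply, x.1, y.1],
    fun i => by rw [Equiv.Perm.mul_apply, Equiv.Perm.mul_apply, y.2.1, x.2.1],
    fun i j h => x.2.2 _ _ (y.2.2 i j h)⟩

theorem over_neg : Over negP 1 := ⟨fun i => (neg_pair i).1, fun _ => rfl, neg_adj⟩

theorem negP_sq : negP * negP = 1 := Equiv.ext ng_ng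

/-- Only the negation lies over the identity. -/
theorem over_one_cases {a : Equiv.Perm (Fin 240)} (h : Over a 1) : a = 1 ∨ a = negP := by
  have main : ∀ b, Over b 1 → b (firstR 0) = firstR 0 → b = 1 := by
    intro b hb h0
    have key : ∀ d, ∀ p : Fin 120, (treeN.getD p (0, 0, 0)).1 = d → b (firstR p) = firstR p := by
      intro d
      induction d using Nat.strong_induction_on with
      | _ d ih =>
        intro p hd
        by_cases hp : p = 0
        · rw [hp]; exact h0
        obtain ⟨q, hq, hadj⟩ := tree_ok p hp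
        have hbq := ih _ (hd ▸ hq) q rfl
        have e := pair_cases _ p ((hb.1 (firstR p)).trans (by rw [Equiv.Perm.one_apply, pairF_first]))
        rcases e with e | e
        · exact Fin.ext e
        exfalso
        have he : b (firstR p) = ng (firstR p) := Fin.ext (e.trans (ng_first p).symm)
        cases h1 : Adj (firstR q) (firstR p) with
        | true =>
          have := hb.2.2 _ _ h1
          rw [hbq, he] at this
          exact hadj (h1.trans this.symm)
        | false =>
          cases h2 : Adj (firstR q) (ng (firstR p)) with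
          | false => exact hadj (h1.trans h2.symm)
          | true =>
            have := hb.2.2 _ _ h2
            rw [hbq, hb.2.1, he, ng_ng, h1] at this
            exact Bool.false_ne_true this
    refine Equiv.ext fun i => ?_
    have hf := key _ (pairF i) rfl
    rcases pair_cases i _ rfl with e | e
    · rwa [show i = firstR (pairF i) from Fin.ext e]
    · have hi : i = ng (firstR (pairF i)) := Fin.ext (e.trans (ng_first _).symm)
      rw [hi, hb.2.1, hf]
      rfl
  rcases pair_cases (a (firstR 0)) 0 ((h.1 _).trans (by rw [Equiv.Perm.one_apply, pairF_first])) with e | e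
  · exact Or.inl (main a h (Fin.ext e))
  · have h2 := over_mul over_neg h
    rw [one_mul] at h2
    have e2 := main _ h2 (by
      rw [Equiv.Perm.mul_apply, show a (firstR 0) = ng (firstR 0) from Fin.ext e]
      exact ng_ng _)
    right
    calc a = negP * negP * a := by rw [negP_sq, one_mul]
      _ = negP := by rw [mul_assoc, e2, mul_one]

theorem xy_one : (∀ i, ((pairX11.map liftA).prod * (pairY11.map liftA).prod) i =
      (negP * ((pairY11.map liftA).prod * (pairX11.map liftA).prod)) i) ∧
    ∀ i, ((pairX11.map liftB).prod * (pairY11.map liftB).prod) i =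
      (negP * ((pairY11.map liftB).prod * (pairX11.map liftB).prod)) i := by decide +kernel

theorem xy_two : (∀ i, ((pairX01.map liftA).prod * (pairY01.map liftA).prod) i =
      ((pairY01.map liftA).prod * (pairX01.map liftA).prod) i) ∧
    ∀ i, ((pairX01.map liftB).prod * (pairY01.map liftB).prod) i =
      (negP * ((pairY01.map liftB).prod * (pairX01.map liftB).prod)) i := by decide +kernel

end Cfsg.Agent.Lie.OEightTwoMult
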