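import Cfsg.Agent.Lib.Lie.PermCover
import Cfsg.Agent.Lib.Lie.OEightTwoMult.Gens

/-!
A central table on a Sylow 3-subgroup of the orthogonal group of plus type in dimension eight over two elements (generated).
-/

set_option autoImplicit false
set_option maxRecDepth 100000
set_option maxHeartbeats 0
set_option Elab.async false

namespace Cfsg.Agent.Lie.OEightTwoMult

open Cfsg.Agent.Lie PermCover

/-- generators of the subgroup -/
def threeGens : List Elem := [(0x331d8ba6d2c9acc0703b9b8bc652d18ce268339bcbe752d9ccc269361d0c85c351c8c4581e93c724d2114880501f11c744529928a2481f95c76552192c8249271588c3c2615088380e8bc48340c8ac40300f09c6a2c0d08c62280f8dc4a2d0d8cc4229170d84c1c150c844180305808140104800100b8382a0c0982822080383c0a0d0182c0209, 0x379d8c85e31168d270331b8e85f3916cc068339dcd85d35164c271329b4ea5c319ace658230f8883a2594892502b0fca83b211288048270f498392194c82512393cae3c22934aa38130785a341106852301b07c482c1906c4028170744a35150644231138bc6e1c118ac6618078581a1405848121003038080c0102800080385c0a150184c0211,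 [1, 2, 3, 2, 2, 1, 0, 3, 2, 1, 2, 3, 0, 0, 1, 0, 1, 2, 2, 3, 3, 0, 3, 2, 3, 2, 1, 0, 0, 3, 3, 2, 2, 2, 1, 2, 2, 1, 0, 0, 3, 3, 3, 0, 0, 1, 0, 0, 1, 1]),
  (0x28940ea741b8d8261224920da6c178b8160a20900ca641389806022f978ba5c0f8783a1c2b958e672188c02a1427938d66a148a01a0c23918c662108800a041f8f87a3c2d968b2582a950e270198c82e1626930d268158a81e0e22910c260118880e061d8e872380d868321829948ee761a8d0221025928de6e168b0120821908ce66128900200, 0xa850ea742a9506a3406830da6c269305a2c02810ca64229104a242f978ba5c1d8e872382b9586e360b858ee76279385e2e07838de6e239184e2603818ce661f8f87a3c0f8783a1c399c82612198c8a652359a8160a158a8964a3198806021188886422d968b2580d8683218188c0a250389c02210148a09248349a01208108808240309800200, [3, 2, 3, 0, 1, 2, 3, 2, 1, 0, 1, 0, 1, 1, 1, 1, 0, 3, 2, 3, 0, 1, 2, 2, 3, 3, 0, 3, 3, 3, 3, 2, 1, 1, 0, 3]),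
  (0x260809e22129204e4b2a808366d2801c3a69330e8c83f070d01a362f8ac8c110b10458582b064066e0f94cd406119d0ec21131c4e6242e91c50120a8bc805a328c87a091819c143830830c60f1f0cc76310a10cb22d151788813251c092723a938ee4d29014d01c36068ae002d85c5c42228a4205c310d46e601c82c103c289ac081e379503001, 0x10934464e24890942601950d81b03144d01d1d19c7e651a83c6e0c2f8a88e100b9005a580c95cde022907c0e6b3a88840773809c4a7223174262917050b441320cc7a08189981638069801c62190f8603b2105458592f0ac24453892ce648279d0987629810d21c36868ac010b16c862f14110b8111a18cc236050e47809351403c052a9b80018, [1, 1, 0, 0, 0, 1, 0, 1, 0, 3, 2, 3, 2, 2, 1, 0, 0, 1, 1, 1, 0, 0, 1, 0, 0, 1, 1, 2, 2, 3, 0, 0])]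

def threeElt0 : Janko.Tree (ℕ) :=
  (.node (.node (.node (.node (.node (.node (.node (.leaf 432662773869576704) (.leaf 306281616247404560)) (.node (.leaf 432662300910952448) (.leaf 1081181674278490112))) (.node (.node (.leaf 306284086382571536) (.leaf 162696667383476232)) (.node (.leaf 289075430571638876) (.leaf 1657923902231547913)))) (.node (.node (.node (.leaf 39313732808720) (.leaf 432663336787644416)) (.node (.leaf 432943769020276745) (.leaf 291468521648165436))) (.node (.node (.leaf 306811852905787400) (.leaf 1657324738189729809)) (.node (.leaf 146226870518022168) (.leaf 147353324474077756))))) (.node (.node (.node (.node (.leaf 20126088037400600) (.leaf 1080864467460030993)) (.node (.leaf 290342059663687704) (.leaf 1081462596130570761))) (.node (.node (.leaf 432662292833247232) (.leaf 162698862640789512)) (.node (.leaf 162412726142679041) (.leaf 1080865012636717073)))) (.node (.node (.node (.leaf 21251984210264124) (.leaf 290341449215779352)) (.node (.leaf 432345643848310801)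 (.leaf 289075972283306588))) (.node (.node (.leaf 432345635770605585) (.leaf 1080865025259999249)) (.leaf 1657923348970340873))))) (.node (.node (.node (.node (.node (.leaf 432944250056606217) (.leaf 306286293451044880)) (.node (.leaf 432663323625394176) (.leaf 306814055963457544))) (.node (.node (.leaf 283136337950721) (.leaf 162694197761587208)) (.node (.leaf 162415196033003521) (.leaf 1081463150465519625)))) (.node (.node (.node (.leaf 20126629765845528) (.leaf 290342072807063576)) (.node (.leaf 36843866077200) (.leaf 1080863981844570129))) (.node (.node (.leaf 36847876880400) (.leaf 1657325765476487185)) (.leaf 569287587952648)))) (.node (.node (.node (.node (.leaf 21251992238686268) (.leaf 1080863994467852305)) (.node (.leaf 564614663550984) (.leaf 1081462119673372681))) (.node (.node (.leaf 21251365734982204) (.leaf 147352782746681404)) (.node (.leaf 162417391021881345) (.leaf 146227433417216536)))) (.node (.node (.node (.leaf 18858824398545500) (.leaf 146226252042740248))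 (.node (.leaf 432346666562752529) (.leaf 290342622562882072))) (.node (.node (.leaf 283132058712065) (.leaf 1657642426044518400)) (.leaf 1657922876012765193)))))) (.node (.node (.node (.node (.node (.node (.leaf 432662781947281920) (.leaf 162168903410921488)) (.node (.leaf 1657641872783311360) (.leaf 146226260070113816))) (.node (.node (.leaf 285605959839745) (.leaf 306814059974260744)) (.node (.leaf 306527909263751169) (.leaf 291467340809511484)))) (.node (.node (.node (.leaf 20125469562118680) (.leaf 1657641395252371456)) (.node (.leaf 1657923357049094665) (.leaf 162171102434195472))) (.node (.node (.leaf 39317767204880) (.leaf 289075426001420380)) (.node (.leaf 564610652747784) (.leaf 147353319894946364))))) (.node (.node (.node (.node (.leaf 285602193879041) (.leaf 162171098399275024)) (.node (.leaf 567084553875464) (.leaf 162698870685988872))) (.node (.node (.leaf 1657641880862065152) (.leaf 1081462127717523465)) (.node (.leaf 1081181124522672640) (.leaf 144959618380472924))))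 (.node (.node (.node (.leaf 567080518955016) (.leaf 1081181682322640896)) (.node (.leaf 1657325215720669713) (.leaf 144960791181791836))) (.node (.node (.leaf 1657325223799423505) (.leaf 144959622950691420)) (.leaf 432944799812423689))))) (.node (.node (.node (.node (.node (.leaf 18859450917978204) (.leaf 162166433520597008)) (.node (.leaf 1657641399825735680) (.leaf 162694193482348552))) (.node (.node (.leaf 287801217153025) (.leaf 1081462600709702153)) (.node (.leaf 306532586198956033) (.leaf 147352156242977340)))) (.node (.node (.node (.leaf 306530379129958401) (.leaf 1657642422539128832)) (.node (.leaf 41520801282064) (.leaf 144960236855754844))) (.node (.node (.leaf 41512756082704) (.leaf 289074804052206172)) (.leaf 432943777097981961)))) (.node (.node (.node (.node (.leaf 18859442873827420) (.leaf 144960241425973340)) (.node (.leaf 569279542229000) (.leaf 147352774718259260))) (.node (.node (.leaf 21252541994504764) (.leaf 432346679725002769)) (.node (.leaf 1081180651530493952)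 (.leaf 291468509040611900)))) (.node (.node (.node (.leaf 18860000673796700) (.leaf 306809383039055880)) (.node (.leaf 1657324742763094033) (.leaf 146227428301214232))) (.node (.node (.leaf 287809262352385) (.leaf 290341454331781656)) (.leaf 291467971892346940)))))))

def threeElt1 : Janko.Tree (ℕ) :=
  (.node (.node (.node (.node (.node (.node (.node (.leaf 432346116806935057) (.leaf 432345648932855825)) (.node (.leaf 162415200043806721) (.leaf 290342617446879768))) (.node (.node (.leaf 20125474678120984) (.leaf 1657923352475730441)) (.node (.leaf 287804983113729) (.leaf 1081462115094241289)))) (.node (.node (.node (.leaf 20126093153402904) (.leaf 162412722131875841)) (.node (.leaf 162696663617515528) (.leaf 147352164271399484))) (.node (.node (.leaf 18858827872477788) (.leaf 1080864462880899601)) (.node (.leaf 21252529386951228) (.leaf 144960786611573340))))) (.node (.node (.node (.node (.leaf 20125461534745112) (.leaf 289075422527488092)) (.node (.leaf 21251361155850812) (.leaf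 291467959284793404))) (.node (.node (.leaf 162415191998607361) (.leaf 1657923906804912137)) (.node (.leaf 1657641391746981888) (.leaf 289075975757238876)))) (.node (.node (.node (.leaf 21251373763404348) (.leaf 146226878545395736)) (.node (.leaf 162168907421724688) (.leaf 144959614906540636))) (.node (.node (.leaf 162168899376001040) (.leaf 289075980327457372)) (.leaf 306814051929061384))))) (.node (.node (.node (.node (.node (.leaf 432346124884640273) (.leaf 432346674640457745)) (.node (.leaf 162412718097479681) (.leaf 432944812974673929))) (.node (.node (.leaf 306530387175682049) (.leaf 1657922867934011401)) (.node (.leaf 1657641876288700928) (.leaf 291468513619743292)))) (.node (.node (.node (.leaf 283128292751361) (.leaf 162417399067080705)) (.node (.leaf 306284090148532240) (.leaf 289074807526138460))) (.node (.node (.leaf 306284094427770896) (.leaf 1080863986423701521)) (.leaf 306809387049859080)))) (.node (.node (.node (.node (.leaf 432346129969185297) (.leaf 289074812096356956))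 (.node (.leaf 306811860950986760) (.leaf 291467345388642876))) (.node (.node (.leaf 567088564678664) (.leaf 306286289171806224)) (.node (.leaf 1657642430617882624) (.leaf 1081463145886388233)))) (.node (.node (.node (.leaf 39321778008080) (.leaf 569283577149448)) (.node (.leaf 162166425474873360) (.leaf 146226265186116120))) (.node (.node (.leaf 306530383164878849) (.leaf 1081180638907211776)) (.leaf 1081462608753852937)))))) (.node (.node (.node (.node (.node (.node (.leaf 20126080010027032) (.leaf 1657325219226059281)) (.node (.leaf 306532578153232385) (.leaf 146227420273840664))) (.node (.node (.leaf 20126637793219096) (.leaf 432944807890128905)) (.node (.leaf 432662305995497472) (.leaf 147352770139127868)))) (.node (.node (.node (.leaf 285610239078401) (.leaf 1081181119943541248)) (.node (.leaf 18859996103578204) (.leaf 1657325768981876753))) (.node (.node (.leaf 18859992629645916) (.leaf 162171106444998672)) (.leaf 306811856940183560)))) (.node (.node (.node (.node (.leaf 432944258134311433)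 (.leaf 1657325773555240977)) (.node (.leaf 21252533966082620) (.leaf 1657923898726158345))) (.node (.node (.leaf 21251979631132732) (.leaf 291467353417065020)) (.node (.leaf 290342067691061272) (.leaf 144960783137641052)))) (.node (.node (.node (.leaf 18859446347759708) (.leaf 290342609419506200)) (.node (.leaf 306286285405845520) (.leaf 1081181669699358720))) (.node (.node (.leaf 20126642909221400) (.leaf 162417395056277505)) (.leaf 162694189716387848))))) (.node (.node (.node (.node (.node (.leaf 432662787031826944) (.leaf 1657324734684340241)) (.node (.leaf 1081181132566823424) (.leaf 1657922871439400969))) (.node (.node (.leaf 306527905228830721) (.leaf 291467963863924796)) (.node (.leaf 432663331703099392) (.leaf 147353332502499900)))) (.node (.node (.node (.leaf 432944263218856457) (.leaf 1081180643486343168)) (.node (.leaf 306281620526643216) (.leaf 1080865017215848465))) (.node (.node (.leaf 306281612481443856) (.leaf 144960233381822556)) (.leaf 162696671662714888)))) (.node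 (.node (.node (.node (.leaf 18858832442696284) (.leaf 306532582188152833)) (.node (.leaf 306809379004659720) (.leaf 1081463158509670409))) (.node (.node (.leaf 564606617827336) (.leaf 162166429509793808)) (.node (.leaf 290341441188405784) (.leaf 147352151663845948)))) (.node (.node (.node (.leaf 36839831681040) (.leaf 432943782182526985)) (.node (.leaf 1080864475504181777) (.leaf 162698866406750216))) (.node (.node (.leaf 306527913274554369) (.leaf 146226883661398040)) (.leaf 41516790478864)))))))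

def threeElt : Janko.Tree (ℕ) := (.node threeElt0 threeElt1)

def threeNext0 : Janko.Tree (ℕ) :=
  (.node (.node (.node (.node (.node (.node (.node (.leaf 1) (.leaf 209)) (.leaf 32)) (.node (.node (.leaf 72) (.leaf 141)) (.leaf 175))) (.node (.node (.node (.leaf 36) (.leaf 215)) (.leaf 153)) (.node (.node (.leaf 88) (.leaf 175)) (.leaf 187)))) (.node (.node (.node (.node (.leaf 0) (.leaf 212)) (.leaf 141)) (.node (.node (.leaf 85) (.leaf 188)) (.leaf 184))) (.node (.node (.node (.leaf 57) (.leaf 228)) (.leaf 158)) (.node (.leaf 23) (.leaf 74))))) (.node (.node (.node (.node (.node (.leaf 13) (.leaf 199)) (.leaf 137)) (.node (.node (.leaf 81) (.leaf 138)) (.leaf 174))) (.node (.node (.node (.leaf 4) (.leaf 122)) (.leaf 156)) (.node (.node (.leaf 104) (.leaf 206)) (.leaf 195)))) (.node (.node (.node (.node (.leaf 32) (.leaf 93)) (.leaf 42)) (.node (.node (.leaf 96) (.leaf 238)) (.leaf 174))) (.node (.node (.node (.leaf 61) (.leaf 126)) (.leaf 46)) (.node (.leaf 40) (.leaf 199))))))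 (.node (.node (.node (.node (.node (.node (.leaf 8) (.leaf 91)) (.leaf 118)) (.node (.node (.leaf 74) (.leaf 137)) (.leaf 177))) (.node (.node (.node (.leaf 44) (.leaf 104)) (.leaf 150)) (.node (.node (.leaf 107) (.leaf 207)) (.leaf 193)))) (.node (.node (.node (.node (.leaf 1) (.leaf 207)) (.leaf 146)) (.node (.node (.leaf 80) (.leaf 158)) (.leaf 182))) (.node (.node (.node (.leaf 7) (.leaf 226)) (.leaf 66)) (.node (.leaf 115) (.leaf 203))))) (.node (.node (.node (.node (.node (.leaf 18) (.leaf 85)) (.leaf 134)) (.node (.node (.leaf 13) (.leaf 156)) (.leaf 166))) (.node (.node (.node (.leaf 50) (.leaf 147)) (.leaf 159)) (.node (.node (.leaf 111) (.leaf 223)) (.leaf 78)))) (.node (.node (.node (.node (.leaf 36) (.leaf 110)) (.leaf 36)) (.node (.node (.leaf 22) (.leaf 237)) (.leaf 190))) (.node (.node (.node (.leaf 56) (.leaf 232)) (.leaf 166)) (.node (.leaf 126) (.leaf 78)))))))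

def threeNext1 : Janko.Tree (ℕ) :=
  (.node (.node (.node (.node (.node (.node (.node (.leaf 2) (.leaf 208)) (.leaf 131)) (.node (.node (.leaf 73) (.leaf 128)) (.leaf 55))) (.node (.node (.node (.leaf 40) (.leaf 219)) (.leaf 152)) (.node (.node (.leaf 99) (.leaf 183)) (.leaf 192)))) (.node (.node (.node (.node (.leaf 2) (.leaf 217)) (.leaf 137)) (.node (.node (.leaf 90) (.leaf 169)) (.leaf 169))) (.node (.node (.node (.leaf 53) (.leaf 150)) (.leaf 165)) (.node (.leaf 24) (.leaf 81))))) (.node (.node (.node (.node (.node (.leaf 14) (.leaf 94)) (.leaf 138)) (.node (.node (.leaf 77) (.leaf 232)) (.leaf 51))) (.node (.node (.node (.leaf 49) (.leaf 113)) (.leaf 153)) (.node (.node (.leaf 110) (.leaf 242)) (.leaf 72)))) (.node (.node (.node (.node (.leaf 29) (.leaf 97)) (.leaf 148)) (.node (.node (.leaf 17) (.leaf 162)) (.leaf 68))) (.node (.node (.node (.leaf 66) (.leaf 229)) (.leaf 47)) (.node (.leaf 118) (.leaf 205)))))) (.node (.node (.node (.node (.node (.node (.leaf 9) (.leaf 211))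 (.leaf 129)) (.node (.node (.leaf 11) (.leaf 233)) (.leaf 161))) (.node (.node (.node (.leaf 43) (.leaf 112)) (.leaf 155)) (.node (.node (.leaf 108) (.leaf 242)) (.leaf 190)))) (.node (.node (.node (.node (.leaf 27) (.leaf 215)) (.leaf 129)) (.node (.node (.leaf 88) (.leaf 239)) (.leaf 55))) (.node (.node (.node (.leaf 8) (.leaf 117)) (.leaf 161)) (.node (.leaf 120) (.leaf 103))))) (.node (.node (.node (.node (.node (.leaf 17) (.leaf 86)) (.leaf 140)) (.node (.node (.leaf 14) (.leaf 145)) (.leaf 177))) (.node (.node (.node (.leaf 5) (.leaf 125)) (.leaf 160)) (.node (.leaf 107) (.leaf 197)))) (.node (.node (.node (.node (.leaf 37) (.leaf 221)) (.leaf 145)) (.node (.node (.leaf 101) (.leaf 184)) (.leaf 177))) (.node (.node (.node (.leaf 64) (.leaf 224)) (.leaf 172)) (.node (.leaf 27) (.leaf 202)))))))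

def threeNext2 : Janko.Tree (ℕ) :=
  (.node (.node (.node (.node (.node (.node (.node (.leaf 3) (.leaf 205)) (.leaf 132)) (.node (.node (.leaf 12) (.leaf 234)) (.leaf 176))) (.node (.node (.node (.leaf 41) (.leaf 222)) (.leaf 148)) (.node (.node (.leaf 18) (.leaf 241)) (.leaf 180)))) (.node (.node (.node (.node (.leaf 23) (.leaf 216)) (.leaf 32)) (.node (.node (.leaf 91) (.leaf 238)) (.leaf 180))) (.node (.node (.node (.leaf 58) (.leaf 224)) (.leaf 64)) (.node (.leaf 113) (.leaf 200))))) (.node (.node (.node (.node (.node (.leaf 15) (.leaf 213)) (.leaf 132)) (.node (.node (.leaf 82) (.leaf 154)) (.leaf 52))) (.node (.node (.node (.leaf 6) (.leaf 114)) (.leaf 41)) (.node (.node (.leaf 94) (.leaf 202)) (.leaf 193)))) (.node (.node (.node (.node (.leaf 1) (.leaf 108)) (.leaf 149)) (.node (.node (.leaf 20) (.leaf 240)) (.leaf 59))) (.node (.node (.node (.leaf 67) (.leaf 121)) (.leaf 164)) (.node (.leaf 25) (.leaf 106)))))) (.node (.node (.node (.node (.node (.node (.leaf 8) (.leaf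 197)) (.leaf 28)) (.node (.node (.leaf 12) (.leaf 132)) (.leaf 58))) (.node (.node (.node (.leaf 45) (.leaf 222)) (.leaf 140)) (.node (.node (.leaf 102) (.leaf 201)) (.leaf 63)))) (.node (.node (.node (.node (.leaf 28) (.leaf 218)) (.leaf 40)) (.node (.node (.leaf 15) (.leaf 172)) (.leaf 186))) (.node (.node (.node (.leaf 59) (.leaf 230)) (.leaf 167)) (.node (.leaf 121) (.leaf 197))))) (.node (.node (.node (.node (.node (.leaf 19) (.leaf 210)) (.leaf 124)) (.node (.node (.leaf 83) (.leaf 153)) (.leaf 183))) (.node (.node (.node (.leaf 6) (.leaf 227)) (.leaf 48)) (.node (.leaf 22) (.leaf 198)))) (.node (.node (.node (.node (.leaf 34) (.leaf 220)) (.leaf 151)) (.node (.node (.leaf 102) (.leaf 241)) (.leaf 71))) (.node (.node (.node (.leaf 9) (.leaf 139)) (.leaf 171)) (.node (.leaf 30) (.leaf 207)))))))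

def threeNext3 : Janko.Tree (ℕ) :=
  (.node (.node (.node (.node (.node (.node (.node (.leaf 4) (.leaf 79)) (.leaf 127)) (.node (.node (.leaf 74) (.leaf 142)) (.leaf 159))) (.node (.node (.node (.leaf 37) (.leaf 107)) (.leaf 37)) (.node (.node (.leaf 19) (.leaf 179)) (.leaf 188)))) (.node (.node (.node (.node (.leaf 24) (.leaf 213)) (.leaf 143)) (.node (.node (.leaf 86) (.leaf 189)) (.leaf 185))) (.node (.node (.node (.leaf 59) (.leaf 229)) (.leaf 159)) (.node (.leaf 116) (.leaf 101))))) (.node (.node (.node (.node (.node (.leaf 14) (.leaf 200)) (.leaf 139)) (.node (.node (.leaf 83) (.leaf 236)) (.leaf 175))) (.node (.node (.node (.leaf 50) (.leaf 123)) (.leaf 43)) (.node (.node (.leaf 105) (.leaf 214)) (.leaf 67)))) (.node (.node (.node (.node (.leaf 33) (.leaf 219)) (.leaf 143)) (.node (.node (.leaf 97) (.leaf 239)) (.leaf 60))) (.node (.node (.node (.leaf 62) (.leaf 231)) (.leaf 170)) (.node (.leaf 26) (.leaf 200)))))) (.node (.node (.node (.node (.node (.node (.leaf 10) (.leaf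 92)) (.leaf 29)) (.node (.node (.leaf 75) (.leaf 235)) (.leaf 178))) (.node (.node (.node (.leaf 46) (.leaf 108)) (.leaf 151)) (.node (.node (.leaf 109) (.leaf 208)) (.leaf 194)))) (.node (.node (.node (.node (.leaf 27) (.leaf 96)) (.leaf 33)) (.node (.node (.leaf 16) (.leaf 160)) (.leaf 183))) (.node (.node (.node (.leaf 62) (.leaf 227)) (.leaf 168)) (.node (.leaf 116) (.leaf 75))))) (.node (.node (.node (.node (.node (.leaf 20) (.leaf 215)) (.leaf 135)) (.node (.node (.leaf 86) (.leaf 236)) (.leaf 182))) (.node (.node (.node (.leaf 51) (.leaf 226)) (.leaf 161)) (.node (.leaf 113) (.leaf 79)))) (.node (.node (.node (.node (.leaf 2) (.leaf 111)) (.leaf 135)) (.node (.node (.leaf 97) (.leaf 178)) (.leaf 191))) (.node (.node (.node (.leaf 10) (.leaf 233)) (.leaf 167)) (.node (.leaf 127) (.leaf 109)))))))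

def threeNext4 : Janko.Tree (ℕ) :=
  (.node (.node (.node (.node (.node (.node (.node (.leaf 5) (.leaf 209)) (.leaf 133)) (.node (.node (.leaf 75) (.leaf 130)) (.leaf 56))) (.node (.node (.node (.leaf 42) (.leaf 220)) (.leaf 38)) (.node (.node (.leaf 100) (.leaf 191)) (.leaf 193)))) (.node (.node (.node (.node (.leaf 25) (.leaf 87)) (.leaf 38)) (.node (.node (.leaf 92) (.leaf 170)) (.leaf 170))) (.node (.node (.node (.leaf 9) (.leaf 151)) (.leaf 44)) (.node (.leaf 117) (.leaf 82))))) (.node (.node (.node (.node (.node (.leaf 16) (.leaf 95)) (.leaf 122)) (.node (.node (.leaf 15) (.leaf 148)) (.leaf 181))) (.node (.node (.node (.leaf 51) (.leaf 225)) (.leaf 46)) (.node (.node (.leaf 111) (.leaf 218)) (.leaf 195)))) (.node (.node (.node (.node (.leaf 3) (.leaf 211)) (.leaf 150)) (.node (.node (.leaf 98) (.leaf 164)) (.leaf 69))) (.node (.node (.node (.leaf 68) (.leaf 230)) (.leaf 70)) (.node (.leaf 119) (.leaf 206)))))) (.node (.node (.node (.node (.node (.node (.leaf 0) (.leaf 83))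 (.leaf 130)) (.node (.node (.leaf 78) (.leaf 234)) (.leaf 179))) (.node (.node (.node (.leaf 44) (.leaf 223)) (.leaf 156)) (.node (.node (.leaf 92) (.leaf 196)) (.leaf 191)))) (.node (.node (.node (.node (.leaf 29) (.leaf 216)) (.leaf 34)) (.node (.node (.leaf 89) (.leaf 192)) (.leaf 57))) (.node (.node (.node (.leaf 63) (.leaf 119)) (.leaf 162)) (.node (.leaf 122) (.leaf 76))))) (.node (.node (.node (.node (.node (.leaf 18) (.leaf 203)) (.leaf 141)) (.node (.node (.leaf 87) (.leaf 149)) (.leaf 178))) (.node (.node (.node (.leaf 54) (.leaf 126)) (.leaf 162)) (.node (.leaf 25) (.leaf 199)))) (.node (.node (.node (.node (.leaf 3) (.leaf 98)) (.leaf 146)) (.node (.node (.leaf 103) (.leaf 185)) (.leaf 190))) (.node (.node (.node (.leaf 65) (.leaf 225)) (.leaf 48)) (.node (.leaf 128) (.leaf 203)))))))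

def threeNext5 : Janko.Tree (ℕ) :=
  (.node (.node (.node (.node (.node (.node (.node (.leaf 6) (.leaf 206)) (.leaf 134)) (.node (.node (.leaf 73) (.leaf 228)) (.leaf 49))) (.node (.node (.node (.leaf 7) (.leaf 102)) (.leaf 149)) (.node (.node (.leaf 106) (.leaf 195)) (.leaf 181)))) (.node (.node (.node (.node (.leaf 24) (.leaf 217)) (.leaf 144)) (.node (.node (.leaf 93) (.leaf 239)) (.leaf 181))) (.node (.node (.node (.leaf 60) (.leaf 225)) (.leaf 45)) (.node (.leaf 114) (.leaf 201))))) (.node (.node (.node (.node (.node (.leaf 13) (.leaf 214)) (.leaf 133)) (.node (.node (.leaf 84) (.leaf 155)) (.leaf 165))) (.node (.node (.node (.leaf 49) (.leaf 146)) (.leaf 157)) (.node (.node (.leaf 95) (.leaf 210)) (.leaf 194)))) (.node (.node (.node (.node (.leaf 34) (.leaf 109)) (.leaf 133)) (.node (.node (.leaf 21) (.leaf 172)) (.leaf 189))) (.node (.node (.node (.leaf 69) (.leaf 123)) (.leaf 165)) (.node (.leaf 125) (.leaf 205)))))) (.node (.node (.node (.node (.node (.node (.leaf 11)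 (.leaf 84)) (.leaf 136)) (.node (.node (.leaf 79) (.leaf 134)) (.leaf 173))) (.node (.node (.node (.leaf 47) (.leaf 121)) (.leaf 155)) (.node (.node (.leaf 103) (.leaf 242)) (.leaf 65)))) (.node (.node (.node (.node (.leaf 30) (.leaf 91)) (.leaf 41)) (.node (.node (.leaf 95) (.leaf 237)) (.leaf 187))) (.node (.node (.node (.leaf 60) (.leaf 154)) (.leaf 169)) (.node (.leaf 123) (.leaf 198))))) (.node (.node (.node (.node (.node (.leaf 21) (.leaf 211)) (.leaf 125)) (.node (.node (.leaf 84) (.leaf 157)) (.leaf 53))) (.node (.node (.node (.leaf 55) (.leaf 115)) (.leaf 157)) (.node (.leaf 114) (.leaf 99)))) (.node (.node (.node (.node (.leaf 35) (.leaf 221)) (.leaf 152)) (.node (.node (.leaf 104) (.leaf 173)) (.leaf 72))) (.node (.node (.node (.leaf 71) (.leaf 140)) (.leaf 173)) (.node (.leaf 31) (.leaf 208)))))))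

def threeNext6 : Janko.Tree (ℕ) :=
  (.node (.node (.node (.node (.node (.node (.node (.leaf 5) (.leaf 81)) (.leaf 128)) (.node (.node (.leaf 76) (.leaf 232)) (.leaf 50))) (.node (.node (.node (.leaf 4) (.leaf 222)) (.leaf 154)) (.node (.node (.leaf 90) (.leaf 187)) (.leaf 189)))) (.node (.node (.node (.node (.leaf 26) (.leaf 214)) (.leaf 145)) (.node (.node (.leaf 87) (.leaf 238)) (.leaf 186))) (.node (.node (.node (.leaf 61) (.leaf 230)) (.leaf 160)) (.node (.leaf 118) (.leaf 202))))) (.node (.node (.node (.node (.node (.leaf 0) (.leaf 213)) (.leaf 30)) (.node (.node (.leaf 85) (.leaf 143)) (.leaf 176))) (.node (.node (.node (.leaf 52) (.leaf 124)) (.leaf 158)) (.node (.node (.leaf 106) (.leaf 227)) (.leaf 69)))) (.node (.node (.node (.node (.leaf 35) (.leaf 220)) (.leaf 144)) (.node (.node (.leaf 99) (.leaf 240)) (.leaf 176))) (.node (.node (.node (.leaf 63) (.leaf 127)) (.leaf 171)) (.node (.leaf 42) (.leaf 201)))))) (.node (.node (.node (.node (.node (.node (.leaf 12) (.leaf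 93)) (.leaf 120)) (.node (.node (.leaf 76) (.leaf 142)) (.leaf 180))) (.node (.node (.node (.leaf 48) (.leaf 224)) (.leaf 152)) (.node (.node (.leaf 20) (.leaf 209)) (.leaf 184)))) (.node (.node (.node (.node (.leaf 28) (.leaf 218)) (.leaf 147)) (.node (.node (.leaf 82) (.leaf 240)) (.leaf 67))) (.node (.node (.node (.leaf 64) (.leaf 228)) (.leaf 68)) (.node (.leaf 117) (.leaf 204))))) (.node (.node (.node (.node (.node (.leaf 22) (.leaf 216)) (.leaf 136)) (.node (.node (.leaf 88) (.leaf 168)) (.leaf 54))) (.node (.node (.node (.leaf 52) (.leaf 116)) (.leaf 163)) (.node (.leaf 115) (.leaf 80)))) (.node (.node (.node (.node (.leaf 38) (.leaf 112)) (.leaf 136)) (.node (.node (.leaf 98) (.leaf 241)) (.leaf 61))) (.node (.node (.node (.leaf 58) (.leaf 234)) (.leaf 54)) (.node (.leaf 129) (.leaf 110)))))))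

def threeNext7 : Janko.Tree (ℕ) :=
  (.node (.node (.node (.node (.node (.node (.node (.leaf 7) (.leaf 210)) (.leaf 135)) (.node (.node (.leaf 77) (.leaf 235)) (.leaf 57))) (.node (.node (.node (.leaf 43) (.leaf 221)) (.leaf 139)) (.node (.node (.leaf 101) (.leaf 219)) (.leaf 194)))) (.node (.node (.node (.node (.leaf 23) (.leaf 89)) (.leaf 39)) (.node (.node (.leaf 94) (.leaf 171)) (.leaf 185))) (.node (.node (.node (.leaf 10) (.leaf 229)) (.leaf 166)) (.node (.leaf 119) (.leaf 196))))) (.node (.node (.node (.node (.node (.leaf 17) (.leaf 96)) (.leaf 31)) (.node (.node (.leaf 16) (.leaf 236)) (.leaf 182))) (.node (.node (.node (.leaf 53) (.leaf 226)) (.leaf 47)) (.node (.node (.leaf 112) (.leaf 231)) (.leaf 196)))) (.node (.node (.node (.node (.leaf 33) (.leaf 212)) (.leaf 35)) (.node (.node (.leaf 100) (.leaf 168)) (.leaf 70))) (.node (.node (.node (.leaf 70) (.leaf 138)) (.leaf 71)) (.node (.leaf 120) (.leaf 77)))))) (.node (.node (.node (.node (.node (.node (.leaf 11) (.leaf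 212)) (.leaf 131)) (.node (.node (.leaf 80) (.leaf 235)) (.leaf 163))) (.node (.node (.node (.leaf 45) (.leaf 144)) (.leaf 39)) (.node (.node (.leaf 21) (.leaf 198)) (.leaf 192)))) (.node (.node (.node (.node (.leaf 31) (.leaf 217)) (.leaf 131)) (.node (.node (.leaf 90) (.leaf 167)) (.leaf 188))) (.node (.node (.node (.leaf 65) (.leaf 231)) (.leaf 163)) (.node (.leaf 124) (.leaf 105))))) (.node (.node (.node (.node (.node (.leaf 19) (.leaf 204)) (.leaf 142)) (.node (.node (.leaf 89) (.leaf 237)) (.leaf 179))) (.node (.node (.node (.leaf 56) (.leaf 223)) (.leaf 164)) (.node (.leaf 26) (.leaf 73)))) (.node (.node (.node (.node (.leaf 39) (.leaf 100)) (.leaf 147)) (.node (.node (.leaf 105) (.leaf 186)) (.leaf 62))) (.node (.node (.node (.leaf 66) (.leaf 233)) (.leaf 174)) (.node (.leaf 130) (.leaf 204)))))))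

def threeNext : Janko.Tree (ℕ) := (.node (.node (.node threeNext0 threeNext4) (.node threeNext2 threeNext6)) (.node (.node threeNext1 threeNext5) (.node threeNext3 threeNext7)))

def threeWord0 : Janko.Tree (ℕ) :=
  (.node (.node (.node (.node (.node (.node (.node (.leaf 1) (.leaf 269557792)) (.node (.leaf 1122338) (.leaf 4596965378))) (.node (.node (.leaf 66080) (.leaf 4296090112)) (.node (.leaf 16916514) (.leaf 1099798938114)))) (.node (.node (.node (.leaf 4130) (.leaf 286392354)) (.node (.leaf 16785442) (.leaf 68753039394))) (.node (.node (.leaf 1049120) (.leaf 4312924674)) (.node (.leaf 19005474) (.leaf 17597018013730))))) (.node (.node (.node (.node (.leaf 274) (.leaf 269623298)) (.node (.leaf 1187874) (.leaf 68737441794))) (.node (.node (.leaf 73762) (.leaf 4297064960)) (.node (.leaf 17957376) (.leaf 1104108593154)))) (.node (.node (.node (.leaf 65554) (.leaf 287318050)) (.node (.leaf 16850978) (.leaf 69021474850))) (.node (.node (.leaf 1056802) (.leaf 4328529922)) (.leaf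 268509698))))) (.node (.node (.node (.node (.node (.leaf 256) (.leaf 269615136)) (.node (.leaf 1179682) (.leaf 68737433632))) (.node (.node (.leaf 70146) (.leaf 4296147456)) (.node (.leaf 17900032) (.leaf 1099813625858)))) (.node (.node (.node (.leaf 4608) (.leaf 286400546)) (.node (.leaf 16847362) (.leaf 69006794754))) (.node (.node (.leaf 1053186) (.leaf 4313842178)) (.leaf 268509186)))) (.node (.node (.node (.node (.leaf 4098) (.leaf 270540802)) (.node (.leaf 16781826) (.leaf 68738359298))) (.node (.node (.leaf 1048864) (.leaf 4297195554)) (.node (.leaf 18874880) (.leaf 1173063073826)))) (.node (.node (.node (.leaf 65824) (.leaf 302120994)) (.node (.leaf 16908322) (.leaf 73316442146))) (.node (.node (.leaf 1118722) (.leaf 4582277634)) (.leaf 268567042)))))) (.node (.node (.node (.node (.node (.node (.leaf 17) (.leaf 269558272)) (.node (.leaf 1122818) (.leaf 4597088290))) (.node (.node (.leaf 69922) (.leaf 4296146976)) (.node (.leaf 17899552) (.leaf 1099798945826)))) (.node (.node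 (.node (.leaf 4384) (.leaf 286392834)) (.node (.leaf 16785922) (.leaf 69006787072))) (.node (.node (.leaf 1052962) (.leaf 4312932386)) (.node (.leaf 268505602) (.leaf 281548528156706))))) (.node (.node (.node (.node (.leaf 290) (.leaf 270533120)) (.node (.leaf 16781602) (.leaf 68738351616))) (.node (.node (.leaf 74242) (.leaf 4297072642)) (.node (.leaf 17965058) (.leaf 1104108716066)))) (.node (.node (.node (.leaf 65570) (.leaf 301998082)) (.node (.leaf 16851458) (.leaf 69256478754))) (.node (.node (.leaf 1057282) (.leaf 4328652834)) (.leaf 268566562))))) (.node (.node (.node (.node (.node (.leaf 258) (.leaf 269615616)) (.node (.leaf 1180162) (.leaf 68737434112))) (.node (.node (.leaf 73730) (.leaf 4296155138)) (.node (.leaf 17956896) (.leaf 1099813748770)))) (.node (.node (.node (.leaf 4640) (.leaf 287310338)) (.node (.leaf 16850946) (.leaf 69006917666))) (.node (.node (.leaf 1056770) (.leaf 4313849890)) (.leaf 268509218)))) (.node (.node (.node (.node (.leaf 4114) (.leaf 270663714))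 (.node (.leaf 16785410) (.leaf 68738482210))) (.node (.node (.leaf 1049088) (.leaf 4312924194)) (.node (.leaf 18882562) (.leaf 17596783009826)))) (.node (.node (.node (.leaf 66048) (.leaf 4296089632)) (.node (.leaf 16908802) (.leaf 73551446050))) (.node (.node (.leaf 1122306) (.leaf 4582285346)) (.leaf 268574754)))))))

def threeWord1 : Janko.Tree (ℕ) :=
  (.node (.node (.node (.node (.node (.node (.node (.leaf 16) (.leaf 269557794)) (.node (.leaf 1122816) (.leaf 4596965410))) (.node (.node (.leaf 69920) (.leaf 4296090114)) (.node (.leaf 17899522) (.leaf 1099798945794)))) (.node (.node (.node (.leaf 4370) (.leaf 286392832)) (.node (.leaf 16785920) (.leaf 68753162274))) (.node (.node (.leaf 1052960) (.leaf 4312932354)) (.node (.leaf 268505600) (.leaf 17665737490466))))) (.node (.node (.node (.node (.leaf 288) (.leaf 269623330)) (.node (.leaf 16781600) (.leaf 68737441826))) (.node (.node (.leaf 74240) (.leaf 4297064962)) (.node (.leaf 17957378) (.leaf 1104108593186)))) (.node (.node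 (.node (.leaf 65568) (.leaf 287440930)) (.node (.leaf 16851456) (.leaf 69021597730))) (.node (.node (.leaf 1057280) (.leaf 4328529954)) (.leaf 268566560))))) (.node (.node (.node (.node (.node (.leaf 257) (.leaf 269615138)) (.node (.leaf 1180160) (.leaf 68737433634))) (.node (.node (.leaf 70176) (.leaf 4296147458)) (.node (.leaf 17900034) (.leaf 1099813625890)))) (.node (.node (.node (.leaf 4610) (.leaf 287310336)) (.node (.leaf 16847392) (.leaf 69006794786))) (.node (.node (.leaf 1053216) (.leaf 4313849858)) (.leaf 268509216)))) (.node (.node (.node (.node (.leaf 4113) (.leaf 270540834)) (.node (.leaf 16781856) (.leaf 68738359330))) (.node (.node (.leaf 1048866) (.leaf 4312924192)) (.node (.leaf 18874882) (.leaf 17596783009794)))) (.node (.node (.node (.leaf 65826) (.leaf 4296089602)) (.node (.leaf 16908800) (.leaf 73316565026))) (.node (.node (.leaf 1118752) (.leaf 4582285314)) (.leaf 268574722)))))) (.node (.node (.node (.node (.node (.node (.leaf 18) (.leaf 269558274)) (.node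 (.leaf 1179680) (.leaf 4831969314))) (.node (.node (.leaf 70144) (.leaf 4296146978)) (.node (.leaf 17899554) (.leaf 1099799068706)))) (.node (.node (.node (.leaf 4386) (.leaf 286400514)) (.node (.leaf 16847360) (.leaf 69006787074))) (.node (.node (.leaf 1053184) (.leaf 4313842176)) (.leaf 268505632)))) (.node (.node (.node (.node (.leaf 4097) (.leaf 270533122)) (.node (.leaf 16781824) (.leaf 68738351618))) (.node (.node (.leaf 1048850) (.leaf 4297072674)) (.node (.leaf 17965090) (.leaf 1104343597090)))) (.node (.node (.node (.leaf 65810) (.leaf 301998114)) (.node (.leaf 16908320) (.leaf 73316442114))) (.node (.node (.leaf 1118720) (.leaf 4582277632)) (.leaf 268567040))))) (.node (.node (.node (.node (.node (.leaf 273) (.leaf 269615618)) (.node (.leaf 1187842) (.leaf 68737434114))) (.node (.node (.leaf 73760) (.leaf 4296155170)) (.node (.leaf 17956898) (.leaf 1100048629794)))) (.node (.node (.node (.leaf 65553) (.leaf 287318018)) (.node (.leaf 16850976) (.leaf 69021474818))) (.node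 (.node (.leaf 1056800) (.leaf 4313972770)) (.leaf 268509696)))) (.node (.node (.node (.node (.leaf 4128) (.leaf 286392352)) (.node (.leaf 16785440) (.leaf 68753039362))) (.node (.node (.leaf 1049090) (.leaf 4312924672)) (.node (.leaf 18882594) (.leaf 17596783132706)))) (.node (.node (.node (.leaf 66050) (.leaf 4296089634)) (.node (.leaf 16916482) (.leaf 1099798938112))) (.node (.node (.leaf 1122336) (.leaf 4582408226)) (.leaf 269557762)))))))

def threeWord : Janko.Tree (ℕ) := (.node threeWord0 threeWord1)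

def threePar0 : Janko.Tree (ℕ) :=
  (.node (.node (.node (.node (.node (.node (.node (.leaf 0) (.leaf 1344)) (.node (.leaf 578) (.leaf 2386))) (.node (.node (.leaf 256) (.leaf 1840)) (.node (.leaf 930) (.leaf 3138)))) (.node (.node (.node (.leaf 98) (.leaf 1554)) (.node (.leaf 754) (.leaf 2706))) (.node (.node (.leaf 416) (.leaf 2050)) (.node (.leaf 1138) (.leaf 3650))))) (.node (.node (.node (.node (.leaf 34) (.leaf 1426)) (.node (.leaf 674) (.leaf 2562))) (.node (.node (.leaf 338) (.leaf 1936)) (.node (.leaf 1008) (.leaf 3362)))) (.node (.node (.node (.leaf 178) (.leaf 1682)) (.node (.leaf 834) (.leaf 2882))) (.node (.node (.leaf 498) (.leaf 2210)) (.leaf 1234))))) (.node (.node (.node (.node (.node (.leaf 16) (.leaf 1376)) (.node (.leaf 610) (.leaf 2512))) (.node (.node (.leaf 290) (.leaf 1872)) (.node (.leaf 976) (.leaf 3234)))) (.node (.node (.node (.leaf 144) (.leaf 1618)) (.node (.leaf 786) (.leaf 2802))) (.node (.node (.leaf 450) (.leaf 2114)) (.leaf 1202)))) (.node (.node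 (.node (.node (.leaf 66) (.leaf 1490)) (.node (.leaf 706) (.leaf 2626))) (.node (.node (.leaf 384) (.leaf 2002)) (.node (.leaf 1072) (.leaf 3506)))) (.node (.node (.node (.leaf 224) (.leaf 1762)) (.node (.leaf 866) (.leaf 3010))) (.node (.node (.leaf 530) (.leaf 2290)) (.leaf 1266)))))) (.node (.node (.node (.node (.node (.node (.leaf 1) (.leaf 1360)) (.node (.leaf 594) (.leaf 2418))) (.node (.node (.leaf 274) (.leaf 1856)) (.node (.leaf 960) (.leaf 3186)))) (.node (.node (.node (.leaf 128) (.leaf 1570)) (.node (.leaf 770) (.leaf 2768))) (.node (.node (.leaf 434) (.leaf 2098)) (.node (.leaf 1170) (.leaf 3794))))) (.node (.node (.node (.node (.leaf 50) (.leaf 1456)) (.node (.leaf 690) (.leaf 2592))) (.node (.node (.leaf 354) (.leaf 1970)) (.node (.leaf 1042) (.leaf 3394)))) (.node (.node (.node (.leaf 194) (.leaf 1730)) (.node (.leaf 850) (.leaf 2946))) (.node (.node (.leaf 514) (.leaf 2242)) (.leaf 1250))))) (.node (.node (.node (.node (.node (.leaf 18) (.leaf 1392)) (.node (.leaf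 626) (.leaf 2528))) (.node (.node (.leaf 322) (.leaf 1906)) (.node (.leaf 992) (.leaf 3266)))) (.node (.node (.node (.leaf 160) (.leaf 1634)) (.node (.leaf 818) (.leaf 2834))) (.node (.node (.leaf 482) (.leaf 2162)) (.leaf 1218)))) (.node (.node (.node (.node (.leaf 82) (.leaf 1522)) (.node (.leaf 738) (.leaf 2658))) (.node (.node (.leaf 400) (.leaf 2034)) (.node (.leaf 1106) (.leaf 3586)))) (.node (.node (.node (.leaf 240) (.leaf 1824)) (.node (.leaf 882) (.leaf 3074))) (.node (.node (.leaf 562) (.leaf 2338)) (.leaf 1314)))))))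

def threePar1 : Janko.Tree (ℕ) :=
  (.node (.node (.node (.node (.node (.node (.node (.leaf 0) (.leaf 1346)) (.node (.leaf 592) (.leaf 2402))) (.node (.node (.leaf 272) (.leaf 1842)) (.node (.leaf 946) (.leaf 3170)))) (.node (.node (.node (.leaf 114) (.leaf 1568)) (.node (.leaf 768) (.leaf 2722))) (.node (.node (.leaf 432) (.leaf 2082)) (.node (.leaf 1168) (.leaf 3714))))) (.node (.node (.node (.node (.leaf 48) (.leaf 1442)) (.node (.leaf 688) (.leaf 2578))) (.node (.node (.leaf 352) (.leaf 1938)) (.node (.leaf 1010) (.leaf 3378)))) (.node (.node (.node (.leaf 192) (.leaf 1698)) (.node (.leaf 848) (.leaf 2898))) (.node (.node (.leaf 512) (.leaf 2226)) (.leaf 1248))))) (.node (.node (.node (.node (.node (.leaf 17) (.leaf 1378)) (.node (.leaf 624) (.leaf 2514))) (.node (.node (.leaf 304) (.leaf 1874)) (.node (.leaf 978) (.leaf 3250)))) (.node (.node (.node (.leaf 146) (.leaf 1632)) (.node (.leaf 800) (.leaf 2818))) (.node (.node (.leaf 464) (.leaf 2146)) (.leaf 1216)))) (.node (.node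 (.node (.node (.leaf 81) (.leaf 1506)) (.node (.leaf 720) (.leaf 2642))) (.node (.node (.leaf 386) (.leaf 2032)) (.node (.leaf 1074) (.leaf 3570)))) (.node (.node (.node (.leaf 226) (.leaf 1810)) (.node (.leaf 880) (.leaf 3026))) (.node (.node (.leaf 544) (.leaf 2322)) (.leaf 1298)))))) (.node (.node (.node (.node (.node (.node (.leaf 2) (.leaf 1362)) (.node (.leaf 608) (.leaf 2466))) (.node (.node (.leaf 288) (.leaf 1858)) (.node (.leaf 962) (.leaf 3202)))) (.node (.node (.node (.leaf 130) (.leaf 1602)) (.node (.leaf 784) (.leaf 2770))) (.node (.node (.leaf 448) (.leaf 2112)) (.leaf 1184)))) (.node (.node (.node (.node (.leaf 65) (.leaf 1458)) (.node (.leaf 704) (.leaf 2594))) (.node (.node (.leaf 370) (.leaf 1986)) (.node (.leaf 1058) (.leaf 3442)))) (.node (.node (.node (.leaf 210) (.leaf 1746)) (.node (.leaf 864) (.leaf 2994))) (.node (.node (.leaf 528) (.leaf 2288)) (.leaf 1264))))) (.node (.node (.node (.node (.node (.leaf 33) (.leaf 1394)) (.node (.leaf 658) (.leaf 2530)))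 (.node (.node (.leaf 336) (.leaf 1922)) (.node (.leaf 994) (.leaf 3314)))) (.node (.node (.node (.leaf 177) (.leaf 1666)) (.node (.leaf 832) (.leaf 2866))) (.node (.node (.leaf 496) (.leaf 2178)) (.leaf 1232)))) (.node (.node (.node (.node (.leaf 96) (.leaf 1552)) (.node (.leaf 752) (.leaf 2690))) (.node (.node (.leaf 402) (.leaf 2048)) (.node (.leaf 1122) (.leaf 3602)))) (.node (.node (.node (.leaf 242) (.leaf 1826)) (.node (.leaf 914) (.leaf 3136))) (.node (.node (.leaf 576) (.leaf 2354)) (.leaf 1330)))))))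

def threePar : Janko.Tree (ℕ) := (.node threePar0 threePar1)

def threeL0 : Janko.Tree (List ℤ) :=
  (.node (.node (.node (.node (.node (.node (.node (.leaf []) (.leaf [])) (.leaf [-11, 12, 22, 11, -22])) (.node (.node (.leaf []) (.leaf [23, -40, -64, -23, 64])) (.leaf []))) (.node (.node (.node (.leaf [514, 707, 193, -514, -193]) (.leaf [194, 191, 9, -188, -3, -3])) (.leaf [])) (.node (.node (.leaf [34309, 62972, 28367, -34457, -28515, 74]) (.leaf [0, 0, 1])) (.leaf [-23, -16, 7, 23, -7])))) (.node (.node (.node (.node (.leaf [0, 0, 1]) (.leaf [-192, -252, -60, 192, 60])) (.leaf [-472, -1044, -568, 474, 570, -1])) (.node (.node (.leaf [-2, -4, -2, 2, 2]) (.leaf [-1028, -1748, -715, 1031, 717, -1])) (.leaf []))) (.node (.node (.node (.leaf []) (.leaf [])) (.leaf [-256, -321, -65, 256, 65])) (.node (.node (.leaf [0, 0, 1]) (.leaf [-3, -5, -1, 4, 2])) (.leaf [1]))))) (.node (.node (.node (.node (.node (.leaf []) (.leaf [547, 1087, 528, -553, -534, 3])) (.leaf [])) (.node (.node (.leaf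 []) (.leaf [0, 0, 1])) (.leaf [302, 536, 234, -302, -234]))) (.node (.node (.node (.leaf [0, 0, 1]) (.leaf [284, 336, 51, -284, -51])) (.leaf [-8267, -13848, -5573, 8271, 5577, -2])) (.node (.node (.leaf [108, 169, 61, -108, -61]) (.leaf [701, 1104, 412, -696, -408, -2])) (.leaf [])))) (.node (.node (.node (.node (.leaf []) (.leaf [0, 0, 1])) (.leaf [7, -10, -18, -7, 18])) (.node (.node (.leaf []) (.leaf [-201, -271, -70, 201, 70])) (.leaf [1175, 2503, 1312, -1183, -1320, 4]))) (.node (.node (.node (.leaf [-353, -505, -152, 353, 152]) (.leaf [-2025, -2682, -676, 2016, 666, 5])) (.leaf [0, 0, 1])) (.node (.node (.leaf [-1233, -2115, -877, 1236, 879, -1]) (.leaf [3430, 7352, 3849, -3466, -3885, 19])) (.leaf [173, 221, 48, -173, -48])))))) (.node (.node (.node (.node (.node (.node (.leaf []) (.leaf [-222, -499, -278, 222, 278])) (.leaf [-37637, -66907, -29038, 37753, 29154, -58])) (.node (.node (.leaf [-69, -14, 55, 69, -55]) (.leaf [-981, -1221, -247, 978, 243, 2])) (.leaf []))) (.node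 (.node (.node (.leaf []) (.leaf [0, 0, 1])) (.leaf [522, 735, 213, -522, -213])) (.node (.node (.leaf []) (.leaf [169, 263, 93, -169, -93])) (.leaf [-11128, -15870, -4858, 11070, 4800, 29])))) (.node (.node (.node (.node (.leaf [0, 1]) (.leaf [3030, 5100, 2070, -3030, -2070])) (.leaf [])) (.node (.node (.leaf [3194, 6669, 3407, -3228, -3441, 17]) (.leaf [0, 0, 1])) (.leaf [-34, 22, 56, 34, -56]))) (.node (.node (.node (.leaf [0, 0, 1]) (.leaf [173, 223, 50, -173, -50])) (.leaf [9874, 15470, 5629, -9857, -5613, -8])) (.node (.node (.leaf [-2, -4, -2, 2, 2]) (.leaf [9, 9, 2, -8])) (.leaf []))))) (.node (.node (.node (.node (.node (.leaf []) (.leaf [0, 0, 1])) (.leaf [72, 136, 64, -72, -64])) (.node (.node (.leaf [0, 0, 1]) (.leaf [234, 345, 110, -234, -110])) (.leaf [268, 248, -16, -266, 18, -1]))) (.node (.node (.node (.leaf [-411, -647, -236, 411, 236]) (.leaf [1969, 1888, -40, -1948, 60, -10])) (.leaf [])) (.node (.node (.leaf [29318, 54204, 24578, -29472, -24732, 77]) (.leaf [0,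 0, 1])) (.leaf [-34, -14, 19, 34, -19])))) (.node (.node (.node (.node (.leaf []) (.leaf [408, 583, 174, -408, -174])) (.leaf [1])) (.node (.node (.leaf [19, 27, 7, -19, -7]) (.leaf [8530, 16234, 7584, -8590, -7644, 30])) (.leaf []))) (.node (.node (.node (.leaf [-850, -1662, -808, 852, 810, -1]) (.leaf [])) (.leaf [14, 11, -3, -14, 3])) (.node (.node (.leaf []) (.leaf [1078, 1965, 888, -1077, -888, 1])) (.leaf [1])))))))

def threeL1 : Janko.Tree (List ℤ) :=
  (.node (.node (.node (.node (.node (.node (.node (.leaf []) (.leaf [350, 420, 74, -348, -72, -1])) (.leaf [])) (.node (.node (.leaf []) (.leaf [0, 0, 1])) (.leaf [-106, -233, -128, 106, 128]))) (.node (.node (.node (.leaf []) (.leaf [-50, -47, 3, 50, -3])) (.leaf [2513, 1497, -892, -2451, 954, -31])) (.node (.node (.leaf [-164, -221, -57, 164, 57]) (.leaf [965, 1824, 856, -966, -858, 1])) (.leaf [])))) (.node (.node (.node (.node (.leaf [0, -1, 0, 1]) (.leaf [])) (.leaf [-5, 0, 5, 5, -5])) (.node (.node (.leaf []) (.leaf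 [306, 466, 159, -306, -159])) (.leaf [2762, 4689, 1919, -2766, -1923, 2]))) (.node (.node (.node (.leaf [-128, -193, -65, 128, 65]) (.leaf [677, 185, -463, -662, 477, -7])) (.leaf [])) (.node (.node (.leaf [1]) (.leaf [-6, -13, -6, 7, 7])) (.leaf [-163, -230, -68, 163, 68]))))) (.node (.node (.node (.node (.node (.leaf []) (.leaf [23, -42, -66, -23, 66])) (.leaf [])) (.node (.node (.leaf [-2, -4, -2, 2, 2]) (.leaf [4, -1118, -1062, 26, 1092, -15])) (.leaf [0, 0, 1]))) (.node (.node (.node (.leaf []) (.leaf [0, 0, 1])) (.leaf [11, 25, 14, -11, -14])) (.node (.node (.leaf []) (.leaf [-230, -303, -73, 230, 73])) (.leaf [-21306, -38004, -16561, 21375, 16629, -34])))) (.node (.node (.node (.node (.leaf [189, 328, 139, -189, -139]) (.leaf [1])) (.leaf [])) (.node (.node (.leaf [1]) (.leaf [0, 0, 1])) (.leaf [314, 459, 144, -314, -144]))) (.node (.node (.node (.leaf []) (.leaf [-30, -52, -22, 30, 22])) (.leaf [1])) (.node (.node (.leaf [4, 7, 3, -4, -3]) (.leaf [2090, 4556, 2413, -2116,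 -2439, 14])) (.leaf [])))))) (.node (.node (.node (.node (.node (.node (.leaf []) (.leaf [])) (.leaf [-101, -176, -75, 101, 75])) (.node (.node (.leaf [0, 0, 1]) (.leaf [-57, -49, 8, 57, -8])) (.leaf [-1, 1, -2, -1, 0, 1]))) (.node (.node (.node (.leaf [0, -1, -1, 0, 1]) (.leaf [7853, 13281, 5413, -7860, -5421, 4])) (.leaf [])) (.node (.node (.leaf []) (.leaf [])) (.leaf [-193, -251, -58, 193, 58])))) (.node (.node (.node (.node (.leaf []) (.leaf [-173, -245, -72, 173, 72])) (.leaf [73443, 131962, 58007, -73699, -58263, 128])) (.node (.node (.leaf [94, 157, 63, -94, -63]) (.leaf [970, 1305, 343, -966, -339, -2])) (.leaf [0, 0, 1]))) (.node (.node (.node (.leaf [1]) (.leaf [0, 0, 1])) (.leaf [4, 4, 0, -4])) (.node (.node (.leaf []) (.leaf [9, 7, 0, -8, 2])) (.leaf [760, 2435, 1612, -791, -1644, 16]))))) (.node (.node (.node (.node (.node (.leaf [-360, -517, -157, 360, 157]) (.leaf [1])) (.leaf [])) (.node (.node (.leaf [1]) (.leaf [0, 0, 1])) (.leaf [152, 239, 87, -152, -87]))) (.node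 (.node (.node (.leaf [0, 0, 1]) (.leaf [8, 9, 0, -8])) (.leaf [])) (.node (.node (.leaf [160, 240, 80, -160, -80]) (.leaf [1, 0, 0, 0, 0, 0])) (.leaf [])))) (.node (.node (.node (.node (.leaf []) (.leaf [])) (.leaf [-36, 13, 49, 36, -49])) (.node (.node (.leaf []) (.leaf [238, 305, 66, -238, -66])) (.leaf [-6921, -11306, -4393, 6917, 4389, 2]))) (.node (.node (.node (.leaf [127, 187, 60, -127, -60]) (.leaf [357, 1030, 653, -367, -663, 5])) (.leaf [])) (.node (.node (.leaf [1]) (.leaf [-241, -363, -123, 241, 123, 1])) (.leaf [-248, -406, -158, 248, 158])))))))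

def threeL2 : Janko.Tree (List ℤ) :=
  (.node (.node (.node (.node (.node (.node (.node (.leaf []) (.leaf [20, 1, -19, -20, 19])) (.leaf [])) (.node (.node (.leaf [0, 3, 2, 0, -2]) (.leaf [-323, -348, -29, 321, 27, 1])) (.leaf []))) (.node (.node (.node (.leaf []) (.leaf [])) (.leaf [-179, -249, -70, 179, 70])) (.node (.node (.leaf [0, 0, 1]) (.leaf [-116, -267, -151, 116, 151])) (.leaf [-497, 140, 605, 481, -621, 8])))) (.node (.node (.node (.node (.leaf []) (.leaf [515, 540, 29, -513, -27, -1])) (.leaf [0, 0, 1])) (.node (.node (.leaf []) (.leaf [])) (.leaf [45, 18, -27, -45, 27]))) (.node (.node (.node (.leaf []) (.leaf [-60, -63, -3, 60, 3])) (.leaf [-35665, -64852, -28906, 35806, 29046, -70])) (.node (.node (.leaf [-172, -239, -67, 172, 67]) (.leaf [-1, -3, -1, 2, 2])) (.leaf []))))) (.node (.node (.node (.node (.node (.leaf []) (.leaf [])) (.leaf [105, 310, 205, -105, -205])) (.node (.node (.leaf []) (.leaf [-215, -304, -90, 215, 90])) (.leaf [1]))) (.node (.node (.node (.leaf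 [-18, -24, -7, 18, 7]) (.leaf [1])) (.leaf [0, 0, 1])) (.node (.node (.leaf [930, 1215, 297, -924, -291, -3]) (.leaf [0, 0, 1])) (.leaf [576, 794, 218, -576, -218])))) (.node (.node (.node (.node (.leaf [0, 0, 1]) (.leaf [-698, -984, -287, 698, 287])) (.leaf [])) (.node (.node (.leaf [-418, -574, -157, 418, 157]) (.leaf [-107, -150, -47, 105, 45, 1])) (.leaf [0, 0, 1]))) (.node (.node (.node (.leaf []) (.leaf [0, 0, 1])) (.leaf [-162, -248, -86, 162, 86])) (.node (.node (.leaf [0, 0, 1]) (.leaf [821, 2879, 2005, -847, -2031, 14])) (.leaf [-6916, -12874, -5881, 6955, 5919, -19])))))) (.node (.node (.node (.node (.node (.node (.leaf [357, 533, 176, -357, -176]) (.leaf [1310, 2686, 1360, -1318, -1368, 4])) (.leaf [0, 0, 1])) (.node (.node (.leaf [1]) (.leaf [0, 0, 1])) (.leaf [-32, -34, -3, 32, 3]))) (.node (.node (.node (.leaf []) (.leaf [547, 762, 215, -547, -215])) (.leaf [-980, -2679, -1643, 1008, 1671, -14])) (.node (.node (.leaf [597, 814, 217, -597, -217]) (.leaf [414, 765,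 356, -411, -354, -1])) (.leaf [0, 0, 1])))) (.node (.node (.node (.node (.leaf []) (.leaf [])) (.leaf [208, 311, 102, -208, -102])) (.node (.node (.leaf [0, 0, 1]) (.leaf [-142, -208, -67, 142, 67])) (.leaf [-518, -774, -260, 516, 258, 1]))) (.node (.node (.node (.leaf [-166, -221, -55, 166, 55]) (.leaf [-1391, -2025, -650, 1383, 642, 4])) (.leaf [])) (.node (.node (.leaf []) (.leaf [5, 6, 3, -4, -1])) (.leaf [29, -1, -30, -29, 30]))))) (.node (.node (.node (.node (.node (.leaf []) (.leaf [115, 188, 73, -115, -73])) (.leaf [34008, 62637, 28329, -34158, -28479, 75])) (.node (.node (.leaf [-28, -17, 11, 28, -11]) (.leaf [944, 963, 52, -927, -36, -8])) (.leaf []))) (.node (.node (.node (.leaf [1]) (.leaf [])) (.leaf [-26, -21, 4, 26, -4])) (.node (.node (.leaf [0, 0, 1]) (.leaf [0, 1, 0, 0, 0, 0])) (.leaf [])))) (.node (.node (.node (.node (.leaf [42, 70, 28, -42, -28]) (.leaf [9965, 15567, 5642, -9945, -5622, -10])) (.leaf [])) (.node (.node (.leaf []) (.leaf [])) (.leaf [212, 246,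 33, -212, -33]))) (.node (.node (.node (.leaf [0, 0, 1]) (.leaf [-9, 10, 18, 9, -18])) (.leaf [413, 480, 71, -411, -69, -1])) (.node (.node (.leaf [-139, -433, -295, 139, 295]) (.leaf [-235, -364, -130, 235, 130, 1])) (.leaf [])))))))

def threeL3 : Janko.Tree (List ℤ) :=
  (.node (.node (.node (.node (.node (.node (.node (.leaf []) (.leaf [0, 0, 1])) (.leaf [-67, -63, 4, 67, -4])) (.node (.node (.leaf []) (.leaf [-22, 2, 23, 22, -23])) (.leaf [73488, 133027, 58955, -73780, -59247, 146]))) (.node (.node (.node (.leaf [-62, -97, -35, 62, 35]) (.leaf [-7392, -10740, -3415, 7359, 3381, 17])) (.leaf [0, 0, 1])) (.node (.node (.leaf [1]) (.leaf [0, 0, 1])) (.leaf [-96, -150, -54, 96, 54])))) (.node (.node (.node (.node (.leaf []) (.leaf [-55, -47, 8, 55, -8])) (.leaf [])) (.node (.node (.leaf [185, 234, 49, -185, -49]) (.leaf [-276, -1334, -1013, 299, 1035, -11])) (.leaf []))) (.node (.node (.node (.leaf []) (.leaf [])) (.leaf [4, 7, 3, -4, -3])) (.node (.node (.leaf []) (.leaf [-25,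 -23, 3, 26, -2])) (.leaf [-5334, -11129, -5678, 5393, 5736, -29]))))) (.node (.node (.node (.node (.node (.leaf [-15, -34, -19, 15, 19]) (.leaf [5859, 9880, 4013, -5863, -4017, 2])) (.leaf [])) (.node (.node (.leaf []) (.leaf [])) (.leaf [-36, -29, 7, 36, -7]))) (.node (.node (.node (.leaf []) (.leaf [-156, -181, -26, 156, 26])) (.leaf [1])) (.node (.node (.leaf [-103, -154, -51, 103, 51]) (.leaf [-529, -807, -281, 528, 279, 1])) (.leaf [0, 0, 1])))) (.node (.node (.node (.node (.leaf []) (.leaf [])) (.leaf [-174, -233, -59, 174, 59])) (.node (.node (.leaf []) (.leaf [144, 191, 47, -144, -47])) (.leaf [1]))) (.node (.node (.node (.leaf [-430, -570, -140, 430, 140]) (.leaf [-203, -324, -125, 201, 123, 1])) (.leaf [])) (.node (.node (.leaf [1]) (.leaf [1936, 4457, 2460, -1966, -2490, 16])) (.leaf [8, 5, -3, -8, 3])))))) (.node (.node (.node (.node (.node (.node (.leaf []) (.leaf [230, 330, 99, -230, -99])) (.leaf [1])) (.node (.node (.leaf [-1, -20, -19, 1, 19]) (.leaf [-1808, -3033,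 -1229, 1806, 1227, 1])) (.leaf []))) (.node (.node (.node (.leaf []) (.leaf [0, 0, 1])) (.leaf [96, 111, 15, -96, -15])) (.node (.node (.leaf []) (.leaf [165, 258, 92, -165, -92])) (.leaf [-2072, -2526, -494, 2052, 474, 10])))) (.node (.node (.node (.node (.leaf [0, -1, -1, 0, 1]) (.leaf [-225, -75, 143, 222, -147, 2])) (.leaf [0, 0, 1])) (.node (.node (.leaf [1]) (.leaf [0, 0, 1])) (.leaf [-4, -29, -25, 4, 25]))) (.node (.node (.node (.leaf []) (.leaf [14, 7, -7, -14, 7])) (.leaf [])) (.node (.node (.leaf [38, 18, -20, -38, 20]) (.leaf [-7, -1, 8, 8, -6])) (.leaf [0, 0, 1]))))) (.node (.node (.node (.node (.node (.leaf []) (.leaf [])) (.leaf [11, 68, 57, -11, -57])) (.node (.node (.leaf []) (.leaf [-224, -285, -61, 224, 61])) (.leaf [749, 1038, 293, -747, -291, -1]))) (.node (.node (.node (.leaf [41, 13, -28, -41, 28]) (.leaf [-748, -1245, -505, 744, 501, 2])) (.leaf [])) (.node (.node (.leaf []) (.leaf [0, 0, 1, 0, 0, 0])) (.leaf [-1, 16, 16, 1, -16])))) (.node (.node (.node (.node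 (.leaf [0, 0, 1]) (.leaf [263, 377, 113, -263, -113])) (.leaf [16898, 28577, 11643, -16916, -11661, 9])) (.node (.node (.leaf [230, 270, 40, -230, -40]) (.leaf [399, 1095, 689, -402, -693, 2])) (.leaf []))) (.node (.node (.node (.leaf [1]) (.leaf [])) (.leaf [-8, -3, 5, 8, -5])) (.node (.node (.leaf []) (.leaf [-407, -565, -159, 407, 159, 1])) (.leaf [-6270, -11058, -4723, 6303, 4755, -16])))))))

def threeL4 : Janko.Tree (List ℤ) :=
  (.node (.node (.node (.node (.node (.node (.node (.leaf []) (.leaf [-569, -819, -254, 567, 252, 1])) (.leaf [])) (.node (.node (.leaf []) (.leaf [0, 0, 1])) (.leaf [-110, -160, -51, 110, 51]))) (.node (.node (.node (.leaf []) (.leaf [-195, -253, -58, 195, 58])) (.leaf [1])) (.node (.node (.leaf [-361, -498, -137, 361, 137]) (.leaf [-8212, -16515, -8138, 8295, 8220, -41])) (.leaf [])))) (.node (.node (.node (.node (.leaf []) (.leaf [0, 0, 1])) (.leaf [602, 802, 199, -602, -199])) (.node (.node (.leaf []) (.leaf [-189, -218, -30, 189, 30])) (.leaf [7369,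 13788, 6343, -7407, -6381, 19]))) (.node (.node (.node (.leaf [205, 313, 107, -205, -107]) (.leaf [-2120, -2191, -134, 2089, 102, 16])) (.leaf [0, 0, 1])) (.node (.node (.leaf []) (.leaf [0, 0, 0, 0, 0, 1])) (.leaf [4, 8, 3, -4, -3]))))) (.node (.node (.node (.node (.node (.leaf []) (.leaf [155, 243, 87, -155, -87])) (.leaf [829, 1080, 259, -825, -255, -2])) (.node (.node (.leaf [52, -8, -61, -52, 61]) (.leaf [9423, 14862, 5480, -9402, -5460, -10])) (.leaf []))) (.node (.node (.node (.leaf []) (.leaf [])) (.leaf [194, 290, 95, -194, -95])) (.node (.node (.leaf []) (.leaf [-80, -215, -136, 80, 136])) (.leaf [3634, 7497, 3799, -3666, -3831, 16])))) (.node (.node (.node (.node (.leaf [-354, -510, -157, 354, 157]) (.leaf [-2493, -3539, -1078, 2477, 1062, 8])) (.leaf [])) (.node (.node (.leaf []) (.leaf [0, 0, 1])) (.leaf [-60, -124, -65, 60, 65]))) (.node (.node (.node (.leaf []) (.leaf [-9, -31, -22, 9, 22])) (.leaf [-1451, -2352, -900, 1452, 900])) (.node (.node (.leaf [-25, -15,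 10, 25, -10]) (.leaf [2615, 5883, 3195, -2651, -3231, 19])) (.leaf [])))))) (.node (.node (.node (.node (.node (.node (.leaf [1]) (.leaf [0, 0, 1])) (.leaf [-4, -6, -2, 4, 2])) (.node (.node (.leaf []) (.leaf [-84, -79, 5, 84, -5])) (.leaf []))) (.node (.node (.node (.leaf [49, 33, -16, -49, 16]) (.leaf [])) (.leaf [])) (.node (.node (.leaf [-2612, -2934, -386, 2580, 354, 16]) (.leaf [0, 0, 1])) (.leaf [-40, -56, -16, 40, 16])))) (.node (.node (.node (.node (.leaf []) (.leaf [159, 449, 290, -159, -290])) (.leaf [1])) (.node (.node (.leaf [-37, 15, 52, 37, -52]) (.leaf [1731, 1796, 114, -1706, -90, -12])) (.leaf [0, 0, 1]))) (.node (.node (.node (.leaf []) (.leaf [0, 0, 1])) (.leaf [-240, -383, -143, 240, 143])) (.node (.node (.leaf []) (.leaf [9, 11, 4, -8, -2])) (.leaf [1]))))) (.node (.node (.node (.node (.node (.leaf [-107, -159, -52, 107, 52]) (.leaf [5614, 9008, 3422, -5600, -3408, -7])) (.leaf [])) (.node (.node (.leaf []) (.leaf [0, 0, 1])) (.leaf [-14, -9, 5, 14, -5])))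 (.node (.node (.node (.leaf []) (.leaf [-11, -5, 5, 11, -5])) (.leaf [])) (.node (.node (.leaf [-230, -257, -28, 230, 28]) (.leaf [0, 0, 0, 1, 0, 0])) (.leaf [])))) (.node (.node (.node (.node (.leaf [1]) (.leaf [0, 0, 1])) (.leaf [-94, -148, -54, 94, 54])) (.node (.node (.leaf []) (.leaf [-21, 3, 23, 21, -23])) (.leaf [-11779, -17682, -5983, 11739, 5943, 20]))) (.node (.node (.node (.leaf [-310, -417, -107, 310, 107]) (.leaf [926, 1246, 328, -922, -324, -2])) (.leaf [0, 0, 1])) (.node (.node (.leaf []) (.leaf [-431, -656, -226, 431, 226, 1])) (.leaf [-126, -216, -90, 126, 90])))))))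

def threeL5 : Janko.Tree (List ℤ) :=
  (.node (.node (.node (.node (.node (.node (.node (.leaf []) (.leaf [-40, -35, 5, 40, -5])) (.leaf [])) (.node (.node (.leaf [-74, -72, 2, 74, -2]) (.leaf [182, 671, 465, -194, -477, 6])) (.leaf [0, 0, 1]))) (.node (.node (.node (.leaf [-1, -2, 0, 2]) (.leaf [0, 0, 1])) (.leaf [748, 1031, 283, -748, -283])) (.node (.node (.leaf []) (.leaf [-389, -542, -154, 389, 154])) (.leaf [1143, 470, -605, -1109, 639, -17])))) (.node (.node (.node (.node (.leaf [0, -1, -1, 0, 1]) (.leaf [-1247, -2148, -905, 1245, 903, 1])) (.leaf [])) (.node (.node (.leaf []) (.leaf [])) (.leaf [177, 303, 126, -177, -126]))) (.node (.node (.node (.leaf []) (.leaf [156, 198, 42, -156, -42])) (.leaf [1])) (.node (.node (.leaf [4, 5, 1, -4, -1]) (.leaf [-650, 1620, 2146, 588, -2208, 32])) (.leaf []))))) (.node (.node (.node (.node (.node (.leaf [1, 1, 0, -1]) (.leaf [])) (.leaf [-214, -310, -96, 214, 96])) (.node (.node (.leaf []) (.leaf [-360, -510, -151, 360, 151])) (.leaf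 [-19066, -32911, -13761, 19108, 13803, -21]))) (.node (.node (.node (.leaf [-26, -15, 11, 26, -11]) (.leaf [-6280, -9929, -3684, 6263, 3666, 9])) (.leaf [])) (.node (.node (.leaf [-2437, -2844, -463, 2409, 435, 14]) (.leaf [0, 0, 1])) (.leaf [-78, -127, -49, 78, 49])))) (.node (.node (.node (.node (.leaf []) (.leaf [-348, -503, -156, 348, 156])) (.leaf [-1011, -2596, -1529, 1039, 1557, -14])) (.node (.node (.leaf [-506, -696, -191, 506, 191]) (.leaf [-274, -363, -92, 273, 90, 1])) (.leaf []))) (.node (.node (.node (.leaf []) (.leaf [0, 0, 1])) (.leaf [65, 47, -18, -65, 18])) (.node (.node (.leaf []) (.leaf [930, 1761, 826, -932, -828, 2])) (.leaf [1385, 1842, 473, -1377, -465, -4])))))) (.node (.node (.node (.node (.node (.node (.leaf []) (.leaf [1])) (.leaf [])) (.node (.node (.leaf []) (.leaf [0, 0, 1])) (.leaf [-111, -188, -77, 111, 77]))) (.node (.node (.node (.leaf []) (.leaf [267, 416, 148, -267, -148])) (.leaf [-32023, -59643, -27292, 32187, 27456, -82])) (.node (.node (.leaf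 [-37, -40, -3, 37, 3]) (.leaf [460, 627, 175, -456, -171, -2])) (.leaf [0, 0, 1])))) (.node (.node (.node (.node (.leaf []) (.leaf [0, 0, 1])) (.leaf [176, 235, 58, -176, -58])) (.node (.node (.leaf []) (.leaf [-338, -476, -138, 338, 138])) (.leaf []))) (.node (.node (.node (.leaf [-506, -697, -191, 506, 191]) (.leaf [-3668, -6861, -3168, 3681, 3180, -6])) (.leaf [])) (.node (.node (.leaf []) (.leaf [-36, -33, 5, 37, -3])) (.leaf [-9, -26, -17, 9, 17]))))) (.node (.node (.node (.node (.node (.leaf []) (.leaf [102, 426, 324, -102, -324])) (.leaf [-2416, -2907, -547, 2388, 519, 14])) (.node (.node (.leaf [4, 5, 1, -4, -1]) (.leaf [1])) (.leaf [0, 0, 1]))) (.node (.node (.node (.leaf []) (.leaf [0, 0, 1])) (.leaf [-19, -24, -5, 19, 5])) (.node (.node (.leaf []) (.leaf [-1, -1, 0, 2])) (.leaf [-73319, -131573, -57733, 73580, 57993, -130])))) (.node (.node (.node (.node (.leaf [518, 730, 212, -518, -212]) (.leaf [7261, 15159, 7726, -7347, -7812, 43])) (.leaf [])) (.node (.node (.leaf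 []) (.leaf [0, 0, 1])) (.leaf [163, 244, 80, -163, -80]))) (.node (.node (.node (.leaf []) (.leaf [-114, -245, -132, 114, 132])) (.leaf [])) (.node (.node (.leaf [-38, -108, -71, 38, 71]) (.leaf [-16, -7, 12, 18, -10])) (.leaf [])))))))

def threeL6 : Janko.Tree (List ℤ) :=
  (.node (.node (.node (.node (.node (.node (.node (.leaf [-1, -1, 0, 1]) (.leaf [0, 0, 1])) (.leaf [-34, -27, 7, 34, -7])) (.node (.node (.leaf []) (.leaf [202, 253, 51, -202, -51])) (.leaf [1]))) (.node (.node (.node (.leaf [0, 1]) (.leaf [1282, 1371, 121, -1266, -105, -8])) (.leaf [])) (.node (.node (.leaf [-10527, -16369, -5882, 10507, 5862, 10]) (.leaf [0, 0, 1])) (.leaf [-351, -477, -126, 351, 126])))) (.node (.node (.node (.node (.leaf []) (.leaf [-22, 1, 23, 22, -23])) (.leaf [])) (.node (.node (.leaf [-550, -873, -323, 550, 323]) (.leaf [116, 114, 2, -114, 0, -1])) (.leaf []))) (.node (.node (.node (.leaf []) (.leaf [])) (.leaf [-7, -15, -8, 7, 8])) (.node (.node (.leaf []) (.leaf [239, 281, 44, -238,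 -42])) (.leaf []))))) (.node (.node (.node (.node (.node (.leaf [0, 1]) (.leaf [578, 549, -25, -576, 27, -1])) (.leaf [0, 0, 1])) (.node (.node (.leaf []) (.leaf [0, 0, 1])) (.leaf [-55, -49, 6, 55, -6]))) (.node (.node (.node (.leaf []) (.leaf [17, 36, 18, -17, -18])) (.leaf [])) (.node (.node (.leaf [-25, 14, 39, 25, -39]) (.leaf [-1282, -1731, -464, 1275, 456, 4])) (.leaf [0, 0, 1])))) (.node (.node (.node (.node (.leaf []) (.leaf [])) (.leaf [-166, -223, -57, 166, 57])) (.node (.node (.leaf []) (.leaf [28, 12, -16, -28, 16])) (.leaf [463, 694, 231, -463, -231]))) (.node (.node (.node (.leaf [-166, -243, -77, 166, 77]) (.leaf [1])) (.leaf [])) (.node (.node (.leaf [-1957, -3216, -1262, 1956, 1260, 1]) (.leaf [-240, -381, -134, 244, 138, -1])) (.leaf [-8, -3, 5, 8, -5])))))) (.node (.node (.node (.node (.node (.node (.leaf []) (.leaf [-162, -295, -134, 162, 134])) (.leaf [-201, -301, -104, 199, 102, 1])) (.node (.node (.leaf [4, 5, 1, -4, -1]) (.leaf [-379, -417, -41, 378, 39,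 1])) (.leaf []))) (.node (.node (.node (.leaf []) (.leaf [])) (.leaf [-49, -95, -46, 49, 46])) (.node (.node (.leaf [0, 0, 1]) (.leaf [-201, -225, -25, 201, 25])) (.leaf [-3846, -5439, -1629, 3828, 1611, 9])))) (.node (.node (.node (.node (.leaf [-5, 54, 59, 5, -59]) (.leaf [-173, -243, -74, 171, 72, 1])) (.leaf [])) (.node (.node (.leaf [-374, -534, -164, 372, 162, 1]) (.leaf [])) (.leaf [-576, -799, -224, 576, 224]))) (.node (.node (.node (.leaf []) (.leaf [40, 19, -21, -40, 21])) (.leaf [2201, 2361, 217, -2172, -189, -14])) (.node (.node (.leaf [410, 501, 91, -410, -91]) (.leaf [-25, -28, 0, 27, 2])) (.leaf []))))) (.node (.node (.node (.node (.node (.leaf []) (.leaf [])) (.leaf [-133, -223, -90, 133, 90])) (.node (.node (.leaf []) (.leaf [-20, -9, 10, 20, -10])) (.leaf [1]))) (.node (.node (.node (.leaf [46, 119, 73, -46, -73]) (.leaf [1])) (.leaf [])) (.node (.node (.leaf []) (.leaf [0, 0, 0, 0, 1, 0])) (.leaf [-20, -10, 9, 20, -9])))) (.node (.node (.node (.node (.leaf [])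 (.leaf [-34, -49, -16, 34, 16])) (.leaf [829, 1355, 530, -827, -528, -1])) (.node (.node (.leaf [-295, -426, -131, 295, 131]) (.leaf [55, 153, 94, -57, -96, 1])) (.leaf [0, 0, 1]))) (.node (.node (.node (.leaf [1297, 2310, 1009, -1299, -1011, 1]) (.leaf [])) (.leaf [-76, -47, 28, 76, -28])) (.node (.node (.leaf []) (.leaf [105, 141, 41, -102, -39])) (.leaf [-11383, -20637, -9173, 11424, 9213, -20])))))))

def threeL7 : Janko.Tree (List ℤ) :=
  (.node (.node (.node (.node (.node (.node (.node (.leaf []) (.leaf [])) (.leaf [])) (.node (.node (.leaf []) (.leaf [])) (.leaf [-115, -254, -140, 115, 140]))) (.node (.node (.node (.leaf []) (.leaf [-222, -283, -61, 222, 61])) (.leaf [6326, 11139, 4757, -6354, -4785, 14])) (.node (.node (.leaf [1, -17, -18, -1, 18]) (.leaf [1262, 3196, 1887, -1285, -1911, 12])) (.leaf [])))) (.node (.node (.node (.node (.leaf [1, 1, 0, -1]) (.leaf [0, 0, 1])) (.leaf [185, 256, 70, -185, -70])) (.node (.node (.leaf []) (.leaf [-172, -193, -22, 172, 22])) (.leaf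 [-160, -456, -292, 162, 294, -1]))) (.node (.node (.node (.leaf [-108, -109, -2, 108, 2]) (.leaf [1511, 2040, 545, -1503, -537, -4])) (.leaf [])) (.node (.node (.leaf []) (.leaf [23, 19, -2, -22, 4])) (.leaf [-99, -113, -14, 99, 14]))))) (.node (.node (.node (.node (.node (.leaf []) (.leaf [-11, -5, 5, 11, -5])) (.leaf [1])) (.node (.node (.leaf [-42, -115, -74, 42, 74]) (.leaf [-8075, -16236, -7997, 8157, 8079, -41])) (.leaf []))) (.node (.node (.node (.leaf []) (.leaf [])) (.leaf [-11, 15, 25, 11, -25])) (.node (.node (.leaf []) (.leaf [136, 226, 89, -136, -89])) (.leaf [])))) (.node (.node (.node (.node (.leaf [-164, -219, -55, 164, 55]) (.leaf [302, 772, 454, -310, -462, 4])) (.leaf [0, 0, 1])) (.node (.node (.leaf []) (.leaf [0, 0, 1])) (.leaf [275, 384, 108, -275, -108]))) (.node (.node (.node (.leaf []) (.leaf [-20, -9, 10, 20, -10])) (.leaf [2313, 2694, 434, -2286, -408, -13])) (.node (.node (.leaf [4, 4, 0, -4]) (.leaf [-274, -378, -105, 274, 105, 1])) (.leaf [0, 0, 1]))))))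 (.node (.node (.node (.node (.node (.node (.leaf [-1, -1, 0, 1]) (.leaf [])) (.leaf [-14, -11, 3, 14, -3])) (.node (.node (.leaf []) (.leaf [100, 231, 131, -100, -131])) (.leaf [-903, -1486, -599, 895, 591, 4]))) (.node (.node (.node (.leaf [0, 16, 16, 0, -16]) (.leaf [-1968, -3596, -1619, 1973, 1623, -2])) (.leaf [0, 0, 1])) (.node (.node (.leaf [1]) (.leaf [0, 0, 1])) (.leaf [418, 568, 150, -418, -150])))) (.node (.node (.node (.node (.leaf []) (.leaf [24, 86, 62, -24, -62])) (.leaf [23993, 43843, 19642, -24097, -19746, 52])) (.node (.node (.leaf [40, 46, 6, -40, -6]) (.leaf [-1689, -2187, -517, 1680, 507, 5])) (.leaf []))) (.node (.node (.node (.leaf []) (.leaf [])) (.leaf [-46, -22, 24, 46, -24])) (.node (.node (.leaf []) (.leaf [-18, -9, 12, 20, -10])) (.leaf [-19305, -32323, -12969, 19330, 12993, -12]))))) (.node (.node (.node (.node (.node (.leaf [168, 178, 10, -168, -10]) (.leaf [4113, 8081, 3928, -4133, -3948, 10])) (.leaf [])) (.node (.node (.leaf []) (.leaf [])) (.leaf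 [-209, -211, -2, 209, 2]))) (.node (.node (.node (.leaf []) (.leaf [-20, -10, 10, 20, -10])) (.leaf [])) (.node (.node (.leaf [9, -7, -17, -9, 17]) (.leaf [-174, -238, -64, 174, 65])) (.leaf [0, 0, 1])))) (.node (.node (.node (.node (.leaf []) (.leaf [0, 0, 1])) (.leaf [-130, -247, -117, 130, 117])) (.node (.node (.leaf []) (.leaf [-6, -72, -67, 6, 67])) (.leaf [1]))) (.node (.node (.node (.leaf [361, 538, 177, -361, -177]) (.leaf [215, 177, -34, -213, 36, -1])) (.leaf [])) (.node (.node (.leaf []) (.leaf [-665, -905, -245, 663, 243, 2])) (.leaf [24, 6, -18, -24, 18])))))))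

def threeL : Janko.Tree (List ℤ) := (.node (.node (.node threeL0 threeL4) (.node threeL2 threeL6)) (.node (.node threeL1 threeL5) (.node threeL3 threeL7)))

def threeKind0 : Janko.Tree (ℕ) :=
  (.node (.node (.node (.node (.node (.node (.node (.leaf 0) (.leaf 0)) (.leaf 3)) (.node (.node (.leaf 0) (.leaf 3)) (.leaf 0))) (.node (.node (.node (.leaf 3) (.leaf 3)) (.leaf 0)) (.node (.node (.leaf 3) (.leaf 3)) (.leaf 3)))) (.node (.node (.node (.node (.leaf 3) (.leaf 3)) (.leaf 3)) (.node (.node (.leaf 3) (.leaf 3)) (.leaf 0))) (.node (.node (.node (.leaf 0) (.leaf 0)) (.leaf 3)) (.node (.node (.leaf 3) (.leaf 3)) (.leaf 3))))) (.node (.node (.node (.node (.node (.leaf 0) (.leaf 3)) (.leaf 0)) (.node (.node (.leaf 0) (.leaf 3)) (.leaf 3))) (.node (.node (.node (.leaf 3) (.leaf 3)) (.leaf 3)) (.node (.node (.leaf 3) (.leaf 3)) (.leaf 0)))) (.node (.node (.node (.node (.leaf 0) (.leaf 3)) (.leaf 3)) (.node (.node (.leaf 0) (.leaf 3)) (.leaf 3))) (.node (.node (.node (.leaf 3) (.leaf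 3)) (.leaf 3)) (.node (.node (.leaf 3) (.leaf 3)) (.leaf 3)))))) (.node (.node (.node (.node (.node (.node (.leaf 0) (.leaf 3)) (.leaf 3)) (.node (.node (.leaf 3) (.leaf 3)) (.leaf 0))) (.node (.node (.node (.leaf 0) (.leaf 3)) (.leaf 3)) (.node (.node (.leaf 0) (.leaf 3)) (.leaf 3)))) (.node (.node (.node (.node (.leaf 3) (.leaf 3)) (.leaf 0)) (.node (.node (.leaf 3) (.leaf 3)) (.leaf 3))) (.node (.node (.node (.leaf 3) (.leaf 3)) (.leaf 3)) (.node (.node (.leaf 3) (.leaf 3)) (.leaf 0))))) (.node (.node (.node (.node (.node (.leaf 0) (.leaf 3)) (.leaf 3)) (.node (.node (.leaf 3) (.leaf 3)) (.leaf 3))) (.node (.node (.node (.leaf 3) (.leaf 3)) (.leaf 0)) (.node (.node (.leaf 3) (.leaf 3)) (.leaf 3)))) (.node (.node (.node (.node (.leaf 0) (.leaf 3)) (.leaf 3)) (.node (.node (.leaf 3) (.leaf 3)) (.leaf 0))) (.node (.node (.node (.leaf 3) (.leaf 0)) (.leaf 3)) (.node (.node (.leaf 0) (.leaf 3)) (.leaf 3)))))))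

def threeKind1 : Janko.Tree (ℕ) :=
  (.node (.node (.node (.node (.node (.node (.node (.leaf 0) (.leaf 3)) (.leaf 0)) (.node (.node (.leaf 0) (.leaf 3)) (.leaf 3))) (.node (.node (.node (.leaf 0) (.leaf 3)) (.leaf 3)) (.node (.node (.leaf 3) (.leaf 3)) (.leaf 0)))) (.node (.node (.node (.node (.leaf 3) (.leaf 0)) (.leaf 3)) (.node (.node (.leaf 0) (.leaf 3)) (.leaf 3))) (.node (.node (.node (.leaf 3) (.leaf 3)) (.leaf 0)) (.node (.node (.leaf 3) (.leaf 3)) (.leaf 3))))) (.node (.node (.node (.node (.node (.leaf 0) (.leaf 3)) (.leaf 0)) (.node (.node (.leaf 3) (.leaf 3)) (.leaf 3))) (.node (.node (.node (.leaf 0) (.leaf 3)) (.leaf 3)) (.node (.node (.leaf 0) (.leaf 3)) (.leaf 3)))) (.node (.node (.node (.node (.leaf 3) (.leaf 3)) (.leaf 0)) (.node (.node (.leaf 3) (.leaf 3)) (.leaf 3))) (.node (.node (.node (.leaf 0) (.leaf 3)) (.leaf 3)) (.node (.node (.leaf 3) (.leaf 3)) (.leaf 0)))))) (.node (.node (.node (.node (.node (.node (.leaf 0) (.leaf 0)) (.leaf 3)) (.node (.node (.leaf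 3) (.leaf 3)) (.leaf 3))) (.node (.node (.node (.leaf 3) (.leaf 3)) (.leaf 0)) (.node (.node (.leaf 0) (.leaf 0)) (.leaf 3)))) (.node (.node (.node (.node (.leaf 0) (.leaf 3)) (.leaf 3)) (.node (.node (.leaf 3) (.leaf 3)) (.leaf 3))) (.node (.node (.node (.leaf 3) (.leaf 3)) (.leaf 3)) (.node (.node (.leaf 0) (.leaf 3)) (.leaf 3))))) (.node (.node (.node (.node (.node (.leaf 3) (.leaf 3)) (.leaf 0)) (.node (.node (.leaf 3) (.leaf 3)) (.leaf 3))) (.node (.node (.node (.leaf 3) (.leaf 3)) (.leaf 0)) (.node (.node (.leaf 3) (.leaf 2)) (.leaf 0)))) (.node (.node (.node (.node (.leaf 0) (.leaf 0)) (.leaf 3)) (.node (.node (.leaf 0) (.leaf 3)) (.leaf 3))) (.node (.node (.node (.leaf 3) (.leaf 3)) (.leaf 0)) (.node (.node (.leaf 3) (.leaf 3)) (.leaf 3)))))))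

def threeKind2 : Janko.Tree (ℕ) :=
  (.node (.node (.node (.node (.node (.node (.node (.leaf 0) (.leaf 3)) (.leaf 0)) (.node (.node (.leaf 3) (.leaf 3)) (.leaf 0))) (.node (.node (.node (.leaf 0) (.leaf 0)) (.leaf 3)) (.node (.node (.leaf 3) (.leaf 3)) (.leaf 3)))) (.node (.node (.node (.node (.leaf 0) (.leaf 3)) (.leaf 3)) (.node (.node (.leaf 0) (.leaf 0)) (.leaf 3))) (.node (.node (.node (.leaf 0) (.leaf 3)) (.leaf 3)) (.node (.node (.leaf 3) (.leaf 3)) (.leaf 0))))) (.node (.node (.node (.node (.node (.leaf 0) (.leaf 0)) (.leaf 3)) (.node (.node (.leaf 0) (.leaf 3)) (.leaf 3))) (.node (.node (.node (.leaf 3) (.leaf 3)) (.leaf 3)) (.node (.node (.leaf 3) (.leaf 3)) (.leaf 3)))) (.node (.node (.node (.node (.leaf 3) (.leaf 3)) (.leaf 0)) (.node (.node (.leaf 3) (.leaf 3)) (.leaf 3))) (.node (.node (.node (.leaf 0) (.leaf 3)) (.leaf 3)) (.node (.node (.leaf 3) (.leaf 3)) (.leaf 3)))))) (.node (.node (.node (.node (.node (.node (.leaf 3) (.leaf 3)) (.leaf 3)) (.node (.node (.leaf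 3) (.leaf 3)) (.leaf 3))) (.node (.node (.node (.leaf 0) (.leaf 3)) (.leaf 3)) (.node (.node (.leaf 3) (.leaf 3)) (.leaf 3)))) (.node (.node (.node (.node (.leaf 0) (.leaf 0)) (.leaf 3)) (.node (.node (.leaf 3) (.leaf 3)) (.leaf 3))) (.node (.node (.node (.leaf 3) (.leaf 3)) (.leaf 0)) (.node (.node (.leaf 0) (.leaf 3)) (.leaf 3))))) (.node (.node (.node (.node (.node (.leaf 0) (.leaf 3)) (.leaf 3)) (.node (.node (.leaf 3) (.leaf 3)) (.leaf 0))) (.node (.node (.node (.leaf 3) (.leaf 0)) (.leaf 3)) (.node (.node (.leaf 3) (.leaf 2)) (.leaf 0)))) (.node (.node (.node (.node (.leaf 3) (.leaf 3)) (.leaf 0)) (.node (.node (.leaf 0) (.leaf 0)) (.leaf 3))) (.node (.node (.node (.leaf 3) (.leaf 3)) (.leaf 3)) (.node (.node (.leaf 3) (.leaf 3)) (.leaf 0)))))))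

def threeKind3 : Janko.Tree (ℕ) :=
  (.node (.node (.node (.node (.node (.node (.node (.leaf 0) (.leaf 3)) (.leaf 3)) (.node (.node (.leaf 0) (.leaf 3)) (.leaf 3))) (.node (.node (.node (.leaf 3) (.leaf 3)) (.leaf 3)) (.node (.node (.leaf 3) (.leaf 3)) (.leaf 3)))) (.node (.node (.node (.node (.leaf 0) (.leaf 3)) (.leaf 0)) (.node (.node (.leaf 3) (.leaf 3)) (.leaf 0))) (.node (.node (.node (.leaf 0) (.leaf 0)) (.leaf 3)) (.node (.node (.leaf 0) (.leaf 3)) (.leaf 3))))) (.node (.node (.node (.node (.node (.leaf 3) (.leaf 3)) (.leaf 0)) (.node (.node (.leaf 0) (.leaf 0)) (.leaf 3))) (.node (.node (.node (.leaf 0) (.leaf 3)) (.leaf 3)) (.node (.node (.leaf 3) (.leaf 3)) (.leaf 3)))) (.node (.node (.node (.node (.leaf 0) (.leaf 0)) (.leaf 3)) (.node (.node (.leaf 0) (.leaf 3)) (.leaf 3))) (.node (.node (.node (.leaf 3) (.leaf 3)) (.leaf 0)) (.node (.node (.leaf 3) (.leaf 3)) (.leaf 3)))))) (.node (.node (.node (.node (.node (.node (.leaf 0) (.leaf 3)) (.leaf 3)) (.node (.node (.leaf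 3) (.leaf 3)) (.leaf 0))) (.node (.node (.node (.leaf 0) (.leaf 3)) (.leaf 3)) (.node (.node (.leaf 0) (.leaf 3)) (.leaf 3)))) (.node (.node (.node (.node (.leaf 3) (.leaf 3)) (.leaf 3)) (.node (.node (.leaf 3) (.leaf 3)) (.leaf 3))) (.node (.node (.node (.leaf 0) (.leaf 3)) (.leaf 0)) (.node (.node (.leaf 3) (.leaf 3)) (.leaf 3))))) (.node (.node (.node (.node (.node (.leaf 0) (.leaf 0)) (.leaf 3)) (.node (.node (.leaf 0) (.leaf 3)) (.leaf 3))) (.node (.node (.node (.leaf 3) (.leaf 3)) (.leaf 0)) (.node (.node (.leaf 0) (.leaf 2)) (.leaf 3)))) (.node (.node (.node (.node (.leaf 3) (.leaf 3)) (.leaf 3)) (.node (.node (.leaf 3) (.leaf 3)) (.leaf 0))) (.node (.node (.node (.leaf 3) (.leaf 0)) (.leaf 3)) (.node (.node (.leaf 0) (.leaf 3)) (.leaf 3)))))))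

def threeKind4 : Janko.Tree (ℕ) :=
  (.node (.node (.node (.node (.node (.node (.node (.leaf 0) (.leaf 3)) (.leaf 0)) (.node (.node (.leaf 0) (.leaf 3)) (.leaf 3))) (.node (.node (.node (.leaf 0) (.leaf 3)) (.leaf 3)) (.node (.node (.leaf 3) (.leaf 3)) (.leaf 0)))) (.node (.node (.node (.node (.leaf 0) (.leaf 3)) (.leaf 3)) (.node (.node (.leaf 0) (.leaf 3)) (.leaf 3))) (.node (.node (.node (.leaf 3) (.leaf 3)) (.leaf 3)) (.node (.node (.leaf 0) (.leaf 2)) (.leaf 3))))) (.node (.node (.node (.node (.node (.leaf 0) (.leaf 3)) (.leaf 3)) (.node (.node (.leaf 3) (.leaf 3)) (.leaf 0))) (.node (.node (.node (.leaf 0) (.leaf 0)) (.leaf 3)) (.node (.node (.leaf 0) (.leaf 3)) (.leaf 3)))) (.node (.node (.node (.node (.leaf 3) (.leaf 3)) (.leaf 0)) (.node (.node (.leaf 0) (.leaf 3)) (.leaf 3))) (.node (.node (.node (.leaf 0) (.leaf 3)) (.leaf 3)) (.node (.node (.leaf 3) (.leaf 3)) (.leaf 0)))))) (.node (.node (.node (.node (.node (.node (.leaf 3) (.leaf 3)) (.leaf 3)) (.node (.node (.leaf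 0) (.leaf 3)) (.leaf 0))) (.node (.node (.node (.leaf 3) (.leaf 0)) (.leaf 0)) (.node (.node (.leaf 3) (.leaf 3)) (.leaf 3)))) (.node (.node (.node (.node (.leaf 0) (.leaf 3)) (.leaf 3)) (.node (.node (.leaf 3) (.leaf 3)) (.leaf 3))) (.node (.node (.node (.leaf 0) (.leaf 3)) (.leaf 3)) (.node (.node (.leaf 0) (.leaf 3)) (.leaf 3))))) (.node (.node (.node (.node (.node (.leaf 3) (.leaf 3)) (.leaf 0)) (.node (.node (.leaf 0) (.leaf 3)) (.leaf 3))) (.node (.node (.node (.leaf 0) (.leaf 3)) (.leaf 0)) (.node (.node (.leaf 3) (.leaf 2)) (.leaf 0)))) (.node (.node (.node (.node (.leaf 3) (.leaf 3)) (.leaf 3)) (.node (.node (.leaf 0) (.leaf 3)) (.leaf 3))) (.node (.node (.node (.leaf 3) (.leaf 3)) (.leaf 3)) (.node (.node (.leaf 0) (.leaf 3)) (.leaf 3)))))))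

def threeKind5 : Janko.Tree (ℕ) :=
  (.node (.node (.node (.node (.node (.node (.node (.leaf 0) (.leaf 3)) (.leaf 0)) (.node (.node (.leaf 3) (.leaf 3)) (.leaf 3))) (.node (.node (.node (.leaf 3) (.leaf 3)) (.leaf 3)) (.node (.node (.leaf 0) (.leaf 3)) (.leaf 3)))) (.node (.node (.node (.node (.leaf 3) (.leaf 3)) (.leaf 0)) (.node (.node (.leaf 0) (.leaf 0)) (.leaf 3))) (.node (.node (.node (.leaf 0) (.leaf 3)) (.leaf 3)) (.node (.node (.leaf 3) (.leaf 3)) (.leaf 0))))) (.node (.node (.node (.node (.node (.leaf 3) (.leaf 0)) (.leaf 3)) (.node (.node (.leaf 0) (.leaf 3)) (.leaf 3))) (.node (.node (.node (.leaf 3) (.leaf 3)) (.leaf 0)) (.node (.node (.leaf 3) (.leaf 3)) (.leaf 3)))) (.node (.node (.node (.node (.leaf 0) (.leaf 3)) (.leaf 3)) (.node (.node (.leaf 3) (.leaf 3)) (.leaf 0))) (.node (.node (.node (.leaf 0) (.leaf 3)) (.leaf 3)) (.node (.node (.leaf 0) (.leaf 3)) (.leaf 3)))))) (.node (.node (.node (.node (.node (.node (.leaf 0) (.leaf 3)) (.leaf 0)) (.node (.node (.leaf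 0) (.leaf 3)) (.leaf 3))) (.node (.node (.node (.leaf 0) (.leaf 3)) (.leaf 3)) (.node (.node (.leaf 3) (.leaf 3)) (.leaf 3)))) (.node (.node (.node (.node (.leaf 0) (.leaf 3)) (.leaf 3)) (.node (.node (.leaf 0) (.leaf 3)) (.leaf 0))) (.node (.node (.node (.leaf 3) (.leaf 3)) (.leaf 0)) (.node (.node (.leaf 0) (.leaf 3)) (.leaf 3))))) (.node (.node (.node (.node (.node (.leaf 0) (.leaf 3)) (.leaf 3)) (.node (.node (.leaf 3) (.leaf 3)) (.leaf 3))) (.node (.node (.node (.leaf 0) (.leaf 3)) (.leaf 3)) (.node (.node (.leaf 0) (.leaf 3)) (.leaf 3)))) (.node (.node (.node (.node (.leaf 3) (.leaf 3)) (.leaf 0)) (.node (.node (.leaf 0) (.leaf 3)) (.leaf 3))) (.node (.node (.node (.leaf 0) (.leaf 3)) (.leaf 0)) (.node (.node (.leaf 3) (.leaf 3)) (.leaf 0)))))))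

def threeKind6 : Janko.Tree (ℕ) :=
  (.node (.node (.node (.node (.node (.node (.node (.leaf 3) (.leaf 3)) (.leaf 3)) (.node (.node (.leaf 0) (.leaf 3)) (.leaf 3))) (.node (.node (.node (.leaf 3) (.leaf 3)) (.leaf 0)) (.node (.node (.leaf 3) (.leaf 3)) (.leaf 3)))) (.node (.node (.node (.node (.leaf 0) (.leaf 3)) (.leaf 0)) (.node (.node (.leaf 3) (.leaf 3)) (.leaf 0))) (.node (.node (.node (.leaf 0) (.leaf 0)) (.leaf 3)) (.node (.node (.leaf 0) (.leaf 3)) (.leaf 0))))) (.node (.node (.node (.node (.node (.leaf 3) (.leaf 3)) (.leaf 3)) (.node (.node (.leaf 0) (.leaf 3)) (.leaf 3))) (.node (.node (.node (.leaf 0) (.leaf 3)) (.leaf 0)) (.node (.node (.leaf 3) (.leaf 3)) (.leaf 3)))) (.node (.node (.node (.node (.leaf 0) (.leaf 0)) (.leaf 3)) (.node (.node (.leaf 0) (.leaf 3)) (.leaf 3))) (.node (.node (.node (.leaf 3) (.leaf 3)) (.leaf 0)) (.node (.node (.leaf 3) (.leaf 3)) (.leaf 3)))))) (.node (.node (.node (.node (.node (.node (.leaf 0) (.leaf 3)) (.leaf 3)) (.node (.node (.leaf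 3) (.leaf 3)) (.leaf 0))) (.node (.node (.node (.leaf 0) (.leaf 0)) (.leaf 3)) (.node (.node (.leaf 3) (.leaf 3)) (.leaf 3)))) (.node (.node (.node (.node (.leaf 3) (.leaf 3)) (.leaf 0)) (.node (.node (.leaf 3) (.leaf 0)) (.leaf 3))) (.node (.node (.node (.leaf 0) (.leaf 3)) (.leaf 3)) (.node (.node (.leaf 3) (.leaf 3)) (.leaf 0))))) (.node (.node (.node (.node (.node (.leaf 0) (.leaf 0)) (.leaf 3)) (.node (.node (.leaf 0) (.leaf 3)) (.leaf 3))) (.node (.node (.node (.leaf 3) (.leaf 3)) (.leaf 0)) (.node (.node (.leaf 0) (.leaf 2)) (.leaf 3)))) (.node (.node (.node (.node (.leaf 0) (.leaf 3)) (.leaf 3)) (.node (.node (.leaf 3) (.leaf 3)) (.leaf 3))) (.node (.node (.node (.leaf 3) (.leaf 0)) (.leaf 3)) (.node (.node (.leaf 0) (.leaf 3)) (.leaf 3)))))))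

def threeKind7 : Janko.Tree (ℕ) :=
  (.node (.node (.node (.node (.node (.node (.node (.leaf 0) (.leaf 0)) (.leaf 0)) (.node (.node (.leaf 0) (.leaf 0)) (.leaf 3))) (.node (.node (.node (.leaf 0) (.leaf 3)) (.leaf 3)) (.node (.node (.leaf 3) (.leaf 3)) (.leaf 0)))) (.node (.node (.node (.node (.leaf 3) (.leaf 3)) (.leaf 3)) (.node (.node (.leaf 0) (.leaf 3)) (.leaf 3))) (.node (.node (.node (.leaf 3) (.leaf 3)) (.leaf 0)) (.node (.node (.leaf 0) (.leaf 3)) (.leaf 3))))) (.node (.node (.node (.node (.node (.leaf 0) (.leaf 3)) (.leaf 3)) (.node (.node (.leaf 3) (.leaf 3)) (.leaf 0))) (.node (.node (.node (.leaf 0) (.leaf 0)) (.leaf 3)) (.node (.node (.leaf 0) (.leaf 3)) (.leaf 0)))) (.node (.node (.node (.node (.leaf 3) (.leaf 3)) (.leaf 3)) (.node (.node (.leaf 0) (.leaf 3)) (.leaf 3))) (.node (.node (.node (.leaf 0) (.leaf 3)) (.leaf 3)) (.node (.node (.leaf 3) (.leaf 3)) (.leaf 3)))))) (.node (.node (.node (.node (.node (.node (.leaf 3) (.leaf 0)) (.leaf 3)) (.node (.node (.leaf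 0) (.leaf 3)) (.leaf 3))) (.node (.node (.node (.leaf 3) (.leaf 3)) (.leaf 3)) (.node (.node (.leaf 3) (.leaf 3)) (.leaf 3)))) (.node (.node (.node (.node (.leaf 0) (.leaf 3)) (.leaf 3)) (.node (.node (.leaf 3) (.leaf 3)) (.leaf 0))) (.node (.node (.node (.leaf 0) (.leaf 0)) (.leaf 3)) (.node (.node (.leaf 0) (.leaf 3)) (.leaf 3))))) (.node (.node (.node (.node (.node (.leaf 3) (.leaf 3)) (.leaf 0)) (.node (.node (.leaf 0) (.leaf 0)) (.leaf 3))) (.node (.node (.node (.leaf 0) (.leaf 3)) (.leaf 0)) (.node (.node (.leaf 3) (.leaf 3)) (.leaf 3)))) (.node (.node (.node (.node (.leaf 0) (.leaf 3)) (.leaf 3)) (.node (.node (.leaf 0) (.leaf 3)) (.leaf 3))) (.node (.node (.node (.leaf 3) (.leaf 3)) (.leaf 0)) (.node (.node (.leaf 0) (.leaf 3)) (.leaf 3)))))))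

def threeKind : Janko.Tree (ℕ) := (.node (.node (.node threeKind0 threeKind4) (.node threeKind2 threeKind6)) (.node (.node threeKind1 threeKind5) (.node threeKind3 threeKind7)))

def threeRank0 : Janko.Tree (ℕ) :=
  (.node (.node (.node (.node (.node (.node (.node (.leaf 0) (.leaf 208)) (.leaf 439)) (.node (.node (.leaf 71) (.leaf 422)) (.leaf 174))) (.node (.node (.node (.leaf 568) (.leaf 687)) (.leaf 152)) (.node (.node (.leaf 752) (.leaf 292)) (.leaf 576)))) (.node (.node (.node (.node (.leaf 365) (.leaf 493)) (.leaf 659)) (.node (.node (.leaf 380) (.leaf 688)) (.leaf 183))) (.node (.node (.node (.leaf 56) (.leaf 227)) (.leaf 483)) (.node (.node (.leaf 352) (.leaf 432)) (.leaf 252))))) (.node (.node (.node (.node (.node (.leaf 12) (.leaf 675)) (.leaf 136)) (.node (.node (.leaf 80) (.leaf 302)) (.leaf 586))) (.node (.node (.node (.leaf 362) (.leaf 482)) (.leaf 711)) (.node (.node (.leaf 561) (.leaf 639)) (.leaf 194)))) (.node (.node (.node (.node (.leaf 31) (.leaf 318)) (.leaf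 537)) (.node (.node (.leaf 95) (.leaf 473)) (.leaf 703))) (.node (.node (.node (.leaf 525) (.leaf 645)) (.leaf 341)) (.node (.node (.leaf 678) (.leaf 766)) (.leaf 468)))))) (.node (.node (.node (.node (.node (.node (.leaf 7) (.leaf 614)) (.leaf 756)) (.node (.node (.leaf 419) (.leaf 661)) (.leaf 176))) (.node (.node (.node (.leaf 43) (.leaf 314)) (.leaf 553)) (.node (.node (.leaf 106) (.leaf 472)) (.leaf 730)))) (.node (.node (.node (.node (.leaf 282) (.leaf 699)) (.leaf 145)) (.node (.node (.leaf 761) (.leaf 298)) (.leaf 421))) (.node (.node (.node (.leaf 360) (.leaf 462)) (.leaf 731)) (.node (.node (.leaf 379) (.leaf 391)) (.leaf 202))))) (.node (.node (.node (.node (.node (.leaf 17) (.leaf 322)) (.leaf 501)) (.node (.node (.leaf 357) (.leaf 511)) (.leaf 717))) (.node (.node (.node (.leaf 508) (.leaf 724)) (.leaf 158)) (.node (.node (.leaf 748) (.leaf 285)) (.leaf 406)))) (.node (.node (.node (.node (.leaf 35) (.leaf 566)) (.leaf 262)) (.node (.node (.leaf 522) (.leaf 720)) (.leaf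 189))) (.node (.node (.node (.leaf 700) (.leaf 231)) (.leaf 433)) (.node (.node (.leaf 125) (.leaf 676)) (.leaf 250)))))))

def threeRank1 : Janko.Tree (ℕ) :=
  (.node (.node (.node (.node (.node (.node (.node (.leaf 1) (.leaf 644)) (.leaf 130)) (.node (.node (.leaf 72) (.leaf 306)) (.leaf 585))) (.node (.node (.node (.leaf 39) (.leaf 579)) (.leaf 729)) (.node (.node (.leaf 520) (.leaf 669)) (.leaf 191)))) (.node (.node (.node (.node (.leaf 370) (.leaf 216)) (.leaf 445)) (.node (.node (.leaf 89) (.leaf 486)) (.leaf 739))) (.node (.node (.node (.leaf 596) (.leaf 706)) (.leaf 164)) (.node (.node (.leaf 268) (.leaf 413)) (.leaf 620))))) (.node (.node (.node (.node (.node (.leaf 13) (.leaf 498)) (.leaf 137)) (.node (.node (.leaf 381) (.leaf 715)) (.leaf 338))) (.node (.node (.node (.leaf 48) (.leaf 312)) (.leaf 532)) (.node (.node (.leaf 109) (.leaf 481)) (.leaf 747)))) (.node (.node (.node (.node (.leaf 505) (.leaf 247)) (.leaf 147)) (.node (.node (.leaf 271) (.leaf 296)) (.leaf 559)))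 (.node (.node (.node (.leaf 65) (.leaf 477)) (.leaf 258)) (.node (.node (.leaf 409) (.leaf 765)) (.leaf 204)))))) (.node (.node (.node (.node (.node (.node (.leaf 8) (.leaf 210)) (.leaf 438)) (.node (.node (.leaf 358) (.leaf 599)) (.leaf 626))) (.node (.node (.node (.leaf 375) (.leaf 710)) (.leaf 154)) (.node (.node (.leaf 107) (.leaf 241)) (.leaf 512)))) (.node (.node (.node (.node (.leaf 26) (.leaf 608)) (.leaf 757)) (.node (.node (.leaf 429) (.leaf 643)) (.leaf 336))) (.node (.node (.node (.leaf 276) (.leaf 310)) (.leaf 390)) (.node (.node (.leaf 119) (.leaf 393)) (.leaf 744))))) (.node (.node (.node (.node (.node (.leaf 529) (.leaf 248)) (.leaf 139)) (.node (.node (.leaf 273) (.leaf 300)) (.leaf 590))) (.node (.node (.node (.leaf 361) (.leaf 392)) (.leaf 159)) (.node (.node (.leaf 526) (.leaf 242)) (.leaf 196)))) (.node (.node (.node (.node (.leaf 36) (.leaf 220)) (.leaf 563)) (.node (.node (.leaf 100) (.leaf 609)) (.leaf 709))) (.node (.node (.node (.leaf 521) (.leaf 684))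 (.leaf 171)) (.node (.node (.leaf 266) (.leaf 633)) (.leaf 489)))))))

def threeRank2 : Janko.Tree (ℕ) :=
  (.node (.node (.node (.node (.node (.node (.node (.leaf 2) (.leaf 461)) (.leaf 131)) (.node (.node (.leaf 389) (.leaf 656)) (.leaf 175))) (.node (.node (.node (.leaf 40) (.leaf 221)) (.leaf 527)) (.node (.node (.leaf 355) (.leaf 601)) (.leaf 705)))) (.node (.node (.node (.node (.leaf 22) (.leaf 660)) (.leaf 348)) (.node (.node (.leaf 90) (.leaf 237)) (.leaf 605))) (.node (.node (.node (.leaf 57) (.leaf 488)) (.leaf 751)) (.node (.node (.leaf 478) (.leaf 378)) (.leaf 199))))) (.node (.node (.node (.node (.node (.leaf 14) (.leaf 212)) (.leaf 615)) (.node (.node (.leaf 81) (.leaf 581)) (.leaf 256))) (.node (.node (.node (.leaf 447) (.leaf 246)) (.leaf 343)) (.node (.node (.leaf 683) (.leaf 287)) (.leaf 550)))) (.node (.node (.node (.node (.leaf 364) (.leaf 577)) (.leaf 148)) (.node (.node (.leaf 551) (.leaf 634)) (.leaf 334))) (.node (.node (.node (.leaf 66) (.leaf 308)) (.leaf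 623)) (.node (.node (.leaf 351) (.leaf 764)) (.leaf 719)))))) (.node (.node (.node (.node (.node (.node (.leaf 530) (.leaf 701)) (.leaf 350)) (.node (.node (.leaf 274) (.leaf 304)) (.leaf 595))) (.node (.node (.node (.leaf 44) (.leaf 546)) (.leaf 760)) (.node (.node (.leaf 575) (.leaf 651)) (.leaf 332)))) (.node (.node (.node (.node (.leaf 27) (.leaf 217)) (.leaf 524)) (.node (.node (.leaf 356) (.leaf 618)) (.leaf 662))) (.node (.node (.node (.leaf 507) (.leaf 640)) (.leaf 166)) (.node (.node (.leaf 120) (.leaf 383)) (.leaf 453))))) (.node (.node (.node (.node (.node (.leaf 18) (.leaf 616)) (.leaf 750)) (.node (.node (.leaf 417) (.leaf 694)) (.leaf 182))) (.node (.node (.node (.leaf 277) (.leaf 226)) (.leaf 410)) (.node (.node (.leaf 353) (.leaf 280)) (.leaf 197)))) (.node (.node (.node (.node (.leaf 448) (.leaf 735)) (.leaf 150)) (.node (.node (.leaf 101) (.leaf 240)) (.leaf 540))) (.node (.node (.node (.leaf 359) (.leaf 606)) (.leaf 646)) (.node (.node (.leaf 603) (.leaf 631))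 (.leaf 206)))))))

def threeRank3 : Janko.Tree (ℕ) :=
  (.node (.node (.node (.node (.node (.node (.node (.leaf 3) (.leaf 325)) (.leaf 610)) (.node (.node (.leaf 73) (.leaf 441)) (.leaf 759))) (.node (.node (.node (.leaf 523) (.leaf 728)) (.leaf 345)) (.node (.node (.leaf 270) (.leaf 291)) (.leaf 552)))) (.node (.node (.node (.node (.leaf 23) (.leaf 424)) (.leaf 142)) (.node (.node (.leaf 611) (.leaf 685)) (.leaf 184))) (.node (.node (.node (.leaf 58) (.leaf 228)) (.leaf 407)) (.node (.node (.leaf 115) (.leaf 411)) (.leaf 736))))) (.node (.node (.node (.node (.node (.leaf 440) (.leaf 708)) (.leaf 138)) (.node (.node (.leaf 82) (.leaf 235)) (.leaf 499))) (.node (.node (.node (.leaf 49) (.leaf 622)) (.leaf 260)) (.node (.node (.leaf 518) (.leaf 657)) (.leaf 330)))) (.node (.node (.node (.node (.leaf 32) (.leaf 218)) (.leaf 573)) (.node (.node (.leaf 96) (.leaf 459)) (.leaf 254))) (.node (.node (.node (.leaf 571) (.leaf 630)) (.leaf 169)) (.node (.node (.leaf 267) (.leaf 763)) (.leaf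 394)))))) (.node (.node (.node (.node (.node (.node (.leaf 9) (.leaf 582)) (.leaf 265)) (.node (.node (.leaf 475) (.leaf 670)) (.leaf 177))) (.node (.node (.node (.leaf 45) (.leaf 313)) (.leaf 564)) (.node (.node (.leaf 108) (.leaf 474)) (.leaf 695)))) (.node (.node (.node (.node (.leaf 376) (.leaf 655)) (.leaf 347)) (.node (.node (.leaf 272) (.leaf 297)) (.leaf 442))) (.node (.node (.node (.leaf 61) (.leaf 435)) (.leaf 167)) (.node (.node (.leaf 405) (.leaf 396)) (.leaf 327))))) (.node (.node (.node (.node (.node (.leaf 19) (.leaf 214)) (.leaf 497)) (.node (.node (.leaf 85) (.leaf 549)) (.leaf 665))) (.node (.node (.node (.leaf 418) (.leaf 652)) (.leaf 160)) (.node (.node (.leaf 112) (.leaf 284)) (.leaf 455)))) (.node (.node (.node (.node (.leaf 363) (.leaf 515)) (.leaf 737)) (.node (.node (.leaf 570) (.leaf 667)) (.leaf 190))) (.node (.node (.node (.leaf 275) (.leaf 232)) (.leaf 395)) (.node (.node (.leaf 126) (.leaf 629)) (.leaf 741)))))))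

def threeRank4 : Janko.Tree (ℕ) :=
  (.node (.node (.node (.node (.node (.node (.node (.leaf 4) (.leaf 638)) (.leaf 132)) (.node (.node (.leaf 74) (.leaf 305)) (.leaf 430))) (.node (.node (.node (.leaf 41) (.leaf 547)) (.leaf 261)) (.node (.node (.leaf 541) (.leaf 721)) (.leaf 192)))) (.node (.node (.node (.node (.leaf 24) (.leaf 321)) (.leaf 572)) (.node (.node (.leaf 91) (.leaf 467)) (.leaf 714))) (.node (.node (.node (.leaf 509) (.leaf 697)) (.leaf 342)) (.node (.node (.leaf 116) (.leaf 625)) (.leaf 382))))) (.node (.node (.node (.node (.node (.leaf 15) (.leaf 592)) (.leaf 753)) (.node (.node (.leaf 420) (.leaf 733)) (.leaf 180))) (.node (.node (.node (.leaf 50) (.leaf 224)) (.leaf 476)) (.node (.node (.leaf 110) (.leaf 597)) (.leaf 712)))) (.node (.node (.node (.node (.leaf 534) (.leaf 689)) (.leaf 149)) (.node (.node (.leaf 97) (.leaf 295)) (.leaf 562))) (.node (.node (.node (.leaf 67) (.leaf 463)) (.leaf 682)) (.node (.node (.leaf 619) (.leaf 762)) (.leaf 205)))))) (.node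 (.node (.node (.node (.node (.node (.leaf 279) (.leaf 323)) (.leaf 431)) (.node (.node (.leaf 77) (.leaf 428)) (.leaf 178))) (.node (.node (.node (.leaf 450) (.leaf 222)) (.leaf 155)) (.node (.node (.leaf 754) (.leaf 289)) (.leaf 533)))) (.node (.node (.node (.node (.leaf 28) (.leaf 602)) (.leaf 263)) (.node (.node (.leaf 589) (.leaf 690)) (.leaf 335))) (.node (.node (.node (.leaf 62) (.leaf 309)) (.leaf 491)) (.node (.node (.leaf 121) (.leaf 387)) (.leaf 251))))) (.node (.node (.node (.node (.node (.leaf 516) (.leaf 727)) (.leaf 140)) (.node (.node (.leaf 86) (.leaf 299)) (.leaf 446))) (.node (.node (.node (.leaf 53) (.leaf 399)) (.leaf 161)) (.node (.node (.leaf 458) (.leaf 366)) (.leaf 198)))) (.node (.node (.node (.node (.leaf 278) (.leaf 317)) (.leaf 517)) (.node (.node (.leaf 102) (.leaf 600)) (.leaf 734))) (.node (.node (.node (.leaf 543) (.leaf 680)) (.leaf 340)) (.node (.node (.leaf 127) (.leaf 627)) (.leaf 487)))))))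

def threeRank5 : Janko.Tree (ℕ) :=
  (.node (.node (.node (.node (.node (.node (.node (.leaf 5) (.leaf 436)) (.leaf 133)) (.node (.node (.leaf 456) (.leaf 686)) (.leaf 339))) (.node (.node (.node (.leaf 372) (.leaf 315)) (.leaf 578)) (.node (.node (.leaf 105) (.leaf 545)) (.leaf 698)))) (.node (.node (.node (.node (.leaf 377) (.leaf 668)) (.leaf 143)) (.node (.node (.leaf 92) (.leaf 238)) (.leaf 494))) (.node (.node (.node (.leaf 59) (.leaf 465)) (.leaf 259)) (.node (.node (.leaf 384) (.leaf 767)) (.leaf 200))))) (.node (.node (.node (.node (.node (.leaf 373) (.leaf 213)) (.leaf 583)) (.node (.node (.leaf 83) (.leaf 548)) (.leaf 745))) (.node (.node (.node (.leaf 416) (.leaf 726)) (.leaf 156)) (.node (.node (.leaf 693) (.leaf 286)) (.leaf 510)))) (.node (.node (.node (.node (.leaf 33) (.leaf 554)) (.leaf 743)) (.node (.node (.leaf 569) (.leaf 636)) (.leaf 188))) (.node (.node (.node (.leaf 68) (.leaf 307)) (.leaf 469)) (.node (.node (.leaf 124) (.leaf 672)) (.leaf 649)))))) (.node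 (.node (.node (.node (.node (.node (.leaf 10) (.leaf 249)) (.leaf 135)) (.node (.node (.leaf 78) (.leaf 303)) (.leaf 613))) (.node (.node (.node (.leaf 46) (.leaf 490)) (.leaf 749)) (.node (.node (.leaf 556) (.leaf 641)) (.leaf 331)))) (.node (.node (.node (.node (.leaf 29) (.leaf 319)) (.leaf 542)) (.node (.node (.leaf 94) (.leaf 485)) (.leaf 186))) (.node (.node (.node (.leaf 567) (.leaf 704)) (.leaf 168)) (.node (.node (.leaf 122) (.leaf 423)) (.leaf 621))))) (.node (.node (.node (.node (.node (.leaf 20) (.leaf 604)) (.leaf 691)) (.node (.node (.leaf 385) (.leaf 243)) (.leaf 337))) (.node (.node (.node (.leaf 54) (.leaf 311)) (.leaf 451)) (.node (.node (.leaf 113) (.leaf 369)) (.leaf 758)))) (.node (.node (.node (.node (.leaf 544) (.leaf 722)) (.leaf 151)) (.node (.node (.leaf 103) (.leaf 293)) (.leaf 528))) (.node (.node (.node (.leaf 70) (.leaf 495)) (.leaf 172)) (.node (.node (.leaf 502) (.leaf 398)) (.leaf 207)))))))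

def threeRank6 : Janko.Tree (ℕ) :=
  (.node (.node (.node (.node (.node (.node (.node (.leaf 368) (.leaf 324)) (.leaf 584)) (.node (.node (.leaf 75) (.leaf 607)) (.leaf 257))) (.node (.node (.node (.leaf 281) (.leaf 696)) (.leaf 153)) (.node (.node (.leaf 732) (.leaf 290)) (.leaf 565)))) (.node (.node (.node (.node (.leaf 25) (.leaf 443)) (.leaf 144)) (.node (.node (.leaf 587) (.leaf 650)) (.leaf 185))) (.node (.node (.node (.leaf 60) (.leaf 229)) (.leaf 412)) (.node (.node (.leaf 117) (.leaf 471)) (.leaf 201))))) (.node (.node (.node (.node (.node (.leaf 283) (.leaf 671)) (.leaf 349)) (.node (.node (.leaf 84) (.leaf 301)) (.leaf 496))) (.node (.node (.node (.leaf 51) (.leaf 470)) (.leaf 157)) (.node (.node (.leaf 539) (.leaf 642)) (.leaf 329)))) (.node (.node (.node (.node (.leaf 34) (.leaf 219)) (.leaf 555)) (.node (.node (.leaf 98) (.leaf 480)) (.leaf 677))) (.node (.node (.node (.leaf 558) (.leaf 244)) (.leaf 170)) (.node (.node (.leaf 674) (.leaf 653)) (.leaf 397)))))) (.node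 (.node (.node (.node (.node (.node (.leaf 11) (.leaf 500)) (.leaf 632)) (.node (.node (.leaf 386) (.leaf 663)) (.leaf 179))) (.node (.node (.node (.leaf 47) (.leaf 223)) (.leaf 513)) (.node (.node (.leaf 354) (.leaf 460)) (.leaf 707)))) (.node (.node (.node (.node (.leaf 425) (.leaf 664)) (.leaf 146)) (.node (.node (.leaf 628) (.leaf 239)) (.leaf 574))) (.node (.node (.node (.leaf 63) (.leaf 404)) (.leaf 755)) (.node (.node (.leaf 624) (.leaf 437)) (.leaf 203))))) (.node (.node (.node (.node (.node (.leaf 21) (.leaf 215)) (.leaf 591)) (.node (.node (.leaf 87) (.leaf 401)) (.leaf 255))) (.node (.node (.node (.leaf 503) (.leaf 245)) (.leaf 162)) (.node (.node (.leaf 114) (.leaf 374)) (.leaf 408)))) (.node (.node (.node (.node (.leaf 37) (.leaf 531)) (.leaf 718)) (.node (.node (.leaf 560) (.leaf 658)) (.leaf 333))) (.node (.node (.node (.leaf 673) (.leaf 233)) (.leaf 612)) (.node (.node (.leaf 128) (.leaf 679)) (.leaf 713)))))))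

def threeRank7 : Janko.Tree (ℕ) :=
  (.node (.node (.node (.node (.node (.node (.node (.leaf 6) (.leaf 209)) (.leaf 134)) (.node (.node (.leaf 76) (.leaf 234)) (.leaf 588))) (.node (.node (.node (.leaf 42) (.leaf 514)) (.leaf 740)) (.node (.node (.leaf 535) (.leaf 716)) (.leaf 193)))) (.node (.node (.node (.node (.leaf 371) (.leaf 320)) (.leaf 557)) (.node (.node (.leaf 93) (.leaf 464)) (.leaf 654))) (.node (.node (.node (.leaf 449) (.leaf 647)) (.leaf 165)) (.node (.node (.leaf 118) (.leaf 434)) (.leaf 492))))) (.node (.node (.node (.node (.node (.leaf 16) (.leaf 444)) (.leaf 264)) (.node (.node (.leaf 504) (.leaf 723)) (.leaf 181))) (.node (.node (.node (.leaf 52) (.leaf 225)) (.leaf 452)) (.node (.node (.leaf 111) (.leaf 479)) (.leaf 195)))) (.node (.node (.node (.node (.leaf 506) (.leaf 681)) (.leaf 346)) (.node (.node (.leaf 99) (.leaf 294)) (.leaf 519))) (.node (.node (.node (.leaf 69) (.leaf 402)) (.leaf 692)) (.node (.node (.leaf 388) (.leaf 635)) (.leaf 326)))))) (.node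 (.node (.node (.node (.node (.node (.leaf 367) (.leaf 211)) (.leaf 593)) (.node (.node (.leaf 79) (.leaf 598)) (.leaf 742))) (.node (.node (.node (.leaf 415) (.leaf 702)) (.leaf 344)) (.node (.node (.leaf 269) (.leaf 288)) (.leaf 580)))) (.node (.node (.node (.node (.leaf 30) (.leaf 427)) (.leaf 746)) (.node (.node (.leaf 594) (.leaf 648)) (.leaf 187))) (.node (.node (.node (.leaf 64) (.leaf 230)) (.leaf 454)) (.node (.node (.leaf 123) (.leaf 400)) (.leaf 738))))) (.node (.node (.node (.node (.node (.leaf 457) (.leaf 725)) (.leaf 141)) (.node (.node (.leaf 88) (.leaf 236)) (.leaf 617))) (.node (.node (.node (.leaf 55) (.leaf 403)) (.leaf 163)) (.node (.node (.leaf 414) (.leaf 484)) (.leaf 328)))) (.node (.node (.node (.node (.leaf 38) (.leaf 316)) (.leaf 538)) (.node (.node (.leaf 104) (.leaf 426)) (.leaf 253))) (.node (.node (.node (.leaf 536) (.leaf 666)) (.leaf 173)) (.node (.node (.leaf 129) (.leaf 637)) (.leaf 466)))))))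

def threeRank : Janko.Tree (ℕ) := (.node (.node (.node threeRank0 threeRank4) (.node threeRank2 threeRank6)) (.node (.node threeRank1 threeRank5) (.node threeRank3 threeRank7)))

def threeVia0 : Janko.Tree (ℕ × ℕ) :=
  (.node (.node (.node (.node (.node (.node (.node (.leaf (0, 0)) (.leaf (0, 0))) (.leaf (36, 49))) (.node (.node (.leaf (0, 0)) (.leaf (8, 87))) (.leaf (0, 0)))) (.node (.node (.node (.leaf (19, 33)) (.leaf (31, 8))) (.leaf (0, 0))) (.node (.node (.leaf (38, 84)) (.leaf (2, 234))) (.leaf (4, 187))))) (.node (.node (.node (.node (.leaf (2, 10)) (.leaf (6, 234))) (.leaf (38, 185))) (.node (.node (.leaf (9, 85)) (.leaf (38, 223))) (.leaf (0, 0)))) (.node (.node (.node (.leaf (0, 0)) (.leaf (0, 0))) (.leaf (36, 75))) (.node (.node (.leaf (2, 74)) (.leaf (7, 29))) (.leaf (0, 160)))))) (.node (.node (.node (.node (.node (.leaf (0, 0)) (.leaf (38, 82))) (.leaf (0, 0))) (.node (.node (.leaf (0, 0)) (.leaf (2, 218))) (.leaf (36, 83)))) (.node (.node (.node (.leaf (2, 26))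 (.leaf (19, 116))) (.leaf (38, 195))) (.node (.node (.leaf (4, 104)) (.leaf (36, 172))) (.leaf (0, 0))))) (.node (.node (.node (.node (.leaf (0, 0)) (.leaf (2, 186))) (.leaf (19, 37))) (.node (.node (.leaf (0, 0)) (.leaf (19, 202))) (.leaf (38, 197)))) (.node (.node (.node (.leaf (36, 18)) (.leaf (38, 171))) (.leaf (2, 122))) (.node (.node (.leaf (38, 79)) (.leaf (23, 163))) (.leaf (15, 164))))))) (.node (.node (.node (.node (.node (.node (.leaf (0, 0)) (.leaf (6, 132))) (.leaf (38, 64))) (.node (.node (.leaf (22, 6)) (.leaf (35, 182))) (.leaf (0, 0)))) (.node (.node (.node (.leaf (0, 0)) (.leaf (2, 194))) (.leaf (19, 143))) (.node (.node (.leaf (0, 0)) (.leaf (13, 157))) (.leaf (38, 107))))) (.node (.node (.node (.node (.leaf (1, 13)) (.leaf (38, 204))) (.leaf (0, 0))) (.node (.node (.leaf (28, 60)) (.leaf (2, 226))) (.leaf (18, 87)))) (.node (.node (.node (.leaf (2, 34)) (.leaf (20, 158))) (.leaf (38, 188))) (.node (.node (.leaf (9, 115)) (.leaf (15, 115))) (.leaf (0, 0))))))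 (.node (.node (.node (.node (.node (.leaf (0, 0)) (.leaf (2, 178))) (.leaf (6, 175))) (.node (.node (.leaf (2, 50)) (.leaf (18, 60))) (.leaf (38, 237)))) (.node (.node (.node (.leaf (21, 43)) (.leaf (38, 154))) (.leaf (0, 0))) (.node (.node (.leaf (38, 155)) (.leaf (2, 242))) (.leaf (15, 75))))) (.node (.node (.node (.node (.leaf (0, 0)) (.leaf (19, 69))) (.leaf (0, 104))) (.node (.node (.leaf (36, 33)) (.leaf (38, 219))) (.leaf (0, 0)))) (.node (.node (.node (.leaf (37, 231)) (.leaf (0, 0))) (.leaf (7, 160))) (.node (.node (.leaf (0, 0)) (.leaf (31, 226))) (.leaf (0, 168))))))))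

def threeVia1 : Janko.Tree (ℕ × ℕ) :=
  (.node (.node (.node (.node (.node (.node (.node (.leaf (0, 0)) (.leaf (35, 242))) (.leaf (0, 0))) (.node (.node (.leaf (0, 0)) (.leaf (2, 213))) (.leaf (6, 87)))) (.node (.node (.node (.leaf (0, 0)) (.leaf (5, 187))) (.leaf (38, 193))) (.node (.node (.leaf (15, 63)) (.leaf (38, 235))) (.leaf (0, 0))))) (.node (.node (.node (.node (.leaf (4, 11)) (.leaf (0, 0))) (.leaf (36, 53))) (.node (.node (.leaf (0, 0)) (.leaf (15, 223))) (.leaf (38, 165)))) (.node (.node (.node (.leaf (6, 90)) (.leaf (38, 203))) (.leaf (0, 0))) (.node (.node (.leaf (0, 75)) (.leaf (8, 45))) (.leaf (6, 160)))))) (.node (.node (.node (.node (.node (.leaf (0, 0)) (.leaf (19, 87))) (.leaf (0, 0))) (.node (.node (.leaf (9, 77)) (.leaf (38, 140))) (.leaf (2, 133)))) (.node (.node (.node (.leaf (0, 0)) (.leaf (2, 197))) (.leaf (21, 2))) (.node (.node (.leaf (0, 0)) (.leaf (20, 223))) (.leaf (38, 139))))) (.node (.node (.node (.node (.leaf (21, 24)) (.leaf (0, 187))) (.leaf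 (0, 0))) (.node (.node (.leaf (0, 59)) (.leaf (2, 229))) (.leaf (36, 20)))) (.node (.node (.node (.leaf (0, 0)) (.leaf (20, 196))) (.leaf (0, 123))) (.node (.node (.leaf (36, 44)) (.leaf (24, 87))) (.leaf (0, 0))))))) (.node (.node (.node (.node (.node (.node (.leaf (0, 0)) (.leaf (0, 0))) (.leaf (21, 127))) (.node (.node (.leaf (2, 45)) (.leaf (20, 179))) (.leaf (11, 115)))) (.node (.node (.node (.leaf (5, 23)) (.leaf (38, 184))) (.leaf (0, 0))) (.node (.node (.leaf (0, 0)) (.leaf (0, 0))) (.leaf (20, 104))))) (.node (.node (.node (.node (.leaf (0, 0)) (.leaf (19, 210))) (.leaf (36, 88))) (.node (.node (.leaf (17, 52)) (.leaf (38, 242))) (.leaf (2, 141)))) (.node (.node (.node (.leaf (0, 35)) (.leaf (2, 205))) (.leaf (19, 115))) (.node (.node (.leaf (0, 0)) (.leaf (16, 74))) (.leaf (38, 163)))))) (.node (.node (.node (.node (.node (.leaf (20, 37)) (.leaf (0, 179))) (.leaf (0, 0))) (.node (.node (.leaf (0, 51)) (.leaf (2, 221))) (.leaf (5, 130)))) (.node (.node (.node (.leaf (2,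 29)) (.leaf (15, 74))) (.leaf (0, 0))) (.node (.node (.leaf (6, 37)) (.leaf (0, 0))) (.leaf (0, 0))))) (.node (.node (.node (.node (.leaf (0, 0)) (.leaf (0, 0))) (.leaf (6, 104))) (.node (.node (.leaf (0, 0)) (.leaf (19, 179))) (.leaf (38, 147)))) (.node (.node (.node (.leaf (20, 33)) (.leaf (38, 124))) (.leaf (0, 0))) (.node (.node (.leaf (0, 83)) (.leaf (32, 115))) (.leaf (9, 202))))))))

def threeVia2 : Janko.Tree (ℕ × ℕ) :=
  (.node (.node (.node (.node (.node (.node (.node (.leaf (0, 0)) (.leaf (20, 123))) (.leaf (0, 0))) (.node (.node (.leaf (17, 77)) (.leaf (38, 141))) (.leaf (0, 0)))) (.node (.node (.node (.leaf (0, 0)) (.leaf (0, 0))) (.leaf (36, 61))) (.node (.node (.leaf (2, 64)) (.leaf (20, 210))) (.leaf (38, 149))))) (.node (.node (.node (.node (.leaf (0, 0)) (.leaf (36, 185))) (.leaf (2, 96))) (.node (.node (.leaf (0, 0)) (.leaf (0, 0))) (.leaf (19, 173)))) (.node (.node (.node (.leaf (0, 0)) (.leaf (19, 196))) (.leaf (38, 117))) (.node (.node (.leaf (20, 162)) (.leaf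 (9, 0))) (.leaf (0, 0)))))) (.node (.node (.node (.node (.node (.leaf (0, 0)) (.leaf (0, 0))) (.leaf (6, 173))) (.node (.node (.leaf (0, 0)) (.leaf (19, 149))) (.leaf (0, 134)))) (.node (.node (.node (.leaf (20, 85)) (.leaf (0, 198))) (.leaf (2, 112))) (.node (.node (.leaf (36, 175)) (.leaf (2, 240))) (.leaf (20, 108))))) (.node (.node (.node (.node (.leaf (2, 16)) (.leaf (6, 149))) (.leaf (0, 0))) (.node (.node (.leaf (20, 143)) (.leaf (32, 113))) (.leaf (2, 144)))) (.node (.node (.node (.leaf (0, 0)) (.leaf (2, 208))) (.leaf (6, 198))) (.node (.node (.leaf (2, 80)) (.leaf (25, 165))) (.leaf (38, 166))))))) (.node (.node (.node (.node (.node (.node (.leaf (19, 7)) (.leaf (38, 80))) (.leaf (2, 88))) (.node (.node (.leaf (0, 46)) (.leaf (2, 216))) (.leaf (19, 53)))) (.node (.node (.node (.leaf (0, 0)) (.leaf (18, 97))) (.leaf (38, 21))) (.node (.node (.leaf (6, 143)) (.leaf (38, 226))) (.leaf (2, 152))))) (.node (.node (.node (.node (.leaf (0, 0)) (.leaf (0, 0))) (.leaf (36, 9)))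 (.node (.node (.leaf (2, 56)) (.leaf (6, 227))) (.leaf (38, 182)))) (.node (.node (.node (.leaf (22, 8)) (.leaf (38, 240))) (.leaf (0, 0))) (.node (.node (.leaf (0, 0)) (.leaf (17, 48))) (.leaf (14, 113)))))) (.node (.node (.node (.node (.node (.leaf (0, 0)) (.leaf (4, 210))) (.leaf (38, 94))) (.node (.node (.leaf (22, 14)) (.leaf (38, 215))) (.leaf (0, 0)))) (.node (.node (.node (.leaf (0, 30)) (.leaf (0, 0))) (.leaf (36, 73))) (.node (.node (.leaf (2, 72)) (.leaf (1, 0))) (.leaf (0, 0))))) (.node (.node (.node (.node (.leaf (19, 5)) (.leaf (38, 148))) (.leaf (0, 0))) (.node (.node (.leaf (0, 0)) (.leaf (0, 0))) (.leaf (19, 65)))) (.node (.node (.node (.leaf (2, 40)) (.leaf (19, 132))) (.leaf (38, 208))) (.node (.node (.leaf (20, 173)) (.leaf (33, 75))) (.leaf (0, 0))))))))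

def threeVia3 : Janko.Tree (ℕ × ℕ) :=
  (.node (.node (.node (.node (.node (.node (.node (.leaf (0, 0)) (.leaf (2, 171))) (.leaf (9, 127))) (.node (.node (.leaf (0, 0)) (.leaf (20, 50))) (.leaf (38, 129)))) (.node (.node (.node (.leaf (3, 37)) (.leaf (38, 180))) (.leaf (2, 107))) (.node (.node (.leaf (0, 65)) (.leaf (2, 235))) (.leaf (17, 143))))) (.node (.node (.node (.node (.leaf (0, 0)) (.leaf (20, 128))) (.leaf (0, 0))) (.node (.node (.leaf (19, 83)) (.leaf (37, 238))) (.leaf (0, 0)))) (.node (.node (.node (.leaf (0, 0)) (.leaf (0, 0))) (.leaf (19, 75))) (.node (.node (.leaf (0, 0)) (.leaf (10, 48))) (.leaf (37, 219)))))) (.node (.node (.node (.node (.node (.leaf (10, 32)) (.leaf (38, 207))) (.leaf (0, 0))) (.node (.node (.leaf (0, 0)) (.leaf (0, 0))) (.leaf (9, 175)))) (.node (.node (.node (.leaf (0, 0)) (.leaf (6, 164))) (.leaf (0, 113))) (.node (.node (.leaf (19, 98)) (.leaf (38, 241))) (.leaf (2, 155))))) (.node (.node (.node (.node (.leaf (0, 0)) (.leaf (0, 0))) (.leaf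 (4, 143))) (.node (.node (.leaf (0, 0)) (.leaf (20, 76))) (.leaf (0, 145)))) (.node (.node (.node (.leaf (19, 59)) (.leaf (34, 113))) (.leaf (0, 0))) (.node (.node (.leaf (0, 81)) (.leaf (26, 204))) (.leaf (16, 45))))))) (.node (.node (.node (.node (.node (.node (.leaf (0, 0)) (.leaf (19, 27))) (.leaf (0, 89))) (.node (.node (.leaf (20, 121)) (.leaf (38, 217))) (.leaf (0, 0)))) (.node (.node (.node (.leaf (0, 0)) (.leaf (2, 195))) (.leaf (5, 104))) (.node (.node (.leaf (0, 0)) (.leaf (17, 202))) (.leaf (38, 222))))) (.node (.node (.node (.node (.leaf (5, 13)) (.leaf (35, 141))) (.leaf (2, 99))) (.node (.node (.leaf (0, 57)) (.leaf (2, 227))) (.leaf (21, 5)))) (.node (.node (.node (.leaf (0, 0)) (.leaf (14, 160))) (.leaf (0, 0))) (.node (.node (.leaf (4, 116)) (.leaf (18, 77))) (.leaf (2, 163)))))) (.node (.node (.node (.node (.node (.leaf (0, 0)) (.leaf (0, 0))) (.leaf (19, 128))) (.node (.node (.leaf (0, 0)) (.leaf (20, 187))) (.leaf (38, 216)))) (.node (.node (.node (.leaf (8,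 127)) (.leaf (38, 238))) (.leaf (0, 0))) (.node (.node (.leaf (0, 0)) (.leaf (2, 0))) (.leaf (36, 113))))) (.node (.node (.node (.node (.leaf (2, 19)) (.leaf (20, 145))) (.leaf (38, 131))) (.node (.node (.leaf (13, 59)) (.leaf (36, 213))) (.leaf (0, 0)))) (.node (.node (.node (.leaf (0, 41)) (.leaf (0, 0))) (.leaf (19, 81))) (.node (.node (.leaf (0, 0)) (.leaf (34, 115))) (.leaf (38, 169))))))))

def threeVia4 : Janko.Tree (ℕ × ℕ) :=
  (.node (.node (.node (.node (.node (.node (.node (.leaf (0, 0)) (.leaf (38, 231))) (.leaf (0, 0))) (.node (.node (.leaf (0, 0)) (.leaf (2, 214))) (.leaf (36, 28)))) (.node (.node (.node (.leaf (0, 0)) (.leaf (20, 149))) (.leaf (0, 108))) (.node (.node (.leaf (6, 147)) (.leaf (38, 232))) (.leaf (0, 0))))) (.node (.node (.node (.node (.leaf (0, 0)) (.leaf (2, 182))) (.leaf (19, 35))) (.node (.node (.leaf (0, 0)) (.leaf (19, 164))) (.leaf (36, 140)))) (.node (.node (.node (.leaf (36, 13)) (.leaf (37, 194))) (.leaf (2, 118))) (.node (.node (.leaf (0,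 0)) (.leaf (5, 0))) (.leaf (5, 48)))))) (.node (.node (.node (.node (.node (.leaf (0, 0)) (.leaf (19, 89))) (.leaf (38, 118))) (.node (.node (.leaf (36, 23)) (.leaf (38, 211))) (.leaf (0, 0)))) (.node (.node (.node (.leaf (0, 0)) (.leaf (0, 0))) (.leaf (18, 196))) (.node (.node (.leaf (0, 0)) (.leaf (19, 127))) (.leaf (38, 192))))) (.node (.node (.node (.node (.leaf (20, 19)) (.leaf (38, 224))) (.leaf (0, 0))) (.node (.node (.leaf (0, 0)) (.leaf (2, 230))) (.leaf (6, 145)))) (.node (.node (.node (.leaf (0, 0)) (.leaf (20, 164))) (.leaf (38, 123))) (.node (.node (.leaf (6, 81)) (.leaf (27, 197))) (.leaf (0, 0))))))) (.node (.node (.node (.node (.node (.node (.leaf (0, 4)) (.leaf (2, 174))) (.leaf (22, 29))) (.node (.node (.leaf (0, 0)) (.leaf (20, 175))) (.leaf (0, 0)))) (.node (.node (.node (.leaf (36, 0)) (.leaf (0, 0))) (.leaf (0, 0))) (.node (.node (.leaf (38, 116)) (.leaf (2, 238))) (.leaf (21, 7))))) (.node (.node (.node (.node (.leaf (0, 0)) (.leaf (20, 138))) (.leaf (0, 100)))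 (.node (.node (.leaf (6, 130)) (.leaf (38, 187))) (.leaf (2, 142)))) (.node (.node (.node (.leaf (0, 0)) (.leaf (2, 206))) (.leaf (6, 196))) (.node (.node (.leaf (0, 0)) (.leaf (19, 73))) (.leaf (0, 164)))))) (.node (.node (.node (.node (.node (.leaf (20, 39)) (.leaf (38, 199))) (.leaf (0, 0))) (.node (.node (.leaf (0, 0)) (.leaf (2, 222))) (.leaf (36, 85)))) (.node (.node (.node (.leaf (0, 0)) (.leaf (36, 77))) (.leaf (0, 0))) (.node (.node (.leaf (36, 7)) (.leaf (3, 0))) (.leaf (0, 0))))) (.node (.node (.node (.node (.leaf (0, 20)) (.leaf (2, 190))) (.leaf (17, 98))) (.node (.node (.leaf (0, 0)) (.leaf (20, 91))) (.leaf (38, 220)))) (.node (.node (.node (.leaf (6, 100)) (.leaf (37, 239))) (.leaf (2, 126))) (.node (.node (.leaf (0, 0)) (.leaf (35, 77))) (.leaf (19, 162))))))))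

def threeVia5 : Janko.Tree (ℕ × ℕ) :=
  (.node (.node (.node (.node (.node (.node (.node (.leaf (0, 0)) (.leaf (20, 160))) (.leaf (0, 0))) (.node (.node (.leaf (10, 79)) (.leaf (38, 225))) (.leaf (2, 129)))) (.node (.node (.node (.leaf (4, 13)) (.leaf (2, 193))) (.leaf (6, 187))) (.node (.node (.leaf (0, 0)) (.leaf (20, 97))) (.leaf (38, 175))))) (.node (.node (.node (.node (.leaf (5, 11)) (.leaf (38, 213))) (.leaf (0, 0))) (.node (.node (.leaf (0, 0)) (.leaf (0, 0))) (.leaf (19, 175)))) (.node (.node (.node (.leaf (0, 0)) (.leaf (17, 198))) (.leaf (0, 119))) (.node (.node (.leaf (17, 73)) (.leaf (12, 56))) (.leaf (0, 0)))))) (.node (.node (.node (.node (.node (.leaf (4, 23)) (.leaf (0, 0))) (.leaf (22, 52))) (.node (.node (.leaf (0, 0)) (.leaf (20, 67))) (.leaf (37, 162)))) (.node (.node (.node (.leaf (36, 11)) (.leaf (38, 198))) (.leaf (0, 0))) (.node (.node (.leaf (38, 125)) (.leaf (2, 241))) (.leaf (20, 21))))) (.node (.node (.node (.node (.leaf (0, 0)) (.leaf (19, 102))) (.leaf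 (38, 157))) (.node (.node (.leaf (19, 18)) (.leaf (30, 157))) (.leaf (0, 0)))) (.node (.node (.node (.leaf (0, 0)) (.leaf (2, 209))) (.leaf (19, 158))) (.node (.node (.leaf (0, 0)) (.leaf (28, 233))) (.leaf (38, 229))))))) (.node (.node (.node (.node (.node (.node (.leaf (0, 0)) (.leaf (0, 175))) (.leaf (0, 0))) (.node (.node (.leaf (0, 0)) (.leaf (2, 217))) (.leaf (4, 173)))) (.node (.node (.node (.leaf (0, 0)) (.leaf (3, 223))) (.leaf (38, 150))) (.node (.node (.leaf (21, 34)) (.leaf (36, 240))) (.leaf (2, 153))))) (.node (.node (.node (.node (.leaf (0, 0)) (.leaf (2, 185))) (.leaf (6, 65))) (.node (.node (.leaf (0, 0)) (.leaf (6, 242))) (.leaf (0, 0)))) (.node (.node (.node (.leaf (9, 60)) (.leaf (38, 78))) (.leaf (0, 0))) (.node (.node (.leaf (0, 0)) (.leaf (20, 87))) (.leaf (6, 225)))))) (.node (.node (.node (.node (.node (.leaf (0, 0)) (.leaf (17, 173))) (.leaf (38, 228))) (.node (.node (.leaf (17, 49)) (.leaf (0, 223))) (.leaf (2, 137)))) (.node (.node (.node (.leaf (0, 0))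 (.leaf (2, 201))) (.leaf (7, 46))) (.node (.node (.leaf (0, 0)) (.leaf (4, 2))) (.leaf (38, 159))))) (.node (.node (.node (.node (.leaf (4, 3)) (.leaf (38, 236))) (.leaf (0, 0))) (.node (.node (.leaf (0, 0)) (.leaf (2, 233))) (.leaf (36, 22)))) (.node (.node (.node (.leaf (0, 0)) (.leaf (19, 134))) (.leaf (0, 0))) (.node (.node (.leaf (4, 31)) (.leaf (36, 115))) (.leaf (0, 0))))))))

def threeVia6 : Janko.Tree (ℕ × ℕ) :=
  (.node (.node (.node (.node (.node (.node (.node (.leaf (3, 1)) (.leaf (2, 172))) (.leaf (36, 51))) (.node (.node (.leaf (0, 0)) (.leaf (13, 210))) (.leaf (0, 130)))) (.node (.node (.node (.leaf (1, 23)) (.leaf (38, 153))) (.leaf (0, 0))) (.node (.node (.leaf (38, 85)) (.leaf (2, 236))) (.leaf (19, 145))))) (.node (.node (.node (.node (.leaf (0, 0)) (.leaf (21, 13))) (.leaf (0, 0))) (.node (.node (.leaf (36, 30)) (.leaf (36, 229))) (.leaf (0, 0)))) (.node (.node (.node (.leaf (0, 0)) (.leaf (0, 0))) (.leaf (10, 160))) (.node (.node (.leaf (0, 0)) (.leaf (13, 198)))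 (.leaf (0, 0)))))) (.node (.node (.node (.node (.node (.leaf (1, 7)) (.leaf (38, 233))) (.leaf (2, 92))) (.node (.node (.leaf (0, 0)) (.leaf (2, 220))) (.leaf (15, 134)))) (.node (.node (.node (.leaf (0, 0)) (.leaf (19, 117))) (.leaf (0, 0))) (.node (.node (.leaf (19, 100)) (.leaf (38, 239))) (.leaf (2, 156))))) (.node (.node (.node (.node (.leaf (0, 0)) (.leaf (0, 0))) (.leaf (15, 102))) (.node (.node (.leaf (0, 0)) (.leaf (20, 202))) (.leaf (31, 213)))) (.node (.node (.node (.leaf (6, 98)) (.leaf (0, 210))) (.leaf (0, 0))) (.node (.node (.leaf (38, 53)) (.leaf (29, 202))) (.leaf (18, 115))))))) (.node (.node (.node (.node (.node (.node (.leaf (0, 0)) (.leaf (6, 134))) (.leaf (33, 115))) (.node (.node (.leaf (17, 44)) (.leaf (38, 218))) (.leaf (0, 0)))) (.node (.node (.node (.leaf (0, 0)) (.leaf (0, 0))) (.leaf (20, 98))) (.node (.node (.leaf (2, 68)) (.leaf (18, 76))) (.leaf (38, 202))))) (.node (.node (.node (.node (.leaf (20, 55)) (.leaf (38, 186))) (.leaf (0, 0))) (.node (.node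 (.leaf (35, 115)) (.leaf (0, 0))) (.leaf (6, 102)))) (.node (.node (.node (.leaf (0, 0)) (.leaf (5, 202))) (.leaf (38, 122))) (.node (.node (.leaf (4, 123)) (.leaf (21, 23))) (.leaf (0, 0)))))) (.node (.node (.node (.node (.node (.leaf (0, 0)) (.leaf (0, 0))) (.leaf (19, 130))) (.node (.node (.leaf (0, 0)) (.leaf (22, 157))) (.leaf (0, 138)))) (.node (.node (.node (.leaf (19, 28)) (.leaf (0, 202))) (.leaf (0, 0))) (.node (.node (.leaf (0, 0)) (.leaf (4, 0))) (.leaf (36, 25))))) (.node (.node (.node (.node (.leaf (0, 0)) (.leaf (20, 34))) (.leaf (38, 106))) (.node (.node (.leaf (36, 35)) (.leaf (38, 234))) (.leaf (2, 148)))) (.node (.node (.node (.leaf (28, 115)) (.leaf (0, 0))) (.leaf (19, 51))) (.node (.node (.leaf (0, 0)) (.leaf (37, 79))) (.leaf (37, 156))))))))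

def threeVia7 : Janko.Tree (ℕ × ℕ) :=
  (.node (.node (.node (.node (.node (.node (.node (.leaf (0, 0)) (.leaf (0, 0))) (.leaf (0, 0))) (.node (.node (.leaf (0, 0)) (.leaf (0, 0))) (.leaf (21, 50)))) (.node (.node (.node (.leaf (0, 0)) (.leaf (20, 69))) (.leaf (38, 109))) (.node (.node (.leaf (17, 61)) (.leaf (37, 237))) (.leaf (0, 0))))) (.node (.node (.node (.node (.leaf (3, 11)) (.leaf (2, 183))) (.leaf (36, 59))) (.node (.node (.leaf (0, 0)) (.leaf (20, 198))) (.leaf (29, 173)))) (.node (.node (.node (.leaf (21, 6)) (.leaf (36, 208))) (.leaf (0, 0))) (.node (.node (.leaf (0, 0)) (.leaf (14, 74))) (.leaf (6, 121)))))) (.node (.node (.node (.node (.node (.leaf (0, 0)) (.leaf (20, 130))) (.leaf (0, 93))) (.node (.node (.leaf (15, 49)) (.leaf (38, 191))) (.leaf (0, 0)))) (.node (.node (.node (.leaf (0, 0)) (.leaf (0, 0))) (.leaf (15, 113))) (.node (.node (.leaf (0, 0)) (.leaf (20, 157))) (.leaf (0, 0))))) (.node (.node (.node (.node (.leaf (36, 5)) (.leaf (35, 60))) (.leaf (2,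 103))) (.node (.node (.leaf (0, 0)) (.leaf (2, 231))) (.leaf (19, 63)))) (.node (.node (.node (.leaf (0, 0)) (.leaf (22, 127))) (.leaf (35, 16))) (.node (.node (.leaf (19, 77)) (.leaf (30, 47))) (.leaf (2, 167))))))) (.node (.node (.node (.node (.node (.node (.leaf (3, 4)) (.leaf (0, 0))) (.leaf (15, 89))) (.node (.node (.leaf (0, 0)) (.leaf (18, 127))) (.leaf (38, 132)))) (.node (.node (.node (.leaf (16, 11)) (.leaf (38, 174))) (.leaf (2, 111))) (.node (.node (.leaf (0, 69)) (.leaf (2, 239))) (.leaf (19, 187))))) (.node (.node (.node (.node (.leaf (0, 0)) (.leaf (20, 134))) (.leaf (38, 161))) (.node (.node (.leaf (19, 85)) (.leaf (38, 205))) (.leaf (0, 0)))) (.node (.node (.node (.leaf (0, 0)) (.leaf (0, 0))) (.leaf (20, 113))) (.node (.node (.leaf (0, 0)) (.leaf (22, 11))) (.leaf (36, 165)))))) (.node (.node (.node (.node (.node (.leaf (36, 2)) (.leaf (38, 200))) (.leaf (0, 0))) (.node (.node (.leaf (0, 0)) (.leaf (0, 0))) (.leaf (6, 138)))) (.node (.node (.node (.leaf (0, 0))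 (.leaf (22, 116))) (.leaf (0, 0))) (.node (.node (.leaf (8, 115)) (.leaf (6, 199))) (.leaf (2, 159))))) (.node (.node (.node (.node (.leaf (0, 0)) (.leaf (2, 191))) (.leaf (13, 100))) (.node (.node (.leaf (0, 0)) (.leaf (20, 84))) (.leaf (0, 149)))) (.node (.node (.node (.leaf (19, 61)) (.leaf (36, 216))) (.leaf (0, 0))) (.node (.node (.leaf (0, 0)) (.leaf (38, 209))) (.leaf (19, 198))))))))

def threeVia : Janko.Tree (ℕ × ℕ) := (.node (.node (.node threeVia0 threeVia4) (.node threeVia2 threeVia6)) (.node (.node threeVia1 threeVia5) (.node threeVia3 threeVia7)))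

def threeOrd0 : Janko.Tree (ℕ) :=
  (.node (.node (.node (.node (.node (.node (.node (.leaf 31) (.leaf 171)) (.node (.leaf 194) (.leaf 177))) (.node (.node (.leaf 6) (.leaf 196)) (.node (.leaf 108) (.leaf 139)))) (.node (.node (.node (.leaf 97) (.leaf 39)) (.node (.leaf 231) (.leaf 204))) (.node (.node (.leaf 43) (.leaf 7)) (.node (.leaf 178) (.leaf 203))))) (.node (.node (.node (.node (.leaf 86) (.leaf 128)) (.node (.leaf 239) (.leaf 110))) (.node (.node (.leaf 8) (.leaf 92)) (.node (.leaf 119) (.leaf 188)))) (.node (.node (.node (.leaf 78) (.leaf 102)) (.node (.leaf 210) (.leaf 135))) (.node (.node (.leaf 186) (.leaf 11)) (.leaf 72))))) (.node (.node (.node (.node (.node (.leaf 50) (.leaf 238)) (.node (.leaf 191) (.leaf 215))) (.node (.node (.leaf 9) (.leaf 129)) (.node (.leaf 198) (.leaf 66)))) (.node (.node (.node (.leaf 76) (.leaf 61)) (.node (.leaf 57) (.leaf 125))) (.node (.node (.leaf 75) (.leaf 80)) (.leaf 185)))) (.node (.node (.node (.node (.leaf 10) (.leaf 53)) (.node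 (.leaf 206) (.leaf 219))) (.node (.node (.leaf 59) (.leaf 64)) (.node (.leaf 182) (.leaf 124)))) (.node (.node (.node (.leaf 49) (.leaf 48)) (.node (.leaf 104) (.leaf 131))) (.node (.node (.leaf 235) (.leaf 197)) (.leaf 193)))))) (.node (.node (.node (.node (.node (.node (.leaf 52) (.leaf 167)) (.node (.leaf 112) (.leaf 95))) (.node (.node (.leaf 83) (.leaf 56)) (.node (.leaf 149) (.leaf 146)))) (.node (.node (.node (.leaf 47) (.leaf 63)) (.node (.leaf 175) (.leaf 200))) (.node (.node (.leaf 12) (.leaf 103)) (.node (.leaf 216) (.leaf 169))))) (.node (.node (.node (.node (.leaf 60) (.leaf 32)) (.node (.leaf 209) (.leaf 106))) (.node (.node (.leaf 20) (.leaf 174)) (.node (.leaf 223) (.leaf 165)))) (.node (.node (.node (.leaf 116) (.leaf 158)) (.node (.leaf 69) (.leaf 94))) (.node (.node (.leaf 214) (.leaf 122)) (.leaf 148))))) (.node (.node (.node (.node (.node (.leaf 54) (.leaf 208)) (.node (.leaf 222) (.leaf 189))) (.node (.node (.leaf 33) (.leaf 5)) (.node (.leaf 81) (.leaf 42))))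 (.node (.node (.node (.leaf 74) (.leaf 67)) (.node (.leaf 89) (.leaf 228))) (.node (.node (.leaf 217) (.leaf 159)) (.leaf 152)))) (.node (.node (.node (.node (.leaf 19) (.leaf 173)) (.node (.leaf 242) (.leaf 154))) (.node (.node (.leaf 44) (.leaf 0)) (.node (.leaf 141) (.leaf 161)))) (.node (.node (.node (.leaf 14) (.leaf 77)) (.node (.leaf 100) (.leaf 180))) (.node (.node (.leaf 218) (.leaf 181)) (.leaf 226)))))))

def threeOrd1 : Janko.Tree (ℕ) :=
  (.node (.node (.node (.node (.node (.node (.node (.leaf 84) (.leaf 201)) (.node (.leaf 221) (.leaf 136))) (.node (.node (.leaf 51) (.leaf 162)) (.node (.leaf 187) (.leaf 105)))) (.node (.node (.node (.leaf 62) (.leaf 98)) (.node (.leaf 93) (.leaf 170))) (.node (.node (.leaf 24) (.leaf 68)) (.node (.leaf 96) (.leaf 224))))) (.node (.node (.node (.node (.leaf 21) (.leaf 87)) (.node (.leaf 230) (.leaf 147))) (.node (.node (.leaf 17) (.leaf 133)) (.node (.leaf 168) (.leaf 109)))) (.node (.node (.node (.leaf 157) (.leaf 79)) (.node (.leaf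 179) (.leaf 176))) (.node (.node (.leaf 183) (.leaf 23)) (.leaf 107))))) (.node (.node (.node (.node (.node (.leaf 29) (.leaf 229)) (.node (.leaf 195) (.leaf 184))) (.node (.node (.leaf 18) (.leaf 1)) (.node (.leaf 164) (.leaf 101)))) (.node (.node (.node (.leaf 26) (.leaf 37)) (.node (.leaf 130) (.leaf 237))) (.node (.node (.leaf 46) (.leaf 118)) (.leaf 111)))) (.node (.node (.node (.node (.leaf 34) (.leaf 91)) (.node (.leaf 172) (.leaf 192))) (.node (.node (.leaf 73) (.leaf 99)) (.node (.leaf 213) (.leaf 120)))) (.node (.node (.node (.leaf 15) (.leaf 115)) (.node (.leaf 41) (.leaf 58))) (.node (.node (.leaf 241) (.leaf 212)) (.leaf 220)))))) (.node (.node (.node (.node (.node (.node (.leaf 16) (.leaf 126)) (.node (.leaf 153) (.leaf 232))) (.node (.node (.leaf 30) (.leaf 88)) (.node (.leaf 123) (.leaf 70)))) (.node (.node (.node (.leaf 114) (.leaf 22)) (.node (.leaf 134) (.leaf 166))) (.node (.node (.leaf 113) (.leaf 144)) (.leaf 233)))) (.node (.node (.node (.node (.leaf 36) (.leaf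 85)) (.node (.leaf 227) (.leaf 71))) (.node (.node (.leaf 35) (.leaf 40)) (.node (.leaf 202) (.leaf 199)))) (.node (.node (.node (.leaf 28) (.leaf 117)) (.node (.leaf 145) (.leaf 90))) (.node (.node (.leaf 142) (.leaf 163)) (.leaf 155))))) (.node (.node (.node (.node (.node (.leaf 127) (.leaf 55)) (.node (.leaf 236) (.leaf 151))) (.node (.node (.leaf 3) (.leaf 13)) (.node (.leaf 160) (.leaf 150)))) (.node (.node (.node (.leaf 45) (.leaf 143)) (.node (.leaf 138) (.leaf 207))) (.node (.node (.leaf 234) (.leaf 4)) (.leaf 190)))) (.node (.node (.node (.node (.leaf 38) (.leaf 132)) (.node (.leaf 240) (.leaf 225))) (.node (.node (.leaf 25) (.leaf 2)) (.node (.leaf 137) (.leaf 82)))) (.node (.node (.node (.leaf 27) (.leaf 121)) (.node (.leaf 65) (.leaf 211))) (.node (.node (.leaf 156) (.leaf 140)) (.leaf 205)))))))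

def threeOrd : Janko.Tree (ℕ) := (.node threeOrd0 threeOrd1)

def threeRels : List (List ℕ) := [[0, 0, 0],
  [1, 1, 1],
  [2, 2, 2],
  [0, 0, 1, 0, 1, 1],
  [0, 0, 1, 1, 0, 1],
  [1, 1, 2, 1, 2, 2],
  [1, 1, 2, 2, 1, 2],
  [0, 0, 1, 0, 2, 1, 1, 2, 2],
  [0, 0, 1, 0, 2, 2, 1, 1, 2],
  [0, 0, 2, 1, 1, 2, 2, 0, 1],
  [0, 0, 2, 2, 1, 1, 2, 0, 1],
  [0, 0, 2, 0, 0, 2, 2, 0, 2, 0, 2, 2],
  [0, 0, 2, 0, 2, 2, 0, 2, 0, 0, 2, 2],
  [0, 0, 2, 1, 1, 2, 2, 0, 2, 1, 2, 2],
  [0, 0, 2, 1, 1, 2, 2, 0, 2, 2, 1, 2],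
  [0, 0, 2, 1, 2, 2, 0, 2, 1, 1, 2, 2],
  [0, 0, 2, 1, 2, 2, 0, 2, 2, 1, 1, 2],
  [0, 0, 2, 2, 1, 1, 2, 0, 2, 1, 2, 2],
  [0, 0, 2, 2, 1, 1, 2, 0, 2, 2, 1, 2],
  [0, 0, 2, 2, 1, 2, 0, 2, 1, 1, 2, 2],
  [0, 0, 2, 2, 1, 2, 0, 2, 2, 1, 1, 2],
  [0, 0, 1, 0, 2, 2, 0, 0, 2, 2, 1, 1, 2, 0, 2],
  [0, 0, 1, 0, 2, 2, 0, 2, 2, 1, 1, 2, 0, 0, 2],
  [0, 0, 1, 1, 2, 0, 0, 2, 2, 0, 2, 0, 2, 2, 1],
  [0, 0, 1, 1, 2, 0, 2, 2, 0, 2, 0, 0, 2, 2, 1],
  [0, 0, 1, 1, 2, 2, 0, 0, 2, 0, 2, 2, 0, 2, 1],
  [0, 0, 1, 1, 2, 2, 0, 2, 0, 2, 2, 0, 0, 2, 1],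
  [0, 0, 1, 2, 0, 0, 2, 2, 0, 2, 0, 2, 2, 1, 1],
  [0, 0, 1, 2, 0, 2, 2, 0, 2, 0, 0, 2, 2, 1, 1],
  [0, 0, 1, 2, 2, 0, 0, 2, 0, 2, 2, 0, 2, 1, 1],
  [0, 0, 1, 2, 2, 0, 2, 0, 2, 2, 0, 0, 2, 1, 1],
  [0, 0, 2, 0, 0, 2, 0, 0, 2, 0, 2, 0, 2, 0, 2],
  [0, 0, 2, 0, 0, 2, 1, 1, 2, 0, 2, 0, 2, 1, 2],
  [0, 0, 2, 0, 0, 2, 1, 1, 2, 0, 2, 0, 2, 2, 1],
  [0, 0, 2, 0, 0, 2, 1, 2, 0, 2, 0, 2, 1, 1, 2],
  [0, 0, 2, 0, 0, 2, 2, 1, 0, 2, 0, 2, 1, 1, 2],
  [0, 0, 2, 0, 1, 0, 0, 2, 2, 0, 2, 2, 1, 1, 2],
  [0, 0, 2, 0, 2, 0, 0, 2, 0, 2, 0, 0, 2, 0, 2],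
  [0, 0, 2, 0, 2, 1, 1, 2, 0, 2, 0, 0, 2, 1, 2]]

/-- the certificate -/
def threeCert : CentralLocal.Cert :=
  { act := actB baseB threeGens, one := oneB, N := 243, k := 3, q := 0, rels := threeRels, P := 6,
    elt := threeElt, next := threeNext, word := threeWord, par := threePar, L := threeL, kind := threeKind, rank := threeRank,
    via := threeVia, pv := [729, 730, 731, 732, 734, 740] }

theorem three_edges0 : ((List.range 243).all fun i => threeCert.edgeCheck (Nat.add 0 i)) = true := by decide +kernel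

theorem three_edges : ∀ i < 243, threeCert.edgeCheck i = true := by
  intro i hi
  have := List.all_eq_true.1 three_edges0 (i - 0) (List.mem_range.2 (by omega)); rwa [show Nat.add 0 (i - 0) = i from Nat.add_sub_cancel' (by omega)] at this


theorem three_tree0 : ((List.range 243).all fun i => threeCert.treeCheck (Nat.add 0 i)) = true := by decide +kernel

theorem three_tree : ∀ i < 243, threeCert.treeCheck i = true := by
  intro i hi
  have := List.all_eq_true.1 three_tree0 (i - 0) (List.mem_range.2 (by omega)); rwa [show Nat.add 0 (i - 0) = i from Nat.add_sub_cancel' (by omega)] at this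


theorem three_vars0 : ((List.range 512).all fun i => threeCert.varCheck (Nat.add 0 i)) = true := by decide +kernel

theorem three_vars1 : ((List.range 256).all fun i => threeCert.varCheck (Nat.add 512 i)) = true := by decide +kernel

theorem three_vars : ∀ i < 768, threeCert.varCheck i = true := by
  intro i hi
  by_cases h0 : i < 512
  · have := List.all_eq_true.1 three_vars0 (i - 0) (List.mem_range.2 (by omega)); rwa [show Nat.add 0 (i - 0) = i from Nat.add_sub_cancel' (by omega)] at this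
  have := List.all_eq_true.1 three_vars1 (i - 512) (List.mem_range.2 (by omega)); rwa [show Nat.add 512 (i - 512) = i from Nat.add_sub_cancel' (by omega)] at this


theorem three_ord0 : ((List.range 243).all fun i => threeCert.ordCheck threeOrd (Nat.add 0 i)) = true := by decide +kernel

theorem three_ord : ∀ i < 243, threeCert.ordCheck threeOrd i = true := by
  intro i hi
  have := List.all_eq_true.1 three_ord0 (i - 0) (List.mem_range.2 (by omega)); rwa [show Nat.add 0 (i - 0) = i from Nat.add_sub_cancel' (by omega)] at this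


theorem three_rels : (threeCert.rels.all fun w => threeCert.relCheck w) = true := by decide +kernel

theorem three_valid : threeCert.Valid where
  npos := Nat.succ_pos _
  kpos := Nat.succ_pos _
  edges := three_edges
  tree := three_tree
  rels := List.all_eq_true.1 three_rels
  vars := three_vars

/-- the lattice -/
def threeLat : CentralBound.Lat :=
  { basis := [[-1, -1, 0, 1, 0, 0],
      [0, -1, -1, 0, 1, 0],
      [-2, 0, -2, 0, 0, 1]],
    compl := [[1, 0, 0, 0, 0, 0], [0, 1, 0, 0, 0, 0], [0, 0, 1, 0, 0, 0]],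
    counts := [[3, 0, 0], [0, 3, 0], [0, 0, 3]],
    piv := [0, 1, 2],
    coord := [([0, 0, 0], [1, 0, 0]),
      ([0, 0, 0], [0, 1, 0]),
      ([0, 0, 0], [0, 0, 1]),
      ([1, 0, 0], [1, 1, 0]),
      ([0, 1, 0], [0, 1, 1]),
      ([0, 0, 1], [2, 0, 2])],
    gens := [],
    ord := [],
    red := [([], ([(62, 0), (-117, 1), (-105, 2)], []), [20379, 15762, -30]),
      ([], ([(-97, 2), (66, 0), (-54, 1)], []), [20964, 16594, -36]),
      ([], ([(2, 1), (-39, 0), (-69, 2)], []), [-11782, -9449, 23])],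
    kill := [] }

/-- conjugate commuting pairs -/
def threeSpecs : List Spec := [(([0, 0, 1, 2, 0, 0, 2, 2], [0], [0, 1, 2, 0, 2, 2], [0, 0]), (0xb81c7a4e0e8b8ee67030387e560f8d8cc6e0b03c7c460f098ec6f2791cae3c1789c6e1c0c8a8b26a0980ca6430d8c8b67201028844a0d088b4620902ca44b1588c66183598ce6581c9302a052e9b06a251d950080c2f9d0482c1d110280d2f190682d26914aa3836994ea5c389846221289042201301a04028201200008381a46029281242009, 0x38984322a1c9302e07301a036321d9500c0e381a434221d1102c0f1588c661826914aa382e9b03a2e2890426032f9d03e3620120040a2f1903c2628124240b36994ea5c1789c6e1c2c9a862211e9382a052d9c840281f958080c2d18860291f118280d3598ce6582791cae3c3b99c6a252990c2201331b8482c2112800083b1bc682d2912c2009, [1, 2, 3, 2, 1, 0, 1, 0, 1, 0, 3, 0, 1, 2, 3, 0, 1, 2, 3, 2, 1, 0, 1, 0, 1, 0, 0, 1, 2, 2, 3, 2, 1, 1, 2, 1, 0, 0, 1, 0, 0, 1, 1, 2, 2, 3, 0, 0, 3, 0, 1, 2, 3, 2, 3, 2, 3, 3, 2, 1])),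
  (([0], [0, 0, 2, 2, 0, 0, 2], [0, 0], [0, 2, 2, 0, 0, 2]), (0xb81c7a4e0e8b8ee67030387e560f8d8cc6e0b03c7c460f098ec6f2791cae3c1789c6e1c0c8a8b26a0980ca6430d8c8b67201028844a0d088b4620902ca44b1588c66183598ce6581c9302a052e9b06a251d950080c2f9d0482c1d110280d2f190682d26914aa3836994ea5c389846221289042201301a04028201200008381a46029281242009, 0x38984322a1c9302e07301a036321d9500c0e381a434221d1102c0f1588c661826914aa382e9b03a2e2890426032f9d03e3620120040a2f1903c2628124240b36994ea5c1789c6e1c2c9a862211e9382a052d9c840281f958080c2d18860291f118280d3598ce6582791cae3c3b99c6a252990c2201331b8482c2112800083b1bc682d2912c2009, [1, 2, 3, 2, 1, 0, 1, 0, 1, 0, 3, 0, 1, 2, 3, 0, 1, 2, 3, 2, 1, 0, 1, 0, 1, 0, 0, 1, 2, 2, 3, 2, 1, 1, 2, 1, 0, 0, 1, 0, 0, 1, 1, 2, 2, 3, 0, 0, 3, 0, 1, 2, 3, 2, 3, 2, 3, 3, 2, 1])),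
  (([0, 0, 1, 1, 2, 2, 0], [0, 1, 2, 0, 0, 2], [1, 2, 2], [0, 1, 1, 2, 0, 2, 0]), (0x5848bc640f09892500980cba6c0e8b8a24105008be740f8d89040329d4da5c138dc5e1c0d088744407858d2700c8a8724c0b81ce2610d8c8765407018d060118cc5618229549a382d1881a141f11852302c9a82a051e93862212d9c818041f9585020319ccd6582395c9e3c259485a34379d812102990c6a253b99c2201251085824371981000, 0x5848bc640f09892500980cba6c0e8b8a24105008be740f8d89040329d4da5c138dc5e1c0d088744407858d2700c8a8724c0b81ce2610d8c8765407018d060118cc5618229549a382d1881a141f11852302c9a82a051e93862212d9c818041f9585020319ccd6582395c9e3c259485a34379d812102990c6a253b99c2201251085824371981000, [0, 3, 0, 0, 0, 1, 2, 3, 2, 2, 3, 2, 2, 1, 0, 1, 2, 2, 2, 3, 0, 0, 1, 0, 0, 3, 2, 2, 2, 3, 2, 3, 0, 1, 0, 1, 0, 1, 1, 2, 1, 0, 3, 0, 1, 2, 1, 0, 3, 3, 2, 1, 1, 0, 0, 0, 3, 2, 2, 3, 3, 2, 3, 2, 1, 2, 3, 3, 2, 3, 3, 2, 1, 0, 1, 1, 2]))]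

theorem three_gens : threeGens.all (elemOK 120 baseP) = true ∧ threeSpecs.all (specOK 120 baseP baseB threeCert threeGens) = true := by decide +kernel

theorem three_lat : CentralBound.latOK threeCert (threeSpecs.map extOf) (3 ^ 5) threeLat = true := by decide +kernel

end Cfsg.Agent.Lie.OEightTwoMult
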