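import Cfsg.Agent.Lib.Lie.CoverAssemble
import Cfsg.Agent.Lib.Lie.InducedAction
import Cfsg.Agent.Lib.Lie.OEightTwoMult.Roots
import Cfsg.Agent.Lib.Lie.OEightTwoMult.Two
import Cfsg.Agent.Lib.Lie.OEightTwoMult.Three
import Cfsg.Agent.Lib.Lie.OEightTwoMult.Five

/-!
The Schur multiplier of the orthogonal group of plus type in dimension eight over two elements.
-/

set_option autoImplicit false
set_option maxRecDepth 100000
set_option Elab.async false

noncomputable section

namespace Cfsg.Agent.Lie.OEightTwoMult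

open Cfsg Cfsg.Agent.Lie PermCover
open Cfsg.Agent.Lie.PermNine (Rep pg)

universe u

/-- The base points. -/
def baseF : List (Fin 120) := [0, 1, 2, 4, 8, 9, 24]

theorem baseF_val : baseF.map Fin.val = baseB := by decide +kernel

theorem stage_one : InducedAction.distinctOK 120 135 (fun i => singM.getD i 0) = true ∧
    ∀ s : Fin 4, ∀ i : Fin 135, InducedAction.carryOK 120 135 (fun i => singM.getD i 0) (baseP.getD s 0) (singP.getD s 0) i = true := by
  decide +kernel

theorem stage_two : InducedAction.distinctOK 135 135 (fun i => famM.getD i 0) = true ∧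
    ∀ s : Fin 4, ∀ i : Fin 135, InducedAction.carryOK 135 135 (fun i => famM.getD i 0) (singP.getD s 0) (famP.getD s 0) i = true := by
  decide +kernel

theorem stage_three : InducedAction.distinctOK 135 120 (fun i => objM.getD i 0) = true ∧
    ∀ s : Fin 4, ∀ i : Fin 120, InducedAction.carryOK 135 120 (fun i => objM.getD i 0) (famP.getD s 0) (twinP.getD s 0) i = true := by
  decide +kernel

section

variable {G : Type u} [Group G] [Finite G]

/-- A word. -/
theorem exists_word {φ : G →* Equiv.Perm (Fin 120)} (hb : ∀ p ∈ baseP, ∃ g, Rep φ g p) :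
    ∀ w : List ℕ, (∀ s ∈ w, s < baseP.length) → ∃ g, ∀ k : Fin 120, (φ g k : ℕ) = imgP baseP w k
  | [], _ => ⟨1, fun k => by rw [map_one]; rfl⟩
  | s :: w, h => by
    simp only [List.mem_cons, forall_eq_or_imp] at h
    obtain ⟨g, hg⟩ := exists_word hb w h.2
    obtain ⟨u, hu⟩ := hb (baseP.getD s 0) (by rw [List.getD_eq_getElem _ _ h.1]; exact List.getElem_mem _)
    exact ⟨u * g, fun k => by rw [map_mul, Equiv.Perm.mul_apply, hu, hg]; rfl⟩

theorem chain_reps {φ : G →* Equiv.Perm (Fin 120)} (hb : ∀ p ∈ baseP, ∃ g, Rep φ g p) :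
    PermNine.Reps (φ := φ) (Set.univ : Set G) chainX := by
  intro l hl
  obtain ⟨l, hl', rfl⟩ := List.mem_map.1 hl
  refine ⟨?_, fun p hp => ?_⟩
  · have : l.1 ∈ baseB := chainX_base ▸ List.mem_map.2 ⟨_, List.mem_map.2 ⟨l, hl', rfl⟩, rfl⟩
    revert this
    generalize l.1 = b
    decide +revert +kernel
  obtain ⟨e, he, rfl⟩ := List.mem_map.1 hp
  have h := List.all_eq_true.1 (List.all_eq_true.1 chainE_ok l hl') e he
  simp only [elemOK, Bool.and_eq_true, List.all_eq_true, Nat.blt_eq, List.mem_range, Nat.beq_eq] at h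
  obtain ⟨g, hg⟩ := exists_word hb e.2.2 h.1
  exact ⟨g, Set.mem_univ _, fun k => (hg k).trans (h.2 k k.2).1.symm⟩

theorem fix_base {φ : G →* Equiv.Perm (Fin 120)} (hb : ∀ p ∈ baseP, ∃ g, Rep φ g p)
    (hcard : Nat.card G = 174182400) (g : G) (hg : ∀ b ∈ baseF, φ g b = b) : g = 1 := by
  refine fix_one_of_chain chainX_ok (chain_reps hb) (by rw [chainX_size, hcard]) (by rw [chainX_size]; norm_num)
    fun k hk => hg k ?_
  rw [chainX_base, ← baseF_val, List.mem_map] at hk
  obtain ⟨b, hb', e⟩ := hk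
  exact Fin.ext e ▸ hb'

/-- The group read on the nonsingular points. -/
def model (φ : G →* Equiv.Perm (Fin 120)) (hb : ∀ p ∈ baseP, ∃ g, Rep φ g p) (hcard : Nat.card G = 174182400) :
    Model G 120 where
  n_le := by norm_num
  φ := φ
  inj := (injective_iff_map_eq_one φ).2 fun g hg => fix_base hb hcard g fun b _ => by rw [hg]; rfl
  base := baseP
  base_rep := hb
  B := baseF
  B_fix := fix_base hb hcard

variable (φ : G →* Equiv.Perm (Fin 120)) (hb : ∀ p ∈ baseP, ∃ g, Rep φ g p) (hcard : Nat.card G = 174182400)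

include hb hcard

theorem gens_exist : ∃ xs : Fin 4 → G, Subgroup.closure (Set.range xs) = ⊤ ∧
    ∀ s : Fin 4, Rep φ (xs s) (baseP.getD s 0) := by
  have hm : ∀ s : Fin 4, baseP.getD s 0 ∈ baseP := by decide +kernel
  choose xs hxs using fun s : Fin 4 => hb _ (hm s)
  refine ⟨xs, ?_, hxs⟩
  obtain ⟨K, hK⟩ : ∃ K, K = Subgroup.closure (Set.range xs) := ⟨_, rfl⟩
  rw [← hK]
  have hw : ∀ w : List ℕ, (∀ s ∈ w, s < baseP.length) → ∃ g ∈ K, ∀ k : Fin 120, (φ g k : ℕ) = imgP baseP w k := by
    intro w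
    induction w with
    | nil => exact fun _ => ⟨1, one_mem _, fun k => by rw [map_one]; rfl⟩
    | cons s w ih =>
      intro h
      simp only [List.mem_cons, forall_eq_or_imp] at h
      obtain ⟨g, hgK, hg⟩ := ih h.2
      refine ⟨xs ⟨s, h.1⟩ * g, mul_mem (hK ▸ Subgroup.subset_closure ⟨_, rfl⟩) hgK, fun k => ?_⟩
      rw [map_mul, Equiv.Perm.mul_apply, hxs ⟨s, h.1⟩, hg]
      rfl
  refine (Subgroup.eq_top_iff' K).2 (PermNine.chain_mem (model φ hb hcard).inj chainX_ok
    (fun l hl => ⟨(chain_reps hb l hl).1, ?_⟩) (by rw [chainX_size, hcard]))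
  obtain ⟨l, hl', rfl⟩ := List.mem_map.1 hl
  intro p hp
  obtain ⟨e, he, rfl⟩ := List.mem_map.1 hp
  have h := List.all_eq_true.1 (List.all_eq_true.1 chainE_ok l hl') e he
  simp only [elemOK, Bool.and_eq_true, List.all_eq_true, Nat.blt_eq, List.mem_range, Nat.beq_eq] at h
  obtain ⟨g, hgK, hg⟩ := hw e.2.2 h.1
  exact ⟨g, hgK, fun k => (hg k).trans (h.2 k k.2).1.symm⟩

theorem exists_twin : ∃ (xs : Fin 4 → G) (ψ : G →* Equiv.Perm (Fin 120)), Subgroup.closure (Set.range xs) = ⊤ ∧
    (∀ s : Fin 4, Rep φ (xs s) (baseP.getD s 0)) ∧ ∀ s : Fin 4, Rep ψ (xs s) (twinP.getD s 0) := by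
  obtain ⟨xs, htop, h0⟩ := gens_exist φ hb hcard
  obtain ⟨ψ1, h1⟩ := InducedAction.exists_stage φ xs htop baseP singP _ h0 stage_one.1
    fun s hs i hi => stage_one.2 ⟨s, hs⟩ ⟨i, hi⟩
  obtain ⟨ψ2, h2⟩ := InducedAction.exists_stage ψ1 xs htop singP famP _ h1 stage_two.1
    fun s hs i hi => stage_two.2 ⟨s, hs⟩ ⟨i, hi⟩
  obtain ⟨ψ3, h3⟩ := InducedAction.exists_stage ψ2 xs htop famP twinP _ h2 stage_three.1
    fun s hs i hi => stage_three.2 ⟨s, hs⟩ ⟨i, hi⟩
  exact ⟨xs, ψ3, htop, h0, h3⟩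

omit hb hcard

/-- The fibre product of the covers. -/
def fibre (ψ : G →* Equiv.Perm (Fin 120)) : Subgroup (Equiv.Perm (Fin 240) × Equiv.Perm (Fin 240) × G) where
  carrier := {x | Over x.1 (φ x.2.2) ∧ Over x.2.1 (ψ x.2.2)}
  one_mem' := ⟨by simp only [Prod.fst_one, Prod.snd_one, map_one]; exact over_one,
    by simp only [Prod.fst_one, Prod.snd_one, map_one]; exact over_one⟩
  mul_mem' := fun {x y} hx hy => ⟨by
      simp only [Prod.fst_mul, Prod.snd_mul, map_mul]; exact over_mul hx.1 hy.1, by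
      simp only [Prod.fst_mul, Prod.snd_mul, map_mul]; exact over_mul hx.2 hy.2⟩
  inv_mem' := fun {x} hx => by
    let S : Submonoid (Equiv.Perm (Fin 240) × Equiv.Perm (Fin 240) × G) :=
      { carrier := {x | Over x.1 (φ x.2.2) ∧ Over x.2.1 (ψ x.2.2)}
        one_mem' := ⟨by simp only [Prod.fst_one, Prod.snd_one, map_one]; exact over_one,
          by simp only [Prod.fst_one, Prod.snd_one, map_one]; exact over_one⟩
        mul_mem' := fun {x y} hx hy => ⟨by
            simp only [Prod.fst_mul, Prod.snd_mul, map_mul]; exact over_mul hx.1 hy.1, by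
            simp only [Prod.fst_mul, Prod.snd_mul, map_mul]; exact over_mul hx.2 hy.2⟩ }
    show x⁻¹ ∈ S
    rw [inv_eq_of_mul_eq_one_right (show x * x ^ (orderOf x - 1) = 1 by
      rw [← pow_succ', Nat.sub_add_cancel (orderOf_pos x), pow_orderOf_eq_one])]
    exact pow_mem (show x ∈ S from hx) _

include hb hcard

theorem cover_exists : ∃ (E : Type u) (_ : Group E) (_ : Finite E) (π : E →* G),
    Cfsg.IsStemExtension π ∧ Nonempty (π.ker ≃* Multiplicative (ZMod 2 × ZMod 2)) := by
  obtain ⟨xs, ψ, htop, hA, hB⟩ := exists_twin φ hb hcard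
  obtain ⟨π, hπ⟩ : ∃ π : fibre φ ψ →* G, ∀ x : fibre φ ψ, π x = x.1.2.2 :=
    ⟨((MonoidHom.snd (Equiv.Perm (Fin 240)) G).comp
      (MonoidHom.snd (Equiv.Perm (Fin 240)) (Equiv.Perm (Fin 240) × G))).comp (fibre φ ψ).subtype, fun _ => rfl⟩
  have hgenmem : ∀ s : Fin 4, (liftA s, liftB s, xs s) ∈ fibre φ ψ := fun s => by
    have ha : ∀ s, ∀ i j, Adj i j = true → Adj (liftA s i) (liftA s j) = true := fun s => by
      fin_cases s
      exacts [liftA_adj0, liftA_adj1, liftA_adj2, liftA_adj3]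
    have hb' : ∀ s, ∀ i j, Adj i j = true → Adj (liftB s i) (liftB s j) = true := fun s => by
      fin_cases s
      exacts [liftB_adj0, liftB_adj1, liftB_adj2, liftB_adj3]
    exact ⟨⟨fun i => Fin.ext ((liftA_ok s i).2.trans (hA s (pairF i)).symm), fun i => (liftA_ok s i).1, ha s⟩,
      ⟨fun i => Fin.ext ((liftB_ok s i).2.trans (hB s (pairF i)).symm), fun i => (liftB_ok s i).1, hb' s⟩⟩
  have hsurj : Function.Surjective π := by
    rw [← MonoidHom.range_eq_top, eq_top_iff, ← htop, Subgroup.closure_le]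
    rintro _ ⟨s, rfl⟩
    exact ⟨⟨_, hgenmem s⟩, hπ _⟩
  have hext : ∀ x y : fibre φ ψ, x.1.1 = y.1.1 → x.1.2.1 = y.1.2.1 → x = y := by
    intro x y h1 h2
    refine Subtype.ext (Prod.ext h1 (Prod.ext h2 ((model φ hb hcard).inj (Equiv.ext fun p => ?_))))
    have hx := x.2.1.1 (firstR p)
    have hy := y.2.1.1 (firstR p)
    rw [pairF_first] at hx hy
    show φ x.1.2.2 p = φ y.1.2.2 p
    rw [← hx, ← hy, h1]
  have hmemA : ((negP, 1, 1) : Equiv.Perm (Fin 240) × Equiv.Perm (Fin 240) × G) ∈ fibre φ ψ :=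
    ⟨by show Over negP (φ 1); rw [map_one]; exact over_neg, by show Over 1 (ψ 1); rw [map_one]; exact over_one⟩
  have hmemB : ((1, negP, 1) : Equiv.Perm (Fin 240) × Equiv.Perm (Fin 240) × G) ∈ fibre φ ψ :=
    ⟨by show Over 1 (φ 1); rw [map_one]; exact over_one, by show Over negP (ψ 1); rw [map_one]; exact over_neg⟩
  let za : fibre φ ψ := ⟨_, hmemA⟩
  let zb : fibre φ ψ := ⟨_, hmemB⟩
  have hker : ∀ x : fibre φ ψ, π x = 1 → (x.1.1 = 1 ∨ x.1.1 = negP) ∧ (x.1.2.1 = 1 ∨ x.1.2.1 = negP) := by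
    intro x hx
    rw [hπ] at hx
    have h1 := x.2.1
    have h2 := x.2.2
    rw [hx, map_one] at h1
    rw [hx, map_one] at h2
    exact ⟨over_one_cases h1, over_one_cases h2⟩
  have hab : ∀ x : fibre φ ψ, π x = 1 → x = 1 ∨ x = za ∨ x = zb ∨ x = za * zb := by
    intro x hx
    obtain ⟨h1 | h1, h2 | h2⟩ := hker x hx
    · exact Or.inl (hext _ _ h1 h2)
    · exact Or.inr (Or.inr (Or.inl (hext _ _ h1 h2)))
    · exact Or.inr (Or.inl (hext _ _ h1 h2))
    · exact Or.inr (Or.inr (Or.inr (hext _ _ (h1.trans (mul_one _).symm) (h2.trans (one_mul _).symm))))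
  have hcomma : ∀ y : fibre φ ψ, y * za = za * y := fun y =>
    hext _ _ (Equiv.ext fun i => y.2.1.2.1 i) ((mul_one _).trans (one_mul _).symm)
  have hcommb : ∀ y : fibre φ ψ, y * zb = zb * y := fun y =>
    hext _ _ ((mul_one _).trans (one_mul _).symm) (Equiv.ext fun i => y.2.2.2.1 i)
  have hcentral : π.ker ≤ Subgroup.center (fibre φ ψ) := fun x hx => by
    have ha : za ∈ Subgroup.center (fibre φ ψ) := Subgroup.mem_center_iff.2 hcomma
    have hb : zb ∈ Subgroup.center (fibre φ ψ) := Subgroup.mem_center_iff.2 hcommb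
    rcases hab x hx with rfl | rfl | rfl | rfl
    exacts [one_mem _, ha, hb, mul_mem ha hb]
  let lift : List (Fin 4) → fibre φ ψ := fun w => (w.map fun s => (⟨_, hgenmem s⟩ : fibre φ ψ)).prod
  have hlift1 : ∀ w, (lift w).1.1 = (w.map liftA).prod := fun w => by
    induction w with
    | nil => rfl
    | cons s w ih => exact congrArg (liftA s * ·) ih
  have hlift2 : ∀ w, (lift w).1.2.1 = (w.map liftB).prod := fun w => by
    induction w with
    | nil => rfl
    | cons s w ih => exact congrArg (liftB s * ·) ih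
  have hcm : ∀ z x y : fibre φ ψ, x * y = z * (y * x) → z ∈ commutator (fibre φ ψ) := by
    intro z x y h
    rw [commutator_def, show z = x * y * x⁻¹ * y⁻¹ by rw [h]; group]
    exact Subgroup.commutator_mem_commutator (Subgroup.mem_top x) (Subgroup.mem_top y)
  have h11 : za * zb ∈ commutator (fibre φ ψ) := hcm _ (lift pairX11) (lift pairY11) (hext _ _
    (by
      show (lift pairX11).1.1 * (lift pairY11).1.1 = (negP * 1) * ((lift pairY11).1.1 * (lift pairX11).1.1)
      rw [hlift1, hlift1, mul_one]; exact Equiv.ext xy_one.1)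
    (by
      show (lift pairX11).1.2.1 * (lift pairY11).1.2.1 = (1 * negP) * ((lift pairY11).1.2.1 * (lift pairX11).1.2.1)
      rw [hlift2, hlift2, one_mul]; exact Equiv.ext xy_one.2))
  have h01 : zb ∈ commutator (fibre φ ψ) := hcm _ (lift pairX01) (lift pairY01) (hext _ _
    (by
      show (lift pairX01).1.1 * (lift pairY01).1.1 = 1 * ((lift pairY01).1.1 * (lift pairX01).1.1)
      rw [hlift1, hlift1, one_mul]; exact Equiv.ext xy_two.1)
    (by
      show (lift pairX01).1.2.1 * (lift pairY01).1.2.1 = negP * ((lift pairY01).1.2.1 * (lift pairX01).1.2.1)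
      rw [hlift2, hlift2]; exact Equiv.ext xy_two.2))
  have h10 : za ∈ commutator (fibre φ ψ) := by
    have := mul_mem h11 (inv_mem h01)
    rwa [mul_inv_cancel_right] at this
  have hst : Cfsg.IsStemExtension π := by
    refine ⟨hsurj, hcentral, fun x hx => ?_⟩
    rcases hab x hx with rfl | rfl | rfl | rfl
    exacts [one_mem _, h10, h01, h11]
  have hpow : ∀ a b : ZMod 2, negP ^ (a + b).val = negP ^ a.val * negP ^ b.val := by
    intro a b
    rw [← pow_add, ZMod.val_add]
    exact (pow_eq_pow_mod _ (by rw [pow_two]; exact negP_sq)).symm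
  have hin : ∀ a : ZMod 2, ∀ g : G, g = 1 → Over (negP ^ a.val) (φ g) ∧ Over (negP ^ a.val) (ψ g) := by
    intro a g hg
    have h : Over (negP ^ a.val) 1 := by
      fin_cases a
      · exact over_one
      · exact over_neg
    subst hg
    rw [map_one, map_one]
    exact ⟨h, h⟩
  let f : Multiplicative (ZMod 2 × ZMod 2) →* π.ker := MonoidHom.mk'
    (fun v => ⟨⟨(negP ^ (Multiplicative.toAdd v).1.val, negP ^ (Multiplicative.toAdd v).2.val, 1),
      (hin _ 1 rfl).1, (hin _ 1 rfl).2⟩, hπ _⟩)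
    fun v w => Subtype.ext (Subtype.ext (Prod.ext (hpow _ _) (Prod.ext (hpow _ _) (one_mul 1).symm)))
  have hn : negP ≠ 1 := fun h => (neg_pair 0).2 (Equiv.ext_iff.1 h 0)
  have hfb : Function.Bijective f := by
    constructor
    · intro v w h
      have h1 := congrArg (fun x : π.ker => x.1.1.1) h
      have h2 := congrArg (fun x : π.ker => x.1.1.2.1) h
      have key : ∀ a b : ZMod 2, negP ^ a.val = negP ^ b.val → a = b := by
        intro a b hab
        fin_cases a <;> fin_cases b
        · rfl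
        · exact absurd hab.symm hn
        · exact absurd hab hn
        · rfl
      exact Multiplicative.toAdd.injective (Prod.ext (key _ _ h1) (key _ _ h2))
    · intro x
      rcases hab x.1 x.2 with h | h | h | h
      · exact ⟨Multiplicative.ofAdd (0, 0), Subtype.ext (hext _ _ (congrArg (fun y : fibre φ ψ => y.1.1) h).symm
          (congrArg (fun y : fibre φ ψ => y.1.2.1) h).symm)⟩
      · exact ⟨Multiplicative.ofAdd (1, 0), Subtype.ext (hext _ _ (congrArg (fun y : fibre φ ψ => y.1.1) h).symm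
          (congrArg (fun y : fibre φ ψ => y.1.2.1) h).symm)⟩
      · exact ⟨Multiplicative.ofAdd (0, 1), Subtype.ext (hext _ _ (congrArg (fun y : fibre φ ψ => y.1.1) h).symm
          (congrArg (fun y : fibre φ ψ => y.1.2.1) h).symm)⟩
      · exact ⟨Multiplicative.ofAdd (1, 1), Subtype.ext (hext _ _
          ((congrArg (fun y : fibre φ ψ => y.1.1) h).trans (mul_one _)).symm
          ((congrArg (fun y : fibre φ ψ => y.1.2.1) h).trans (one_mul _)).symm)⟩
  exact ⟨fibre φ ψ, inferInstance, inferInstance, π, hst, ⟨(MulEquiv.ofBijective f hfb).symm⟩⟩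

/-- The multiplier. -/
theorem multiplier (hperf : commutator G = ⊤) :
    Cfsg.HasSchurMultiplier G (Multiplicative (ZMod 2 × ZMod 2)) := by
  have hB : (model φ hb hcard).B.map Fin.val = baseB := baseF_val
  refine CoverUniversal.hasSchur_of hperf (cover_exists φ hb hcard) fun Γ _ _ σ hσ => ?_
  have h2 : 2 ^ (Nat.card σ.ker).factorization 2 ≤ 4 :=
    ((model φ hb hcard).part_le twoCert twoGens two_gens.1 rfl (by rw [hB]; rfl)
      (by rw [hB]; decide +kernel) two_valid twoOrd two_ord twoSpecs (by rw [hB]; exact two_gens.2)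
      (e := 12) twoLat two_lat Nat.prime_two (m := 42525) (by rw [hcard]; norm_num) (by decide)
      (by rw [hcard]; decide +kernel) hσ).trans (by decide +kernel)
  have h3 : 3 ^ (Nat.card σ.ker).factorization 3 ≤ 1 :=
    ((model φ hb hcard).part_le threeCert threeGens three_gens.1 rfl (by rw [hB]; rfl)
      (by rw [hB]; decide +kernel) three_valid threeOrd three_ord threeSpecs (by rw [hB]; exact three_gens.2)
      (e := 5) threeLat three_lat Nat.prime_three (m := 716800) (by rw [hcard]; norm_num) (by decide)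
      (by rw [hcard]; decide +kernel) hσ).trans (by decide +kernel)
  have h5 : 5 ^ (Nat.card σ.ker).factorization 5 ≤ 1 :=
    ((model φ hb hcard).part_le fiveCert fiveGens five_gens.1 rfl (by rw [hB]; rfl)
      (by rw [hB]; decide +kernel) five_valid fiveOrd five_ord fiveSpecs (by rw [hB]; exact five_gens.2)
      (e := 2) fiveLat five_lat (by norm_num : Nat.Prime 5) (m := 6967296) (by rw [hcard]; norm_num) (by decide)
      (by rw [hcard]; decide +kernel) hσ).trans (by decide +kernel)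
  have hprimes : ∀ r : ℕ, r.Prime → r ∣ Nat.card σ.ker → r = 2 ∨ r = 3 := by
    intro r hr hd
    by_contra hne
    haveI : Fact r.Prime := ⟨hr⟩
    by_cases hr5 : r = 5
    · subst hr5
      have h1 : 1 ≤ (Nat.card σ.ker).factorization 5 := hr.factorization_pos_of_dvd Nat.card_pos.ne' hd
      have := Nat.pow_le_pow_right (by norm_num : 0 < 5) h1
      omega
    obtain ⟨z, hz⟩ := exists_prime_orderOf_dvd_card' r hd
    have hno : ¬ r ^ 2 ∣ Nat.card G := fun h => by
      rw [hcard, show (174182400 : ℕ) = 2 ^ 12 * 3 ^ 5 * 5 ^ 2 * 7 by norm_num] at h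
      have hdvd : r ∣ 2 ^ 12 * 3 ^ 5 * 5 ^ 2 * 7 := (dvd_pow_self r two_ne_zero).trans h
      simp only [hr.dvd_mul] at hdvd
      have key : ∀ p : ℕ, p.Prime → r ∣ p → r = p := fun p hp e => (Nat.prime_dvd_prime_iff_eq hr hp).1 e
      rcases hdvd with ((e | e) | e) | e
      · exact hne (Or.inl (key 2 Nat.prime_two (hr.dvd_of_dvd_pow e)))
      · exact hne (Or.inr (key 3 Nat.prime_three (hr.dvd_of_dvd_pow e)))
      · exact hr5 (key 5 (by norm_num) (hr.dvd_of_dvd_pow e))
      · obtain rfl := key 7 (by norm_num) e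
        norm_num at h
    have h1 : z = 1 := CentralTable.ker_no_torsion hσ hr hno z (hz ▸ pow_orderOf_eq_one z)
    rw [h1, orderOf_one] at hz
    exact hr.one_lt.ne hz
  rw [CoverUniversal.eq_two_parts Nat.card_pos.ne' Nat.prime_two Nat.prime_three (by norm_num) hprimes]
  calc 2 ^ (Nat.card σ.ker).factorization 2 * 3 ^ (Nat.card σ.ker).factorization 3 ≤ 4 * 1 := Nat.mul_le_mul h2 h3
    _ = _ := by simp [Nat.card_prod]

end

end Cfsg.Agent.Lie.OEightTwoMult
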