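import Cfsg.Agent.Lib.Lie.OEightTwoMult.Gens
import Cfsg.Agent.Lib.Local.FS.McLUnitaryField
import Cfsg.Prelude.Def_Classical

/-!
The orthogonal group of plus type in dimension eight over two elements permutes the 120 nonsingular points.
-/

set_option autoImplicit false
set_option maxRecDepth 100000
set_option maxHeartbeats 2000000
set_option Elab.async false

noncomputable section

namespace Cfsg.Agent.Lie.OEightTwoMult

open Cfsg Cfsg.Agent.Lie PermCover Matrix
open Cfsg.Agent.Lie.PermNine (Rep pg)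
open scoped commutatorElement

/-- The coordinates. -/
abbrev IxE : Type := Fin 4 ⊕ Fin 4

/-- The bit of a coordinate. -/
def bitE : IxE → ℕ := Sum.elim (fun i => (i : ℕ)) fun i => 4 + (i : ℕ)

/-- A vector from its bits. -/
def vecZ (m : ℕ) : IxE → ZMod 2 := fun i => if Nat.testBit m (bitE i) then 1 else 0

/-- The form. -/
def formZ (w : IxE → ZMod 2) : ZMod 2 := ∑ i : Fin 4, w (.inl i) * w (.inr i)

/-- The transvection of a point. -/
def tZ (a : ℕ) : Matrix IxE IxE (ZMod 2) :=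
  fun i j => (if i = j then 1 else 0) + vecZ (ptsN.getD a 0) i * vecZ (ptsN.getD a 0) j.swap

/-- The points used. -/
def usedN : List ℕ := (pairsN.flatMap fun e => e.1 ++ e.2).dedup

theorem tZ_sq : ∀ a ∈ usedN, tZ a * tZ a = 1 := by decide +kernel

theorem tZ_form : ∀ a ∈ usedN, ∀ w : IxE → ZMod 2, formZ (tZ a *ᵥ w) = formZ w := by decide +kernel

theorem used_cover : ∀ s : Fin 4, (∀ a ∈ (pairsN.getD s ([], [])).1, a ∈ usedN) ∧
    ∀ a ∈ (pairsN.getD s ([], [])).2, a ∈ usedN := by decide +kernel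

/-- The point. -/
def ptE (a : Fin 120) : IxE → ZMod 2 := vecZ (ptsN.getD (a : ℕ) 0)

theorem ptE_facts : ∀ a : Fin 120, formZ (ptE a) = 1 := by decide +kernel

theorem ptE_inj : ∀ a b : Fin 120, ptE a = ptE b → a = b := by decide +kernel

theorem ptE_cover : ∀ w : IxE → ZMod 2, formZ w = 1 → ∃ b : Fin 120, w = ptE b := by decide +kernel

/-- The product of transvections. -/
def prodZ (l : List ℕ) : Matrix IxE IxE (ZMod 2) := (l.map tZ).prod

/-- The matrix of a generator. -/
def genZ (s : Fin 4) : Matrix IxE IxE (ZMod 2) :=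
  prodZ (pairsN.getD s ([], [])).1 * prodZ (pairsN.getD s ([], [])).2 *
    prodZ (pairsN.getD s ([], [])).1.reverse * prodZ (pairsN.getD s ([], [])).2.reverse

theorem gen_moves : ∀ s : Fin 4, ∀ j : Fin 120, pg (baseP.getD s 0) j < 120 ∧
    genZ s *ᵥ ptE j = vecZ (ptsN.getD (pg (baseP.getD s 0) j) 0) := by decide +kernel

theorem chain_zero : ∀ a : Fin 120, ∃ p ∈ chainE0, pg p.1 0 = (a : ℕ) := by decide +kernel

theorem chain_moves : ∀ a : Fin 120, a ≠ 0 → ∃ p ∈ chainE1, pg p.1 0 = 0 ∧ pg p.1 a ≠ (a : ℕ) := by decide +kernel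

theorem word_rep {Γ : Type*} [Group Γ] (ρ : Γ →* Equiv.Perm (Fin 120)) (hb : ∀ p ∈ baseP, ∃ g, Rep ρ g p)
    {e : Elem} (he : elemOK 120 baseP e = true) : ∃ g, Rep ρ g e.1 := by
  simp only [elemOK, Bool.and_eq_true, List.all_eq_true, Nat.blt_eq, List.mem_range, Nat.beq_eq] at he
  have key : ∀ w : List ℕ, (∀ s ∈ w, s < baseP.length) → ∃ g, ∀ k : Fin 120, (ρ g k : ℕ) = imgP baseP w k := by
    intro w
    induction w with
    | nil => exact fun _ => ⟨1, fun k => by rw [map_one]; rfl⟩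
    | cons s w ih =>
      intro h
      simp only [List.mem_cons, forall_eq_or_imp] at h
      obtain ⟨g, hg⟩ := ih h.2
      obtain ⟨u, hu⟩ := hb (baseP.getD s 0) (by rw [List.getD_eq_getElem _ _ h.1]; exact List.getElem_mem _)
      exact ⟨u * g, fun k => by rw [map_mul, Equiv.Perm.mul_apply, hu, hg]; rfl⟩
  obtain ⟨g, hg⟩ := key e.2.2 he.1
  exact ⟨g, fun k => (hg k).trans (he.2 k k.2).1.symm⟩

/-- The centre acts trivially. -/
theorem center_trivial {Γ : Type*} [Group Γ] (ρ : Γ →* Equiv.Perm (Fin 120)) (hb : ∀ p ∈ baseP, ∃ g, Rep ρ g p)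
    {z : Γ} (hz : z ∈ Subgroup.center Γ) : ρ z = 1 := by
  have hcom : ∀ g x, ρ g (ρ z x) = ρ z (ρ g x) := fun g x => by
    rw [← Equiv.Perm.mul_apply, ← map_mul, Subgroup.mem_center_iff.1 hz g, map_mul, Equiv.Perm.mul_apply]
  have hE : ∀ l ∈ chainE, ∀ e ∈ l.2, ∃ g, Rep ρ g e.1 := fun l hl e he =>
    word_rep ρ hb (List.all_eq_true.1 (List.all_eq_true.1 chainE_ok l hl) e he)
  have h0 : ρ z 0 = 0 := by
    by_contra hne
    obtain ⟨p, hp, h1, h2⟩ := chain_moves _ hne
    obtain ⟨g, hg⟩ := hE (1, chainE1) (by rw [chainE]; exact List.mem_cons_of_mem _ List.mem_cons_self) p hp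
    refine h2 ((hg (ρ z 0)).symm.trans ?_)
    rw [hcom, show ρ g 0 = 0 from Fin.ext ((hg 0).trans h1)]
  refine Equiv.ext fun x => ?_
  obtain ⟨p, hp, h1⟩ := chain_zero x
  obtain ⟨g, hg⟩ := hE (0, chainE0) (by rw [chainE]; exact List.mem_cons_self) p hp
  rw [← show ρ g 0 = x from Fin.ext ((hg 0).trans h1), ← hcom, h0]
  rfl

variable {F : Type*} [Field F]

/-- The action with the listed generators. -/
theorem exists_action [Fintype F] (hF : Fintype.card F = 2) :
    ∃ φ : POmega F (quadFormPlus 4 F) →* Equiv.Perm (Fin 120), ∀ p ∈ baseP, ∃ g, Rep φ g p := by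
  classical
  let f : F ≃+* ZMod 2 := (ZMod.ringEquivOfPrime F Nat.prime_two hF).symm
  let Φ : Matrix IxE IxE F →+* Matrix IxE IxE (ZMod 2) := (f : F →+* ZMod 2).mapMatrix
  have hvec : ∀ (A : Matrix IxE IxE F) (u : IxE → F), (fun i => f ((A *ᵥ u) i)) = Φ A *ᵥ fun i => f (u i) := by
    intro A u
    funext i
    simp [Φ, Matrix.mulVec, dotProduct, map_sum]
  have hform : ∀ u : IxE → F, f (quadFormPlus 4 F u) = formZ fun i => f (u i) := fun u => by
    simp [quadFormPlus, formZ, map_sum]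
  let Ψ : Matrix IxE IxE (ZMod 2) →+* Matrix IxE IxE F := (f.symm : ZMod 2 →+* F).mapMatrix
  have hΦΨ : ∀ A, Φ (Ψ A) = A := fun A => by
    ext i j; simp [Φ, Ψ]
  have hmem : ∀ a ∈ usedN, ∃ t : isometryGroup F (quadFormPlus 4 F), t * t = 1 ∧
      Φ ((t : GL IxE F) : Matrix IxE IxE F) = tZ a := by
    intro a ha
    have hsq : Ψ (tZ a) * Ψ (tZ a) = 1 := by rw [← map_mul, tZ_sq a ha, map_one]
    refine ⟨⟨⟨Ψ (tZ a), Ψ (tZ a), hsq, hsq⟩, fun u _ => ?_⟩, Subtype.ext (Units.ext hsq), hΦΨ _⟩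
    show quadFormPlus 4 F (Ψ (tZ a) *ᵥ u) = quadFormPlus 4 F u
    apply f.injective
    rw [hform, hform, hvec, hΦΨ, tZ_form a ha]
  choose t ht1 ht2 using hmem
  let tt : ℕ → isometryGroup F (quadFormPlus 4 F) := fun a => if h : a ∈ usedN then t a h else 1
  let P : List ℕ → isometryGroup F (quadFormPlus 4 F) := fun l => (l.map tt).prod
  let Mv : isometryGroup F (quadFormPlus 4 F) →* Matrix IxE IxE (ZMod 2) :=
    (Φ.toMonoidHom.comp (Units.coeHom _)).comp (isometryGroup F (quadFormPlus 4 F)).subtype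
  have hinv : ∀ l : List ℕ, (∀ a ∈ l, a ∈ usedN) → (P l)⁻¹ = P l.reverse := by
    intro l hl
    show (l.map tt).prod⁻¹ = (l.reverse.map tt).prod
    rw [List.prod_inv_reverse, List.map_reverse, List.map_map]
    congr 2
    refine List.map_congr_left fun a ha => ?_
    simp only [Function.comp_apply, tt, dif_pos (hl a ha)]
    exact inv_eq_of_mul_eq_one_right (ht1 a (hl a ha))
  have hP : ∀ l : List ℕ, (∀ a ∈ l, a ∈ usedN) → Mv (P l) = prodZ l := by
    intro l hl
    show Mv (l.map tt).prod = (l.map tZ).prod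
    rw [map_list_prod, List.map_map]
    congr 1
    refine List.map_congr_left fun a ha => ?_
    simp only [Function.comp_apply, tt, dif_pos (hl a ha)]
    exact ht2 a (hl a ha)
  let M : Omega F (quadFormPlus 4 F) →* Matrix IxE IxE (ZMod 2) := Mv.comp (Omega F (quadFormPlus 4 F)).subtype
  have hM : ∀ g u, formZ (M g *ᵥ u) = formZ u := fun g u => by
    have h := congrArg f (((g : isometryGroup F (quadFormPlus 4 F))).2 (fun i => f.symm (u i)) 0)
    have e : (fun i => f (f.symm (u i))) = u := funext fun i => f.apply_symm_apply _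
    rw [hform, hform, hvec, e] at h
    exact h
  obtain ⟨ρ, hρ⟩ := Cfsg.Agent.Local.FS.McLSmall.Unitary.exists_line_perm M ptE
    (fun a h => by
      have := ptE_facts a
      rw [h] at this
      simp [formZ] at this)
    (fun a b c h => by
      have key : ∀ c : ZMod 2, c = 0 ∨ c = 1 := by decide
      rcases key c with rfl | rfl
      · exfalso
        have := ptE_facts a
        rw [h, zero_smul] at this
        simp [formZ] at this
      · exact ptE_inj a b (by rwa [one_smul] at h))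
    (fun g a => by
      obtain ⟨b, hb⟩ := ptE_cover _ ((hM g (ptE a)).trans (ptE_facts a))
      exact ⟨b, 1, by rw [one_smul]; exact hb⟩)
  have hgen : ∀ p ∈ baseP, ∃ g, Rep ρ g p := by
    intro p hp
    obtain ⟨s, hs, rfl⟩ := List.getElem_of_mem hp
    have hs4 : s < 4 := hs
    obtain ⟨hx, hy⟩ := used_cover ⟨s, hs4⟩
    set x := (pairsN.getD s ([], [])).1 with hxdef
    set y := (pairsN.getD s ([], [])).2 with hydef
    refine ⟨⟨⁅P x, P y⁆, by rw [Omega, commutator_def]; exact Subgroup.commutator_mem_commutator (Subgroup.mem_top _) (Subgroup.mem_top _)⟩, fun k => ?_⟩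
    obtain ⟨hlt, hmv⟩ := gen_moves ⟨s, hs4⟩ k
    rw [← List.getD_eq_getElem baseP 0 hs]
    refine congrArg Fin.val ((hρ _ k ⟨_, hlt⟩).1 ⟨1, ?_⟩)
    rw [one_smul]
    refine Eq.trans ?_ hmv
    congr 1
    show Mv (P x * P y * (P x)⁻¹ * (P y)⁻¹) = _
    rw [hinv x hx, hinv y hy, map_mul, map_mul, map_mul, hP x hx, hP y hy,
      hP _ (fun a ha => hx a (List.mem_reverse.1 ha)), hP _ (fun a ha => hy a (List.mem_reverse.1 ha))]
    rfl
  refine ⟨QuotientGroup.lift _ ρ fun z hz => MonoidHom.mem_ker.2 (center_trivial ρ hgen hz), fun p hp => ?_⟩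
  obtain ⟨g, hg⟩ := hgen p hp
  exact ⟨(g : Omega F (quadFormPlus 4 F)), fun k => hg k⟩

end Cfsg.Agent.Lie.OEightTwoMult
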