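import Cfsg.Agent.Lib.Lie.PermCover
import Cfsg.Agent.Lib.Lie.OEightTwoMult.Gens

/-!
The certificate of a central table on a Sylow 2-subgroup (generated).
-/

set_option autoImplicit false
set_option maxRecDepth 100000
set_option maxHeartbeats 0
set_option Elab.async false

namespace Cfsg.Agent.Lie.OEightTwoMult

open Cfsg.Agent.Lie PermCover

/-- generators of the subgroup -/
def twoGens : List Elem := [(0x33998ca6431988c260371bcda6c359a8d0693b9d8ea74399c8e2702f17cba5c2d16cb258239188a44219088240279389a4c2512c90492b958aa5429948a2501f0fc7a3c1d0ec7238138984a24118884220178b8582d158a850291b8d86a34198c862300f07c3a1c0d06c3218038180a040180802000703c180d0502c10090b8582a14098482210, 0x33998ca6431988c260371bcda6c359a8d0693b9d8ea74399c8e2702f17cba5c2d16cb258239188a44219088240279389a4c2512c90492b958aa5429948a2501f0fc7a3c1d0ec7238138984a24118884220178b8582d158a850291b8d86a34198c862300f07c3a1c0d06c3218038180a040180802000703c180d0502c10090b8582a14098482210, [3, 2, 1, 0, 3, 3, 3,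 3, 2, 1, 2, 3, 2, 2, 1, 0, 0, 1, 0, 1, 2, 3, 0, 3, 0, 1, 0, 1, 0, 1, 1, 2, 2, 3, 0, 1, 0, 1, 0, 1, 1, 0, 1, 0, 3, 0, 1, 2, 3, 2, 3, 2, 3, 3, 2, 1, 0, 0, 3, 2, 2, 3, 3, 2, 3, 2, 1, 2, 3, 3, 2, 3, 3, 2, 1, 0, 1, 1, 2]),
  (0x2b15caa542914ca250279389a4c2592892483319cca643118cc2602f978ba5c2c960b65a3b1dcea74391cce270379b8da6c359a8d2682311c8a442110c82401e8f07e3e1d8e872380b05c2a140904c2210078381a0c0582812081309c4a241108c42200e8703e1e0c860361a1b0dc6a34190cc6230178b85a2c158a852280301c0a040100c0200, 0x2b15caa542914ca250279389a4c2592892483319cca643118cc2602f978ba5c2c960b65a3b1dcea74391cce270379b8da6c359a8d2682311c8a442110c82401e8f07e3e1d8e872380b05c2a140904c2210078381a0c0582812081309c4a241108c42200e8703e1e0c860361a1b0dc6a34190cc6230178b85a2c158a852280301c0a040100c0200, [0, 3, 2, 1, 0, 1, 1, 0, 3, 3, 0, 1, 1, 0, 0, 1, 1, 0, 0, 1, 2, 2, 1, 0, 3, 3, 2, 1, 2, 2, 3, 3, 2, 2, 2, 1, 2, 2, 1, 0, 0, 3, 3, 3, 0, 0, 1, 0, 0, 1, 1, 0, 0, 3, 2, 2, 3, 3, 2, 3, 2, 1, 2, 3, 3, 2, 3, 3, 2, 1,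 0, 1, 1, 2]),
  (0x1a8d06e36198c86230168b05e2e158a85228128904e261188842200f8783a1c0d86832182a950ae5629948a250269309e4e259289248229108e462190882401d8e872381f8f87a3c3a9d0ee76399c8e270369b0de6e359a8d26832990ce6631988c2602f978ba5c2d968b2580a8502e16098482210068301e0e058281208028100e06018080200, 0x1a8d06e36198c86230168b05e2e158a85228128904e261188842200f8783a1c0d86832182a950ae5629948a250269309e4e259289248229108e462190882401d8e872381f8f87a3c3a9d0ee76399c8e270369b0de6e359a8d26832990ce6631988c2602f978ba5c2d968b2580a8502e16098482210068301e0e058281208028100e06018080200, [2, 3, 0, 3, 0, 1, 0, 1, 0, 1, 1, 2, 2, 3, 0, 1, 0, 1, 0, 1, 1, 0, 1, 0, 3, 0, 1, 2, 3, 2, 3, 2, 3, 3, 2, 1, 0, 0, 3, 2, 2, 3, 3, 2, 3, 2, 1, 2, 3, 3, 2, 3, 3, 2, 1, 0, 1, 1, 2]),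
  (0x389c0e6723a9d0ee76349a0d66a369b0de6e30980c66232990ce662d968b2582f978ba5c2a950ae5628940a652269309e4e24920964a229108e462090086421d8e872381f8f87a3c198c862301b8d86a34158a85228178b85a2c118884220138984a240d86832180f8783a1c0b8582a14098482210078381a0c058281208038180a04018080200, 0x389c0e6723a9d0ee76349a0d66a369b0de6e30980c66232990ce662d968b2582f978ba5c2a950ae5628940a652269309e4e24920964a229108e462090086421d8e872381f8f87a3c198c862301b8d86a34158a85228178b85a2c118884220138984a240d86832180f8783a1c0b8582a14098482210078381a0c058281208038180a04018080200, [0, 0, 3, 2, 2, 3, 3, 2, 3, 2, 1, 2, 3, 3, 2, 3, 3, 2, 1, 0, 1, 1, 2])]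

def twoElt0 : Janko.Tree (ℕ) :=
  (.node (.node (.node (.node (.node (.node (.node (.leaf 432662773869576704) (.leaf 504685260728208455)) (.node (.leaf 544168867175657078) (.leaf 559856546445790726))) (.node (.node (.leaf 1676749260623473204) (.leaf 436258595530894902)) (.node (.leaf 1639768497397998160) (.leaf 1712954179338634243)))) (.node (.node (.node (.leaf 1603775095212925552) (.leaf 1625208905494752375)) (.node (.leaf 1639697986642535986) (.leaf 504720371942968870))) (.node (.node (.leaf 1675867799795314262) (.leaf 436117587065612373)) (.node (.leaf 1639662873009227845) (.leaf 432803790807123490))))) (.node (.node (.node (.node (.leaf 1657606763585233456) (.leaf 1639662876909162086)) (.node (.leaf 525202488880032308) (.leaf 1643223295666448437))) (.node (.node (.leaf 1657818279982940704) (.leaf 1624010287606409237)) (.node (.leaf 1658946376091053590) (.leaf 507011970958420596)))) (.node (.node (.node (.leaf 508245679350227472) (.leaf 436082463342075921)) (.node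 (.leaf 1622741187202697828) (.leaf 1658981493895351846))) (.node (.node (.leaf 469925574603475524) (.leaf 1712954194400437363)) (.node (.leaf 1695891757928835125) (.leaf 469784556719842323)))))) (.node (.node (.node (.node (.node (.leaf 508104664832279040) (.leaf 1639733370585614341)) (.node (.leaf 432768686047421555) (.leaf 506024880894944339))) (.node (.node (.leaf 1714152788622592548) (.leaf 505883869742680676)) (.node (.leaf 508104668867743270) (.leaf 1587840480773686818)))) (.node (.node (.node (.leaf 436258601985953382) (.leaf 1712954188214337601)) (.node (.leaf 1586782887625639973) (.leaf 434002399554209861))) (.node (.node (.leaf 490231291464695905) (.leaf 508245681234005542)) (.node (.leaf 490055158874541127) (.leaf 561160788322609780))))) (.node (.node (.node (.node (.leaf 487939966657899028) (.leaf 468867976204920338)) (.node (.leaf 508245686073198146) (.leaf 1642024684365022722))) (.node (.node (.leaf 490055160758315093) (.leaf 1603775090775073875)) (.node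 (.leaf 558975090190747717) (.leaf 1715280885132045335)))) (.node (.node (.node (.leaf 1585549173850677840) (.leaf 487975095622495351)) (.node (.leaf 486741368937677891) (.leaf 1676784374256780323))) (.node (.node (.leaf 541842163667887219) (.leaf 1624962256230943751)) (.node (.leaf 1697266489579028513) (.leaf 432662775619921941))))))) (.node (.node (.node (.node (.node (.node (.leaf 469960682185163264) (.leaf 1621754087325306374)) (.node (.leaf 1679146477706592864) (.leaf 1589003967546797079))) (.node (.node (.leaf 1604867800790519398) (.leaf 1679111080452056626)) (.node (.leaf 1625173784057905728) (.leaf 490231286893415495)))) (.node (.node (.node (.leaf 1715245775800536646) (.leaf 526224975250646131)) (.node (.leaf 1661132076643559509) (.leaf 562183257078394422))) (.node (.node (.leaf 454237880539450950) (.leaf 541842161248288865)) (.node (.leaf 1711720469331224146) (.leaf 487834070614024209))))) (.node (.node (.node (.node (.leaf 1657853390527401478) (.leaf 1607088885015572086))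 (.node (.leaf 525061480817142356) (.leaf 1607123988427842579))) (.node (.node (.leaf 451840672866281042) (.leaf 1675867798582886465)) (.node (.leaf 1678018365464513028) (.leaf 1659933464672357415)))) (.node (.node (.node (.leaf 1640720463604509236) (.leaf 468726961017718789)) (.node (.leaf 1693706068537673797) (.leaf 522699650630945799))) (.node (.node (.leaf 1677982977085680148) (.leaf 452898267497021537)) (.node (.leaf 1587805368888626758) (.leaf 472075880856863843)))))) (.node (.node (.node (.node (.node (.leaf 1640720468443701840) (.leaf 1712848566378594369)) (.node (.leaf 1641919062262417924) (.leaf 526119078001175671))) (.node (.node (.leaf 507152970414565908) (.leaf 1639768501432411762)) (.node (.leaf 490196178231682163) (.leaf 1639662874757475926)))) (.node (.node (.node (.leaf 1607088872374413844) (.leaf 562324269310176311)) (.node (.leaf 1715069375324400212) (.leaf 1693811688488592435))) (.node (.node (.leaf 543146388063305825) (.leaf 490196177830342262))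 (.node (.leaf 450818199271303796) (.leaf 1693741184055806532))))) (.node (.node (.node (.node (.leaf 1586782883992568320) (.leaf 1675832675804916244)) (.node (.leaf 452898263059697222) (.leaf 1711790970675162678))) (.node (.node (.leaf 526083953473906741) (.leaf 486741360330933251)) (.node (.leaf 543111264071861283) (.leaf 1715069366582651927)))) (.node (.node (.node (.leaf 1661096686379902035) (.leaf 1589039090325291584)) (.node (.leaf 523933380137222720) (.leaf 450677187039520885))) (.node (.node (.leaf 468903095892992560) (.leaf 1696103279030732354)) (.node (.leaf 1642976665364901462) (.leaf 469784554300243969))))))))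

def twoElt1 : Janko.Tree (ℕ) :=
  (.node (.node (.node (.node (.node (.node (.node (.leaf 432627660368650768) (.leaf 542970255607107142)) (.node (.leaf 1588016888242799168) (.leaf 1675621159541688357))) (.node (.node (.leaf 526119075983969894) (.leaf 508069553750951458)) (.node (.leaf 1676784384613871222) (.leaf 1715245771900078117)))) (.node (.node (.node (.leaf 1715034255904236080) (.leaf 487939968943540261)) (.node (.leaf 468726974597088866) (.leaf 469960686890402851))) (.node (.node (.leaf 1604797297429373041) (.leaf 561160784287149654)) (.node (.leaf 1621683594455730277) (.leaf 471159295503272516))))) (.node (.node (.node (.node (.leaf 508069551331353104) (.leaf 1603775092390939751)) (.node (.leaf 1678053493758283366) (.leaf 559891677562069105))) (.node (.node (.leaf 1586747772107508260) (.leaf 1714152784185264133)) (.node (.leaf 1714117681307766374) (.leaf 472181775017487958)))) (.node (.node (.node (.leaf 436117576977482240) (.leaf 1657641876281380390)) (.node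 (.leaf 506059989958542882) (.leaf 1622706060924036115))) (.node (.node (.leaf 1697019859010619972) (.leaf 525202485380392466)) (.node (.leaf 1641954182620266529) (.leaf 541983160168613893)))))) (.node (.node (.node (.node (.node (.leaf 1586853390175699456) (.leaf 558939966199303175)) (.node (.leaf 487834076801174599) (.leaf 489032684200042577))) (.node (.node (.leaf 1679111080185195060) (.leaf 489032673843480066)) (.node (.leaf 471018279503414307) (.leaf 541877268562068515)))) (.node (.node (.node (.leaf 1621754091897637412) (.leaf 1586818289315931762)) (.node (.leaf 508245689974177889) (.leaf 544309875371974737))) (.node (.node (.leaf 562359389400641110) (.leaf 1657853403706477156)) (.node (.leaf 471018285556608598) (.leaf 1711755582296329798))))) (.node (.node (.node (.node (.leaf 1643011775367234080) (.leaf 505883863689489463)) (.node (.leaf 471159295905136705) (.leaf 558975082253256194))) (.node (.node (.leaf 1712919074177591381) (.leaf 1640967100225062466)) (.node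 (.leaf 506024884394584181) (.leaf 1676995898859892310)))) (.node (.node (.node (.leaf 1694904679837003382) (.leaf 1622952705752091236)) (.node (.leaf 1711720467582976065) (.leaf 1641954181949443622))) (.node (.node (.leaf 504861388747082823) (.leaf 1585795798775639063)) (.node (.leaf 434883870871317623) (.leaf 1657641874264173591))))))) (.node (.node (.node (.node (.node (.node (.leaf 450677176682431008) (.leaf 1643188180146742834)) (.node (.leaf 1606031290250874470) (.leaf 433967275830673409))) (.node (.node (.leaf 1640755585308740711) (.leaf 1624010291640822839)) (.node (.leaf 1660003975828637250) (.leaf 1622952703465924693)))) (.node (.node (.node (.leaf 561125666080983109) (.leaf 1622741185317873234)) (.node (.leaf 433826273687021653) (.leaf 1624962258651588629))) (.node (.node (.leaf 451981682678991943) (.leaf 1622706062808860709)) (.node (.leaf 1621683590553698880) (.leaf 1659933461173764097))))) (.node (.node (.node (.node (.leaf 432803785700018692) (.leaf 486882373910669844))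 (.node (.leaf 1605854885471365716) (.leaf 1643011772544723991))) (.node (.node (.leaf 451981684830678103) (.leaf 1622741187335079011)) (.node (.leaf 468762081241615399) (.leaf 1623975172220658707)))) (.node (.node (.node (.leaf 524039274699186736) (.leaf 1639697981937822743)) (.node (.leaf 1693741188493658213) (.leaf 1693811683918358549))) (.node (.node (.leaf 523933386324373110) (.leaf 523898268654029927)) (.node (.leaf 1623904672090721862) (.leaf 1694939784596704295)))))) (.node (.node (.node (.node (.node (.leaf 1675621169896681078) (.leaf 1586782898785412722)) (.node (.leaf 451840661572029958) (.leaf 1659933466957999670))) (.node (.node (.leaf 562183255194616352) (.leaf 1603598691645844599)) (.node (.leaf 452933378578353223) (.leaf 1676960788180951153)))) (.node (.node (.node (.leaf 1697231373792461344) (.leaf 508104675188321367)) (.node (.leaf 525202489281896497) (.leaf 468903104098396277))) (.node (.node (.leaf 434002404125494375) (.leaf 435024881085893735))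 (.node (.leaf 1675867796027762226) (.leaf 490231288911669844))))) (.node (.node (.node (.node (.leaf 1622952693377794560) (.leaf 559891673392653906)) (.node (.leaf 488997566261792326) (.leaf 1711790966371790358))) (.node (.node (.leaf 1604832687959892081) (.leaf 454131985977486934)) (.node (.leaf 526224962475009554) (.leaf 1694939795355135095)))) (.node (.node (.node (.leaf 505918982029608003) (.leaf 1679111076282639379)) (.node (.leaf 433826278794126451) (.leaf 1675656277612848179))) (.node (.node (.leaf 471159302494151280) (.leaf 508210570286105667)) (.node (.leaf 1677947874745049201) (.leaf 1587805360952705025))))))))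

def twoElt2 : Janko.Tree (ℕ) :=
  (.node (.node (.node (.node (.node (.node (.node (.leaf 469819669818900992) (.leaf 1657606771923019378)) (.node (.leaf 1660003977980323410) (.leaf 450642069771042913))) (.node (.node (.leaf 1604867792988553760) (.leaf 1677982975200855554)) (.node (.leaf 468867982392066624) (.leaf 487798965719842913)))) (.node (.node (.node (.leaf 1641919064949924368) (.leaf 1715034262493249633)) (.node (.leaf 1693706063830863398) (.leaf 436258597414668868))) (.node (.node (.leaf 1639697993501032545) (.leaf 544203971935357991)) (.node (.leaf 560032689258556020) (.leaf 469819675872094261))))) (.node (.node (.node (.node (.leaf 1586818276674773520) (.leaf 1712883682165686848)) (.node (.leaf 453074387043107360) (.leaf 1585795809668549220))) (.node (.node (.leaf 436082476118765174) (.leaf 543146377036966935)) (.node (.leaf 526224963822963236) (.leaf 453039275292003399)))) (.node (.node (.node (.leaf 1696103281451377232) (.leaf 1586853394075632675)) (.node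 (.leaf 468903093607877671) (.leaf 1639768490138160678))) (.node (.node (.leaf 1658769980050670659) (.leaf 1695891751338774022)) (.node (.leaf 559856553034804279) (.leaf 504861382024112149)))))) (.node (.node (.node (.node (.node (.leaf 522699657219433008) (.leaf 454237871798225927)) (.node (.leaf 1624962267258333269) (.leaf 1713941276661163091))) (.node (.node (.leaf 523933384172686950) (.leaf 526260075841455107)) (.node (.leaf 454096862253950482) (.leaf 560984652500723250)))) (.node (.node (.node (.leaf 561019770037109312) (.leaf 468867984946144339)) (.node (.leaf 1642024690419263541) (.leaf 523933378119491633))) (.node (.node (.leaf 1678053487438227509) (.leaf 508210569884765766)) (.node (.leaf 1641919070869162564) (.leaf 1658981496047038006))))) (.node (.node (.node (.node (.leaf 1677982979237366308) (.leaf 507047080289930311)) (.node (.leaf 507188095343699027) (.leaf 1607053482244711443))) (.node (.node (.leaf 1605819765112466487) (.leaf 487975087417615922)) (.node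 (.leaf 562359380525984276) (.leaf 450783073530560545)))) (.node (.node (.node (.leaf 562359382677670436) (.leaf 490231284876209718)) (.node (.leaf 1586782896633726562) (.leaf 1606066397296741926))) (.node (.node (.leaf 1657818286036658261) (.leaf 432768670181885957)) (.node (.leaf 507047084861210721) (.leaf 487939969479360545))))))) (.node (.node (.node (.node (.node (.node (.leaf 1643011783973978720) (.leaf 1607018370225696310)) (.node (.leaf 1679146473403220544) (.leaf 1589074474534707217))) (.node (.node (.leaf 1643011783169199718) (.leaf 1661096677103382038)) (.node (.leaf 1661132081213793395) (.leaf 544203978122504277)))) (.node (.node (.node (.leaf 1641989576918337605) (.leaf 1586853399994870871)) (.node (.leaf 558975092475866710) (.leaf 1715280883249317893))) (.node (.node (.leaf 543111271874873445) (.leaf 1657606761568026657)) (.node (.leaf 544203970319492115) (.leaf 1587840478757003281))))) (.node (.node (.node (.node (.leaf 1658946380259945527) (.leaf 451840666143310368))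 (.node (.leaf 558834071369426965) (.leaf 1604797292724660820))) (.node (.node (.leaf 1694939796294394480) (.leaf 490055157258675251)) (.node (.leaf 558798960823919667) (.leaf 508245681635345443)))) (.node (.node (.node (.leaf 486882374446490128) (.leaf 468867973919801345)) (.node (.leaf 562183250488855559) (.leaf 506059991574408758))) (.node (.node (.leaf 558834082395769959) (.leaf 544309873488200771)) (.node (.leaf 1588016892143256675) (.leaf 1604832674780816403)))))) (.node (.node (.node (.node (.node (.leaf 559856548329564692) (.leaf 468762088232494163)) (.node (.leaf 1679146464260655620) (.leaf 1589074473729928215))) (.node (.node (.leaf 1694834174458651248) (.leaf 1641954184236132405)) (.node (.leaf 1605819769684797525) (.leaf 1696103270558990337)))) (.node (.node (.node (.leaf 543111272544649824) (.leaf 541877265740606998)) (.node (.leaf 1679181591341473873) (.leaf 1639733374620027943))) (.node (.node (.leaf 454272996727883330) (.leaf 452016800885155410)) (.node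 (.leaf 562218368025241621) (.leaf 487834075051353650))))) (.node (.node (.node (.node (.leaf 487798963434201680) (.leaf 560032685357050967)) (.node (.leaf 454272998343749206) (.leaf 1675832676071777810))) (.node (.node (.leaf 561019765063960613) (.leaf 1604797290572974660)) (.node (.leaf 525026363012844100) (.leaf 558939980858714740)))) (.node (.node (.node (.leaf 1589109596642377793) (.leaf 1605854880899034678)) (.node (.leaf 1679111085024387664) (.leaf 489032679628762167))) (.node (.node (.leaf 523898262332924464) (.leaf 1585584293672182899)) (.node (.leaf 1679111087310028897) (.leaf 522734766684898818))))))))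

def twoElt3 : Janko.Tree (ℕ) :=
  (.node (.node (.node (.node (.node (.node (.node (.leaf 1585584278744859136) (.leaf 508069560071529555)) (.node (.leaf 542018286981522000) (.leaf 526083960196877415))) (.node (.node (.leaf 562218379051584615) (.leaf 1607123986276156419)) (.node (.leaf 558975093011686994) (.leaf 561125670652267623)))) (.node (.node (.node (.leaf 1589039081718546944) (.leaf 1606031286483322434)) (.node (.leaf 1604797282098611203) (.leaf 436117584913926213))) (.node (.node (.leaf 1622952708439597680) (.leaf 1712883687950444661)) (.node (.leaf 450818195235843670) (.leaf 1697266500337459313))))) (.node (.node (.node (.node (.leaf 543005362920882688) (.leaf 562183265953047152)) (.node (.leaf 1694904675533631062) (.leaf 472216884215041574))) (.node (.node (.leaf 1621648467910208020) (.leaf 526260075440115206)) (.node (.leaf 1589074480855810624) (.leaf 1659968580458925606)))) (.node (.node (.node (.leaf 1624962271158791798) (.leaf 1621718974360200722)) (.node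 (.leaf 1586853402415515749) (.leaf 468867988311304820))) (.node (.node (.leaf 1711790975648834643) (.leaf 508069548643846660)) (.node (.leaf 543005371125763143) (.leaf 1624962265642467393)))))) (.node (.node (.node (.node (.node (.leaf 1715034251600863760) (.leaf 1661096688130771556)) (.node (.leaf 541983170927044693) (.leaf 1713941280964535411))) (.node (.node (.leaf 1607123990714532384) (.leaf 1675867789572703746)) (.node (.leaf 1659933460502941190) (.leaf 1695926880437323362)))) (.node (.node (.node (.leaf 470983170439816786) (.leaf 540960687645805607)) (.node (.leaf 561160788724473969) (.leaf 507152968664743937))) (.node (.node (.leaf 453074397667582065) (.leaf 1675656275326682658)) (.node (.leaf 560984653848676932) (.leaf 1696138389844151846))))) (.node (.node (.node (.node (.leaf 525026369735814774) (.leaf 1661096683961354309)) (.node (.leaf 1660039091347293251) (.leaf 1641954178181891586))) (.node (.node (.leaf 1625208894871325220) (.leaf 562359387382382657))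 (.node (.leaf 1678053495909969526) (.leaf 522875784836966453)))) (.node (.node (.node (.leaf 1711826092917312615) (.leaf 1712883688351786610)) (.node (.leaf 1657818283750492740) (.leaf 1715069364966786051))) (.node (.node (.leaf 432768680940316757) (.leaf 1657818275009268743)) (.node (.leaf 1586782889777326133) (.leaf 541877269910022197))))))) (.node (.node (.node (.node (.node (.node (.leaf 560032678500125220) (.leaf 1589039083065454102)) (.node (.leaf 1607018375064888914) (.leaf 505883859654025233))) (.node (.node (.leaf 1697019861698126416) (.leaf 468903088902113796)) (.node (.leaf 469819680845243986) (.leaf 453074393230257750)))) (.node (.node (.node (.leaf 508210575937431669) (.leaf 505918974636861972)) (.node (.leaf 451875792688308337) (.leaf 541983162588212247))) (.node (.node (.leaf 436082474368418915) (.leaf 544309877523660897)) (.node (.leaf 558798967144498786) (.leaf 434918976435275298))))) (.node (.node (.node (.node (.leaf 1585760682988547606) (.leaf 1607018379637219952))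 (.node (.leaf 452016796447825969) (.leaf 1603775093195718753))) (.node (.node (.leaf 472075873732553268) (.leaf 1712919078480963701)) (.node (.leaf 559856559355907686) (.leaf 1657853403973338722)))) (.node (.node (.node (.leaf 1604832679487627824) (.leaf 1639768488925732881)) (.node (.leaf 452898254452952582) (.leaf 1604867790166566933))) (.node (.node (.leaf 507011964771274310) (.leaf 541842157078873666)) (.node (.leaf 562359385097268790) (.leaf 1697019863580853858)))))) (.node (.node (.node (.node (.node (.leaf 1605854879552127520) (.leaf 558798962707693633)) (.node (.leaf 486741366250171447) (.leaf 433826263464411137))) (.node (.node (.leaf 472181770446203444) (.leaf 1625173775585116161)) (.node (.leaf 525026365030574165) (.leaf 508210561411448833)))) (.node (.node (.node (.leaf 1623975174239439396) (.leaf 542018291686761587)) (.node (.leaf 472216885964335157) (.leaf 1641919066162875431))) (.node (.node (.leaf 454131984227140675) (.leaf 451875788117027927)) (.node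 (.leaf 1711755580144643638) (.leaf 487975086881795638))))) (.node (.node (.node (.node (.leaf 522699665558269558) (.leaf 526260077591801366)) (.node (.leaf 1604832681103493700) (.leaf 560032685892871251))) (.node (.node (.leaf 454272992022118433) (.leaf 526260083778947652)) (.node (.leaf 558798962171873349) (.leaf 1657606760763247655)))) (.node (.node (.node (.leaf 562183263934792803) (.leaf 1639697994982419060)) (.node (.leaf 1605854889505779318) (.leaf 450783070976486934))) (.node (.node (.leaf 486741362080227856) (.leaf 436258599431874645)) (.node (.leaf 489032683798178388) (.leaf 1675621157522384402))))))))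

def twoElt4 : Janko.Tree (ℕ) :=
  (.node (.node (.node (.node (.node (.node (.node (.leaf 504720367907504640) (.leaf 543005371795539522)) (.node (.leaf 432803801029734006) (.leaf 1694939787017349173))) (.node (.node (.leaf 525202497620733047) (.leaf 486917488215328258)) (.node (.leaf 436258590959610388) (.leaf 452933385301319793)))) (.node (.node (.node (.leaf 1588051997440352784) (.leaf 544344991159067216)) (.node (.leaf 450783081467005540) (.leaf 1657606771656157812))) (.node (.node (.leaf 504720376782161474) (.leaf 490231285277549619)) (.node (.leaf 1640967106413259380) (.leaf 432768670717706241))))) (.node (.node (.node (.node (.leaf 436258589343744512) (.leaf 1694834163700220448)) (.node (.leaf 540925573876967477) (.leaf 562218373266826802))) (.node (.node (.leaf 1640931980538036768) (.leaf 1622706071816947298)) (.node (.leaf 1661061570593334866) (.leaf 1589109592070046755)))) (.node (.node (.node (.leaf 432627659832830484) (.leaf 1643223297684179524)) (.node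 (.leaf 524039268512040450) (.leaf 1693776572701500978))) (.node (.node (.leaf 540960692484998211) (.leaf 1607053483860577319)) (.node (.leaf 1713906160741689429) (.leaf 469819672238499346)))))) (.node (.node (.node (.node (.node (.leaf 487939967193719312) (.leaf 434002395920614946)) (.node (.leaf 434883862264572983) (.leaf 504826269326918691))) (.node (.node (.leaf 544168860586118215) (.leaf 559856559891727970)) (.node (.leaf 434883855675558404) (.leaf 471018279101550118)))) (.node (.node (.node (.leaf 1676784383266964064) (.leaf 1694939793472407653)) (.node (.leaf 1589109591803185189) (.leaf 506024884930404465))) (.node (.node (.leaf 1679181584350595109) (.leaf 450677184753355364)) (.node (.leaf 1604867798907791956) (.leaf 1640755572934444035))))) (.node (.node (.node (.node (.leaf 1679075960229210644) (.leaf 490090278562613349)) (.node (.leaf 435059992703041601) (.leaf 1679181580314084355))) (.node (.node (.leaf 1589039085486098980) (.leaf 508069553080650791)) (.node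 (.leaf 1679181592688381031) (.leaf 452933370641384962)))) (.node (.node (.node (.leaf 1676749268826778743) (.leaf 1586747776812220481)) (.node (.leaf 559891675678295139) (.leaf 1621683589748919878))) (.node (.node (.leaf 1715245767462750724) (.leaf 1622952697412208162)) (.node (.leaf 508245692125864049) (.leaf 1714152790505319990))))))) (.node (.node (.node (.node (.node (.node (.leaf 1587805371845091920) (.leaf 504720380281801316)) (.node (.leaf 507188097361429088) (.leaf 471124186707583089))) (.node (.node (.leaf 1623904678545780342) (.leaf 505918972485175812)) (.node (.leaf 469960692809641047) (.leaf 471159289851946514)))) (.node (.node (.node (.leaf 471124182136302679) (.leaf 1639662877713941088)) (.node (.leaf 486776488625750113) (.leaf 522875778515340806))) (.node (.node (.leaf 1714152786067991575) (.leaf 561019776358211697)) (.node (.leaf 1693741182170981938) (.leaf 507152983726547057))))) (.node (.node (.node (.node (.leaf 450677185289175648) (.leaf 524039274163366452))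 (.node (.leaf 1642024695258456145) (.leaf 450818191334858801))) (.node (.node (.leaf 1661167188394664496) (.leaf 1586853397977665094)) (.node (.leaf 1713906154420587044) (.leaf 1603598687878292563)))) (.node (.node (.node (.leaf 506059987538944528) (.leaf 558975084271509521)) (.node (.leaf 1642976654875429380) (.leaf 1676749254033934341))) (.node (.node (.leaf 1694834167333292101) (.leaf 1695891760347382851)) (.node (.leaf 453074384489557015) (.leaf 469925570568015398)))))) (.node (.node (.node (.node (.node (.leaf 452898269782663792) (.leaf 436117581548766754)) (.node (.leaf 524039270127906326) (.leaf 1589003968351576081))) (.node (.node (.leaf 1659933465611092512) (.leaf 487975082980286481)) (.node (.leaf 487798958996876343) (.leaf 1607088875195875361)))) (.node (.node (.node (.leaf 526224970813842000) (.leaf 508104670884949047)) (.node (.leaf 562218370712748065) (.leaf 1606031277742621699))) (.node (.node (.leaf 1675621166398087760) (.leaf 433826278258306167)) (.node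 (.leaf 435059985712162837) (.leaf 454237874485732371))))) (.node (.node (.node (.node (.leaf 1676749256320100884) (.leaf 1715280887685596706)) (.node (.leaf 526083955760073284) (.leaf 526260077993141267))) (.node (.node (.leaf 1657606758477082134) (.leaf 1624010296347109972)) (.node (.leaf 540819683618375781) (.leaf 1642976655142290946)))) (.node (.node (.node (.leaf 1694834165448467507) (.leaf 1603810211000017009)) (.node (.leaf 490090267938662932) (.leaf 1657641887710110835))) (.node (.node (.leaf 450818195771663954) (.leaf 1658769981935495253)) (.node (.leaf 1713941276528257620) (.leaf 1693741178002088979))))))))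

def twoElt5 : Janko.Tree (ℕ) :=
  (.node (.node (.node (.node (.node (.node (.node (.leaf 469784560621347376) (.leaf 562324269980476978)) (.node (.leaf 1622952694993660436) (.leaf 472075882740637809))) (.node (.node (.leaf 1678053485286541349) (.leaf 451875780046103571)) (.node (.leaf 488997562226328096) (.leaf 1679075962514851877)))) (.node (.node (.node (.leaf 1622706074237592176) (.leaf 435059999024148086)) (.node (.leaf 1675832678223463970) (.leaf 471124186305718900))) (.node (.node (.leaf 504861389282903107) (.leaf 505883865707220550)) (.node (.leaf 1621648475035566145) (.leaf 1657818275814047745))))) (.node (.node (.node (.node (.leaf 1675621170701460080) (.leaf 472181777169174118)) (.node (.leaf 1621718987673755761) (.leaf 436082469797134401))) (.node (.node (.leaf 472181779588768368) (.leaf 1586818287029765219)) (.node (.leaf 505883866243040834) (.leaf 1624010288007226898)))) (.node (.node (.node (.leaf 1658946379047518752) (.leaf 1607053488432908357)) (.node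 (.leaf 451840664259536402) (.leaf 1604832678548368439))) (.node (.node (.leaf 1621754096871309377) (.leaf 1679181586769142835)) (.node (.leaf 488997568011610197) (.leaf 469819676407914545)))))) (.node (.node (.node (.node (.node (.leaf 1695926867796165120) (.leaf 433861383554352674)) (.node (.leaf 436082460789049860) (.leaf 508210568268899890))) (.node (.node (.leaf 1712848567994460245) (.leaf 559997572391945315)) (.node (.leaf 1693706059661970439) (.leaf 526119063475192835)))) (.node (.node (.node (.leaf 1603598689359679078) (.leaf 451981674474112514)) (.node (.leaf 1696138390514974753) (.leaf 562183252908449809))) (.node (.node (.leaf 1606066397967564833) (.leaf 1713941270340060706)) (.node (.leaf 526119073564371540) (.leaf 472040754445820947))))) (.node (.node (.node (.node (.leaf 1696103274996318752) (.leaf 544309879943259251)) (.node (.leaf 525061485924247154) (.leaf 1606031286082504773))) (.node (.node (.leaf 454096870190394455) (.leaf 541842152239681062)) (.node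 (.leaf 544309874970634836) (.leaf 453074383007647234)))) (.node (.node (.node (.leaf 526119066974832677) (.leaf 468726970160283713)) (.node (.leaf 1697019857259750451) (.leaf 1640967101840928342))) (.node (.node (.leaf 561125657876106758) (.leaf 1604832685003426919)) (.node (.leaf 1621683585848985637) (.leaf 560032676482394133))))))) (.node (.node (.node (.node (.node (.node (.leaf 1697231383746113142) (.leaf 469960695363192418)) (.node (.leaf 506060000449061488) (.leaf 1711826082158881815))) (.node (.node (.leaf 489032677343119908) (.leaf 507011957914347541)) (.node (.leaf 1640967091351456260) (.leaf 1696138388228285970)))) (.node (.node (.node (.leaf 1697266484336922118) (.leaf 1586782894750999120)) (.node (.leaf 1693776574586325572) (.leaf 1677982981255096373))) (.node (.node (.leaf 543146374617368581) (.leaf 1589003969967441957)) (.node (.leaf 468762091597654644) (.leaf 544168852247281665))))) (.node (.node (.node (.node (.leaf 1675656275059821092) (.leaf 1643223295933310003))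 (.node (.leaf 540784561510705205) (.leaf 1675867804233165943))) (.node (.node (.leaf 472216886634635824) (.leaf 468903097643337797)) (.node (.leaf 562324275765234791) (.leaf 522734777309896785)))) (.node (.node (.node (.leaf 433861378983068160) (.leaf 454273002780549233)) (.node (.leaf 540819673127857175) (.leaf 1587840489380431458))) (.node (.node (.leaf 1711720473502214261) (.leaf 1660003980132009570)) (.node (.leaf 1606066393128372229) (.leaf 544309867033142291)))))) (.node (.node (.node (.node (.node (.leaf 1677947865736440372) (.leaf 1658981502771055204)) (.node (.leaf 487939977952150112) (.leaf 506024872020287505))) (.node (.node (.leaf 505883870278500960) (.leaf 1715069367387430929)) (.node (.leaf 486882376062356004) (.leaf 1679075964666538037)))) (.node (.node (.node (.leaf 489138585083113078) (.leaf 1657641885423945314)) (.node (.leaf 1585795807247904342) (.leaf 544344982820234770))) (.node (.node (.leaf 1604832687289593462) (.leaf 1677982984076558912)) (.node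 (.leaf 507188083781535749) (.leaf 432627657815623685))))) (.node (.node (.node (.node (.leaf 525026360861157940) (.leaf 487834080702679652)) (.node (.leaf 486882380633640518) (.leaf 525026358575515685))) (.node (.node (.leaf 1695891761963248727) (.leaf 543146385509755476)) (.node (.leaf 1659968578307239446) (.leaf 452898254854816771)))) (.node (.node (.node (.leaf 472181778918467701) (.leaf 1712848572564694131)) (.node (.leaf 1639697986375674420) (.leaf 541877266276427282))) (.node (.node (.leaf 450677183004060759) (.leaf 1694869284868631639)) (.node (.leaf 524074390485753905) (.leaf 1603563561467249667))))))))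

def twoElt6 : Janko.Tree (ℕ) :=
  (.node (.node (.node (.node (.node (.node (.node (.leaf 1585549165243933200) (.leaf 524039283573843570)) (.node (.leaf 1639662869107196448) (.leaf 1711790968926914597))) (.node (.node (.leaf 453074395515895905) (.leaf 1607053480093025283)) (.node (.leaf 1623939795003171440) (.leaf 1605819763765559329)))) (.node (.node (.node (.leaf 490090270626169376) (.leaf 472216892687305831)) (.node (.leaf 522840678059011191) (.leaf 1589109602694522482))) (.node (.node (.leaf 1714152795210556499) (.leaf 451875792152488053)) (.node (.leaf 486776486474063953) (.leaf 504861382559932433))))) (.node (.node (.node (.node (.leaf 450642062645684788) (.leaf 523933382288908880)) (.node (.leaf 524074387798247461) (.leaf 523933386860193394))) (.node (.node (.leaf 1694834165316086324) (.leaf 505883861537803303)) (.node (.leaf 540784570921182323) (.leaf 1585760696167623284)))) (.node (.node (.node (.leaf 508210576607732336) (.leaf 1589003978574186597)) (.node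 (.leaf 559891670437235268) (.leaf 471018289458112629))) (.node (.node (.leaf 525167380352255075) (.leaf 1675621167879474279)) (.node (.leaf 508069559670189654) (.leaf 1587840487363747921)))))) (.node (.node (.node (.node (.node (.leaf 1625208891103773184) (.leaf 469925579308715111)) (.node (.leaf 1586747769686863382) (.leaf 1658946387385304674))) (.node (.node (.leaf 490196173124577365) (.leaf 526224973098959971)) (.node (.leaf 1622917576920403462) (.leaf 525202493183404628)))) (.node (.node (.node (.leaf 487834072095935012) (.leaf 523898258297464338)) (.node (.leaf 434002406277180535) (.leaf 1677982986094288977))) (.node (.node (.leaf 544309866631802390) (.leaf 1643223293245803559)) (.node (.leaf 1639733379057879620) (.leaf 1694904667328226323))))) (.node (.node (.node (.node (.leaf 561125673205817968) (.leaf 1603598680752934438)) (.node (.leaf 1712883683913933907) (.leaf 1715034257385098311))) (.node (.node (.leaf 1607018364039596548) (.leaf 541983169043270727))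 (.node (.leaf 1622706069398399572) (.leaf 435059988801537570)))) (.node (.node (.node (.leaf 1604867801460818017) (.leaf 558834080779904083)) (.node (.leaf 469925581192489077) (.leaf 472216888250501700))) (.node (.node (.leaf 508210567598599223) (.leaf 450642060628477989)) (.node (.leaf 1658981494565650465) (.leaf 490090266456228867))))))) (.node (.node (.node (.node (.node (.node (.leaf 504826266237020692) (.leaf 1588051999189124131)) (.node (.leaf 1661167186242978336) (.leaf 486917489697761301))) (.node (.node (.leaf 1607053492467321959) (.leaf 1661061565754142262)) (.node (.leaf 472216882063355414) (.leaf 432803792557468727)))) (.node (.node (.node (.leaf 469819669283080708) (.leaf 1693741190241906294)) (.node (.leaf 1622706066977754694) (.leaf 1711755589020346996))) (.node (.node (.leaf 1624010285185764359) (.leaf 1695891756312969249)) (.node (.leaf 523898271341536371) (.leaf 1676784371838232597))))) (.node (.node (.node (.node (.leaf 452933383283589728) (.leaf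 559891677026248821)) (.node (.leaf 486776480019005473) (.leaf 525061470862444034))) (.node (.node (.leaf 1661167184091292176) (.leaf 540925574412787761)) (.node (.leaf 524039280886337126) (.leaf 432803790271303206)))) (.node (.node (.node (.leaf 541842158962647632) (.leaf 1661061561584725015)) (.node (.leaf 1711720458440411141) (.leaf 1624010298631701603))) (.node (.node (.leaf 525026354674011654) (.leaf 1585584285065438259)) (.node (.leaf 490231278421151238) (.leaf 526119078671476338)))))) (.node (.node (.node (.node (.node (.leaf 1714117675657486896) (.leaf 1658946382815070788)) (.node (.leaf 1715034253216729636) (.leaf 1625208901727200339))) (.node (.node (.leaf 540784566215418448) (.leaf 1606066395280058389)) (.node (.leaf 1641919072617933911) (.leaf 558798964456992342)))) (.node (.node (.node (.leaf 1715280896561300064) (.leaf 508104669269083171)) (.node (.leaf 1694869289976782961) (.leaf 1588052007529007205))) (.node (.node (.leaf 454272991620778532) (.leaf 1642024699292869747))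 (.node (.leaf 1625208896754052662) (.leaf 1657606756459875335))))) (.node (.node (.node (.node (.leaf 525167373763240496) (.leaf 1676995892940654114)) (.node (.leaf 471124184823809123) (.leaf 1677982989592882295))) (.node (.node (.leaf 1695891766266621047) (.leaf 1607123994482084420)) (.node (.leaf 1693741186073013335) (.leaf 486917500321712740)))) (.node (.node (.node (.leaf 1659933473948878434) (.leaf 562218366677287939)) (.node (.leaf 1712848564361388592) (.leaf 1712919076060318823))) (.node (.node (.leaf 452933372257250838) (.leaf 1657853394965253159)) (.node (.leaf 1678053492277420113) (.leaf 1676749254435276290))))))))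

def twoElt7 : Janko.Tree (ℕ) :=
  (.node (.node (.node (.node (.node (.node (.node (.leaf 504685254406578704) (.leaf 506059996413601362)) (.node (.leaf 468762092133474928) (.leaf 1640720461854162977))) (.node (.node (.leaf 1694904667195845140) (.leaf 524074384298607619)) (.node (.leaf 543005368840120884) (.leaf 562359389801981011)))) (.node (.node (.node (.leaf 1712954191847411302) (.leaf 468903100464277074)) (.node (.leaf 1675867793743693861) (.leaf 1624997386945358967))) (.node (.node (.leaf 543146384027845699) (.leaf 1661061570326473300)) (.node (.leaf 1711755585118315603) (.leaf 1676784380980797521))))) (.node (.node (.node (.node (.leaf 1713906157108093488) (.leaf 486776490375048822)) (.node (.leaf 486917492385267745) (.leaf 508210572437791827))) (.node (.node (.leaf 1588016890394485328) (.leaf 1639697995249280626)) (.node (.leaf 471124171243915780) (.leaf 434918985042019938)))) (.node (.node (.node (.leaf 1586747774259194420) (.leaf 504685266780875380)) (.node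 (.leaf 450677180717895238) (.leaf 1695926873848308787))) (.node (.node (.leaf 1678018372052476979) (.leaf 1713906162758372966)) (.node (.leaf 470983174341320817) (.leaf 559856553570624563)))))) (.node (.node (.node (.node (.node (.leaf 1603598690164458080) (.leaf 1585549166994278437)) (.node (.leaf 508210563161795092) (.leaf 436082465360334374))) (.node (.node (.leaf 1677947859281381892) (.leaf 1715245778221181524)) (.node (.leaf 1693741179617954855) (.leaf 1678053489454911046)))) (.node (.node (.node (.leaf 1695891767205356144) (.leaf 507188092790148678)) (.node (.leaf 505918986065068129) (.leaf 559891668553461302))) (.node (.node (.leaf 506024880359124055) (.leaf 1713941266036688386)) (.node (.leaf 1676749262506200646) (.leaf 1604867792049294375))))) (.node (.node (.node (.node (.leaf 1641989574900607540) (.leaf 1712954183642006563)) (.node (.leaf 490231289313009745) (.leaf 1712919071756946503))) (.node (.node (.leaf 451840663723716118) (.leaf 508069557384023111))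 (.node (.leaf 506024871484467221) (.leaf 486882384803580005)))) (.node (.node (.node (.leaf 504685253870758420) (.leaf 436082471948820561)) (.node (.leaf 542018284561927750) (.leaf 1694869283120384580))) (.node (.node (.leaf 471124173663514134) (.leaf 1675621168684253281)) (.node (.leaf 1714152791176142897) (.leaf 454237884574911076))))))) (.node (.node (.node (.node (.node (.node (.leaf 1640755577641255456) (.leaf 1589039087904646706)) (.node (.leaf 433861391625277030) (.leaf 486776477867319313))) (.node (.node (.leaf 1606066407921216631) (.leaf 490055152151570453)) (.node (.leaf 1694869276665326100) (.leaf 1712883681226427463)))) (.node (.node (.node (.leaf 1658981489457499143) (.leaf 1585795801463145507)) (.node (.leaf 434883864282303044) (.leaf 1696138387827468309))) (.node (.node (.leaf 1587840475800538119) (.leaf 1658769978167943217)) (.node (.leaf 433861387589812800) (.leaf 1603598683843878961))))) (.node (.node (.node (.node (.leaf 562359391552327270) (.leaf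 1640755587729385589)) (.node (.leaf 504861394799749748) (.leaf 490231278822491139))) (.node (.node (.leaf 525167378066612816) (.leaf 1694904676203929681)) (.node (.leaf 544168861256418882) (.leaf 525061472880174099)))) (.node (.node (.node (.leaf 432627673010859638) (.leaf 433967277446539285)) (.node (.leaf 486741359795112967) (.leaf 1589039096511391346))) (.node (.node (.leaf 1605819759060322820) (.leaf 504720382567966837)) (.node (.leaf 452898256470682647) (.leaf 559891669089281586)))))) (.node (.node (.node (.node (.node (.leaf 522875783086621216) (.leaf 522734779595015778)) (.node (.leaf 525167379950390886) (.leaf 541877274749214801))) (.node (.node (.leaf 433967290490613366) (.leaf 544309868783488550)) (.node (.leaf 558798955582335508) (.leaf 489138573922813989)))) (.node (.node (.node (.leaf 1676995901816357472) (.leaf 542970249687868946)) (.node (.leaf 1711755587538960481) (.leaf 468903091992011795))) (.node (.node (.leaf 1639768498879384679) (.leaf 487834078684948565))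 (.node (.leaf 1660039084356414487) (.leaf 487975082444466197))))) (.node (.node (.node (.node (.leaf 1693811686471385632) (.leaf 1603810199436807207)) (.node (.leaf 470983172591502946) (.leaf 452933376694575153))) (.node (.node (.leaf 1641954191227011169) (.leaf 1714152792657006150)) (.node (.leaf 1693706074723773559) (.leaf 507047086477076597)))) (.node (.node (.node (.leaf 505883862073623587) (.leaf 1694869276797707283)) (.node (.leaf 562218375150600768) (.leaf 1679146476901813862))) (.node (.node (.leaf 489032675191433748) (.leaf 542018288731342949)) (.node (.leaf 468726967472777269) (.leaf 1603598676985382402))))))))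

def twoElt8 : Janko.Tree (ℕ) :=
  (.node (.node (.node (.node (.node (.node (.node (.leaf 487798954827457040) (.leaf 1712919068123874850)) (.node (.leaf 1693741181904120372) (.leaf 507047082977436755))) (.node (.node (.leaf 540925582617144950) (.leaf 1643188182165522501)) (.node (.leaf 1642976663749035586) (.leaf 472040760632967233)))) (.node (.node (.node (.leaf 1676784382327704679) (.leaf 468762087696673879)) (.node (.leaf 450818197789917281) (.leaf 1585760681776119809))) (.node (.node (.leaf 1624010294597288001) (.leaf 433967285919328852)) (.node (.leaf 1586747778963906641) (.leaf 522734773006524465))))) (.node (.node (.node (.node (.leaf 1643188176112329232) (.leaf 433826276106620007)) (.node (.leaf 522699660986985044) (.leaf 1657818290472412786))) (.node (.node (.leaf 504861395335570032) (.leaf 1586747780846634083)) (.node (.leaf 1641989570328276502) (.leaf 1603810197820941331)))) (.node (.node (.node (.leaf 1622917584180240944) (.leaf 469925577023073878)) (.node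 (.leaf 1640755581408807492) (.leaf 1625208892986500626))) (.node (.node (.leaf 453039281479149685) (.leaf 1693776574853187138)) (.node (.leaf 454131988262600801) (.leaf 1697054979367421027)))))) (.node (.node (.node (.node (.node (.leaf 522734770184538660) (.leaf 504685265299488865)) (.node (.leaf 1641989581891486304) (.leaf 561125658277970947))) (.node (.node (.leaf 523898255609957894) (.leaf 487798962898381396)) (.node (.leaf 1639662871124403251) (.leaf 453074391078571590)))) (.node (.node (.node (.leaf 561019765733736992) (.leaf 540960691949177927)) (.node (.leaf 489173694682530883) (.leaf 1675656277345986613))) (.node (.node (.leaf 524074398824590455) (.leaf 1623904666171483666)) (.node (.leaf 468903099928456790) (.leaf 1697054968475035154))))) (.node (.node (.node (.node (.leaf 560032679035945504) (.leaf 1693776568398128658)) (.node (.leaf 1693741184322668098) (.leaf 525167375245150277))) (.node (.node (.leaf 1679146466412341780) (.leaf 504685258977863218)) (.node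 (.leaf 468867980374859825) (.leaf 468762085142596164)))) (.node (.node (.node (.leaf 1697019865196719734) (.leaf 1658946385099138131)) (.node (.leaf 1657853399537584197) (.leaf 1585760694417278051))) (.node (.node (.leaf 507152968262879748) (.leaf 1713906163429195873)) (.node (.leaf 526260086331973713) (.leaf 1676749258738648610))))))) (.node (.node (.node (.node (.node (.node (.leaf 472040767222506096) (.leaf 433861392161097314)) (.node (.leaf 558939974939476544) (.leaf 454096863467423781))) (.node (.node (.leaf 453074386373330981) (.leaf 544344979730335749)) (.node (.leaf 1604762171152810528) (.leaf 1697266497916814435)))) (.node (.node (.node (.leaf 1585795796489473542) (.leaf 504861392782542949)) (.node (.leaf 1589003974001855559) (.leaf 508245683385691702))) (.node (.node (.leaf 1585584277940080134) (.leaf 543005373545357393)) (.node (.leaf 1679075962781713443) (.leaf 1622706059041308673))))) (.node (.node (.node (.node (.leaf 1711826084445047332) (.leaf 1675656281380400215))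 (.node (.leaf 469819680309423702) (.leaf 435059990953223730))) (.node (.node (.leaf 490055165464079990) (.leaf 452016795912005685)) (.node (.leaf 432768679189971520) (.leaf 543111274964248178)))) (.node (.node (.node (.leaf 1622706060791654932) (.leaf 433826265616097297)) (.node (.leaf 486882372161375239) (.leaf 1661167194313902692))) (.node (.node (.leaf 558798953833040903) (.leaf 1588052009680693365)) (.node (.leaf 1605854874578978821) (.leaf 526119065761359378)))))) (.node (.node (.node (.node (.node (.leaf 1675832689250853488) (.leaf 1715069369270158371)) (.node (.leaf 1679146468564027940) (.leaf 1622741176309786645))) (.node (.node (.leaf 525061477049590320) (.leaf 435024873014969379)) (.node (.leaf 1607088883668664928) (.leaf 1623975184594955383)))) (.node (.node (.node (.leaf 1676960781860373056) (.leaf 562359386981042756)) (.node (.leaf 450677181253715522) (.leaf 1623939792315664996))) (.node (.node (.leaf 1622706073298332791) (.leaf 1715280894007748693)) (.node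 (.leaf 1661167181134827014) (.leaf 541842147802351621))))) (.node (.node (.node (.node (.leaf 558939981394535024) (.leaf 1676960772984669698)) (.node (.leaf 1715280889301462582) (.leaf 523933381753088596))) (.node (.node (.leaf 1606066406708265568) (.leaf 452016800349335126)) (.node (.leaf 562218381069838964) (.leaf 562183254524315685)))) (.node (.node (.node (.leaf 1589074484757317733) (.leaf 472216882464695315)) (.node (.leaf 1694869285807891024) (.leaf 1658734864532538946))) (.node (.node (.leaf 454237876503986720) (.leaf 1640931975965705730)) (.node (.leaf 558834074056933409) (.leaf 522699651166766083))))))))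

def twoElt9 : Janko.Tree (ℕ) :=
  (.node (.node (.node (.node (.node (.node (.node (.leaf 1624997372554379776) (.leaf 1679146468830889506)) (.node (.leaf 1604762173304496688) (.leaf 434883864684167233))) (.node (.node (.leaf 524074396672904295) (.leaf 559856554918578245)) (.node (.leaf 1607088879230288963) (.leaf 504685261264028739)))) (.node (.node (.node (.leaf 541842154123455028) (.leaf 486741374856916087)) (.node (.leaf 504685262745415254) (.leaf 432803788522004497))) (.node (.node (.leaf 507188093192012867) (.leaf 1589074480051031622)) (.node (.leaf 1657853401821652562) (.leaf 541842148338171905))))) (.node (.node (.node (.node (.leaf 450783075547767344) (.leaf 1679111082872701504)) (.node (.leaf 1603563571824339540) (.leaf 508245683787031603))) (.node (.node (.leaf 1585795803213490740) (.leaf 1693706072706566756)) (.node (.leaf 561125659759880724) (.leaf 1603598679004686357)))) (.node (.node (.node (.leaf 1625173790512964208) (.leaf 1588016894162037364)) (.node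 (.leaf 489032681780448327) (.leaf 507188096691652709))) (.node (.node (.leaf 1694939793873749602) (.leaf 506024878743258179)) (.node (.leaf 1659968587182942804) (.leaf 469960686354582567)))))) (.node (.node (.node (.node (.node (.leaf 1605854888158872160) (.leaf 472040764668431463)) (.node (.leaf 561125661911566884) (.leaf 544168862604372564))) (.node (.node (.leaf 1607088870222727684) (.leaf 1676960774735013909)) (.node (.leaf 1711790977935000160) (.leaf 558975096645806197)))) (.node (.node (.node (.leaf 1641954190556188262) (.leaf 525061483638604899)) (.node (.leaf 454131986378826835) (.leaf 450677187575341169))) (.node (.node (.leaf 451875790536622177) (.leaf 1696138394416482884)) (.node (.leaf 558939974403656260) (.leaf 469960684604761618))))) (.node (.node (.node (.node (.leaf 1675867802751779424) (.leaf 454131975219056134)) (.node (.leaf 1622952701850058817) (.leaf 1695926877749816918))) (.node (.node (.leaf 1643188178264015392) (.leaf 542970262597985906)) (.node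 (.leaf 1586818285147037777) (.leaf 489138582663514724)))) (.node (.node (.node (.leaf 1713941278277028967) (.leaf 1658981505055122547)) (.node (.leaf 432803794441242693) (.leaf 560032680919723574))) (.node (.node (.leaf 1660003968837758486) (.leaf 469960688238356533)) (.node (.leaf 1589109593954871349) (.leaf 487975081096512515))))))) (.node (.node (.node (.node (.node (.node (.leaf 1694904671499217460) (.leaf 1661167185438199334)) (.node (.leaf 451840670714594882) (.leaf 1604762180971981943))) (.node (.node (.leaf 1678053494429106273) (.leaf 1603563567252008502)) (.node (.leaf 486741372838658656) (.leaf 504861384845051426)))) (.node (.node (.node (.leaf 469960681649342980) (.leaf 1622917579607909906)) (.node (.leaf 1660003979731191909) (.leaf 1585549175867884643))) (.node (.node (.leaf 1657853396982459958) (.leaf 1639768492693284917)) (.node (.leaf 1605819763094736422) (.leaf 434883856077422593))))) (.node (.node (.node (.node (.leaf 507152979155266647) (.leaf 562359385498608691))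 (.node (.leaf 1587840491265256052) (.leaf 451981686714452069))) (.node (.node (.leaf 1603563563217594900) (.leaf 523933375967805473)) (.node (.leaf 1657818284017354306) (.leaf 504826271344125490)))) (.node (.node (.node (.leaf 470983165332711988) (.leaf 469960693345461331)) (.node (.leaf 489138570021309958) (.leaf 1588016883269650469))) (.node (.node (.leaf 451981673938292230) (.leaf 450818184477412870)) (.node (.leaf 525061470192667655) (.leaf 542018278642689554)))))) (.node (.node (.node (.node (.node (.leaf 450783075011947060) (.leaf 487975093202896997)) (.node (.leaf 472181773133709888) (.leaf 1657641879372324913))) (.node (.node (.leaf 1712883675710628368) (.leaf 472181766946563602)) (.node (.leaf 523898259645418020) (.leaf 543111265955635249)))) (.node (.node (.node (.leaf 1604762177338910290) (.leaf 524074392101619781)) (.node (.leaf 450818193754457155) (.leaf 1589109602427660916))) (.node (.node (.leaf 490090269955868709) (.leaf 1603598683039099959)) (.node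 (.leaf 469784567344318050) (.leaf 1714117681978589281))))) (.node (.node (.node (.node (.leaf 1639733376906193460) (.leaf 1604762168732165650)) (.node (.leaf 1642024685846932503) (.leaf 544344986185394229))) (.node (.node (.leaf 1714117683861316723) (.leaf 523933379601402436)) (.node (.leaf 452933380863995478) (.leaf 540784565679598164)))) (.node (.node (.node (.leaf 540784557876586002) (.leaf 523898269189850211)) (.node (.leaf 472216891205920338) (.leaf 542970256008971331))) (.node (.node (.leaf 1604867803746984560) (.leaf 1694834161279575570)) (.node (.leaf 559891672856833622) (.leaf 1697266497649952869))))))))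

def twoElt10 : Janko.Tree (ℕ) :=
  (.node (.node (.node (.node (.node (.node (.node (.leaf 542018276223091200) (.leaf 1679146464527517186)) (.node (.leaf 450818199807124080) (.leaf 541983169579091011))) (.node (.node (.leaf 486917500857533024) (.leaf 1640720465621715013)) (.node (.leaf 436223488886367347) (.leaf 1622741176711128594)))) (.node (.node (.node (.leaf 1715069377207127654) (.leaf 1712919072696205888)) (.node (.leaf 1697019856992888885) (.leaf 1657853393618346001))) (.node (.node (.leaf 562218377435718739) (.leaf 1586747776141921862)) (.node (.leaf 559856557873996883) (.leaf 434883860648707107))))) (.node (.node (.node (.node (.leaf 1713906152804721168) (.leaf 452016798733469250)) (.node (.leaf 560984647259662357) (.leaf 1675621161825756722))) (.node (.node (.leaf 1621683588402012720) (.leaf 1585760687695358005)) (.node (.leaf 1604762179759555168) (.leaf 1712954186062651441)))) (.node (.node (.node (.leaf 1657853397787238960) (.leaf 1589003974806634561))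 (.node (.leaf 489173694280666694) (.leaf 471018277351728147))) (.node (.node (.leaf 540960688181625891) (.leaf 524074397208724579)) (.node (.leaf 434918982086601300) (.leaf 526083949974266899)))))) (.node (.node (.node (.node (.node (.leaf 1715280895756521062) (.leaf 489032688235506807)) (.node (.leaf 1589074483007496784) (.leaf 1712848565708295750))) (.node (.node (.leaf 558798960288099383) (.leaf 1603775086740660273)) (.node (.leaf 1640720469790608998) (.leaf 486776483919990342)))) (.node (.node (.node (.leaf 1606066405769530471) (.leaf 1679111078300370466)) (.node (.leaf 1604797290705355843) (.leaf 526119065091058711))) (.node (.node (.leaf 452016802768929376) (.leaf 1586782891660053575)) (.node (.leaf 436223486869161570) (.leaf 544344992640452709))))) (.node (.node (.node (.node (.leaf 1676960784012059216) (.leaf 1676995888370420228)) (.node (.leaf 507047078808020530) (.leaf 508104679358261876))) (.node (.node (.leaf 453039279997239904) (.leaf 560984656804095570))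 (.node (.leaf 524074389949933621) (.leaf 1714117673236842018)))) (.node (.node (.node (.leaf 1643223302523372128) (.leaf 522699666094089842)) (.node (.leaf 1658946389135648885) (.leaf 450818186763578391))) (.node (.node (.leaf 435024870193506836) (.leaf 1697054981788065905)) (.node (.leaf 1661096680193802273) (.leaf 1640755583961833553))))))) (.node (.node (.node (.node (.node (.node (.leaf 1658734862649811504) (.leaf 1641919062395323395)) (.node (.leaf 486741375392736371) (.leaf 526224966375989297))) (.node (.node (.leaf 1640967103858134119) (.leaf 1712919065301888023)) (.node (.leaf 433861389741498960) (.leaf 1605819772372303969)))) (.node (.node (.node (.leaf 1658946378108259367) (.leaf 1657818281464327223)) (.node (.leaf 525202484710616087) (.leaf 436223478127936547))) (.node (.node (.leaf 1586782885204995095) (.leaf 1693776570953252897)) (.node (.leaf 490055163044481636) (.leaf 469819685014659185))))) (.node (.node (.node (.node (.leaf 1711826080141675012) (.leaf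 1623904663483977222)) (.node (.leaf 436117578458867733) (.leaf 451840674214234724))) (.node (.node (.leaf 524039272547500576) (.leaf 507152970816430097)) (.node (.leaf 1693706068804535363) (.leaf 543146377706743314)))) (.node (.node (.node (.leaf 471124178234794544) (.leaf 1585584284798576693)) (.node (.leaf 505918977056460326) (.leaf 1697019855377023009))) (.node (.node (.leaf 1641989568445549060) (.leaf 507047078138244151)) (.node (.leaf 487834068194429959) (.leaf 1715245767729612290)))))) (.node (.node (.node (.node (.node (.leaf 1624962263356826160) (.leaf 1695891754026280466)) (.node (.leaf 562183261917587026) (.leaf 544344982149934103))) (.node (.node (.leaf 490231280840745488) (.leaf 468867981856246340)) (.node (.leaf 1641989579739800144) (.leaf 1586747768205475841)))) (.node (.node (.node (.leaf 1640931986053835863) (.leaf 506024882242898021)) (.node (.leaf 1606066404153664595) (.leaf 505918979743966770))) (.node (.node (.leaf 1712954192517709921) (.leaf 454131977370742294))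 (.node (.leaf 469925579844535395) (.leaf 559997563517288481))))) (.node (.node (.node (.node (.leaf 507188086602998288) (.leaf 1658769979918289476)) (.node (.leaf 471159286762571781) (.leaf 541877279186544242))) (.node (.node (.leaf 1679075966549265479) (.leaf 471159300610377314)) (.node (.leaf 1643011785589844596) (.leaf 525167373093464117)))) (.node (.node (.node (.leaf 433967282017823799) (.leaf 486741372302838372)) (.node (.leaf 472075878169357399) (.leaf 1642976670338049139))) (.node (.node (.leaf 526119069260999220) (.leaf 1675867797778107463)) (.node (.leaf 1713941280831629940) (.leaf 432662776155742225))))))))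

def twoElt11 : Janko.Tree (ℕ) :=
  (.node (.node (.node (.node (.node (.node (.node (.leaf 1622741174828401152) (.leaf 507188088888640547)) (.node (.leaf 1675867795760900660) (.leaf 1624997376722748451))) (.node (.node (.leaf 544309873086860870) (.leaf 1675621163576101959)) (.node (.leaf 1589074485024179299) (.leaf 559997565401066551)))) (.node (.node (.node (.leaf 487975084998017568) (.leaf 1639733379324741186)) (.node (.leaf 469925581728309361) (.leaf 1622917579206567957))) (.node (.node (.leaf 1694869283252765763) (.leaf 1622952705884472419)) (.node (.leaf 1697054975064048707) (.leaf 490196169759417906))))) (.node (.node (.node (.node (.leaf 1623939779941368320) (.leaf 1607123996900632146)) (.node (.leaf 454237878521192497) (.leaf 450642071252429428))) (.node (.node (.leaf 1639662866955510288) (.leaf 504826279817437297)) (.node (.leaf 1639662875562254928) (.leaf 522734768435244055)))) (.node (.node (.node (.leaf 1586782886144254480) (.leaf 433826274222841937))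 (.node (.leaf 486917496420731975) (.leaf 540960695850158692))) (.node (.node (.leaf 1621754100638861413) (.leaf 1586818273718308358)) (.node (.leaf 1693741177735227413) (.leaf 1676784369953408003)))))) (.node (.node (.node (.node (.node (.leaf 522875782550800932) (.leaf 1623904667922352165)) (.node (.leaf 1696103284949970550) (.leaf 490196171375283782))) (.node (.node (.leaf 451981676089978390) (.leaf 1676995894690998325)) (.node (.leaf 1607018376680754790) (.leaf 1693776570148473895)))) (.node (.node (.node (.leaf 1603810207909072486) (.leaf 1679075958344386050)) (.node (.leaf 526260084180287553) (.leaf 1694904665445498881))) (.node (.node (.leaf 1694904673650903620) (.leaf 1622952701179760198)) (.node (.leaf 489032688905283186) (.leaf 526083947957061122))))) (.node (.node (.node (.node (.leaf 1603775094408146550) (.leaf 1712883673023121924)) (.node (.leaf 540819686439315058) (.leaf 1607018374798027348))) (.node (.node (.leaf 1678018369767885348) (.leaf 525167369593824275))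 (.node (.leaf 451875781929877537) (.leaf 450642069235222629)))) (.node (.node (.node (.leaf 1715245778488043090) (.leaf 1715034260072604755)) (.node (.leaf 1585760691729771607) (.leaf 489138577012188722))) (.node (.node (.leaf 525026359245292064) (.leaf 559856551151026209)) (.node (.leaf 505918988216754289) (.leaf 1678053487839045170))))))) (.node (.node (.node (.node (.node (.node (.leaf 559891666669683232) (.leaf 1715034253483591202)) (.node (.leaf 1693811692926444112) (.leaf 1623975170337931265))) (.node (.node (.leaf 559891670973055552) (.leaf 1693811681363234310)) (.node (.leaf 540819685903494774) (.leaf 1712848569877187687)))) (.node (.node (.node (.leaf 1586747774391575603) (.leaf 1715280891587103815)) (.node (.leaf 1678053480983169029) (.leaf 1658734868434569317))) (.node (.node (.leaf 436117576307181573) (.leaf 506024882778718305)) (.node (.leaf 1639662868302417446) (.leaf 1587805375879505522))))) (.node (.node (.node (.node (.leaf 540925569707027990) (.leaf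 542970246732450308)) (.node (.leaf 436258591360950289) (.leaf 433861387053992516))) (.node (.node (.leaf 1679146479858279024) (.leaf 540925578716160081)) (.node (.leaf 1693741188760519779) (.leaf 1676749256452482067)))) (.node (.node (.node (.leaf 468867988847125104) (.leaf 504720383103787121)) (.node (.leaf 468762081777435683) (.leaf 1694904669748871201))) (.node (.node (.leaf 540819675279543335) (.leaf 561125668500581463)) (.node (.leaf 486917494670386738) (.leaf 454237872468526594)))))) (.node (.node (.node (.node (.node (.leaf 434883858363064848) (.leaf 1625173781235395639)) (.node (.leaf 1585760690248385088) (.leaf 560984649947168801))) (.node (.node (.leaf 1693741175984882176) (.leaf 468726969624463429)) (.node (.leaf 1679075972870368886) (.leaf 1658946376761352209)))) (.node (.node (.node (.leaf 432627668975395408) (.leaf 1712954181088980502)) (.node (.leaf 453074391480435779) (.leaf 1624010298498796132))) (.node (.node (.leaf 1605854887220137063) (.leaf 1603775081766988308))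 (.node (.leaf 1640931982286283827) (.leaf 490055165865419891))))) (.node (.node (.node (.node (.leaf 1660039083143463424) (.leaf 1623939787609377863)) (.node (.leaf 1589109587096899078) (.leaf 1695926869544936467))) (.node (.node (.leaf 523898266234431573) (.leaf 436117592307197554)) (.node (.leaf 540784555055646725) (.leaf 1712919069605260343)))) (.node (.node (.node (.leaf 559997567150885444) (.leaf 433861389205678676)) (.node (.leaf 469819671702679062) (.leaf 489138580377872469))) (.node (.node (.leaf 486917498705846864) (.leaf 1659968589467534435)) (.node (.leaf 562359380927324177) (.leaf 453074397265717876))))))))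

def twoElt12 : Janko.Tree (ℕ) :=
  (.node (.node (.node (.node (.node (.node (.node (.leaf 1657641872782787072) (.leaf 472075871848779302)) (.node (.leaf 522875792095757411) (.leaf 1605819761478870546))) (.node (.node (.leaf 1660003975427819589) (.leaf 562324271193950277)) (.node (.leaf 433967282553644083) (.leaf 1622952699028074038)))) (.node (.node (.node (.leaf 1642976666169680464) (.leaf 1586853404834063475)) (.node (.leaf 1713941269939243045) (.leaf 1604867799040173139))) (.node (.node (.leaf 472216888651841601) (.leaf 507011962619588150)) (.node (.leaf 469960690925862977) (.leaf 1622917590366340706))))) (.node (.node (.node (.node (.leaf 1588051995288666624) (.leaf 1643011781151468631)) (.node (.leaf 1639733381879865425) (.leaf 1713906165445879410))) (.node (.node (.leaf 1603810202258793008) (.leaf 1622952697010866213)) (.node (.leaf 1676960787510652534) (.leaf 1693776566649880577)))) (.node (.node (.node (.leaf 1621683581946954240) (.leaf 1661132076910421075))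 (.node (.leaf 508104677072095333) (.leaf 560984645911708675))) (.node (.node (.leaf 524039270663726610) (.leaf 1621754093914844215)) (.node (.leaf 1622952699698372657) (.leaf 454272987986658307)))))) (.node (.node (.node (.node (.node (.leaf 1587840485346017856) (.leaf 542970260044431457)) (.node (.leaf 433967284303462976) (.leaf 505918987680934005))) (.node (.node (.leaf 541983173480596064) (.leaf 1604797286670942241)) (.node (.leaf 1643188186199936103) (.leaf 468867987097830499)))) (.node (.node (.node (.leaf 1715069373708534336) (.leaf 560984645509844486)) (.node (.leaf 1603563572091201106) (.leaf 472040752026222593))) (.node (.node (.leaf 472040760231627332) (.leaf 1657818288188344421)) (.node (.leaf 1623904668323169826) (.leaf 559856546981611010))))) (.node (.node (.node (.node (.leaf 469784569228092016) (.leaf 506024876591572019)) (.node (.leaf 558798964992812626) (.leaf 1679146472598441542))) (.node (.node (.leaf 490196173794878032) (.leaf 524039281422157410))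 (.node (.leaf 559856561239681652) (.leaf 1675621159808549923)))) (.node (.node (.node (.leaf 1679075968700951639) (.leaf 487939975934419025)) (.node (.leaf 559997558812052998) (.leaf 488997564110106166))) (.node (.node (.leaf 1712848570816447072) (.leaf 472075878839658066)) (.node (.leaf 540819684154196065) (.leaf 1657641883406738515))))))) (.node (.node (.node (.node (.node (.node (.leaf 1697019866001498736) (.leaf 542018278106869270)) (.node (.leaf 1622741189085425270) (.leaf 543111259500576769))) (.node (.node (.leaf 1643223297951041090) (.leaf 454096874225854581)) (.node (.leaf 454096874896155248) (.leaf 1697231377960830019)))) (.node (.node (.node (.leaf 1622917583240981559) (.leaf 522875786988652613)) (.node (.leaf 453074382337870855) (.leaf 1694834171771144804))) (.node (.node (.leaf 1621683581142175238) (.leaf 454272998745089107)) (.node (.leaf 1712883673155503107) (.leaf 559891662768178179))))) (.node (.node (.node (.node (.leaf 1621718974093339156) (.leaf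 1607053486012263479)) (.node (.leaf 434002402241716305) (.leaf 1677947861699929618))) (.node (.node (.leaf 451840667759176244) (.leaf 525026361263022129)) (.node (.leaf 487798968139441267) (.leaf 1641919077324221044)))) (.node (.node (.node (.leaf 526083954144207408) (.leaf 472075869562612759)) (.node (.leaf 432768683225435750) (.leaf 507152981574860897))) (.node (.node (.leaf 486741366785991731) (.leaf 522840665014414870)) (.node (.leaf 1641954177781073925) (.leaf 1675656273042614293)))))) (.node (.node (.node (.node (.node (.leaf 1659933463459406352) (.leaf 1697266493212625476)) (.node (.leaf 1694834167734634050) (.leaf 1589039091672198742))) (.node (.node (.leaf 507047087146852976) (.leaf 486776488089929829)) (.node (.leaf 471124180386480704) (.leaf 1622741178728334371)))) (.node (.node (.node (.leaf 541983175364374134) (.leaf 1679181590536694871)) (.node (.leaf 1678053490125733953) (.leaf 1661096688397633122))) (.node (.node (.leaf 1625173785940633170) (.leaf 452933379248129602))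 (.node (.leaf 472181777570514019) (.leaf 454272990272824850))))) (.node (.node (.node (.node (.leaf 435059984230253056) (.leaf 1588052003090632262)) (.node (.leaf 1587805362299612183) (.leaf 1660039088659786807))) (.node (.node (.leaf 1607088881115113557) (.leaf 1586782888026981922)) (.node (.leaf 1711755575975750679) (.leaf 1715280894274610259)))) (.node (.node (.node (.leaf 1642976663482174020) (.leaf 1679075964933399603)) (.node (.leaf 523898260181238304) (.leaf 1714117679291082837))) (.node (.node (.leaf 471159293351586356) (.leaf 544203972605658658)) (.node (.leaf 524074394789126225) (.leaf 450677174933136403))))))))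

def twoElt13 : Janko.Tree (ℕ) :=
  (.node (.node (.node (.node (.node (.node (.node (.leaf 541877263856828928) (.leaf 1585584291119155812)) (.node (.leaf 1675832680509629491) (.leaf 1640967099823720517))) (.node (.node (.leaf 435024876514609221) (.leaf 1623939790163978836)) (.node (.leaf 1661061574763800693) (.leaf 490231291063356004)))) (.node (.node (.node (.leaf 1677947874074226294) (.leaf 432662784226666581)) (.node (.leaf 1643223294050582561) (.leaf 450677178432776245))) (.node (.node (.leaf 1659968591753176690) (.leaf 472181766276262935)) (.node (.leaf 541983175900194418) (.leaf 544168856417226278))))) (.node (.node (.node (.node (.leaf 1640755586248000096) (.leaf 1640755574684790294)) (.node (.leaf 542970253053552693) (.leaf 1643188184853028945))) (.node (.node (.leaf 522840678594831475) (.leaf 1657853395770032161)) (.node (.leaf 1640755581541188675) (.leaf 506024869868601345)))) (.node (.node (.node (.leaf 1640967094038962704) (.leaf 1641954189075325009))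 (.node (.leaf 471018288110158947) (.leaf 1715034249180218882))) (.node (.node (.leaf 486882378616433719) (.leaf 1658769973194272278)) (.node (.leaf 1693706066385987637) (.leaf 562359393436101236)))))) (.node (.node (.node (.node (.node (.leaf 434883866969809488) (.leaf 1586853395960457269)) (.node (.leaf 505883868394726994) (.leaf 451840670178774598))) (.node (.node (.leaf 1624962260669319716) (.leaf 1658734870720735860)) (.node (.leaf 1678018374607077952) (.leaf 1639768492960146483)))) (.node (.node (.node (.leaf 1641954186788636226) (.leaf 1715034248913357316)) (.node (.leaf 1639733381075086423) (.leaf 1711826087267033137))) (.node (.node (.leaf 1661132074491873349) (.leaf 522875780801506327)) (.node (.leaf 542970259642567268) (.leaf 526083960867178082))))) (.node (.node (.node (.node (.leaf 1697231375408327220) (.leaf 522840675772845670)) (.node (.leaf 468762085678416448) (.leaf 1675656285683772535))) (.node (.node (.leaf 525167382102077046) (.leaf 1679146470982575666))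 (.node (.leaf 450642067216969302) (.leaf 488997570163296357)))) (.node (.node (.node (.leaf 562218370311408164) (.leaf 1695926876133951042)) (.node (.leaf 526224959653022727) (.leaf 1697231381863385700))) (.node (.node (.leaf 490196166803999268) (.leaf 472216890535619671)) (.node (.leaf 471159298324735059) (.leaf 487834068730250243))))))) (.node (.node (.node (.node (.node (.node (.leaf 469925572451789364) (.leaf 508245687554583639)) (.node (.leaf 434918973479856660) (.leaf 1607088877347561521))) (.node (.node (.leaf 1607053488699769923) (.leaf 1676960779305247795)) (.node (.leaf 1676960779172866612) (.leaf 432662780727026739)))) (.node (.node (.node (.leaf 487834081238499936) (.leaf 1587840488979613797)) (.node (.leaf 452933369971608583) (.leaf 1657818282269106225))) (.node (.node (.leaf 1640967093099703319) (.leaf 1604832681235874883)) (.node (.leaf 562183257479734323) (.leaf 1697019852956378131))))) (.node (.node (.node (.node (.leaf 1657641877086159392) (.leaf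 1713941267652554262)) (.node (.leaf 561160775278536725) (.leaf 1641989572479962662))) (.node (.node (.leaf 451981680661258800) (.leaf 1679075969505730641)) (.node (.leaf 450818193218636871) (.leaf 1606031293073383537)))) (.node (.node (.node (.leaf 488997560074641936) (.leaf 488997561556551717)) (.node (.leaf 432627670993652839) (.leaf 526119073965711441))) (.node (.node (.leaf 504826277531271776) (.leaf 522734781881181299)) (.node (.leaf 558834069351173638) (.leaf 1661132066420948993)))))) (.node (.node (.node (.node (.node (.leaf 507047072085049856) (.leaf 469819677889825348)) (.node (.leaf 1711720473769075827) (.leaf 1695926882724012145))) (.node (.node (.leaf 1587840482658511412) (.leaf 1712954194268056180)) (.node (.leaf 561125669170357842) (.leaf 1639733377173055026)))) (.node (.node (.node (.leaf 1696103272308812308) (.leaf 1679181594840067191)) (.node (.leaf 1641954193243694706) (.leaf 489173692128980534))) (.node (.node (.leaf 1589003976153541719) (.leaf 1585795812221576307))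 (.node (.leaf 1694834162760961063) (.leaf 1676784372239574546))))) (.node (.node (.node (.node (.leaf 1712919070544519728) (.leaf 1697054979100559461)) (.node (.leaf 434918971194214405) (.leaf 1585549167261140003))) (.node (.node (.leaf 544203973953612340) (.leaf 508245689572837988)) (.node (.leaf 486776477331499029) (.leaf 487834079220768849)))) (.node (.node (.node (.leaf 526224967991855173) (.leaf 451981688866138229)) (.node (.leaf 486741363696093732) (.leaf 1678018375820029015))) (.node (.node (.leaf 471018281521144368) (.leaf 562183251159156226)) (.node (.leaf 544203974354952241) (.leaf 504685251853551621))))))))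

def twoElt14 : Janko.Tree (ℕ) :=
  (.node (.node (.node (.node (.node (.node (.node (.leaf 487834072631755296) (.leaf 506059992110229042)) (.node (.leaf 450783083753171061) (.leaf 504720374229134391))) (.node (.node (.leaf 1661132080946931829) (.leaf 543005373143493204)) (.node (.leaf 1624997380356345414) (.leaf 1712883677593355810)))) (.node (.node (.node (.leaf 525061474362083876) (.leaf 1657641883139876949)) (.node (.leaf 522699652648152598) (.leaf 1675656286488551537))) (.node (.node (.leaf 505918984181294163) (.leaf 1640931975564363781)) (.node (.leaf 1657818286303519827) (.leaf 453039267221079043))))) (.node (.node (.node (.node (.leaf 1675656283397607014) (.leaf 1604797284117916180)) (.node (.leaf 489032677744984097) (.leaf 1713906161142507090))) (.node (.node (.leaf 541877272329620551) (.leaf 1715245774587584561)) (.node (.leaf 1621718983101424723) (.leaf 1604832677201461281)))) (.node (.node (.node (.leaf 559997570106304082) (.leaf 1715069375591261778)) (.node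 (.leaf 1658734857407179799) (.leaf 560984658821825635))) (.node (.node (.leaf 522734774487910980) (.leaf 1697054976679914583)) (.node (.leaf 1639697984894287905) (.leaf 1694904669078572582)))))) (.node (.node (.node (.node (.node (.leaf 1659933471797192274) (.leaf 508104679759601777)) (.node (.leaf 489138571905083924) (.leaf 1661096679389023271))) (.node (.node (.leaf 508210574456046176) (.leaf 1623904665770666005)) (.node (.leaf 1607018372913202754) (.leaf 1641954192842877045)))) (.node (.node (.node (.leaf 1589003980992734323) (.leaf 525167367040273926)) (.node (.leaf 489173689709382180) (.leaf 1640755575355088913))) (.node (.node (.leaf 472181772463409221) (.leaf 1675832673787709445)) (.node (.leaf 1643011777249961522) (.leaf 541983164605943334))))) (.node (.node (.node (.node (.leaf 472040758615761456) (.leaf 1676960777021180452)) (.node (.leaf 468903098179158081) (.leaf 1713941271955926582))) (.node (.node (.leaf 1622917586331927104) (.leaf 451840676365920884))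 (.node (.leaf 1640720472211253876) (.leaf 450818185013233154)))) (.node (.node (.node (.leaf 1679111088656936055) (.leaf 1625208899844472897)) (.node (.leaf 508210565446913063) (.leaf 1621718971807173639))) (.node (.node (.leaf 1693706071090700880) (.leaf 490231293348473975)) (.node (.leaf 1642024692837811267) (.leaf 1715280883516179459))))))) (.node (.node (.node (.node (.node (.node (.leaf 1603563576663532144) (.leaf 526260090367437943)) (.node (.leaf 1589039087637785140) (.leaf 1714117671220158481))) (.node (.node (.leaf 1589003978841048163) (.leaf 1712848563422129207)) (.node (.leaf 487975091453076048) (.leaf 1657641887443249269)))) (.node (.node (.node (.leaf 522734779059195494) (.leaf 1659933475966608499)) (.node (.leaf 450677172111150598) (.leaf 541983171462864977))) (.node (.node (.leaf 472216879509276677) (.leaf 526083956161413185)) (.node (.leaf 1694834171903525987) (.leaf 469925569086104595))))) (.node (.node (.node (.node (.leaf 508104677742396000) (.leaf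 1676749266809572966)) (.node (.leaf 454131981807542321) (.leaf 487798965184022629))) (.node (.node (.leaf 454237887262417520) (.leaf 1679111089461715057)) (.node (.leaf 1603775090508212309) (.leaf 1715034264375977075)))) (.node (.node (.node (.leaf 1676784378963591744) (.leaf 1623939794064436343)) (.node (.leaf 434883868853587558) (.leaf 1661132070724321313))) (.node (.node (.leaf 469784566808497766) (.leaf 561160779849821239)) (.node (.leaf 1607123988160981013) (.leaf 1624962258918450195)))))) (.node (.node (.node (.node (.node (.leaf 1661096675756474880) (.leaf 1658981498333202501)) (.node (.leaf 450642067752789586) (.leaf 1658734856060272641))) (.node (.node (.leaf 540819677564658224) (.leaf 1639768496593219158)) (.node (.leaf 1694939791991022160) (.leaf 468903102615963234)))) (.node (.node (.node (.leaf 544309870667262516) (.leaf 507152983324682868)) (.node (.leaf 451875788652848211) (.leaf 543146379858429474))) (.node (.node (.leaf 454131979254516260) (.leaf 507188098843338869))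 (.node (.leaf 1604797284250297363) (.leaf 487939971363138615))))) (.node (.node (.node (.node (.leaf 558939968484418064) (.leaf 1623939792448570467)) (.node (.leaf 1659968576021597191) (.leaf 504685264763668581))) (.node (.node (.leaf 1712883685664280166) (.leaf 1585549169278346802)) (.node (.leaf 486917490233581585) (.leaf 561160780519597618)))) (.node (.node (.node (.leaf 489138578494098503) (.leaf 1607088874391096359)) (.node (.leaf 1621683596203978358) (.leaf 1606066393529189890))) (.node (.node (.leaf 1715245776605315648) (.leaf 1696103269888167430)) (.node (.leaf 432803796458449492) (.leaf 1585549171833471041))))))))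

def twoElt15 : Janko.Tree (ℕ) :=
  (.node (.node (.node (.node (.node (.node (.node (.leaf 1624962271963570800) (.leaf 1661167194580764258)) (.node (.leaf 504720376246341190) (.leaf 504720372478789154))) (.node (.node (.leaf 562359378642210310) (.leaf 1607018372646341188)) (.node (.leaf 434918979800959045) (.leaf 1603775080016643075)))) (.node (.node (.node (.leaf 1679111086505249895) (.leaf 1624997378338614327)) (.node (.leaf 560984656134319191) (.leaf 1713941272626749489))) (.node (.node (.leaf 540819679984256578) (.leaf 1640720457014970373)) (.node (.leaf 432768681476137041) (.leaf 471124179716704325))))) (.node (.node (.node (.node (.leaf 559891666133862948) (.leaf 1640931982153902644)) (.node (.leaf 1658734861710552119) (.leaf 1623939788548112960))) (.node (.node (.leaf 1715034259805743189) (.leaf 522840674023546961)) (.node (.leaf 486917496956552259) (.leaf 1676784376141604917)))) (.node (.node (.node (.leaf 559856557338176599) (.leaf 541983165141763618)) (.node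 (.leaf 508104664161978373) (.leaf 504826268791098407))) (.node (.node (.leaf 1603598685325265476) (.leaf 1605854885604271187)) (.node (.leaf 1711826095203478132) (.leaf 1604867790567908882)))))) (.node (.node (.node (.node (.node (.leaf 1696103280512642135) (.leaf 1621718976379504677)) (.node (.leaf 454096864137724448) (.leaf 434002404661314659))) (.node (.node (.leaf 471124184421944934) (.leaf 1588016881653784593)) (.node (.leaf 507188099513115248) (.leaf 1606066404020759124)))) (.node (.node (.node (.leaf 1588016887304064071) (.leaf 540819675815363619)) (.node (.leaf 1621718986868976759) (.leaf 507011956298481665))) (.node (.node (.leaf 1661132078795245669) (.leaf 450783068959280135)) (.node (.leaf 1607123992061439542) (.leaf 1715280898177165940))))) (.node (.node (.node (.node (.leaf 507011958584123920) (.leaf 525026367450172519)) (.node (.leaf 1677947863851615778) (.leaf 1693811692121665110))) (.node (.node (.leaf 1712848568395802194) (.leaf 540960698940056691))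 (.node (.leaf 488997559404865557) (.leaf 1657606769905812579)))) (.node (.node (.node (.leaf 523933375431985189) (.leaf 1697231375675188786)) (.node (.leaf 436082467913360435) (.leaf 1585549162421947399))) (.node (.node (.leaf 1622917591982206582) (.leaf 434002406813000819)) (.node (.leaf 561160782269415489) (.leaf 562324277649008757))))))) (.node (.node (.node (.node (.node (.node (.leaf 522699656683612724) (.leaf 562218372596526135)) (.node (.leaf 1660039089598521904) (.leaf 451981687250272353))) (.node (.node (.leaf 1625173783253126726) (.leaf 506059984851438084)) (.node (.leaf 522875793577143926) (.leaf 1697266488774249511)))) (.node (.node (.node (.leaf 1676784374124399140) (.leaf 507047076522378275)) (.node (.leaf 558975088172494390) (.leaf 1640967097672034357))) (.node (.node (.leaf 1694869274110200839) (.leaf 1623939790296884307)) (.node (.leaf 472181768427949095) (.leaf 526119076385309795))))) (.node (.node (.node (.node (.leaf 1586853393943251492) (.leaf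 560984649545304612)) (.node (.leaf 1696103274057583655) (.leaf 1715245772166939683))) (.node (.node (.leaf 540960689930920496) (.leaf 561019771920887382)) (.node (.leaf 522840673487726677) (.leaf 1621648476516952660)))) (.node (.node (.node (.leaf 526083958447579728) (.leaf 543005369241985073)) (.node (.leaf 470983171921726567) (.leaf 1657641875068952593))) (.node (.node (.leaf 1587805364854213156) (.leaf 1714152788755498019)) (.node (.leaf 523933373548211223) (.leaf 1696103276879046194)))))) (.node (.node (.node (.node (.node (.leaf 1714152787006726672) (.leaf 1585795805230697543)) (.node (.leaf 450783079717710935) (.leaf 542970247134314497))) (.node (.node (.leaf 434002393501016592) (.leaf 1586818282190572615)) (.node (.leaf 1621754102387109494) (.leaf 1693811685666606630)))) (.node (.node (.node (.leaf 544168858836820528) (.leaf 472040762651225686)) (.node (.leaf 486776484455810626) (.leaf 1712919063820502530))) (.node (.node (.leaf 1607053494619008119) (.leaf 1585584293405321333))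 (.node (.leaf 486776490910869106) (.leaf 1640720470460907617))))) (.node (.node (.node (.node (.leaf 1639733373138641424) (.leaf 541842150221949975)) (.node (.leaf 1622741173889141767) (.leaf 1588016883670468130))) (.node (.node (.leaf 490231282992431648) (.leaf 1621718978127752758)) (.node (.leaf 489173696566304849) (.leaf 452898258890276897)))) (.node (.node (.node (.leaf 1607088878963427397) (.leaf 1642976659043798055)) (.node (.leaf 433861380598934036) (.leaf 1678053483535672850))) (.node (.node (.leaf 1641989577319155266) (.leaf 1711755578663257123)) (.node (.leaf 1657853401554790996) (.leaf 450642059146044946))))))))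

def twoElt16 : Janko.Tree (ℕ) :=
  (.node (.node (.node (.node (.node (.node (.node (.leaf 541983166489717300) (.leaf 433861383018532390)) (.node (.leaf 1697054974797187141) (.leaf 543005367492167202))) (.node (.node (.leaf 1640755572802062852) (.leaf 1713906158455000646)) (.node (.leaf 1659968584897300549) (.leaf 1661167190010530372)))) (.node (.node (.node (.leaf 1696138400468626551) (.leaf 471018276949863958)) (.node (.leaf 542970261928209527) (.leaf 469925566666506241))) (.node (.node (.leaf 434002400090030145) (.leaf 562324262855117831)) (.node (.leaf 1658981498734544450) (.leaf 1696103278629914693))))) (.node (.node (.node (.node (.leaf 1605819774657946224) (.leaf 525061479201276480)) (.node (.leaf 1713941273973656647) (.leaf 1696103272441717779))) (.node (.node (.leaf 487939975398598741) (.leaf 1587805366871943221)) (.node (.leaf 1711826089418719297) (.leaf 1587805367272760882)))) (.node (.node (.node (.leaf 1676784369821026820) (.leaf 508210566117213730))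 (.node (.leaf 1586853389236440071) (.leaf 1657853405992642677))) (.node (.node (.leaf 561019769367332933) (.leaf 452898263461561411)) (.node (.leaf 1640755583291534934) (.leaf 1643223304139238004)))))) (.node (.node (.node (.node (.node (.leaf 504861379737946628) (.leaf 1658734860363644961)) (.node (.leaf 1604762181911241328) (.leaf 1589109594221732915))) (.node (.node (.leaf 1589074476016618020) (.leaf 1697019852689516565)) (.node (.leaf 1660039087446835744) (.leaf 544309877122320996)))) (.node (.node (.node (.leaf 1585584287351603776) (.leaf 522699663541062759)) (.node (.leaf 486917491849447461) (.leaf 434918973881720849))) (.node (.node (.leaf 525202482558929927) (.leaf 561125664331165238)) (.node (.leaf 436258588673443845) (.leaf 454273002379209332))))) (.node (.node (.node (.node (.leaf 1661061566558921264) (.leaf 558798966608678502)) (.node (.leaf 452898267095157348) (.leaf 506059999913241204))) (.node (.node (.leaf 522699661522805328) (.leaf 1711790969193776163))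 (.node (.leaf 489138572306948113) (.leaf 541842152775501346)))) (.node (.node (.node (.leaf 1607123999455232097) (.leaf 469784568692271732)) (.node (.leaf 436223479743802423) (.leaf 1643223291094117399))) (.node (.node (.leaf 507011969342554720) (.leaf 451840672330460758)) (.node (.leaf 1604797292857042003) (.leaf 559891664116131861))))))) (.node (.node (.node (.node (.node (.node (.leaf 1605819766051201584) (.leaf 540784563930303559)) (.node (.leaf 525167375914926656) (.leaf 523898270805716087))) (.node (.node (.leaf 1657641881120572994) (.leaf 522875794112964210)) (.node (.leaf 1676995890522106388) (.leaf 1712848557637371394)))) (.node (.node (.node (.leaf 525061483236740710) (.leaf 544168854801360402)) (.node (.leaf 451875779510283287) (.leaf 1694869279218352161))) (.node (.node (.leaf 1588051994349931527) (.leaf 1713906159125823553)) (.node (.leaf 472040756061686823) (.leaf 1676749260755854387))))) (.node (.node (.node (.node (.leaf 542970258026701392) (.leaf 1621718981084217920))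 (.node (.leaf 561125672536041589) (.leaf 1603563565234801703))) (.node (.node (.leaf 433861381134754320) (.leaf 1715069379627772532)) (.node (.leaf 1643188173424822788) (.leaf 1640931989010301025)))) (.node (.node (.node (.leaf 1604832683522041426) (.leaf 1586818274388606977)) (.node (.leaf 436258604003159159) (.leaf 1695926878420639825))) (.node (.node (.leaf 436082473967079014) (.leaf 1604797286000643622)) (.node (.leaf 1642024683964205061) (.leaf 1660003973811953713)))))) (.node (.node (.node (.node (.node (.leaf 543146375287144960) (.leaf 1658946386983962725)) (.node (.leaf 1606031277609716228) (.leaf 1639733375424806945))) (.node (.node (.leaf 1624010292579557936) (.leaf 432627666422368325)) (.node (.leaf 434002392965196308) (.leaf 1604867788281742339)))) (.node (.node (.node (.leaf 1661061564407235104) (.leaf 1585549177618229876)) (.node (.leaf 524074392637440065) (.leaf 1639733370852475907))) (.node (.node (.leaf 451875781394057253) (.leaf 1694939791051762775))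 (.node (.leaf 433826276642440291) (.leaf 1678018377971715175))))) (.node (.node (.node (.node (.leaf 506059985387258368) (.leaf 1715069364699924485)) (.node (.leaf 1585795803480352306) (.leaf 450783071512307218))) (.node (.node (.leaf 1677982985423466070) (.leaf 1639733372333862422)) (.node (.leaf 505883859118204949) (.leaf 1679111084219608662)))) (.node (.node (.node (.leaf 508210573785745509) (.leaf 1640720461183864358)) (.node (.leaf 486882376598176288) (.leaf 525202483228706306))) (.node (.node (.leaf 471124182806079058) (.leaf 1697266499532680311)) (.node (.leaf 1693741186877792337) (.leaf 522699653183972882))))))))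

def twoElt17 : Janko.Tree (ℕ) :=
  (.node (.node (.node (.node (.node (.node (.node (.leaf 1622706065630847536) (.leaf 434002395384794662)) (.node (.leaf 469960690390042693) (.leaf 561019761698276866))) (.node (.node (.leaf 524074383762787335) (.leaf 1676784380310498902)) (.node (.leaf 472040766552205429) (.leaf 435059994452863572)))) (.node (.node (.node (.leaf 561160777430222885) (.leaf 1625208892719639060)) (.node (.leaf 489032686351728737) (.leaf 1697019851073650689))) (.node (.node (.leaf 525026368119948898) (.leaf 450642056593017863)) (.node (.leaf 1585795806035476545) (.leaf 432768675288990755))))) (.node (.node (.node (.node (.leaf 452933374676845088) (.leaf 1622952703867266642)) (.node (.leaf 542970257356925013) (.leaf 1586747782865939060))) (.node (.node (.leaf 1675656270756448772) (.leaf 1659968581129748513)) (.node (.leaf 1586853402816857698) (.leaf 1623975176122166838)))) (.node (.node (.node (.leaf 526083949572926998) (.leaf 526224960323323394)) (.node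 (.leaf 1715034255099457078) (.leaf 432803793093289011))) (.node (.node (.leaf 454272996057582663) (.leaf 1677947868289990721)) (.node (.leaf 1607053481977849877) (.leaf 472040765338732130)))))) (.node (.node (.node (.node (.node (.leaf 1657818277026475542) (.leaf 486917502875790455)) (.node (.leaf 526224965974649396) (.leaf 1586782898384070773))) (.node (.node (.leaf 526224968662155840) (.leaf 1623904670609858609)) (.node (.leaf 435059996872461926) (.leaf 1588016885822154290)))) (.node (.node (.node (.leaf 1694939789570377282) (.leaf 560984658419961446)) (.node (.leaf 1711826093722091617) (.leaf 542018291150941303))) (.node (.node (.leaf 490090266054888966) (.leaf 454096861583649815)) (.node (.leaf 1589109589248585238) (.leaf 1675621155238316037))))) (.node (.node (.node (.node (.leaf 544203968034374144) (.leaf 507152977673356866)) (.node (.leaf 1711720462876165666) (.leaf 524039278466738772))) (.node (.node (.leaf 487939979835928182) (.leaf 1607018368074010150)) (.node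 (.leaf 486882383187714129) (.leaf 1712954190097065043)))) (.node (.node (.node (.leaf 1697266495095352918) (.leaf 1658946389536990834)) (.node (.leaf 544309864212204036) (.leaf 469925566130685957))) (.node (.node (.leaf 540784568367104608) (.leaf 1640720466023056962)) (.node (.leaf 1639697988794222146) (.leaf 450677178968596529))))))) (.node (.node (.node (.node (.node (.node (.leaf 1715245770150257168) (.leaf 1711755584851454037)) (.node (.leaf 1678018376758764112) (.leaf 471124177565018165))) (.node (.node (.leaf 1693811690640278595) (.leaf 1676995890654487571)) (.node (.leaf 560032687910602338) (.leaf 525026355075875843)))) (.node (.node (.node (.leaf 525202495469046887) (.leaf 1658946373939367430)) (.node (.leaf 1607053479826163717) (.leaf 1675832685081960529))) (.node (.node (.leaf 504826276995451492) (.leaf 1587840491398161523)) (.node (.leaf 469784558201753126) (.leaf 454237886592116853))))) (.node (.node (.node (.node (.leaf 436223488485027446) (.leaf 1711826091166967378))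 (.node (.leaf 1641989575033513011) (.leaf 454096872074168421))) (.node (.node (.leaf 469925577558894162) (.leaf 525202493585268817)) (.node (.leaf 453039266819214854) (.leaf 472181770847543345)))) (.node (.node (.node (.leaf 1640720467504442455) (.leaf 508069549045186561)) (.node (.leaf 1586818278156159013) (.leaf 1676749263176499265))) (.node (.node (.leaf 436223486198860903) (.leaf 1640967095385869862)) (.node (.leaf 1679111073864091653) (.leaf 1660039097669446260)))))) (.node (.node (.node (.node (.node (.leaf 1624010286124499456) (.leaf 1586747782998320243)) (.node (.leaf 453039268970901014) (.leaf 1693811688221730869))) (.node (.node (.leaf 558798956118155792) (.leaf 1657606765335578693)) (.node (.leaf 486741364231914016) (.leaf 470983163314981927)))) (.node (.node (.node (.leaf 505883872430187120) (.leaf 506024869332781061)) (.node (.leaf 470983163984758306) (.leaf 468762079625749523))) (.node (.node (.leaf 1679181593493160033) (.leaf 504720374764954675)) (.node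 (.leaf 540784567831284324) (.leaf 1657606765602440259))))) (.node (.node (.node (.node (.leaf 468903089437934080) (.leaf 487975080560692231)) (.node (.leaf 1621683587597233718) (.leaf 507011968672778341))) (.node (.node (.leaf 523933377583671349) (.leaf 1606031279894307859)) (.node (.leaf 468726968008597553) (.leaf 1605854890176602225)))) (.node (.node (.node (.leaf 436082476520105075) (.leaf 1604762170213551143)) (.node (.leaf 1621754103191888496) (.leaf 1658734855389974022))) (.node (.node (.leaf 1589074487175865459) (.leaf 559997562981468197)) (.node (.leaf 1693706075528552561) (.leaf 1675656271023310338))))))))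

def twoElt18 : Janko.Tree (ℕ) :=
  (.node (.node (.node (.node (.node (.node (.node (.leaf 1657606759281861136) (.leaf 436258593244728359)) (.node (.leaf 1713906165045061749) (.leaf 525202491031718468))) (.node (.node (.leaf 486917487679507974) (.leaf 561019775956347508)) (.node (.leaf 507011966789004375) (.leaf 1660039093366073940)))) (.node (.node (.node (.leaf 1642024697410142305) (.leaf 490055159544841794)) (.node (.leaf 489173698851947104) (.leaf 559891664651952145))) (.node (.node (.leaf 1712848561806263331) (.leaf 434002398072301106)) (.node (.leaf 560032681455543858) (.leaf 1712848572432312948))))) (.node (.node (.node (.node (.leaf 1677982987575152230) (.leaf 435059999426012275)) (.node (.leaf 1623904674377410645) (.leaf 1622917592652505201))) (.node (.node (.leaf 526119063073852934) (.leaf 507011971360284785)) (.node (.leaf 468903094143697955) (.leaf 1589003966199889921)))) (.node (.node (.node (.leaf 1604832674648435220) (.leaf 562183258962168388)) (.node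 (.leaf 1641919064011189271) (.leaf 543146383625981510))) (.node (.node (.leaf 1639768494844971077) (.leaf 1641989583774213746)) (.node (.leaf 1643223291898896401) (.leaf 1625173777467843603)))))) (.node (.node (.node (.node (.node (.leaf 432768672199092756) (.leaf 540925580867846241)) (.node (.leaf 1603598685592127042) (.leaf 1622917587947792980))) (.node (.node (.leaf 454096870860695122) (.leaf 541877268026248231)) (.node (.leaf 540960694234292816) (.leaf 468867973383981061)))) (.node (.node (.node (.leaf 562324274283849298) (.leaf 544344995060051063)) (.node (.leaf 1585549173045898838) (.leaf 1624962267525194835))) (.node (.node (.leaf 1603598676718520836) (.leaf 1696103283067243108)) (.node (.leaf 434002390813510148) (.leaf 1661167196465588852))))) (.node (.node (.node (.node (.leaf 1661096677908161040) (.leaf 469925575139295808)) (.node (.leaf 453039279327463525) (.leaf 1586853396361799218))) (.node (.node (.leaf 1606031279761402388) (.leaf 1678018365597418499))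 (.node (.leaf 508069550661052437) (.leaf 1679181582465770515)))) (.node (.node (.node (.leaf 543146381072427061) (.leaf 1585760692534550609)) (.node (.leaf 1660003966686072326) (.leaf 1697019850268871687))) (.node (.node (.leaf 558834078225826368) (.leaf 436258595932234803)) (.node (.leaf 1676995897378504769) (.leaf 1622741189755723889))))))) (.node (.node (.node (.node (.node (.node (.leaf 522840669585695280) (.leaf 486776485938243669)) (.node (.leaf 453039278113465938) (.leaf 436082461190389761))) (.node (.node (.leaf 525167382503941235) (.leaf 525061476379813941)) (.node (.leaf 1675867794010555427) (.leaf 542018282276284469)))) (.node (.node (.node (.leaf 1693776572434639412) (.leaf 543111259098712580)) (.node (.leaf 486776475313245702) (.leaf 1659933467628822577))) (.node (.node (.leaf 1585760685676054050) (.leaf 1589109595837598791)) (.node (.leaf 523933374084031507) (.leaf 562324263525418498))))) (.node (.node (.node (.node (.leaf 1675656284202386016) (.leaf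 540925576697906754)) (.node (.leaf 1675832681991016006) (.leaf 1603810195534775810))) (.node (.node (.leaf 469784564790766679) (.leaf 540784562046525489)) (.node (.leaf 490196169089117239) (.leaf 1694834173519391863)))) (.node (.node (.node (.leaf 1642976656758156822) (.leaf 1621754094719623217)) (.node (.leaf 508069561955303521) (.leaf 1715034258189877313))) (.node (.node (.leaf 433967288338927206) (.leaf 1675832674054571011)) (.node (.leaf 471159289182170135) (.leaf 504685252389371905)))))) (.node (.node (.node (.node (.node (.leaf 541983167025537584) (.leaf 522840662997208071)) (.node (.leaf 1678018367616199188) (.leaf 506059995877781078))) (.node (.node (.leaf 468762077071671808) (.leaf 1624962264837688391)) (.node (.leaf 1621683597008757360) (.leaf 1695891764650755171)))) (.node (.node (.node (.leaf 1589074478168304180) (.leaf 1661132067767856151)) (.node (.leaf 1695891764517849700) (.leaf 1639662864669344771))) (.node (.node (.leaf 1643223299566906966) (.leaf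 1711790977130221158)) (.node (.leaf 454131975620396035) (.leaf 487798959532696627))))) (.node (.node (.node (.node (.leaf 504685267316695664) (.leaf 508069555366817334)) (.node (.leaf 471018274396309509) (.leaf 561160774064539138))) (.node (.node (.leaf 1607124001606918257) (.leaf 1623939785457691703)) (.node (.leaf 432803801565554290) (.leaf 562324266890577957)))) (.node (.node (.node (.leaf 1696138385406823431) (.leaf 1640967091483837443)) (.node (.leaf 540960689395100212) (.leaf 1679181584617456675))) (.node (.node (.leaf 1587840484407282759) (.leaf 1642976668455321697)) (.node (.leaf 487834077336994883) (.leaf 1693706060466749441))))))))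

def twoElt19 : Janko.Tree (ℕ) :=
  (.node (.node (.node (.node (.node (.node (.node (.leaf 541842154659275312) (.leaf 558939966735123459)) (.node (.leaf 1643188184048249943) (.leaf 524074394253305941))) (.node (.node (.leaf 1604867788149361156) (.leaf 1621754098352695892)) (.node (.leaf 1640755576701996071) (.leaf 1588052007929824866)))) (.node (.node (.node (.leaf 559997560695826964) (.leaf 1643188188887442547)) (.node (.leaf 507047082575572566) (.leaf 472040756731987490))) (.node (.node (.leaf 490196175276263525) (.leaf 1604762166179137541)) (.node (.leaf 526260091037738610) (.leaf 1697231371238909973))))) (.node (.node (.node (.node (.leaf 1714152796826422375) (.leaf 1622741184916531285)) (.node (.leaf 1697019860893347414) (.leaf 1657853406259504243))) (.node (.node (.leaf 560984651830946871) (.leaf 544203980810010721)) (.node (.leaf 1693811694676789349) (.leaf 1661132068572635153)))) (.node (.node (.node (.leaf 562183252507109908) (.leaf 540819681466689621)) (.node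 (.leaf 1589039080913767942) (.leaf 1714152795077651028))) (.node (.node (.leaf 543005375161223269) (.leaf 451981685366498387)) (.node (.leaf 1678053483134855189) (.leaf 1661061560237817857)))))) (.node (.node (.node (.node (.node (.leaf 1603598681557713440) (.leaf 454237880940790851)) (.node (.leaf 1639768495111832643) (.leaf 507047084459346532))) (.node (.node (.leaf 1714152797765157472) (.leaf 1715034264109115509)) (.node (.leaf 433861393776963190) (.leaf 1623904669939035702)))) (.node (.node (.node (.leaf 1711790979952206963) (.leaf 1712919067722532901)) (.node (.leaf 472040757945460789) (.leaf 1605854883586541122))) (.node (.node (.leaf 524074385914473495) (.leaf 471124176351020578)) (.node (.leaf 1661096674951695878) (.leaf 1624997385329493091))))) (.node (.node (.node (.node (.leaf 505918973020996096) (.leaf 1697019859277481538)) (.node (.leaf 1711755574225405442) (.leaf 1621718976646366243))) (.node (.node (.leaf 1607018368878789152) (.leaf 507188091040326707))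 (.node (.leaf 470983165734576177) (.leaf 1658769986640209522)))) (.node (.node (.node (.leaf 1624010301052346481) (.leaf 1658981500886230610)) (.node (.leaf 435024868041820676) (.leaf 1641989580952751207))) (.node (.node (.leaf 468726972445402706) (.leaf 1658769986238867573)) (.node (.leaf 1640720472343635059) (.leaf 490055150938097154))))))) (.node (.node (.node (.node (.node (.node (.leaf 1587805363238347280) (.leaf 505883867858906710)) (.node (.leaf 452898265077427287) (.leaf 1586747770357162001))) (.node (.node (.leaf 1693811694943650915) (.leaf 558834084145064564)) (.node (.leaf 450818197254096997) (.leaf 1624997387750137969)))) (.node (.node (.node (.leaf 558975094627552870) (.leaf 1639697984089508903)) (.node (.leaf 452016791876545559) (.leaf 544168863005712465))) (.node (.node (.leaf 1621648470328755746) (.leaf 434002401705896021)) (.node (.leaf 486776481768304182) (.leaf 1694939783115318802))))) (.node (.node (.node (.node (.leaf 450677176146610724) (.leaf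 524074399360410739)) (.node (.leaf 1604762174785882181) (.leaf 452898257140459026))) (.node (.node (.leaf 472040754044481046) (.leaf 522734781345361015)) (.node (.leaf 525167369191960086) (.leaf 1585795811954714741)))) (.node (.node (.node (.leaf 1697054970895680032) (.leaf 1658769973864570897)) (.node (.leaf 468867986562010215) (.leaf 1587805373593863267))) (.node (.node (.leaf 561125666750759488) (.leaf 1604762166580479490)) (.node (.leaf 561160773394762759) (.leaf 1585549163226726401)))))) (.node (.node (.node (.node (.node (.leaf 1657818277831254544) (.leaf 526224961804708887)) (.node (.leaf 1641919067101610528) (.leaf 454237875833686053))) (.node (.node (.leaf 522875789541679696) (.leaf 470983167484398148)) (.node (.leaf 540819677028837940) (.leaf 1625173787825457764)))) (.node (.node (.node (.leaf 562218368695542288) (.leaf 433826265080277013)) (.node (.leaf 432768678654151236) (.leaf 558798954368861187))) (.node (.node (.leaf 453074388525017141) (.leaf 524039272011680292))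 (.node (.leaf 1676995888502801411) (.leaf 1715245782658508917))))) (.node (.node (.node (.node (.leaf 1585549169011485236) (.leaf 470983161163295767)) (.node (.leaf 1639662866150731286) (.leaf 522875779051161090))) (.node (.node (.leaf 558834073521113125) (.leaf 432662787047605858)) (.node (.leaf 432662788797951095) (.leaf 472075874133893169)))) (.node (.node (.node (.leaf 1624997371749600774) (.leaf 525026357361518098)) (.node (.leaf 436258600102175312) (.leaf 522699654666405925))) (.node (.node (.leaf 434883866300033109) (.leaf 1675832686428867687)) (.node (.leaf 450783080253531219) (.leaf 1603598679271547923))))))))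

def twoElt20 : Janko.Tree (ℕ) :=
  (.node (.node (.node (.node (.node (.node (.node (.leaf 450642063181505072) (.leaf 451840662107850242)) (.node (.leaf 522734766149078534) (.leaf 1679181588385008711))) (.node (.node (.leaf 506024873904065575) (.leaf 1711790972826848838)) (.node (.leaf 1694904671631598643) (.leaf 432627664939935282)))) (.node (.node (.node (.leaf 1675832688446074486) (.leaf 562183265282746485)) (.node (.leaf 1694869280834218037) (.leaf 472181769098249762))) (.node (.node (.leaf 1693706062214997522) (.leaf 1621754089880430613)) (.node (.leaf 508245688224884306) (.leaf 504826270808305206))))) (.node (.node (.node (.node (.leaf 522840669049874996) (.leaf 544344990488766549)) (.node (.leaf 1623904679216603249) (.leaf 522840663533028355))) (.node (.node (.leaf 454237874084392470) (.leaf 1658981496717336625)) (.node (.leaf 451981676625798674) (.leaf 1588052010081511026)))) (.node (.node (.node (.leaf 525167371611554336) (.leaf 1711720466778197063)) (.node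 (.leaf 541877276231125604) (.leaf 489173696164440660))) (.node (.node (.leaf 488997573118714995) (.leaf 1659933473548060773)) (.node (.leaf 1607053486817042481) (.leaf 540784555591467009)))))) (.node (.node (.node (.node (.node (.leaf 490090279232914016) (.leaf 471018285958472787)) (.node (.leaf 489138585484977267) (.leaf 472216893357606498))) (.node (.node (.leaf 1676995903968043632) (.leaf 487939971898958899)) (.node (.leaf 468762089848360039) (.leaf 1589074472383021057)))) (.node (.node (.node (.leaf 1676784378024332359) (.leaf 490055163445821537)) (.node (.leaf 1694904680507302001) (.leaf 1640931991027508850))) (.node (.node (.leaf 1679181580047222789) (.leaf 1693776565845101575)) (.node (.leaf 1624962262552047158) (.leaf 1696138398585899109))))) (.node (.node (.node (.node (.leaf 1589109587901678080) (.leaf 1661132074758734915)) (.node (.leaf 544168856818566179) (.leaf 1658734859693346342))) (.node (.node (.leaf 451840676901741168) (.leaf 1660039095650665571))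 (.node (.leaf 1658769975211478055) (.leaf 543005365206524947)))) (.node (.node (.node (.leaf 526260079341094949) (.leaf 1586782892599312960)) (.node (.leaf 1661132072071228471) (.leaf 487798956577277989))) (.node (.node (.leaf 468867984410324055) (.leaf 469819684478838901)) (.node (.leaf 1621754096066530375) (.leaf 525167370941777957))))))) (.node (.node (.node (.node (.node (.node (.leaf 434918971863990784) (.leaf 1661061568174787140)) (.node (.leaf 450642058610224662) (.leaf 508210563563134993))) (.node (.node (.leaf 558939973190181939) (.leaf 507188085933221909)) (.node (.leaf 1676960775136355858) (.leaf 522840667032668197)))) (.node (.node (.node (.leaf 1639768490942939680) (.leaf 1693706066652849203)) (.node (.leaf 1607123986009294853) (.leaf 562218381471178865))) (.node (.node (.leaf 1639697980187477506) (.leaf 1661096686113040469)) (.node (.leaf 1621648478668638820) (.leaf 1604832676531162662))))) (.node (.node (.node (.node (.leaf 1713941279215764064) (.leaf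 436223473155312132)) (.node (.leaf 1639662879464286325) (.leaf 1585760694150416485))) (.node (.node (.leaf 436082462940736020) (.leaf 561019767617515062)) (.node (.leaf 488997570833072736) (.leaf 559997559347873282)))) (.node (.node (.node (.leaf 1623939783708920356) (.leaf 486882385339400289)) (.node (.leaf 489138579163874882) (.leaf 434918978453005363))) (.node (.node (.leaf 454096868709008962) (.leaf 1589039089520512582)) (.node (.leaf 1694904677954275940) (.leaf 1675656282185179217)))))) (.node (.node (.node (.node (.node (.leaf 432768672734913040) (.leaf 1676960772583327749)) (.node (.leaf 451840674750055008) (.leaf 1604867802807725175))) (.node (.node (.leaf 487834083122278006) (.leaf 1625173788092319330)) (.node (.leaf 432803799548347491) (.leaf 507152975521670706)))) (.node (.node (.node (.leaf 1694869275049460224) (.leaf 433967277982359569)) (.node (.leaf 541842156543053382) (.leaf 526260085930633812))) (.node (.node (.leaf 1678053496580792433) (.leaf 1586818283129832000))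 (.node (.leaf 487939977416329828) (.leaf 562359379043550211))))) (.node (.node (.node (.node (.leaf 542970253723329072) (.leaf 1658769984221661796)) (.node (.leaf 468762076535851524) (.leaf 522699664076883043))) (.node (.node (.leaf 452016794296139809) (.leaf 1588052001340810291)) (.node (.leaf 434918978051141174) (.leaf 504720379068326995)))) (.node (.node (.node (.leaf 432662773333756420) (.leaf 1622917589964998757)) (.node (.leaf 1679075973675147888) (.leaf 1603563574646325345))) (.node (.node (.leaf 1659933471396374613) (.leaf 1659933469511550019)) (.node (.leaf 1603810204275999811) (.leaf 1676784376542946866))))))))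

def twoElt21 : Janko.Tree (ℕ) :=
  (.node (.node (.node (.node (.node (.node (.node (.leaf 1642976657562935824) (.leaf 487975089033481798)) (.node (.leaf 561019761028500487) (.leaf 451875785965341767))) (.node (.node (.leaf 433826270187381811) (.leaf 540960693698472532)) (.node (.leaf 1622917581492734500) (.leaf 432768676770377270)))) (.node (.node (.node (.leaf 1676995900877098087) (.leaf 1605854883185723461)) (.node (.leaf 472216895106900081) (.leaf 490196163304359426))) (.node (.node (.leaf 507011961003722274) (.leaf 540960685494119447)) (.node (.leaf 436117585584226880) (.leaf 1605854881569857585))))) (.node (.node (.node (.node (.leaf 1675867801947000422) (.leaf 432662780191206455)) (.node (.leaf 1607053493272100961) (.leaf 1675867791858869267))) (.node (.node (.leaf 544168851845941764) (.leaf 543146385911619665)) (.node (.leaf 558939972654361655) (.leaf 1697054977484693585)))) (.node (.node (.node (.leaf 1678018381062136432) (.leaf 486741368401857607)) (.node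 (.leaf 1625208895138186786) (.leaf 507047076120514086))) (.node (.node (.leaf 1658769970908105735) (.leaf 540925570242848274)) (.node (.leaf 507152972700208167) (.leaf 1641989573150785569)))))) (.node (.node (.node (.node (.node (.leaf 1712954183509625380) (.leaf 1641919071002068035)) (.node (.leaf 1621754100905722979) (.leaf 1640967098073376306))) (.node (.node (.leaf 526260080011395616) (.leaf 508104673171115590)) (.node (.leaf 1711790973631627840) (.leaf 505883857502339073)))) (.node (.node (.node (.leaf 526083957777279061) (.leaf 558939979109420135)) (.node (.leaf 452933374007068709) (.leaf 504685256424836135))) (.node (.node (.leaf 451875777358597127) (.leaf 1622706058371010054)) (.node (.leaf 434883857693288469) (.leaf 1660039095517760100))))) (.node (.node (.node (.node (.leaf 1715280890106241584) (.leaf 1661132079062107235)) (.node (.leaf 434883860246842918) (.leaf 1697019854572244007))) (.node (.node (.leaf 1679146470715714100) (.leaf 435059988131761191))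 (.node (.leaf 508069563571169397) (.leaf 1643011770928858115)))) (.node (.node (.node (.leaf 489173690111246369) (.leaf 522875781337326611)) (.node (.leaf 1588016880982961686) (.leaf 1715245781042643041))) (.node (.node (.leaf 1677982990531617392) (.leaf 1697266491461755955)) (.node (.leaf 486882382651893845) (.leaf 1714152799647884914))))))) (.node (.node (.node (.node (.node (.node (.leaf 1659968576960332288) (.leaf 1621648474230787143)) (.node (.leaf 558939970636104224) (.leaf 1585584282779272738))) (.node (.node (.leaf 1639733385647417461) (.leaf 469960696711146100)) (.node (.leaf 1603775085935881271) (.leaf 487798957113098273)))) (.node (.node (.node (.leaf 507152977003580487) (.leaf 1715245780237864039)) (.node (.leaf 523933371396525063) (.leaf 1696138396970033233))) (.node (.node (.leaf 1603775083649715750) (.leaf 1642024694587633238)) (.node (.leaf 433826267499875367) (.leaf 1643188173691684354))))) (.node (.node (.node (.node (.leaf 1643223301718593126) (.leaf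 1586853391522606614)) (.node (.leaf 522875789005859412) (.leaf 507152973369984546))) (.node (.node (.leaf 489138574592590368) (.leaf 544309864613543937)) (.node (.leaf 558939976957733975) (.leaf 450783069495100419)))) (.node (.node (.node (.leaf 488997572716850806) (.leaf 540960698404236407)) (.node (.leaf 488997566663656515) (.leaf 1659968591352359029))) (.node (.node (.leaf 1696138401407361648) (.leaf 1588052005242318422)) (.node (.leaf 1621718985118631522) (.leaf 1624997374437107218)))))) (.node (.node (.node (.node (.node (.leaf 1658981490396758528) (.leaf 454096859431963655)) (.node (.leaf 486741370686972496) (.leaf 526119069662339121))) (.node (.node (.leaf 1605854876864621076) (.leaf 490090273045767730)) (.node (.leaf 1585760687962219571) (.leaf 470983167886262337)))) (.node (.node (.node (.leaf 472216880179577344) (.leaf 436223484315082833)) (.node (.leaf 1695891760214477380) (.leaf 1639697988527360580))) (.node (.node (.leaf 490231282322130981) (.leaf 1658769982336837202))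 (.node (.leaf 522840676308665954) (.leaf 559856550615205925))))) (.node (.node (.node (.node (.leaf 436223475842818576) (.leaf 436258593915029026)) (.node (.leaf 1693741175180103174) (.leaf 561125671322044002))) (.node (.node (.leaf 542018286445701716) (.leaf 435059997274326115)) (.node (.leaf 471018280851367989) (.leaf 1622706063210202658)))) (.node (.node (.node (.leaf 1658981491609185303) (.leaf 435024872613105190)) (.node (.leaf 451981680125438516) (.leaf 1715034261688470631))) (.node (.node (.leaf 1622706064691588151) (.leaf 523933384708507234)) (.node (.leaf 522875787524472897) (.leaf 1603563563484456466))))))))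

def twoElt22 : Janko.Tree (ℕ) :=
  (.node (.node (.node (.node (.node (.node (.node (.leaf 559997561231647248) (.leaf 490090274661633606)) (.node (.leaf 543005366822390823) (.leaf 540925580332025957))) (.node (.node (.leaf 541877276766945888) (.leaf 524039276315052612)) (.node (.leaf 1604797281966230020) (.leaf 471124174065378323)))) (.node (.node (.node (.leaf 1603810208713851488) (.leaf 525061478531500101)) (.node (.leaf 1711755578396395557) (.leaf 433967283767642692))) (.node (.node (.leaf 1587805373460957796) (.leaf 1604832672362268677)) (.node (.leaf 436258597816008769) (.leaf 1712883683781552724))))) (.node (.node (.node (.node (.leaf 450818189048693280) (.leaf 451981677973752356)) (.node (.leaf 1606066408859951728) (.leaf 450818187299398675))) (.node (.node (.leaf 1712848559253237270) (.leaf 1639662870857541685)) (.node (.leaf 544344988604992583) (.leaf 1694939782713976853)))) (.node (.node (.node (.leaf 453039273006361140) (.leaf 505918985529247845)) (.node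 (.leaf 1589039085752960546) (.leaf 472216884616381475))) (.node (.node (.leaf 1713906151865986071) (.leaf 544203976373210694)) (.node (.leaf 1660003981882878069) (.leaf 1696103276478228533)))))) (.node (.node (.node (.node (.node (.leaf 544309879541919350) (.leaf 560984654250541121)) (.node (.leaf 486882379152254003) (.leaf 1640755579122640949))) (.node (.node (.leaf 1604797294607388262) (.leaf 471018283003054149)) (.node (.leaf 486882381169460802) (.leaf 1623975176792989745)))) (.node (.node (.node (.leaf 1604832683120699477) (.leaf 507011965173138499)) (.node (.leaf 562359383079010337) (.leaf 541842150757770259))) (.node (.node (.leaf 452016789724859399) (.leaf 1589003965395110919)) (.node (.leaf 1659933462520671255) (.leaf 1660003971660267553))))) (.node (.node (.node (.node (.leaf 561160775948313104) (.leaf 432662789333771379)) (.node (.leaf 1624962269276064356) (.leaf 1605819759193228291))) (.node (.node (.leaf 1623939786396426800) (.leaf 432662777905040934))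 (.node (.leaf 1586818280574706739) (.leaf 489173686209742338)))) (.node (.node (.node (.leaf 1715245769345478166) (.leaf 526260088886052450)) (.node (.leaf 1677947872727319136) (.leaf 1676960786029264993))) (.node (.node (.leaf 452933376292710964) (.leaf 436117583030152247)) (.node (.leaf 1711790975381973077) (.leaf 1643011781956247633))))))) (.node (.node (.node (.node (.node (.node (.leaf 1696138386345558528) (.leaf 1694869287289276517)) (.node (.leaf 451840665607490084) (.leaf 1621754092164498978))) (.node (.node (.leaf 1675656279094234694) (.leaf 1697054972778407474)) (.node (.leaf 1657641880853711428) (.leaf 1659968587315848275)))) (.node (.node (.node (.leaf 1660003977579505749) (.leaf 1676960785358966374)) (.node (.leaf 489173685539965959) (.leaf 1711720465431289905))) (.node (.node (.leaf 522875791559937127) (.leaf 436082471547480660)) (.node (.leaf 486917494134566454) (.leaf 472075870232913426))))) (.node (.node (.node (.node (.leaf 450818188512872996) (.leaf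 508104666448144916)) (.node (.leaf 1603810206026345044) (.leaf 1585549175601023077))) (.node (.node (.leaf 1623975185533690480) (.leaf 1712954181759279121)) (.node (.leaf 436117587735913040) (.leaf 489173698182170725)))) (.node (.node (.node (.leaf 1607018366191282708) (.leaf 454272993637984309)) (.node (.leaf 1697266495900131920) (.leaf 1624010293926465094))) (.node (.node (.leaf 561160778099999264) (.leaf 435059992301177412)) (.node (.leaf 433967280401957923) (.leaf 541983163124032531)))))) (.node (.node (.node (.node (.node (.leaf 1585795797294252544) (.leaf 543111263669997094)) (.node (.leaf 524039283038023286) (.leaf 1623904664154800129))) (.node (.node (.leaf 454131981406202420) (.leaf 1643223289211389957)) (.node (.leaf 504826279281617013) (.leaf 540925583152965234)))) (.node (.node (.node (.leaf 1659968583415390768) (.leaf 558975083735689237)) (.node (.leaf 1658734866549744723) (.leaf 1676995896708206150))) (.node (.node (.leaf 525202487130210337) (.leaf 508069558054323778))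 (.node (.leaf 1676960777153561635) (.leaf 450642061164298273))))) (.node (.node (.node (.node (.leaf 1621718978932531760) (.leaf 454096860102264322)) (.node (.leaf 1603810201454014006) (.leaf 1714117683728411252))) (.node (.node (.leaf 1624997382776990292) (.leaf 1660039086508100647)) (.node (.leaf 436223473556652033) (.leaf 560032675134440451)))) (.node (.node (.node (.leaf 508245676528240645) (.leaf 1622706071415605349)) (.node (.leaf 451840668294996528) (.leaf 1694904673783284803))) (.node (.node (.leaf 1585760685409192484) (.leaf 1715245773782805559)) (.node (.leaf 1643223304406099570) (.leaf 522734768971064339))))))))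

def twoElt23 : Janko.Tree (ℕ) :=
  (.node (.node (.node (.node (.node (.node (.node (.leaf 1587840476739273216) (.leaf 454131983825800774)) (.node (.leaf 488997564511970355) (.leaf 1711826086462254135))) (.node (.node (.leaf 432662786511785574) (.leaf 436258604673459826)) (.node (.leaf 1711755573958543876) (.leaf 469784553764423685)))) (.node (.node (.node (.leaf 469819678425645632) (.leaf 1642976670071187573)) (.node (.leaf 1640967096056168481) (.leaf 451875790000801893))) (.node (.node (.leaf 540784560028272162) (.leaf 1711790964623542277)) (.node (.leaf 544344995730351730) (.leaf 1697266491194894389))))) (.node (.node (.node (.node (.leaf 1624997381161124416) (.leaf 1586782893811739735)) (.node (.leaf 1696103283200148579) (.leaf 561160786840700003))) (.node (.node (.leaf 490196164652313108) (.leaf 1693741180422733857)) (.node (.leaf 1693811690373417029) (.leaf 507188090638462518)))) (.node (.node (.node (.leaf 1694939785535963680) (.leaf 1661096681540709431)) (.node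 (.leaf 1607018364306458114) (.leaf 453074385159333394))) (.node (.node (.leaf 543005362251106309) (.leaf 505918981493787719)) (.node (.leaf 435024875166655539) (.leaf 1640755579523982898)))))) (.node (.node (.node (.node (.node (.leaf 1693776568131267092) (.leaf 1624997383043851858)) (.node (.leaf 1711790979685345397) (.leaf 562359393837441137))) (.node (.node (.leaf 1675832682795795008) (.leaf 1658734866417363540)) (.node (.leaf 468762090384180323) (.leaf 1661061562389504017)))) (.node (.node (.node (.leaf 504720367371684356) (.leaf 504826273495811650)) (.node (.leaf 1605819773719211127) (.leaf 561019774608393826))) (.node (.node (.leaf 454272987585318406) (.leaf 1625173774780337159)) (.node (.leaf 472075867143014405) (.leaf 504720370193670161))))) (.node (.node (.node (.node (.leaf 1642024686785667600) (.leaf 1625208901460338773)) (.node (.leaf 558834076342052402) (.leaf 452933372659115027))) (.node (.node (.leaf 469960697246966384) (.leaf 540960686029939731)) (.node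 (.leaf 1715069372903755334) (.leaf 1714152784586081794)))) (.node (.node (.node (.leaf 1676960783072799831) (.leaf 1676995895092340274)) (.node (.leaf 452898258488412708) (.leaf 450818190799038517))) (.node (.node (.leaf 1711755580949422640) (.leaf 469960684068941334)) (.node (.leaf 1586818284476739158) (.leaf 490055154839076897))))))) (.node (.node (.node (.node (.node (.node (.leaf 504826266772840976) (.leaf 544168854131059735)) (.node (.leaf 1607018378832440950) (.leaf 1639768486370608642))) (.node (.node (.leaf 526119071278204997) (.leaf 1661167187589885494)) (.node (.leaf 432662781940501060) (.leaf 1587805369559449665)))) (.node (.node (.node (.leaf 435024878666295381) (.leaf 1661061568441648706)) (.node (.leaf 1693776578889697892) (.leaf 1697231369623044097))) (.node (.node (.leaf 541842163132066935) (.leaf 1658946384966756948)) (.node (.leaf 1621718984851769956) (.leaf 1625208903612024933))))) (.node (.node (.node (.node (.leaf 1713941274912391744) (.leaf 1641919075708355168))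 (.node (.leaf 1639697991349346385) (.leaf 1694904678086657123))) (.node (.node (.leaf 543111265553771060) (.leaf 490090268340002833)) (.node (.leaf 543005377714777718) (.leaf 489032685949864548)))) (.node (.node (.node (.leaf 1606031282448908832) (.leaf 470983159279517697)) (.node (.leaf 1624010300381523574) (.leaf 508210572036451926))) (.node (.node (.leaf 1642024696739319398) (.leaf 1660039091214387780)) (.node (.leaf 486776482304124466) (.leaf 1606031290921697377)))))) (.node (.node (.node (.node (.node (.leaf 450642071788249712) (.leaf 470983161833072146)) (.node (.leaf 471018290127889008) (.leaf 1713941268323377169))) (.node (.node (.leaf 454272994308284976) (.leaf 562218366275948038)) (.node (.leaf 1643011779268741189) (.leaf 561019772322751571)))) (.node (.node (.node (.leaf 505918975172682256) (.leaf 451875784081563697)) (.node (.leaf 508104673572455491) (.leaf 1696138396299210326))) (.node (.node (.leaf 1622952707500338295) (.leaf 543005378116641907)) (.node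 (.leaf 559997569570483798) (.leaf 1622706067648053313))))) (.node (.node (.node (.node (.leaf 560984647929438736) (.leaf 1661061559433038855)) (.node (.leaf 490231280170444821) (.leaf 1604762168330823701))) (.node (.node (.leaf 508245678679926805) (.leaf 1623939781690139667)) (.node (.leaf 1586853392192905233) (.leaf 1622917577590702081)))) (.node (.node (.node (.leaf 1586782883053308935) (.leaf 544309869184828451)) (.node (.leaf 487975096158315635) (.leaf 558975095163373154))) (.node (.node (.leaf 1621648470061894180) (.leaf 1585549177885091442)) (.node (.leaf 453074393632121939) (.leaf 1697231371505771539))))))))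

def twoElt24 : Janko.Tree (ℕ) :=
  (.node (.node (.node (.node (.node (.node (.node (.leaf 1697266485141701120) (.leaf 471159297922870870)) (.node (.leaf 489138576342412343) (.leaf 1607053490584594517))) (.node (.node (.leaf 1622741178595953188) (.leaf 1586818278557500962)) (.node (.leaf 433826269651561527) (.leaf 1697231368818265095)))) (.node (.node (.node (.leaf 1697266493479487042) (.leaf 1677947869636897879)) (.node (.leaf 1712954189964683860) (.leaf 1640755588130727538))) (.node (.node (.leaf 433967279866137639) (.leaf 454272989602524183)) (.node (.leaf 1660039093498979411) (.leaf 432627662922728483))))) (.node (.node (.node (.node (.leaf 434918980470735424) (.leaf 506059987003124244)) (.node (.leaf 561125664733029427) (.leaf 454131987861260900))) (.node (.node (.leaf 562324267560878624) (.leaf 1715280885936824337)) (.node (.leaf 452933382613813349) (.leaf 526083951858040865)))) (.node (.node (.node (.leaf 540960696385978976) (.leaf 1621683592304044117)) (.node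 (.leaf 1643188177459236390) (.leaf 1659933475833703028))) (.node (.node (.leaf 1623939779002633223) (.leaf 562359391953667171)) (.node (.leaf 540925576162086470) (.leaf 1604867794335460918)))))) (.node (.node (.node (.node (.node (.leaf 1658769976150737440) (.leaf 1589109597989284951)) (.node (.leaf 1585584286546824774) (.leaf 450677174397316119))) (.node (.node (.leaf 1604762175187224130) (.leaf 436223483913742932)) (.node (.leaf 1621754098619557458) (.leaf 489138583065378913)))) (.node (.node (.node (.leaf 1697054965787528710) (.leaf 1658946382947451971)) (.node (.leaf 1677982988245975137) (.leaf 1695891758329652786))) (.node (.node (.leaf 540925571858714150) (.leaf 1660003970989444646)) (.node (.leaf 507047071415273477) (.leaf 1585584281031024657))))) (.node (.node (.node (.node (.leaf 508245677198541312) (.leaf 541877274213394517)) (.node (.leaf 1693706072973428322) (.leaf 1677982977218585619))) (.node (.node (.leaf 1697054972511545908) (.leaf 433861385170218550))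 (.node (.leaf 1641954186387818565) (.leaf 1678053481383986690)))) (.node (.node (.node (.leaf 1676995903028784247) (.leaf 454131990012947060)) (.node (.leaf 1711720471751869024) (.leaf 522840667568488481))) (.node (.node (.leaf 453074389194793520) (.leaf 1677982983137823815)) (.node (.leaf 468867979839039541) (.leaf 432662784762486865))))))) (.node (.node (.node (.node (.node (.node (.leaf 1657853391332180480) (.leaf 1712848557236029445)) (.node (.leaf 486741361544407572) (.leaf 1606066401869072964))) (.node (.node (.leaf 1604867796621625413) (.leaf 1661167183286513174)) (.node (.leaf 1695926875733133381) (.leaf 434883871541094002)))) (.node (.node (.node (.leaf 1712954179206253060) (.leaf 540784564466123843)) (.node (.leaf 468867978356606498) (.leaf 560032677018214417))) (.node (.node (.leaf 1715069369003296805) (.leaf 450642065735582787)) (.node (.leaf 540925572394534434) (.leaf 1661096690549319282))))) (.node (.node (.node (.node (.leaf 1623904674778228306) (.leaf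 1589039092476977744)) (.node (.leaf 1621648481490624625) (.leaf 504685256960656419))) (.node (.node (.leaf 433967286455149136) (.leaf 558975097181626481)) (.node (.leaf 1697054968208173588) (.leaf 1697266487024428562)))) (.node (.node (.node (.leaf 453039282148926064) (.leaf 1641954180468580369)) (.node (.leaf 1607123998650453095) (.leaf 1657818290205551220))) (.node (.node (.leaf 1675867800600093264) (.leaf 1625208903878886499)) (.node (.leaf 1621648478935500386) (.leaf 453039273408225329)))))) (.node (.node (.node (.node (.node (.leaf 1675621161558895156) (.leaf 1694904664775200262)) (.node (.leaf 1695926873715403316) (.leaf 1587805364987118627))) (.node (.node (.leaf 452016804920615536) (.leaf 1605819761078052885)) (.node (.leaf 560032682937452613) (.leaf 1715069379894634098)))) (.node (.node (.node (.leaf 1589109590053364240) (.leaf 487939980371748466)) (.node (.leaf 1586853398647963713) (.leaf 508245691724524148))) (.node (.node (.leaf 1712883686334578785) (.leaf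 1605819770085615186)) (.node (.leaf 1675832680242767925) (.leaf 490090281652512370))))) (.node (.node (.node (.node (.leaf 471018275066085888) (.leaf 1587805360281882118)) (.node (.leaf 1712883674771368983) (.leaf 1640931978251870225))) (.node (.node (.leaf 471159293753450545) (.leaf 433861394312783474)) (.node (.leaf 508104666849484817) (.leaf 490196165053653009)))) (.node (.node (.node (.leaf 1622952692438535175) (.leaf 432627662386908199)) (.node (.leaf 1603598687611430997) (.leaf 1657641878567545911))) (.node (.node (.leaf 470983169770040407) (.leaf 472040763052565587)) (.node (.leaf 490231287563716162) (.leaf 432627658351443969))))))))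

def twoElt25 : Janko.Tree (ℕ) :=
  (.node (.node (.node (.node (.node (.node (.node (.leaf 504861380273766912) (.leaf 1642024692704905796)) (.node (.leaf 507011955896617476) (.leaf 1678053491606597206))) (.node (.node (.leaf 471018287708294758) (.leaf 508069561553963620)) (.node (.leaf 540784557340765718) (.leaf 432803787986184213)))) (.node (.node (.node (.leaf 472075876420059712) (.leaf 469819673988320295)) (.node (.leaf 490090276545407572) (.leaf 436223481627576389))) (.node (.node (.leaf 1623975182712227941) (.leaf 526083947286760455)) (.node (.leaf 435059994854727761) (.leaf 1657606769638951013))))) (.node (.node (.node (.node (.leaf 1659968585298118210) (.leaf 1639733383897072224)) (.node (.leaf 1641989583373396085) (.leaf 1696138392397702195))) (.node (.node (.leaf 1678018378910450272) (.leaf 1676995899530190929)) (.node (.leaf 525026370137678963) (.leaf 1661167192162216532)))) (.node (.node (.node (.leaf 524039279002559056) (.leaf 1694834169350499926)) (.node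 (.leaf 1697266486757566996) (.leaf 1589074482202717782))) (.node (.node (.leaf 1697054970090901030) (.leaf 1711826084711908898)) (.node (.leaf 433826271535335493) (.leaf 1621648466428821505)))))) (.node (.node (.node (.node (.node (.leaf 508069564241470064) (.leaf 1607124000802139255)) (.node (.leaf 472075875749759045) (.leaf 433967275294853125))) (.node (.node (.leaf 1639662879731147891) (.leaf 454131990414286961)) (.node (.leaf 1585584288832990295) (.leaf 543111274294471799)))) (.node (.node (.node (.leaf 1713906156169358391) (.leaf 1694869287690618466)) (.node (.leaf 1588016894294942835) (.leaf 470983173939456628))) (.node (.node (.leaf 433826268035695651) (.leaf 1607088882863885926)) (.node (.leaf 1640720458897697815) (.leaf 1675621164380880961))))) (.node (.node (.node (.node (.leaf 471159287432348160) (.leaf 1603810195267914244)) (.node (.leaf 468726965454523942) (.leaf 1642024687998618663))) (.node (.node (.leaf 1657606767619647058) (.leaf 1589039094092843620))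 (.node (.leaf 1589003980725872757) (.leaf 1606031288234190933)))) (.node (.node (.node (.leaf 1604797295277686881) (.leaf 543146390482904179)) (.node (.leaf 1640931988340002406) (.leaf 452898265747203666))) (.node (.node (.leaf 1711720460993438224) (.leaf 562218374480300101)) (.node (.leaf 1693776581711683697) (.leaf 472181764392484865))))))) (.node (.node (.node (.node (.node (.node (.leaf 432803786235838976) (.leaf 490196162634058759)) (.node (.leaf 451981678509572640) (.leaf 1623904676529096805))) (.node (.node (.leaf 560984660169779317) (.leaf 432627671529473123)) (.node (.leaf 1625208899039693895) (.leaf 507188088486776358)))) (.node (.node (.node (.leaf 558975081717435910) (.leaf 558834082931590243)) (.node (.leaf 468726965990344226) (.leaf 1643011773349502993))) (.node (.node (.leaf 487975093738717281) (.leaf 1643188182432384067)) (.node (.leaf 436223477726596646) (.leaf 540819673663677459))))) (.node (.node (.node (.node (.leaf 1588016889455750231) (.leaf 1695926882053189238))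 (.node (.leaf 1585795808052683344) (.leaf 1711826095470339698))) (.node (.node (.leaf 454237878119852596) (.leaf 507047074102779921)) (.node (.leaf 504861391300109906) (.leaf 1621754090147292179)))) (.node (.node (.node (.leaf 1678018371919571508) (.leaf 561019763448094737)) (.node (.leaf 1603810206293206610) (.leaf 1603563570073994307))) (.node (.node (.leaf 1604797296759074422) (.leaf 504685258442042934)) (.node (.leaf 540784559492451878) (.leaf 1678018380123401335)))))) (.node (.node (.node (.node (.node (.leaf 452898261175919152) (.leaf 472040751624882692)) (.node (.leaf 432803796994269776) (.leaf 1589074478435165746))) (.node (.node (.leaf 543146381742203440) (.leaf 525026356691741719)) (.node (.leaf 1587805375478687861) (.leaf 561019768019379251)))) (.node (.node (.node (.leaf 540819671109599744) (.leaf 490055156857335350)) (.node (.leaf 1712919078882305650) (.leaf 1607123996633770580))) (.node (.node (.leaf 522734775023731264) (.leaf 1641989578801065047)) (.node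 (.leaf 450783084288991345) (.leaf 525202498290509426))))) (.node (.node (.node (.node (.leaf 1676749265462665808) (.leaf 1621648465624042503)) (.node (.leaf 435059983560476677) (.leaf 1675867791592007701))) (.node (.node (.leaf 1589109598794063953) (.leaf 506059997761555044)) (.node (.leaf 468903104634216561) (.leaf 1712848559923535889)))) (.node (.node (.node (.leaf 1625208890298994182) (.leaf 452016792412365843)) (.node (.leaf 522734776774076501) (.leaf 1643011785856706162))) (.node (.node (.leaf 1639697979920615940) (.leaf 433967291026433650)) (.node (.leaf 525202491433582657) (.leaf 453039271256539169))))))))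

def twoElt26 : Janko.Tree (ℕ) :=
  (.node (.node (.node (.node (.node (.node (.node (.leaf 1640720459836957200) (.leaf 561160781867551300)) (.node (.leaf 1694834158592069126) (.leaf 507152981172996708))) (.node (.node (.leaf 471159299940600935) (.leaf 1641954184636950066)) (.node (.leaf 450783082002825824) (.leaf 1657853392813566999)))) (.node (.node (.node (.leaf 507047080959706690) (.leaf 559997565936886835)) (.node (.leaf 1679181582198908949) (.leaf 1658734864131196997))) (.node (.node (.leaf 558834069886993922) (.leaf 1659968589334628964)) (.node (.leaf 1661167190277391938) (.leaf 1697231380381474897))))) (.node (.node (.node (.node (.leaf 507011967458780754) (.leaf 558939970100283940)) (.node (.leaf 1677947867619167814) (.leaf 471159301824374901))) (.node (.node (.leaf 453039270854674980) (.leaf 1661096682345488433)) (.node (.leaf 1643011774562455078) (.leaf 1657606757264654337)))) (.node (.node (.node (.leaf 486882387088698998) (.leaf 544203980408670820)) (.node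 (.leaf 543146390081039990) (.leaf 1623975178139896903))) (.node (.node (.leaf 1623939783841825827) (.leaf 1711826080408536578)) (.node (.leaf 468726976079521909) (.leaf 1711755576780529681)))))) (.node (.node (.node (.node (.node (.leaf 1586818280442325556) (.leaf 1640967106545640563)) (.node (.leaf 1694939789169035333) (.leaf 1604797288152329782))) (.node (.node (.leaf 1622917585392667719) (.leaf 1661096690282457716)) (.node (.leaf 1587840478086180374) (.leaf 1712954185392352822)))) (.node (.node (.node (.leaf 1643188175307550230) (.leaf 469819683130885219)) (.node (.leaf 1641954188404502102) (.leaf 526083962884383859))) (.node (.node (.leaf 469960694827372134) (.leaf 1642976667650542695)) (.node (.leaf 1694939780293331975) (.leaf 1624962269542925922))))) (.node (.node (.node (.node (.leaf 1697231384550892144) (.leaf 435059990283447351)) (.node (.leaf 468867977820786214) (.leaf 452016802233109092))) (.node (.node (.leaf 1693776576603532375) (.leaf 434002397536480822))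 (.node (.leaf 541842158426827348) (.leaf 1678018373668342855)))) (.node (.node (.node (.leaf 1640967104797393504) (.leaf 471018283672830528)) (.node (.leaf 1711755583101108800) (.leaf 453039277443689559))) (.node (.node (.leaf 544203978792804944) (.leaf 1624997385062631525)) (.node (.leaf 452016793760319525) (.leaf 1694834159262367745))))))) (.node (.node (.node (.node (.node (.node (.leaf 1603563568056787504) (.leaf 490055150267796487)) (.node (.leaf 1607088885820351088) (.leaf 432627673546679922))) (.node (.node (.leaf 454237882556656727) (.leaf 1625173779619529763)) (.node (.leaf 1695926880036505701) (.leaf 544203983364089458)))) (.node (.node (.node (.leaf 1639768486103747076) (.leaf 1623975169667108358)) (.node (.leaf 432803799012527207) (.leaf 1675867805037944945))) (.node (.node (.leaf 1675621157255522836) (.leaf 559856555454398529)) (.node (.leaf 1679111074130953219) (.leaf 1642024699159964276))))) (.node (.node (.node (.node (.leaf 1622741183435145792) (.leaf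 1605819767799972931)) (.node (.leaf 541877272865440835) (.leaf 524074386450293779))) (.node (.node (.leaf 454096866289410608) (.leaf 504861390764289622)) (.node (.leaf 504720378532506711) (.leaf 1585584280226245655)))) (.node (.node (.node (.leaf 1640931986993095248) (.leaf 1624962260936181282)) (.node (.leaf 1639697990544567383) (.leaf 522699659505598529))) (.node (.node (.leaf 1639697992696253543) (.leaf 469925568550284311)) (.node (.leaf 432768685511601271) (.leaf 1643188188620580981)))))) (.node (.node (.node (.node (.node (.leaf 562324265409192464) (.leaf 1661132065616169991)) (.node (.leaf 541877278650723958) (.leaf 433967288874747490))) (.node (.node (.leaf 436117579129168400) (.leaf 1643011770661996549)) (.node (.leaf 1697231379576695895) (.leaf 504861387131216947)))) (.node (.node (.node (.leaf 434002391349330432) (.leaf 454096865619109941)) (.node (.leaf 558939977493554259) (.leaf 1679111082067922502))) (.node (.node (.leaf 487975089569302082) (.leaf 558939967948597780))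 (.node (.leaf 1676995892539312165) (.leaf 1714117672836024357))))) (.node (.node (.node (.node (.leaf 1603563575858753142) (.leaf 1585760680971340807)) (.node (.leaf 544203967364073477) (.leaf 1604797288822628401))) (.node (.node (.leaf 526260081492781109) (.leaf 488997558056911875)) (.node (.leaf 489173687423739925) (.leaf 1603810197554079765)))) (.node (.node (.node (.leaf 1657818279178161702) (.leaf 1586747780714252900)) (.node (.leaf 490090272375467063) (.leaf 452933381265859667))) (.node (.node (.leaf 468726963302837782) (.leaf 544344984301620263)) (.node (.leaf 489032680298538546) (.leaf 450642057128838147))))))))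

def twoElt27 : Janko.Tree (ℕ) :=
  (.node (.node (.node (.node (.node (.node (.node (.leaf 472075867813315072) (.leaf 452016798197648966)) (.node (.leaf 472181763991144964) (.leaf 1660003973141130806))) (.node (.node (.leaf 468903102080142950) (.leaf 1589003970234303523)) (.node (.leaf 1675832677956602404) (.leaf 504826264219813893)))) (.node (.node (.node (.leaf 1661096684228215875) (.leaf 1679075970718682726)) (.node (.leaf 1606066400119250993) (.leaf 469784562371168325))) (.node (.node (.leaf 468726963838658066) (.leaf 1589109600542836322)) (.node (.leaf 1588052003761455169) (.leaf 1712883679879520305))))) (.node (.node (.node (.node (.leaf 1661061575030662259) (.leaf 1586853400934130256)) (.node (.leaf 523898264082745413) (.leaf 1693811684185220115))) (.node (.node (.leaf 1679146475554906704) (.leaf 540819682002509905)) (.node (.leaf 1677982979370271779) (.leaf 1695891752009596929)))) (.node (.node (.node (.leaf 544344986855694896) (.leaf 1712883679209221686))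 (.node (.leaf 526260088215751783) (.leaf 1585795809935410786))) (.node (.node (.leaf 1607018366458144274) (.leaf 1675867789305842180)) (.node (.leaf 1711826090900105812) (.leaf 561125662313431073)))))) (.node (.node (.node (.node (.node (.leaf 522734770720358944) (.leaf 1586747778293608022)) (.node (.leaf 452898269112887413) (.leaf 1621718972611952641))) (.node (.node (.leaf 504685263281235538) (.leaf 1587840486692925014)) (.node (.leaf 1623939781557234196) (.leaf 1639768488120953879)))) (.node (.node (.node (.leaf 1715280887418735140) (.leaf 1642976661731304499)) (.node (.leaf 451875783545743413) (.leaf 525167367442138115))) (.node (.node (.leaf 469819682595064935) (.leaf 1604762178820295783)) (.node (.leaf 1622952695126041619) (.leaf 542018280392510503))))) (.node (.node (.node (.node (.leaf 469784560085527092) (.leaf 544203969918152214)) (.node (.leaf 471124175681244199) (.leaf 1659968582476655671))) (.node (.node (.leaf 525202486728346148) (.leaf 1589109600275974756))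 (.node (.leaf 1625173785673771604) (.leaf 525167377396836437)))) (.node (.node (.node (.leaf 432662782476321344) (.leaf 1694939787418691122)) (.node (.leaf 1621648476783814226) (.leaf 435024883237579895))) (.node (.node (.leaf 434918986657885814) (.leaf 1715245782925370483)) (.node (.leaf 558975086423195681) (.leaf 469819674524140579))))))) (.node (.node (.node (.node (.node (.node (.leaf 490055152821871120) (.leaf 487798952407862790)) (.node (.leaf 523898261797104180) (.leaf 1588016892010351204))) (.node (.node (.leaf 1657641871978008070) (.leaf 541842160712468581)) (.node (.leaf 1641919077457126515) (.leaf 1676749258337306661)))) (.node (.node (.node (.leaf 506024876055751735) (.leaf 1607088876542782519)) (.node (.leaf 487798967603620983) (.leaf 1659968578978062353))) (.node (.node (.leaf 526083962483043958) (.leaf 1585760696434484850)) (.node (.leaf 452016790260679683) (.leaf 1696138398986716770))))) (.node (.node (.node (.node (.leaf 490055161428615760) (.leaf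 1607088881381975123)) (.node (.leaf 504826275781977171) (.leaf 1586853404701682292))) (.node (.node (.leaf 1675656279899013696) (.leaf 1658981504922741364)) (.node (.leaf 543005364804660758) (.leaf 1643188187004715105)))) (.node (.node (.node (.leaf 559856561775501936) (.leaf 1589074476283479586)) (.node (.leaf 1621648480685845623) (.leaf 432768677306197554))) (.node (.node (.leaf 522840671737381440) (.leaf 436223480414103090)) (.node (.leaf 1585795801196283941) (.leaf 1693706070285921878)))))) (.node (.node (.node (.node (.node (.leaf 1711790971479941680) (.leaf 1588016878831275526)) (.node (.leaf 1695926869412030996) (.leaf 1661061563602456102))) (.node (.node (.leaf 1714117677809173056) (.leaf 1677982974800037893)) (.node (.leaf 434918975765498919) (.leaf 1657818288455205987)))) (.node (.node (.node (.leaf 560032689794376304) (.leaf 471124171645779969)) (.node (.leaf 506059994261915202) (.leaf 558834077690006084))) (.node (.node (.leaf 1606066402001978435) (.leaf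 1607018377485533792)) (.node (.leaf 1603810200241586209) (.leaf 1642976659848577057))))) (.node (.node (.node (.node (.leaf 487798954291636756) (.leaf 1694869278548053542)) (.node (.leaf 1588051996501617687) (.leaf 1589003972119128117))) (.node (.node (.leaf 454131979655856161) (.leaf 1713906150250120195)) (.node (.leaf 489032675593297937) (.leaf 1661132072876007473)))) (.node (.node (.node (.leaf 1586747772239889443) (.leaf 506024874439885859)) (.node (.leaf 470983158877653508) (.leaf 486882387624519282))) (.node (.node (.leaf 1693706061948135956) (.leaf 523898256145778178)) (.node (.leaf 558975090726568001) (.leaf 504720369657849877))))))))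

def twoElt28 : Janko.Tree (ℕ) :=
  (.node (.node (.node (.node (.node (.node (.node (.leaf 1694939781232591360) (.leaf 436258602387293283)) (.node (.leaf 1711720464626510903) (.leaf 435024883907356274))) (.node (.node (.leaf 526119071948505664) (.leaf 1695891755642146342)) (.node (.leaf 562183263533452902) (.leaf 1676749267479871585)))) (.node (.node (.node (.leaf 544168867576996979) (.leaf 558798957734021668)) (.node (.leaf 1679181586502281269) (.leaf 1697231377693968453))) (.node (.node (.leaf 522840671201561156) (.leaf 433861385706038834)) (.node (.leaf 1677982981655914034) (.leaf 525061481219006545))))) (.node (.node (.node (.node (.leaf 1714117676870437959) (.leaf 1693811696425037430)) (.node (.leaf 558798968626931829) (.leaf 1622741180478680630))) (.node (.node (.leaf 1606031292402560630) (.leaf 558798969162752113)) (.node (.leaf 1679075960496072210) (.leaf 1676784385284169841)))) (.node (.node (.node (.leaf 1660039085295149584) (.leaf 490231294018774642)) (.node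 (.leaf 525061472478309910) (.leaf 434883862934349362))) (.node (.node (.leaf 1606031281510173735) (.leaf 559997571856125031)) (.node (.leaf 486917498170026580) (.leaf 1711720469064362580)))))) (.node (.node (.node (.node (.node (.leaf 1715069378011906656) (.leaf 487798961550427714)) (.node (.leaf 562324273613548631) (.leaf 540925567957729281))) (.node (.node (.leaf 504826275246156887) (.leaf 1621683583697299477)) (.node (.leaf 1588052001207904820) (.leaf 468726961553539073)))) (.node (.node (.node (.leaf 1679111078033508900) (.leaf 559997573739898997)) (.node (.leaf 1679181595644846193) (.leaf 1678018367749104659))) (.node (.node (.leaf 472075880455523942) (.leaf 1603810210195238007)) (.node (.leaf 1604762172365237303) (.leaf 1606066399448428086))))) (.node (.node (.node (.node (.leaf 1658946381199204912) (.leaf 454096872744469088)) (.node (.leaf 523933371932345347) (.leaf 540960682940041732))) (.node (.node (.leaf 1693776580906904695) (.leaf 505918977592280610)) (.node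 (.leaf 1589003976958320721) (.leaf 1658769977497644598)))) (.node (.node (.node (.leaf 542018285097748034) (.leaf 472075882339297908)) (.node (.leaf 544168865291879008) (.leaf 486917503411610739))) (.node (.node (.leaf 1624997374170245652) (.leaf 542018280928330787)) (.node (.leaf 544309871068602417) (.leaf 542018282812104753))))))) (.node (.node (.node (.node (.node (.node (.leaf 1712919066241147408) (.leaf 505918979208146486)) (.node (.leaf 489138581047648848) (.leaf 435024874764791350))) (.node (.node (.leaf 1695926866857430023) (.leaf 1603775082033849874)) (.node (.leaf 559891662232357895) (.leaf 1603563566039580705)))) (.node (.node (.node (.leaf 468867975669100054) (.leaf 1714117670549335574)) (.node (.leaf 1624997376455886885) (.leaf 523898266770251857))) (.node (.node (.leaf 561019773938617447) (.leaf 472181775418827859)) (.node (.leaf 451875777894417411) (.leaf 1640720457416312322))))) (.node (.node (.node (.node (.leaf 1712919074578933330) (.leaf 451981683214812227))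 (.node (.leaf 1657853399804445763) (.leaf 1658734868835911266))) (.node (.node (.leaf 1604867797022967362) (.leaf 1694834170020798545)) (.node (.leaf 1658769984354042979) (.leaf 469960688774176817)))) (.node (.node (.node (.leaf 1643188179879881268) (.leaf 1607088870489589250)) (.node (.leaf 559997567686705728) (.leaf 525026363414708289))) (.node (.node (.leaf 1603775088488908354) (.leaf 436082467512020534)) (.node (.leaf 504861393318363233) (.leaf 490196167205339169)))))) (.node (.node (.node (.node (.node (.leaf 507188084451312128) (.leaf 1661132069919542311)) (.node (.leaf 1658734870853117043) (.leaf 1641989568578454531))) (.node (.node (.leaf 543111270392963664) (.leaf 469784556184022039)) (.node (.leaf 507011963021452339) (.leaf 432768674753170471)))) (.node (.node (.node (.leaf 1643011776983099956) (.leaf 1641989570999099409)) (.node (.leaf 562324276435535458) (.leaf 489173701271545458))) (.node (.node (.leaf 1607053490851456083) (.leaf 1641919073556669008))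 (.node (.leaf 1657606767352785492) (.leaf 490090276946747473))))) (.node (.node (.node (.node (.leaf 1695926872099537440) (.leaf 1621683586115847203)) (.node (.leaf 1660039082204728327) (.leaf 1588016879502098433))) (.node (.node (.leaf 1714117674718751799) (.leaf 1713906154553492515)) (.node (.leaf 1697231372987682342) (.leaf 435024868443684865)))) (.node (.node (.node (.leaf 1621648468177069586) (.leaf 1639768501165550196)) (.node (.leaf 1641954179797757462) (.leaf 507011960333945895))) (.node (.node (.leaf 1603775084454494752) (.leaf 507188094941834838)) (.node (.leaf 436082465761674275) (.leaf 1585584289637769297))))))))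

def twoElt29 : Janko.Tree (ℕ) :=
  (.node (.node (.node (.node (.node (.node (.node (.leaf 1658769971847365120) (.leaf 436117590155511394)) (.node (.leaf 1640931977581571606) (.leaf 432627664404114998))) (.node (.node (.leaf 489032682450224706) (.leaf 1605854876997526547)) (.node (.leaf 1711720462609304100) (.leaf 522699655202226209)))) (.node (.node (.node (.leaf 1661061572878976099) (.leaf 1623975179078632000)) (.node (.leaf 1607053484665356321) (.leaf 436082469395794500))) (.node (.node (.leaf 487798961014607430) (.leaf 1589039094359705186)) (.node (.leaf 452933384899455604) (.leaf 541983160704434177))))) (.node (.node (.node (.node (.leaf 543111269723187285) (.leaf 436223482297877056)) (.node (.leaf 507047073700915732) (.leaf 1589039096244529780))) (.node (.node (.leaf 544344993310753376) (.leaf 1624010296480015443)) (.node (.leaf 488997557655047686) (.leaf 1715069371690803249)))) (.node (.node (.node (.leaf 435059986381939216) (.leaf 490090280982211703)) (.node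 (.leaf 558834080244083799) (.leaf 1603775079749781509))) (.node (.node (.leaf 1696138392264796724) (.leaf 526224972697620070)) (.node (.leaf 468726976615342193) (.leaf 1658946374609666049)))))) (.node (.node (.node (.node (.node (.leaf 487975084462197284) (.leaf 487939974050645059)) (.node (.leaf 1605854878613392423) (.leaf 1604867795005759537))) (.node (.node (.leaf 1714117668666608132) (.leaf 1585795799580418065)) (.node (.leaf 562324271864250944) (.leaf 1639697982742601745)))) (.node (.node (.node (.leaf 562183261247286359) (.leaf 1603810204009138245)) (.node (.leaf 486776479483185189) (.leaf 453039269372765203))) (.node (.node (.leaf 436117589485210727) (.leaf 450783072994740261)) (.node (.leaf 1711720460188659222) (.leaf 453074395114031716))))) (.node (.node (.node (.node (.leaf 1585760683793326608) (.leaf 505918983645473879)) (.node (.leaf 486776475849065986) (.leaf 544168858166519861))) (.node (.node (.leaf 558975085887375397) (.leaf 471159291467812390)) (.node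 (.leaf 1607053495423787121) (.leaf 1679146474750127702)))) (.node (.node (.node (.leaf 1696138394549388355) (.leaf 1661167196732450418)) (.node (.leaf 558834084680884848) (.leaf 468726971909582422))) (.node (.node (.leaf 558798958269841952) (.leaf 522840665550235154)) (.node (.leaf 1693776577408311377) (.leaf 504826264755634177))))))) (.node (.node (.node (.node (.node (.node (.leaf 544344980400636416) (.leaf 468762079089929239)) (.node (.leaf 1693811697229816432) (.leaf 1660003982283695730))) (.node (.node (.leaf 1695926871160802343) (.leaf 435024881755670114)) (.node (.leaf 542970249018092567) (.leaf 1622741181148979249)))) (.node (.node (.node (.leaf 504720380817621600) (.leaf 1675832684277181527)) (.node (.leaf 542018289267163233) (.leaf 1715280892391882817))) (.node (.node (.leaf 454273000763343456) (.leaf 562183259363508289)) (.node (.leaf 487939973514824775) (.leaf 1604832672763610626))))) (.node (.node (.node (.node (.leaf 1676749264523406423) (.leaf 1679075967354044481))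 (.node (.leaf 432803794977062977) (.leaf 508104671555249714))) (.node (.node (.leaf 454237883226957394) (.leaf 469784565326586963)) (.node (.leaf 508069555768157235) (.leaf 1697054980983286903)))) (.node (.node (.node (.leaf 1607018371030475312) (.leaf 1640931984305588804)) (.node (.leaf 450783077967365698) (.leaf 543146379188653095))) (.node (.node (.leaf 1639662873276089411) (.leaf 1657641885157083748)) (.node (.leaf 1642976661464442933) (.leaf 487798952943683074)))))) (.node (.node (.node (.node (.node (.leaf 1711790967176569360) (.leaf 1589003972385989683)) (.node (.leaf 1711826088613940295) (.leaf 436117580878466087))) (.node (.node (.leaf 1623975180961359442) (.leaf 560032674598620167)) (.node (.leaf 1586747767535177222) (.leaf 543111261920175123)))) (.node (.node (.node (.leaf 526260082163081776) (.leaf 561125660161744913)) (.node (.leaf 1678018369900790819) (.leaf 1624010290158913058))) (.node (.node (.leaf 451875786501162051) (.leaf 1679146479053500022)) (.node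 (.leaf 432627668439575124) (.leaf 432627666958188609))))) (.node (.node (.node (.node (.leaf 560984660839555696) (.leaf 1639733383092293222)) (.node (.leaf 541983172944775780) (.leaf 435024870595371025))) (.node (.node (.leaf 1676960780921113671) (.leaf 504861386595396663)) (.node (.leaf 1623975174372344867) (.leaf 1660003967356895233)))) (.node (.node (.node (.leaf 1640931979598777383) (.leaf 558975088708314674)) (.node (.leaf 561019763046230548) (.leaf 562218377034378838))) (.node (.node (.leaf 490196175946564192) (.leaf 506059993726094918)) (.node (.leaf 542970251303734822) (.leaf 450677172646970882))))))))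

def twoElt30 : Janko.Tree (ℕ) :=
  (.node (.node (.node (.node (.node (.node (.node (.leaf 559856548865384976) (.leaf 1657606762780454454)) (.node (.leaf 1712919076999578208) (.leaf 540925567421908997))) (.node (.node (.leaf 1676749269766038128) (.leaf 1607123989909753382)) (.node (.leaf 435024877184385600) (.leaf 541877270445842481)))) (.node (.node (.node (.leaf 505883864225309747) (.leaf 1714117679691900498)) (.node (.leaf 507152974851894327) (.leaf 469925571103835682))) (.node (.node (.leaf 1605819767667067460) (.leaf 506059989422722598)) (.node (.leaf 1711755589287208562) (.leaf 1624962257035722753))))) (.node (.node (.node (.node (.leaf 1623975180560541781) (.leaf 508104675858622034)) (.node (.leaf 1694869289306484342) (.leaf 1625208906299531377))) (.node (.node (.leaf 506059998297375328) (.leaf 1607123994748945986)) (.node (.leaf 1713906150117214724) (.leaf 1587840482791416883)))) (.node (.node (.node (.leaf 1661167181939606016) (.leaf 487834074515533366))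 (.node (.leaf 540784570385362039) (.leaf 1603563561200388101))) (.node (.node (.leaf 561160786438835814) (.leaf 525061485254470775)) (.node (.leaf 1621718980279438918) (.leaf 1696103285620793457)))))) (.node (.node (.node (.node (.node (.leaf 1695891762901983824) (.leaf 1622917588080174163)) (.node (.leaf 1677947865869345843) (.leaf 1711826082963660817))) (.node (.node (.leaf 543111261518310934) (.leaf 1694834160878233621)) (.node (.leaf 453039275961779778) (.leaf 558834071905247249)))) (.node (.node (.node (.leaf 1679075958077524484) (.leaf 1640931990626166901)) (.node (.leaf 524074388334067745) (.leaf 558939979645240419))) (.node (.node (.leaf 489173700601769079) (.leaf 1675832687233646689)) (.node (.leaf 433861378447247876) (.leaf 1678053485687359010))))) (.node (.node (.node (.node (.leaf 469925572987609648) (.leaf 488997568681386576)) (.node (.leaf 450783077431545414) (.leaf 505883871894366836))) (.node (.node (.leaf 1639768499684163681) (.leaf 1711790964890403843))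 (.node (.leaf 1643223300371685968) (.leaf 522734772470704181)))) (.node (.node (.node (.leaf 544344989275293250) (.leaf 1588052005913141329)) (.node (.leaf 1693706064635642400) (.leaf 489173692530844723))) (.node (.node (.leaf 1693741191046685296) (.leaf 1677947871788584039)) (.node (.leaf 452898260506142773) (.leaf 1624997379143393329))))))) (.node (.node (.node (.node (.node (.node (.leaf 1693811682168013312) (.leaf 1639662864402483205)) (.node (.leaf 468903095357172276) (.leaf 1623904672761544769))) (.node (.node (.leaf 1641919068850381875) (.leaf 544168864621578341)) (.node (.leaf 1713941265635870725) (.leaf 434918982488465489)))) (.node (.node (.node (.leaf 1585584282512411172) (.leaf 1622706069530780755)) (.node (.leaf 434918984372243559) (.leaf 1585584291386017378))) (.node (.node (.leaf 544203982693788791) (.leaf 436117583700452914)) (.node (.leaf 1603563569807132741) (.leaf 1621683583964161043))))) (.node (.node (.node (.node (.leaf 541877263321008644) (.leaf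 1623975183113045602)) (.node (.leaf 1715280898444027506) (.leaf 542970251705599011))) (.node (.node (.leaf 1639733385914279027) (.leaf 1643011779535602755)) (.node (.leaf 1586818288914589813) (.leaf 1642024690820081202)))) (.node (.node (.node (.leaf 1589039083870233104) (.leaf 1586782896232384613)) (.node (.leaf 1640931984437969987) (.leaf 504861384309231142))) (.node (.node (.leaf 1621683594722591843) (.leaf 471159291869676579)) (.node (.leaf 559997574275719281) (.leaf 487939965309945346)))))) (.node (.node (.node (.node (.node (.leaf 540960683475862016) (.leaf 1679075971523461728)) (.node (.leaf 540925578180339797) (.leaf 1658981502903436387))) (.node (.node (.leaf 1587805370906356823) (.leaf 1679111076015777813)) (.node (.leaf 508210561010108932) (.leaf 1714117668799513603)))) (.node (.node (.node (.leaf 489173688093516304) (.leaf 451981689401958513)) (.node (.leaf 1679146466679203346) (.leaf 543146387661441636))) (.node (.node (.leaf 1679181589189787713) (.leaf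 1606066395680876050)) (.node (.leaf 1695891753625462805) (.leaf 472216894705560180))))) (.node (.node (.node (.node (.leaf 1641919068717476404) (.leaf 1603563573841546343)) (.node (.leaf 432768683761256034) (.leaf 1660003969508581393))) (.node (.node (.leaf 526224970143541333) (.leaf 508245685402897479)) (.node (.leaf 1607088872641275410) (.leaf 1588016885421336629)))) (.node (.node (.node (.leaf 560032687374782054) (.leaf 1586818286897384036)) (.node (.leaf 1604832685942686304) (.leaf 540819679448436294))) (.node (.node (.leaf 1712848561673882148) (.leaf 562218379721885282)) (.node (.leaf 1697019863313992292) (.leaf 1675621155505177603))))))))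

def twoElt31 : Janko.Tree (ℕ) :=
  (.node (.node (.node (.node (.node (.node (.node (.leaf 1697054966592307712) (.leaf 1586818275735514135)) (.node (.leaf 490055154437736996) (.leaf 433826262928590853))) (.node (.node (.leaf 526119067645133344) (.leaf 452016804384795252)) (.node (.leaf 507152979825043026) (.leaf 434918987059750003)))) (.node (.node (.node (.leaf 1589074486909003893) (.leaf 543111268509189698)) (.node (.leaf 506024878207437895) (.leaf 1677947861299111957))) (.node (.node (.leaf 454096868038708295) (.leaf 1625173779352668197)) (.node (.leaf 1640967102511226961) (.leaf 522875785372786737))))) (.node (.node (.node (.node (.leaf 542018275687270916) (.leaf 1677947870575632976)) (.node (.leaf 1711755586734181479) (.leaf 1660039097802351731))) (.node (.node (.leaf 524039276850872896) (.leaf 1714152793327829057)) (.node (.leaf 524039267976220166) (.leaf 434883869255451747)))) (.node (.node (.node (.leaf 562324278319309424) (.leaf 505883856966518789)) (.node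 (.leaf 1659933469378644548) (.leaf 1712919063419160581))) (.node (.node (.leaf 1642024688937353760) (.leaf 1677947863450798117)) (.node (.leaf 1585549171028692039) (.leaf 1640720463736890419)))))) (.node (.node (.node (.node (.node (.leaf 1625173789708185206) (.leaf 490196171776623683)) (.node (.leaf 1588051999056218660) (.leaf 454237884976250977))) (.node (.node (.leaf 1623975172087753236) (.leaf 1621648472883879985)) (.node (.leaf 1606031288635008594) (.leaf 526224964224303137)))) (.node (.node (.node (.leaf 523898257761644054) (.leaf 487939964774125062)) (.node (.leaf 487975090917255764) (.leaf 486741370151152212))) (.node (.node (.leaf 1624010289758095397) (.leaf 525026365700350544)) (.node (.leaf 540819670573779460) (.leaf 1643223289478251523))))) (.node (.node (.node (.node (.leaf 1658981492548444688) (.leaf 526224974849306230)) (.node (.leaf 450642065199762503) (.leaf 562324264738891797))) (.node (.node (.leaf 1675621165593308758) (.leaf 486882372697195523))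 (.node (.leaf 1697231382130247266) (.leaf 1603598692450623601)))) (.node (.node (.node (.leaf 544203976774550595) (.leaf 1661167192429078098)) (.node (.leaf 468726974061268582) (.leaf 1714152799247067253))) (.node (.node (.leaf 468762082990910004) (.leaf 1711720470947090022)) (.node (.leaf 525061474763948065) (.leaf 469784558737573410))))))) (.node (.node (.node (.node (.node (.node (.leaf 1658734858346439184) (.leaf 468903091456191511)) (.node (.leaf 468762083526730288) (.leaf 433826272071155777))) (.node (.node (.leaf 1606031283661859895) (.leaf 454131977772082195)) (.node (.leaf 489032673173703687) (.leaf 469784562906988609)))) (.node (.node (.node (.leaf 543005375830999648) (.leaf 490090275062973507)) (.node (.leaf 436117591636896887) (.leaf 472075872250119203))) (.node (.node (.leaf 1712883677192013861) (.leaf 523898264618565697)) (.node (.leaf 522699658969778245) (.leaf 1711720458707272707))))) (.node (.node (.node (.node (.leaf 1715034250796084758) (.leaf 1661061572612114533))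 (.node (.leaf 561160784689013843) (.leaf 1605854874979796482))) (.node (.node (.leaf 1622741182495886407) (.leaf 560032683473272897)) (.node (.leaf 1712954187544038982) (.leaf 487834070078203925)))) (.node (.node (.node (.leaf 1625208897558831664) (.leaf 487834083658098290)) (.node (.leaf 1621683592570905683) (.leaf 543111267839413319))) (.node (.node (.leaf 1585760689443606086) (.leaf 1589074471578242055)) (.node (.leaf 1587840480372869157) (.leaf 454273000093042789)))))) (.node (.node (.node (.node (.node (.leaf 1621754088130085376) (.leaf 1605819771701481062)) (.node (.leaf 1621718982834563157) (.leaf 450677183539881043))) (.node (.node (.leaf 1585549164439154198) (.leaf 558834075806232118)) (.node (.leaf 1621648472079100983) (.leaf 489138570423174147)))) (.node (.node (.node (.leaf 1607123992866218544) (.leaf 436223475172517909)) (.node (.leaf 544344984971920930) (.leaf 1586782890178668082))) (.node (.node (.leaf 1623904676929914466) (.leaf 1715069370886024247))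 (.node (.leaf 1625173782040174641) (.leaf 1694869281235559986))))) (.node (.node (.node (.node (.leaf 1606031284600594992) (.leaf 1641919074769620071)) (.node (.leaf 1622917581625115683) (.leaf 1625173777200982037))) (.node (.node (.leaf 1604762176937568341) (.leaf 1658981500484888661)) (.node (.leaf 1603775088222046788) (.leaf 432662778440861218)))) (.node (.node (.node (.leaf 559891675142474855) (.leaf 1693776579156559458)) (.node (.leaf 526083951456700964) (.leaf 525202496138823266))) (.node (.node (.leaf 435024879336071760) (.leaf 1677947859414287363)) (.node (.leaf 504826272959991366) (.leaf 1675656273309475859))))))))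

def twoElt : Janko.Tree (ℕ) := (.node (.node (.node (.node (.node twoElt0 twoElt16) (.node twoElt8 twoElt24)) (.node (.node twoElt4 twoElt20) (.node twoElt12 twoElt28))) (.node (.node (.node twoElt2 twoElt18) (.node twoElt10 twoElt26)) (.node (.node twoElt6 twoElt22) (.node twoElt14 twoElt30)))) (.node (.node (.node (.node twoElt1 twoElt17) (.node twoElt9 twoElt25)) (.node (.node twoElt5 twoElt21) (.node twoElt13 twoElt29))) (.node (.node (.node twoElt3 twoElt19) (.node twoElt11 twoElt27)) (.node (.node twoElt7 twoElt23) (.node twoElt15 twoElt31)))))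

def twoNext0 : Janko.Tree (ℕ) :=
  (.node (.node (.node (.node (.node (.node (.node (.leaf 1) (.leaf 1722)) (.node (.leaf 1564) (.leaf 2402))) (.node (.node (.leaf 303) (.leaf 1849)) (.node (.leaf 2224) (.leaf 3910)))) (.node (.node (.node (.leaf 278) (.leaf 1612)) (.node (.leaf 819) (.leaf 3001))) (.node (.node (.leaf 1202) (.leaf 3331)) (.node (.leaf 2456) (.leaf 3515))))) (.node (.node (.node (.node (.leaf 173) (.leaf 1518)) (.node (.leaf 731) (.leaf 2847))) (.node (.node (.leaf 394) (.leaf 1968)) (.node (.leaf 2353) (.leaf 3155)))) (.node (.node (.node (.leaf 216) (.leaf 3122)) (.node (.leaf 1742) (.leaf 3906))) (.node (.node (.leaf 1375) (.leaf 3255)) (.node (.leaf 1292) (.leaf 4045)))))) (.node (.node (.node (.node (.node (.leaf 129) (.leaf 2836)) (.node (.leaf 1652) (.leaf 2953))) (.node (.node (.leaf 925) (.leaf 3294)) (.node (.leaf 2290) (.leaf 3728)))) (.node (.node (.node (.leaf 177) (.leaf 2727)) (.node (.leaf 1987) (.leaf 2867))) (.node (.node (.leaf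 1301) (.leaf 3368)) (.node (.leaf 1514) (.leaf 3454))))) (.node (.node (.node (.node (.leaf 297) (.leaf 2564)) (.node (.leaf 1812) (.leaf 3717))) (.node (.node (.leaf 1113) (.leaf 2036)) (.node (.leaf 1150) (.leaf 3608)))) (.node (.node (.node (.leaf 336) (.leaf 2118)) (.node (.leaf 2146) (.leaf 3888))) (.node (.node (.leaf 1476) (.leaf 3233)) (.node (.leaf 2702) (.leaf 3941))))))) (.node (.node (.node (.node (.node (.node (.leaf 68) (.leaf 2800)) (.node (.leaf 683) (.leaf 2902))) (.node (.node (.leaf 869) (.leaf 2378)) (.node (.leaf 1758) (.leaf 3021)))) (.node (.node (.node (.leaf 465) (.leaf 2630)) (.node (.leaf 845) (.leaf 3853))) (.node (.node (.leaf 1250) (.leaf 3201)) (.node (.leaf 1224) (.leaf 4064))))) (.node (.node (.node (.node (.leaf 81) (.leaf 2905)) (.node (.leaf 1762) (.leaf 2563))) (.node (.node (.leaf 1065) (.leaf 3377)) (.node (.leaf 1138) (.leaf 3291)))) (.node (.node (.node (.leaf 536) (.leaf 1773)) (.node (.leaf 2097) (.leaf 3723))) (.node (.node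 (.leaf 583) (.leaf 3588)) (.node (.leaf 2651) (.leaf 3947)))))) (.node (.node (.node (.node (.node (.leaf 186) (.leaf 2748)) (.node (.leaf 1627) (.leaf 3075))) (.node (.node (.leaf 968) (.leaf 1973)) (.node (.leaf 1900) (.leaf 3524)))) (.node (.node (.node (.leaf 585) (.leaf 3066)) (.node (.leaf 897) (.leaf 2768))) (.node (.node (.leaf 1347) (.leaf 2181)) (.node (.leaf 1284) (.leaf 3996))))) (.node (.node (.node (.node (.leaf 395) (.leaf 2971)) (.node (.leaf 1769) (.leaf 3695))) (.node (.node (.leaf 453) (.leaf 3441)) (.node (.leaf 1176) (.leaf 3538)))) (.node (.node (.node (.leaf 283) (.leaf 2232)) (.node (.leaf 2182) (.leaf 3787))) (.node (.node (.leaf 1520) (.leaf 2334)) (.node (.leaf 1550) (.leaf 3872))))))))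

def twoNext1 : Janko.Tree (ℕ) :=
  (.node (.node (.node (.node (.node (.node (.node (.leaf 2) (.leaf 1396)) (.node (.leaf 1554) (.leaf 3488))) (.node (.node (.leaf 826) (.leaf 1970)) (.node (.leaf 1001) (.leaf 2970)))) (.node (.node (.node (.leaf 442) (.leaf 2997)) (.node (.leaf 1902) (.leaf 2642))) (.node (.node (.leaf 472) (.leaf 3462)) (.node (.leaf 1203) (.leaf 3329))))) (.node (.node (.node (.node (.leaf 63) (.leaf 2907)) (.node (.leaf 1730) (.leaf 2662))) (.node (.node (.leaf 389) (.leaf 1993)) (.node (.leaf 2346) (.leaf 3145)))) (.node (.node (.node (.leaf 633) (.leaf 1747)) (.node (.leaf 2061) (.leaf 3046))) (.node (.node (.leaf 1395) (.leaf 2225)) (.node (.leaf 2640) (.leaf 3604)))))) (.node (.node (.node (.node (.node (.leaf 131) (.leaf 2838)) (.node (.leaf 689) (.leaf 3702))) (.node (.node (.leaf 347) (.leaf 1905)) (.node (.leaf 1046) (.leaf 3083)))) (.node (.node (.node (.leaf 538) (.leaf 1680)) (.node (.leaf 1989) (.leaf 2725))) (.node (.node (.leaf 518)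 (.leaf 3517)) (.node (.leaf 1248) (.leaf 3444))))) (.node (.node (.node (.node (.leaf 105) (.leaf 1548)) (.node (.leaf 775) (.leaf 2563))) (.node (.node (.leaf 1115) (.leaf 3412)) (.node (.leaf 2409) (.leaf 4036)))) (.node (.node (.node (.leaf 261) (.leaf 1795)) (.node (.leaf 1065) (.leaf 2883))) (.node (.node (.leaf 603) (.leaf 2296)) (.node (.leaf 1349) (.leaf 3842))))))) (.node (.node (.node (.node (.node (.node (.leaf 57) (.leaf 1424)) (.node (.leaf 665) (.leaf 3667))) (.node (.node (.leaf 871) (.leaf 3288)) (.node (.leaf 1025) (.leaf 3656)))) (.node (.node (.node (.leaf 156) (.leaf 1645)) (.node (.leaf 1942) (.leaf 2681))) (.node (.node (.leaf 494) (.leaf 2120)) (.node (.leaf 2533) (.leaf 4049))))) (.node (.node (.node (.node (.leaf 295) (.leaf 2937)) (.node (.leaf 1768) (.leaf 3774))) (.node (.node (.leaf 1066) (.leaf 2002)) (.node (.leaf 1122) (.leaf 3195)))) (.node (.node (.node (.leaf 681) (.leaf 3103)) (.node (.leaf 932) (.leaf 3072))) (.node (.node (.leaf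 577) (.leaf 2388)) (.node (.leaf 2674) (.leaf 3719)))))) (.node (.node (.node (.node (.node (.leaf 46) (.leaf 1473)) (.node (.leaf 710) (.leaf 2735))) (.node (.node (.leaf 366) (.leaf 3340)) (.node (.leaf 1074) (.leaf 3113)))) (.node (.node (.node (.leaf 199) (.leaf 1715)) (.node (.leaf 2026) (.leaf 3891))) (.node (.node (.leaf 1345) (.leaf 3546)) (.node (.leaf 1375) (.leaf 3527))))) (.node (.node (.node (.node (.leaf 396) (.leaf 1581)) (.node (.leaf 1856) (.leaf 2602))) (.node (.node (.leaf 1162) (.leaf 2068)) (.node (.leaf 2448) (.leaf 3278)))) (.node (.node (.node (.leaf 781) (.leaf 3215)) (.node (.leaf 978) (.leaf 2919))) (.node (.node (.leaf 623) (.leaf 3628)) (.node (.leaf 1367) (.leaf 4088))))))))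

def twoNext2 : Janko.Tree (ℕ) :=
  (.node (.node (.node (.node (.node (.node (.node (.leaf 3) (.leaf 2673)) (.node (.leaf 646) (.leaf 2381))) (.node (.node (.leaf 827) (.leaf 3259)) (.node (.leaf 1003) (.leaf 3956)))) (.node (.node (.node (.leaf 137) (.leaf 3017)) (.node (.leaf 1903) (.leaf 3005))) (.node (.node (.leaf 1205) (.leaf 2199)) (.node (.leaf 2453) (.leaf 3483))))) (.node (.node (.node (.node (.leaf 242) (.leaf 1517)) (.node (.leaf 1731) (.leaf 2496))) (.node (.node (.leaf 941) (.leaf 1970)) (.node (.leaf 1095) (.leaf 3169)))) (.node (.node (.node (.leaf 223) (.leaf 3123)) (.node (.leaf 2060) (.leaf 2797))) (.node (.node (.leaf 559) (.leaf 2217)) (.node (.leaf 1296) (.leaf 4014)))))) (.node (.node (.node (.node (.node (.leaf 29) (.leaf 1448)) (.node (.leaf 1653) (.leaf 2444))) (.node (.node (.leaf 926) (.leaf 3195)) (.node (.leaf 2292) (.leaf 3719)))) (.node (.node (.node (.leaf 175) (.leaf 2755)) (.node (.leaf 861) (.leaf 2866))) (.node (.node (.leaf 1303)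 (.leaf 2149)) (.node (.leaf 2570) (.leaf 4036))))) (.node (.node (.node (.node (.leaf 346) (.leaf 2435)) (.node (.leaf 1808) (.leaf 3798))) (.node (.node (.leaf 433) (.leaf 2035)) (.node (.leaf 1149) (.leaf 4037)))) (.node (.node (.node (.leaf 363) (.leaf 3200)) (.node (.leaf 957) (.leaf 3887))) (.node (.node (.leaf 1477) (.leaf 3607)) (.node (.leaf 1341) (.leaf 3770))))))) (.node (.node (.node (.node (.node (.node (.leaf 70) (.leaf 2595)) (.node (.leaf 682) (.leaf 2419))) (.node (.node (.leaf 870) (.leaf 3206)) (.node (.leaf 2258) (.leaf 3085)))) (.node (.node (.node (.leaf 491) (.leaf 2605)) (.node (.leaf 839) (.leaf 3858))) (.node (.node (.leaf 1251) (.leaf 3498)) (.node (.leaf 1228) (.leaf 3385))))) (.node (.node (.node (.node (.leaf 80) (.leaf 1525)) (.node (.leaf 752) (.leaf 2553))) (.node (.node (.leaf 1059) (.leaf 2037)) (.node (.leaf 2382) (.leaf 3313)))) (.node (.node (.node (.leaf 680) (.leaf 2297)) (.node (.leaf 2096) (.leaf 3921))) (.node (.node (.leaf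 1436) (.leaf 3590)) (.node (.leaf 1319) (.leaf 3692)))))) (.node (.node (.node (.node (.node (.leaf 187) (.leaf 2877)) (.node (.leaf 1693) (.leaf 3727))) (.node (.node (.leaf 969) (.leaf 1963)) (.node (.leaf 1899) (.leaf 3423)))) (.node (.node (.node (.leaf 587) (.leaf 2723)) (.node (.leaf 2025) (.leaf 2767))) (.node (.node (.leaf 1349) (.leaf 2191)) (.node (.leaf 1270) (.leaf 3582))))) (.node (.node (.node (.node (.leaf 385) (.leaf 2988)) (.node (.leaf 798) (.leaf 3810))) (.node (.node (.leaf 452) (.leaf 3442)) (.node (.leaf 1175) (.leaf 4048)))) (.node (.node (.node (.leaf 782) (.leaf 1831)) (.node (.leaf 2185) (.leaf 2921))) (.node (.node (.leaf 1521) (.leaf 2335)) (.node (.leaf 2632) (.leaf 3870))))))))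

def twoNext3 : Janko.Tree (ℕ) :=
  (.node (.node (.node (.node (.node (.node (.node (.leaf 4) (.leaf 2672)) (.node (.leaf 645) (.leaf 2399))) (.node (.node (.leaf 419) (.leaf 3261)) (.node (.leaf 2225) (.leaf 3908)))) (.node (.node (.node (.leaf 276) (.leaf 3018)) (.node (.leaf 1891) (.leaf 3839))) (.node (.node (.leaf 1206) (.leaf 2093)) (.node (.leaf 2452) (.leaf 3518))))) (.node (.node (.node (.node (.leaf 243) (.leaf 1496)) (.node (.leaf 984) (.leaf 3741))) (.node (.node (.leaf 1014) (.leaf 3367)) (.node (.leaf 1094) (.leaf 3640)))) (.node (.node (.node (.leaf 634) (.leaf 3124)) (.node (.leaf 905) (.leaf 2796))) (.node (.node (.leaf 1396) (.leaf 2215)) (.node (.leaf 2641) (.leaf 4022)))))) (.node (.node (.node (.node (.node (.leaf 132) (.leaf 2839)) (.node (.leaf 1654) (.leaf 2443))) (.node (.node (.leaf 927) (.leaf 3194)) (.node (.leaf 2293) (.leaf 3715)))) (.node (.node (.node (.leaf 174) (.leaf 1677)) (.node (.leaf 1990) (.leaf 2967))) (.node (.node (.leaf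 515) (.leaf 2148)) (.node (.leaf 2572) (.leaf 3452))))) (.node (.node (.node (.node (.leaf 98) (.leaf 2965)) (.node (.leaf 1813) (.leaf 3799))) (.node (.node (.leaf 1116) (.leaf 3377)) (.node (.leaf 1419) (.leaf 3233)))) (.node (.node (.node (.leaf 729) (.leaf 3201)) (.node (.leaf 2147) (.leaf 3911))) (.node (.node (.leaf 1478) (.leaf 3608)) (.node (.leaf 1340) (.leaf 4091))))))) (.node (.node (.node (.node (.node (.node (.leaf 13) (.leaf 2603)) (.node (.leaf 1611) (.leaf 2418))) (.node (.node (.leaf 324) (.leaf 1871)) (.node (.leaf 2259) (.leaf 3033)))) (.node (.node (.node (.leaf 492) (.leaf 2604)) (.node (.leaf 877) (.leaf 3851))) (.node (.node (.leaf 1252) (.leaf 2118)) (.node (.leaf 1675) (.leaf 3384))))) (.node (.node (.node (.node (.leaf 296) (.leaf 1524)) (.node (.leaf 1769) (.leaf 2529))) (.node (.node (.leaf 409) (.leaf 2036)) (.node (.leaf 1136) (.leaf 3192)))) (.node (.node (.node (.leaf 237) (.leaf 1771)) (.node (.leaf 2101) (.leaf 2833))) (.node (.node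 (.leaf 629) (.leaf 2255)) (.node (.leaf 1439) (.leaf 3914)))))) (.node (.node (.node (.node (.node (.leaf 188) (.leaf 1470)) (.node (.leaf 1694) (.leaf 2469))) (.node (.node (.leaf 970) (.leaf 1935)) (.node (.leaf 2324) (.leaf 3996)))) (.node (.node (.node (.leaf 196) (.leaf 2722)) (.node (.leaf 882) (.leaf 2956))) (.node (.node (.leaf 538) (.leaf 2179)) (.node (.leaf 2608) (.leaf 3524))))) (.node (.node (.node (.node (.leaf 117) (.leaf 2923)) (.node (.leaf 1762) (.leaf 3693))) (.node (.node (.leaf 1163) (.leaf 3443)) (.node (.leaf 1243) (.leaf 3536)))) (.node (.node (.node (.leaf 761) (.leaf 1818)) (.node (.leaf 2186) (.leaf 2989))) (.node (.node (.leaf 1522) (.leaf 2333)) (.node (.leaf 2631) (.leaf 3869))))))))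

def twoNext4 : Janko.Tree (ℕ) :=
  (.node (.node (.node (.node (.node (.node (.node (.leaf 0) (.leaf 2735)) (.node (.leaf 647) (.leaf 3400))) (.node (.node (.leaf 827) (.leaf 3261)) (.node (.leaf 2222) (.leaf 3863)))) (.node (.node (.node (.leaf 435) (.leaf 3017)) (.node (.leaf 1903) (.leaf 2644))) (.node (.node (.leaf 473) (.leaf 3474)) (.node (.leaf 1204) (.leaf 3476))))) (.node (.node (.node (.node (.leaf 64) (.leaf 2908)) (.node (.leaf 1731) (.leaf 2848))) (.node (.node (.leaf 391) (.leaf 3367)) (.node (.leaf 1099) (.leaf 3147)))) (.node (.node (.node (.leaf 634) (.leaf 2078)) (.node (.leaf 2062) (.leaf 3908))) (.node (.node (.leaf 1376) (.leaf 3568)) (.node (.leaf 2641) (.leaf 4037)))))) (.node (.node (.node (.node (.node (.leaf 130) (.leaf 2837)) (.node (.leaf 690) (.leaf 3701))) (.node (.node (.leaf 348) (.leaf 2167)) (.node (.leaf 1047) (.leaf 3975)))) (.node (.node (.node (.leaf 233) (.leaf 1681)) (.node (.leaf 1988) (.leaf 2755))) (.node (.node (.leaf 523)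 (.leaf 3512)) (.node (.leaf 1249) (.leaf 4027))))) (.node (.node (.node (.node (.leaf 106) (.leaf 2694)) (.node (.leaf 1775) (.leaf 2965))) (.node (.node (.leaf 1114) (.leaf 2193)) (.node (.leaf 2410) (.leaf 3446)))) (.node (.node (.node (.leaf 263) (.leaf 1796)) (.node (.leaf 2032) (.leaf 3667))) (.node (.node (.leaf 604) (.leaf 2298)) (.node (.leaf 1342) (.leaf 3942))))))) (.node (.node (.node (.node (.node (.node (.leaf 20) (.leaf 1429)) (.node (.leaf 668) (.leaf 2420))) (.node (.node (.leaf 872) (.leaf 3289)) (.node (.leaf 1026) (.leaf 3085)))) (.node (.node (.node (.leaf 157) (.leaf 3025)) (.node (.leaf 1945) (.leaf 2682))) (.node (.node (.leaf 673) (.leaf 3158)) (.node (.leaf 1675) (.leaf 3387))))) (.node (.node (.node (.node (.leaf 82) (.leaf 2595)) (.node (.leaf 798) (.leaf 3008))) (.node (.node (.leaf 801) (.leaf 2003)) (.node (.leaf 1123) (.leaf 3196)))) (.node (.node (.node (.leaf 682) (.leaf 2297)) (.node (.leaf 933) (.leaf 2839))) (.node (.node (.leaf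 578) (.leaf 3120)) (.node (.leaf 1370) (.leaf 3819)))))) (.node (.node (.node (.node (.node (.leaf 142) (.leaf 1474)) (.node (.leaf 711) (.leaf 3715))) (.node (.node (.leaf 367) (.leaf 2302)) (.node (.leaf 1075) (.leaf 3542)))) (.node (.node (.node (.leaf 213) (.leaf 2759)) (.node (.leaf 886) (.leaf 3783))) (.node (.node (.leaf 1350) (.leaf 3547)) (.node (.leaf 1285) (.leaf 3526))))) (.node (.node (.node (.node (.leaf 397) (.leaf 2979)) (.node (.leaf 1857) (.leaf 2603))) (.node (.node (.leaf 454) (.leaf 2071)) (.node (.leaf 2449) (.leaf 3558)))) (.node (.node (.node (.leaf 782) (.leaf 1850)) (.node (.leaf 1904) (.leaf 3788))) (.node (.node (.leaf 1298) (.leaf 3207)) (.node (.leaf 1368) (.leaf 3874))))))))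

def twoNext5 : Janko.Tree (ℕ) :=
  (.node (.node (.node (.node (.node (.node (.node (.leaf 5) (.leaf 2759)) (.node (.leaf 1568) (.leaf 3643))) (.node (.node (.leaf 828) (.leaf 3262)) (.node (.leaf 2216) (.leaf 3962)))) (.node (.node (.node (.leaf 138) (.leaf 2909)) (.node (.leaf 1904) (.leaf 3840))) (.node (.node (.leaf 1207) (.leaf 2094)) (.node (.leaf 2494) (.leaf 3330))))) (.node (.node (.node (.node (.leaf 244) (.leaf 1497)) (.node (.leaf 1732) (.leaf 3749))) (.node (.node (.leaf 1015) (.leaf 3362)) (.node (.leaf 2357) (.leaf 3547)))) (.node (.node (.node (.leaf 248) (.leaf 1748)) (.node (.leaf 906) (.leaf 2798))) (.node (.node (.leaf 1397) (.leaf 2217)) (.node (.leaf 1309) (.leaf 3611)))))) (.node (.node (.node (.node (.node (.leaf 127) (.leaf 1695)) (.node (.leaf 1415) (.leaf 2649))) (.node (.node (.leaf 928) (.leaf 1906)) (.node (.leaf 2148) (.leaf 3087)))) (.node (.node (.node (.leaf 175) (.leaf 1678)) (.node (.leaf 864) (.leaf 3876))) (.node (.node (.leaf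 516) (.leaf 2149)) (.node (.leaf 1343) (.leaf 3623))))) (.node (.node (.node (.node (.leaf 99) (.leaf 1561)) (.node (.leaf 1814) (.leaf 2567))) (.node (.node (.leaf 1111) (.leaf 2036)) (.node (.leaf 1150) (.leaf 3237)))) (.node (.node (.node (.leaf 730) (.leaf 3202)) (.node (.leaf 2144) (.leaf 2948))) (.node (.node (.leaf 1479) (.leaf 3596)) (.node (.leaf 2415) (.leaf 3804))))))) (.node (.node (.node (.node (.node (.node (.leaf 14) (.leaf 2801)) (.node (.leaf 1612) (.leaf 2466))) (.node (.node (.leaf 325) (.leaf 1873)) (.node (.leaf 2260) (.leaf 3763)))) (.node (.node (.node (.leaf 493) (.leaf 3042)) (.node (.leaf 1946) (.leaf 2704))) (.node (.node (.leaf 1253) (.leaf 2119)) (.node (.leaf 2516) (.leaf 3987))))) (.node (.node (.node (.node (.leaf 297) (.leaf 1525)) (.node (.leaf 1770) (.leaf 2530))) (.node (.node (.leaf 410) (.leaf 3390)) (.node (.leaf 2064) (.leaf 3193)))) (.node (.node (.node (.leaf 238) (.leaf 3162)) (.node (.leaf 2102) (.leaf 3076))) (.node (.node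 (.leaf 1437) (.leaf 2256)) (.node (.leaf 1320) (.leaf 3695)))))) (.node (.node (.node (.node (.node (.leaf 189) (.leaf 1471)) (.node (.leaf 1447) (.leaf 2470))) (.node (.node (.leaf 971) (.leaf 1936)) (.node (.leaf 2070) (.leaf 3377)))) (.node (.node (.node (.leaf 197) (.leaf 1719)) (.node (.leaf 2027) (.leaf 2867))) (.node (.node (.leaf 539) (.leaf 2181)) (.node (.leaf 2609) (.leaf 4075))))) (.node (.node (.node (.node (.leaf 118) (.leaf 2989)) (.node (.leaf 799) (.leaf 3819))) (.node (.node (.leaf 1164) (.leaf 2122)) (.node (.leaf 1176) (.leaf 3279)))) (.node (.node (.node (.leaf 783) (.leaf 1820)) (.node (.leaf 979) (.leaf 3949))) (.node (.node (.leaf 1523) (.leaf 2335)) (.node (.leaf 2733) (.leaf 3870))))))))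

def twoNext6 : Janko.Tree (ℕ) :=
  (.node (.node (.node (.node (.node (.node (.node (.leaf 6) (.leaf 1397)) (.node (.leaf 1566) (.leaf 2384))) (.node (.node (.leaf 303) (.leaf 3260)) (.node (.leaf 1002) (.leaf 2972)))) (.node (.node (.node (.leaf 443) (.leaf 1612)) (.node (.leaf 819) (.leaf 3000))) (.node (.node (.leaf 1198) (.leaf 3475)) (.node (.leaf 1697) (.leaf 3510))))) (.node (.node (.node (.node (.leaf 63) (.leaf 2909)) (.node (.leaf 731) (.leaf 3741))) (.node (.node (.leaf 944) (.leaf 1971)) (.node (.leaf 1097) (.leaf 3154)))) (.node (.node (.node (.leaf 224) (.leaf 2084)) (.node (.leaf 2063) (.leaf 3909))) (.node (.node (.leaf 1396) (.leaf 3567)) (.node (.leaf 1297) (.leaf 3608)))))) (.node (.node (.node (.node (.node (.leaf 132) (.leaf 2839)) (.node (.leaf 1655) (.leaf 2445))) (.node (.node (.leaf 929) (.leaf 3267)) (.node (.leaf 2286) (.leaf 3976)))) (.node (.node (.node (.leaf 539) (.leaf 3003)) (.node (.leaf 1990) (.leaf 2727))) (.node (.node (.leaf 1304)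 (.leaf 3518)) (.node (.leaf 2573) (.leaf 3451))))) (.node (.node (.node (.node (.leaf 301) (.leaf 1549)) (.node (.leaf 776) (.leaf 2970))) (.node (.node (.leaf 1116) (.leaf 2040)) (.node (.leaf 1492) (.leaf 3444)))) (.node (.node (.node (.leaf 366) (.leaf 3203)) (.node (.leaf 2147) (.leaf 3767))) (.node (.node (.leaf 1480) (.leaf 3609)) (.node (.leaf 2704) (.leaf 4091))))))) (.node (.node (.node (.node (.node (.node (.leaf 71) (.leaf 2424)) (.node (.leaf 666) (.leaf 3668))) (.node (.node (.leaf 873) (.leaf 3226)) (.node (.leaf 2257) (.leaf 3021)))) (.node (.node (.node (.leaf 156) (.leaf 3020)) (.node (.leaf 877) (.leaf 2684))) (.node (.node (.leaf 495) (.leaf 2121)) (.node (.leaf 1229) (.leaf 3407))))) (.node (.node (.node (.node (.leaf 296) (.leaf 2800)) (.node (.leaf 1769) (.leaf 3775))) (.node (.node (.leaf 748) (.leaf 3391)) (.node (.leaf 1793) (.leaf 3606)))) (.node (.node (.node (.leaf 683) (.leaf 1773)) (.node (.leaf 939) (.leaf 2837))) (.node (.node (.leaf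 577) (.leaf 3589)) (.node (.leaf 2675) (.leaf 3914)))))) (.node (.node (.node (.node (.node (.leaf 47) (.leaf 2878)) (.node (.leaf 710) (.leaf 3712))) (.node (.node (.leaf 972) (.leaf 3341)) (.node (.leaf 2325) (.leaf 3114)))) (.node (.node (.node (.leaf 588) (.leaf 3044)) (.node (.leaf 884) (.leaf 2956))) (.node (.node (.leaf 1348) (.leaf 3497)) (.node (.leaf 2608) (.leaf 3525))))) (.node (.node (.node (.node (.leaf 373) (.leaf 2446)) (.node (.leaf 1858) (.leaf 2938))) (.node (.node (.leaf 1163) (.leaf 3234)) (.node (.leaf 1588) (.leaf 3305)))) (.node (.node (.node (.leaf 283) (.leaf 1842)) (.node (.leaf 2173) (.leaf 2989))) (.node (.node (.leaf 624) (.leaf 2392)) (.node (.leaf 2732) (.leaf 3881))))))))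

def twoNext7 : Janko.Tree (ℕ) :=
  (.node (.node (.node (.node (.node (.node (.node (.leaf 7) (.leaf 2675)) (.node (.leaf 1569) (.leaf 3644))) (.node (.node (.leaf 829) (.leaf 1849)) (.node (.leaf 1001) (.leaf 3963)))) (.node (.node (.node (.leaf 444) (.leaf 3019)) (.node (.leaf 1905) (.leaf 2642))) (.node (.node (.leaf 472) (.leaf 3476)) (.node (.leaf 1707) (.leaf 3474))))) (.node (.node (.node (.node (.leaf 245) (.leaf 2910)) (.node (.leaf 744) (.leaf 2496))) (.node (.node (.leaf 389) (.leaf 1968)) (.node (.leaf 1096) (.leaf 3145)))) (.node (.node (.node (.leaf 216) (.leaf 3125)) (.node (.leaf 2064) (.leaf 3910))) (.node (.node (.leaf 559) (.leaf 3479)) (.node (.leaf 1292) (.leaf 3607)))))) (.node (.node (.node (.node (.node (.leaf 29) (.leaf 1448)) (.node (.leaf 1656) (.leaf 3703))) (.node (.node (.leaf 383) (.leaf 3089)) (.node (.leaf 1046) (.leaf 3977)))) (.node (.node (.node (.leaf 231) (.leaf 2637)) (.node (.leaf 861) (.leaf 3064))) (.node (.node (.leaf 1305)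 (.leaf 3483)) (.node (.leaf 2574) (.leaf 3445))))) (.node (.node (.node (.node (.leaf 347) (.leaf 1548)) (.node (.leaf 775) (.leaf 2564))) (.node (.node (.leaf 433) (.leaf 2178)) (.node (.leaf 1505) (.leaf 3234)))) (.node (.node (.node (.leaf 261) (.leaf 2393)) (.node (.leaf 957) (.leaf 2885))) (.node (.node (.leaf 1481) (.leaf 3610)) (.node (.leaf 2706) (.leaf 3770))))))) (.node (.node (.node (.node (.node (.node (.leaf 72) (.leaf 1425)) (.node (.leaf 665) (.leaf 3669))) (.node (.node (.leaf 874) (.leaf 3225)) (.node (.leaf 1025) (.leaf 3045)))) (.node (.node (.node (.leaf 494) (.leaf 1646)) (.node (.leaf 839) (.leaf 3859))) (.node (.node (.leaf 1179) (.leaf 3499)) (.node (.leaf 1224) (.leaf 4065))))) (.node (.node (.node (.node (.leaf 80) (.leaf 2938)) (.node (.leaf 752) (.leaf 3776))) (.node (.node (.leaf 747) (.leaf 2372)) (.node (.leaf 2383) (.leaf 3216)))) (.node (.node (.node (.leaf 684) (.leaf 1772)) (.node (.leaf 958) (.leaf 2836))) (.node (.node (.leaf 632)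 (.leaf 3119)) (.node (.leaf 1397) (.leaf 3692)))))) (.node (.node (.node (.node (.node (.leaf 46) (.leaf 2747)) (.node (.leaf 1695) (.leaf 3728))) (.node (.node (.leaf 973) (.leaf 3342)) (.node (.leaf 2326) (.leaf 3113)))) (.node (.node (.node (.leaf 589) (.leaf 3043)) (.node (.leaf 883) (.leaf 2767))) (.node (.node (.leaf 1351) (.leaf 3500)) (.node (.leaf 1270) (.leaf 3581))))) (.node (.node (.node (.node (.leaf 372) (.leaf 1582)) (.node (.leaf 1859) (.leaf 2800))) (.node (.node (.leaf 452) (.leaf 3444)) (.node (.leaf 1602) (.leaf 4050)))) (.node (.node (.node (.leaf 784) (.leaf 3232)) (.node (.leaf 1729) (.leaf 2921))) (.node (.node (.leaf 1434) (.leaf 3205)) (.node (.leaf 1367) (.leaf 3873))))))))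

def twoNext8 : Janko.Tree (ℕ) :=
  (.node (.node (.node (.node (.node (.node (.node (.leaf 8) (.leaf 2405)) (.node (.leaf 1569) (.leaf 3401))) (.node (.node (.leaf 419) (.leaf 3244)) (.node (.leaf 1003) (.leaf 3882)))) (.node (.node (.node (.leaf 139) (.leaf 3018)) (.node (.leaf 1891) (.leaf 2648))) (.node (.node (.leaf 1208) (.leaf 2095)) (.node (.leaf 1277) (.leaf 3540))))) (.node (.node (.node (.node (.leaf 65) (.leaf 1512)) (.node (.leaf 984) (.leaf 3718))) (.node (.node (.leaf 944) (.leaf 1971)) (.node (.leaf 1105) (.leaf 3546)))) (.node (.node (.node (.leaf 635) (.leaf 1750)) (.node (.leaf 909) (.leaf 2799))) (.node (.node (.leaf 1398) (.leaf 2221)) (.node (.leaf 2642) (.leaf 3611)))))) (.node (.node (.node (.node (.node (.leaf 91) (.leaf 2840)) (.node (.leaf 1655) (.leaf 2980))) (.node (.node (.leaf 929) (.leaf 3300)) (.node (.leaf 2294) (.leaf 3088)))) (.node (.node (.node (.leaf 176) (.leaf 1679)) (.node (.leaf 863) (.leaf 2729))) (.node (.node (.leaf 517)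 (.leaf 3511)) (.node (.leaf 2573) (.leaf 3456))))) (.node (.node (.node (.node (.leaf 101) (.leaf 1554)) (.node (.leaf 777) (.leaf 2566))) (.node (.node (.leaf 1117) (.leaf 3358)) (.node (.leaf 1489) (.leaf 3236)))) (.node (.node (.node (.leaf 366) (.leaf 3203)) (.node (.leaf 2145) (.leaf 3932))) (.node (.node (.leaf 1480) (.leaf 3609)) (.node (.leaf 2706) (.leaf 3772))))))) (.node (.node (.node (.node (.node (.node (.leaf 15) (.leaf 2769)) (.node (.leaf 667) (.leaf 3668))) (.node (.node (.leaf 387) (.leaf 1875)) (.node (.leaf 2261) (.leaf 3033)))) (.node (.node (.node (.leaf 158) (.leaf 2671)) (.node (.leaf 1944) (.leaf 3859))) (.node (.node (.leaf 1200) (.leaf 3177)) (.node (.leaf 2534) (.leaf 4065))))) (.node (.node (.node (.node (.leaf 298) (.leaf 1526)) (.node (.leaf 1771) (.leaf 2786))) (.node (.node (.leaf 1054) (.leaf 3391)) (.node (.leaf 2383) (.leaf 3209)))) (.node (.node (.node (.leaf 241) (.leaf 1774)) (.node (.leaf 2103) (.leaf 2846))) (.node (.node (.leaf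 1438) (.leaf 3591)) (.node (.leaf 1369) (.leaf 3696)))))) (.node (.node (.node (.node (.node (.leaf 190) (.leaf 1472)) (.node (.leaf 712) (.leaf 3007))) (.node (.node (.leaf 972) (.leaf 2123)) (.node (.leaf 2325) (.leaf 3118)))) (.node (.node (.node (.leaf 198) (.leaf 3072)) (.node (.leaf 894) (.leaf 2956))) (.node (.node (.leaf 701) (.leaf 2186)) (.node (.leaf 1274) (.leaf 4063))))) (.node (.node (.node (.node (.leaf 279) (.leaf 2758)) (.node (.leaf 800) (.leaf 2627))) (.node (.node (.leaf 1165) (.leaf 3234)) (.node (.leaf 1184) (.leaf 3467)))) (.node (.node (.node (.leaf 761) (.leaf 1833)) (.node (.leaf 2185) (.leaf 3697))) (.node (.node (.leaf 1516) (.leaf 3369)) (.node (.leaf 2734) (.leaf 4080))))))))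

def twoNext9 : Janko.Tree (ℕ) :=
  (.node (.node (.node (.node (.node (.node (.node (.leaf 0) (.leaf 1398)) (.node (.leaf 1570) (.leaf 3586))) (.node (.node (.leaf 308) (.leaf 1850)) (.node (.leaf 1100) (.leaf 3074)))) (.node (.node (.node (.leaf 445) (.leaf 3016)) (.node (.leaf 1901) (.leaf 3841))) (.node (.node (.leaf 473) (.leaf 3477)) (.node (.leaf 1205) (.leaf 4032))))) (.node (.node (.node (.node (.leaf 246) (.leaf 1498)) (.node (.leaf 751) (.leaf 2497))) (.node (.node (.leaf 1016) (.leaf 3368)) (.node (.leaf 1097) (.leaf 3147)))) (.node (.node (.node (.leaf 218) (.leaf 3126)) (.node (.leaf 2065) (.leaf 3911))) (.node (.node (.leaf 560) (.leaf 3538)) (.node (.leaf 1294) (.leaf 3634)))))) (.node (.node (.node (.node (.node (.leaf 30) (.leaf 1449)) (.node (.leaf 1657) (.leaf 3704))) (.node (.node (.leaf 930) (.leaf 3314)) (.node (.leaf 1047) (.leaf 3978)))) (.node (.node (.node (.leaf 540) (.leaf 3065)) (.node (.leaf 1966) (.leaf 3678))) (.node (.node (.leaf 1306)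 (.leaf 3519)) (.node (.leaf 2575) (.leaf 3610))))) (.node (.node (.node (.node (.leaf 348) (.leaf 2966)) (.node (.leaf 1815) (.leaf 2586))) (.node (.node (.leaf 434) (.leaf 3222)) (.node (.leaf 1152) (.leaf 4034)))) (.node (.node (.node (.leaf 731) (.leaf 1956)) (.node (.leaf 958) (.leaf 2886))) (.node (.node (.leaf 1482) (.leaf 3537)) (.node (.leaf 2707) (.leaf 3778))))))) (.node (.node (.node (.node (.node (.node (.leaf 73) (.leaf 1426)) (.node (.leaf 1613) (.leaf 3670))) (.node (.node (.leaf 875) (.leaf 3291)) (.node (.leaf 1026) (.leaf 3815)))) (.node (.node (.node (.leaf 495) (.leaf 1647)) (.node (.leaf 840) (.leaf 2689))) (.node (.node (.leaf 496) (.leaf 2128)) (.node (.leaf 1226) (.leaf 4062))))) (.node (.node (.node (.node (.leaf 81) (.leaf 1649)) (.node (.leaf 753) (.leaf 2531))) (.node (.node (.leaf 1067) (.leaf 3251)) (.node (.leaf 2374) (.leaf 3438)))) (.node (.node (.node (.leaf 685) (.leaf 3105)) (.node (.leaf 934) (.leaf 2837))) (.node (.node (.leaf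 578) (.leaf 2257)) (.node (.leaf 2676) (.leaf 3693)))))) (.node (.node (.node (.node (.node (.leaf 47) (.leaf 2808)) (.node (.leaf 1696) (.leaf 3729))) (.node (.node (.leaf 974) (.leaf 1937)) (.node (.leaf 2327) (.leaf 3383)))) (.node (.node (.node (.leaf 590) (.leaf 3086)) (.node (.leaf 884) (.leaf 3892))) (.node (.node (.leaf 1352) (.leaf 3548)) (.node (.leaf 2610) (.leaf 4076))))) (.node (.node (.node (.node (.leaf 119) (.leaf 1583)) (.node (.leaf 862) (.leaf 2605))) (.node (.node (.leaf 453) (.leaf 3445)) (.node (.leaf 2450) (.leaf 3281)))) (.node (.node (.node (.leaf 776) (.leaf 3233)) (.node (.leaf 981) (.leaf 2922))) (.node (.node (.leaf 625) (.leaf 2337)) (.node (.leaf 1368) (.leaf 3884))))))))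

def twoNext10 : Janko.Tree (ℕ) :=
  (.node (.node (.node (.node (.node (.node (.node (.leaf 9) (.leaf 2760)) (.node (.leaf 1567) (.leaf 3644))) (.node (.node (.leaf 829) (.leaf 3238)) (.node (.leaf 2224) (.leaf 3963)))) (.node (.node (.node (.leaf 429) (.leaf 3019)) (.node (.leaf 1905) (.leaf 2724))) (.node (.node (.leaf 1190) (.leaf 2102)) (.node (.leaf 1256) (.leaf 3335))))) (.node (.node (.node (.node (.leaf 245) (.leaf 1511)) (.node (.leaf 744) (.leaf 3750))) (.node (.node (.leaf 391) (.leaf 3367)) (.node (.leaf 2358) (.leaf 3269)))) (.node (.node (.node (.leaf 636) (.leaf 2076)) (.node (.leaf 907) (.leaf 3814))) (.node (.node (.leaf 1399) (.leaf 2219)) (.node (.leaf 2643) (.leaf 3610)))))) (.node (.node (.node (.node (.node (.leaf 133) (.leaf 2838)) (.node (.leaf 690) (.leaf 3703))) (.node (.node (.leaf 348) (.leaf 1907)) (.node (.leaf 2281) (.leaf 3212)))) (.node (.node (.node (.leaf 183) (.leaf 1678)) (.node (.leaf 862) (.leaf 2734))) (.node (.node (.leaf 516)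 (.leaf 2150)) (.node (.leaf 1249) (.leaf 3448))))) (.node (.node (.node (.node (.leaf 304) (.leaf 1552)) (.node (.leaf 1816) (.leaf 2565))) (.node (.node (.leaf 1115) (.leaf 2038)) (.node (.leaf 2411) (.leaf 3235)))) (.node (.node (.node (.leaf 263) (.leaf 1796)) (.node (.leaf 2148) (.leaf 3933))) (.node (.node (.leaf 604) (.leaf 2298)) (.node (.leaf 2705) (.leaf 3771))))))) (.node (.node (.node (.node (.node (.node (.leaf 14) (.leaf 2766)) (.node (.leaf 671) (.leaf 2420))) (.node (.node (.leaf 326) (.leaf 2339)) (.node (.leaf 2252) (.leaf 3045)))) (.node (.node (.node (.leaf 494) (.leaf 3043)) (.node (.leaf 1947) (.leaf 2685))) (.node (.node (.leaf 1199) (.leaf 2120)) (.node (.leaf 2535) (.leaf 3408))))) (.node (.node (.node (.node (.leaf 291) (.leaf 2939)) (.node (.leaf 1772) (.leaf 2785))) (.node (.node (.leaf 411) (.leaf 2003)) (.node (.leaf 1133) (.leaf 3198)))) (.node (.node (.node (.leaf 239) (.leaf 3163)) (.node (.leaf 2104) (.leaf 3922))) (.node (.node (.leaf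 1302) (.leaf 3574)) (.node (.leaf 2664) (.leaf 3940)))))) (.node (.node (.node (.node (.node (.leaf 191) (.leaf 1471)) (.node (.leaf 1695) (.leaf 2471))) (.node (.node (.leaf 367) (.leaf 2122)) (.node (.leaf 1075) (.leaf 3116)))) (.node (.node (.node (.leaf 197) (.leaf 1720)) (.node (.leaf 2028) (.leaf 3783))) (.node (.node (.leaf 700) (.leaf 2187)) (.node (.leaf 1272) (.leaf 3577))))) (.node (.node (.node (.node (.leaf 268) (.leaf 2920)) (.node (.leaf 1860) (.leaf 3037))) (.node (.node (.leaf 457) (.leaf 2071)) (.node (.leaf 1178) (.leaf 3296)))) (.node (.node (.node (.leaf 784) (.leaf 1821)) (.node (.leaf 2182) (.leaf 3662))) (.node (.node (.leaf 1524) (.leaf 3629)) (.node (.leaf 2729) (.leaf 4081))))))))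

def twoNext11 : Janko.Tree (ℕ) :=
  (.node (.node (.node (.node (.node (.node (.node (.leaf 10) (.leaf 2416)) (.node (.leaf 647) (.leaf 2384))) (.node (.node (.leaf 303) (.leaf 3263)) (.node (.leaf 2226) (.leaf 2972)))) (.node (.node (.node (.leaf 138) (.leaf 1612)) (.node (.leaf 819) (.leaf 2645))) (.node (.node (.leaf 1183) (.leaf 3478)) (.node (.leaf 2495) (.leaf 4060))))) (.node (.node (.node (.node (.leaf 63) (.leaf 2753)) (.node (.leaf 731) (.leaf 3747))) (.node (.node (.leaf 390) (.leaf 1970)) (.node (.leaf 1103) (.leaf 3272)))) (.node (.node (.node (.leaf 637) (.leaf 1748)) (.node (.leaf 906) (.leaf 2969))) (.node (.node (.leaf 1400) (.leaf 2218)) (.node (.leaf 2644) (.leaf 3609)))))) (.node (.node (.node (.node (.node (.leaf 134) (.leaf 2841)) (.node (.leaf 1658) (.leaf 2445))) (.node (.node (.leaf 842) (.leaf 1906)) (.node (.leaf 1761) (.leaf 3532)))) (.node (.node (.node (.leaf 541) (.leaf 2731)) (.node (.leaf 1991) (.leaf 2728))) (.node (.node (.leaf 1307)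 (.leaf 3357)) (.node (.leaf 2576) (.leaf 3455))))) (.node (.node (.node (.node (.leaf 99) (.leaf 1551)) (.node (.leaf 1817) (.leaf 3794))) (.node (.node (.leaf 1118) (.leaf 3399)) (.node (.leaf 1508) (.leaf 3636)))) (.node (.node (.node (.leaf 262) (.leaf 3204)) (.node (.leaf 2149) (.leaf 3934))) (.node (.node (.leaf 1483) (.leaf 3611)) (.node (.leaf 1342) (.leaf 3957))))))) (.node (.node (.node (.node (.node (.node (.leaf 74) (.leaf 2765)) (.node (.leaf 1614) (.leaf 3671))) (.node (.node (.leaf 358) (.leaf 1873)) (.node (.leaf 1753) (.leaf 3021)))) (.node (.node (.node (.leaf 156) (.leaf 3044)) (.node (.leaf 1948) (.leaf 2682))) (.node (.node (.leaf 1254) (.leaf 2119)) (.node (.leaf 2536) (.leaf 3387))))) (.node (.node (.node (.node (.leaf 299) (.leaf 2931)) (.node (.leaf 1773) (.leaf 3777))) (.node (.node (.leaf 1068) (.leaf 2400)) (.node (.leaf 1123) (.leaf 3197)))) (.node (.node (.node (.leaf 238) (.leaf 3164)) (.node (.leaf 2105) (.leaf 2844))) (.node (.node (.leaf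 1316) (.leaf 3592)) (.node (.leaf 1321) (.leaf 3755)))))) (.node (.node (.node (.node (.node (.leaf 192) (.leaf 2715)) (.node (.leaf 710) (.leaf 2470))) (.node (.node (.leaf 975) (.leaf 3343)) (.node (.leaf 2328) (.leaf 3115)))) (.node (.node (.node (.leaf 591) (.leaf 3031)) (.node (.leaf 892) (.leaf 2768))) (.node (.node (.leaf 540) (.leaf 2182)) (.node (.leaf 1271) (.leaf 3529))))) (.node (.node (.node (.node (.leaf 398) (.leaf 2919)) (.node (.leaf 1861) (.leaf 2620))) (.node (.node (.leaf 1166) (.leaf 3446)) (.node (.leaf 1248) (.leaf 3579)))) (.node (.node (.node (.leaf 283) (.leaf 1820)) (.node (.leaf 2187) (.leaf 3705))) (.node (.node (.leaf 1525) (.leaf 3630)) (.node (.leaf 1464) (.leaf 4093))))))))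

def twoNext12 : Janko.Tree (ℕ) :=
  (.node (.node (.node (.node (.node (.node (.node (.leaf 6) (.leaf 1399)) (.node (.leaf 1468) (.leaf 3168))) (.node (.node (.leaf 830) (.leaf 3232)) (.node (.leaf 2226) (.leaf 3673)))) (.node (.node (.node (.leaf 446) (.leaf 1631)) (.node (.leaf 1902) (.leaf 2816))) (.node (.node (.leaf 474) (.leaf 2102)) (.node (.leaf 1246) (.leaf 3541))))) (.node (.node (.node (.node (.leaf 247) (.leaf 1500)) (.node (.leaf 1727) (.leaf 2498))) (.node (.node (.leaf 1017) (.leaf 2275)) (.node (.leaf 1098) (.leaf 3169)))) (.node (.node (.node (.leaf 546) (.leaf 3127)) (.node (.leaf 1726) (.leaf 3814))) (.node (.node (.leaf 561) (.leaf 2230)) (.node (.leaf 1295) (.leaf 4054)))))) (.node (.node (.node (.node (.node (.leaf 31) (.leaf 2650)) (.node (.leaf 1656) (.leaf 3698))) (.node (.node (.leaf 383) (.leaf 3298)) (.node (.leaf 1765) (.leaf 3212)))) (.node (.node (.node (.leaf 541) (.leaf 1685)) (.node (.leaf 864) (.leaf 2730))) (.node (.node (.leaf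 518) (.leaf 3210)) (.node (.leaf 2574) (.leaf 4036))))) (.node (.node (.node (.node (.leaf 304) (.leaf 2868)) (.node (.leaf 1816) (.leaf 2888))) (.node (.node (.leaf 444) (.leaf 3393)) (.node (.leaf 1153) (.leaf 3636)))) (.node (.node (.node (.leaf 732) (.leaf 2393)) (.node (.leaf 2031) (.leaf 3885))) (.node (.node (.leaf 1481) (.leaf 3610)) (.node (.leaf 1344) (.leaf 3957))))))) (.node (.node (.node (.node (.node (.node (.leaf 16) (.leaf 1427)) (.node (.leaf 1614) (.leaf 3669))) (.node (.node (.leaf 332) (.leaf 2209)) (.node (.leaf 2140) (.leaf 3656)))) (.node (.node (.node (.leaf 496) (.leaf 2596)) (.node (.leaf 841) (.leaf 2685))) (.node (.node (.leaf 497) (.leaf 3159)) (.node (.leaf 1227) (.leaf 3484))))) (.node (.node (.node (.node (.leaf 296) (.leaf 2939)) (.node (.leaf 756) (.leaf 2532))) (.node (.node (.leaf 1055) (.leaf 2372)) (.node (.leaf 1146) (.leaf 3208)))) (.node (.node (.node (.leaf 514) (.leaf 3163)) (.node (.leaf 998) (.leaf 2838))) (.node (.node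 (.leaf 1299) (.leaf 2273)) (.node (.leaf 2663) (.leaf 3704)))))) (.node (.node (.node (.node (.node (.leaf 48) (.leaf 2715)) (.node (.leaf 1697) (.leaf 2472))) (.node (.node (.leaf 973) (.leaf 1938)) (.node (.leaf 2326) (.leaf 3124)))) (.node (.node (.node (.leaf 199) (.leaf 2629)) (.node (.leaf 885) (.leaf 2802))) (.node (.node (.leaf 1353) (.leaf 3093)) (.node (.leaf 1282) (.leaf 4004))))) (.node (.node (.node (.node (.leaf 302) (.leaf 2691)) (.node (.leaf 1860) (.leaf 3082))) (.node (.node (.leaf 1163) (.leaf 3444)) (.node (.leaf 2451) (.leaf 3576)))) (.node (.node (.node (.leaf 284) (.leaf 1844)) (.node (.leaf 2175) (.leaf 2985))) (.node (.node (.leaf 626) (.leaf 3353)) (.node (.leaf 2675) (.leaf 4081))))))))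

def twoNext13 : Janko.Tree (ℕ) :=
  (.node (.node (.node (.node (.node (.node (.node (.leaf 11) (.leaf 2761)) (.node (.leaf 648) (.leaf 2385))) (.node (.node (.leaf 304) (.leaf 3264)) (.node (.leaf 2227) (.leaf 2973)))) (.node (.node (.node (.leaf 139) (.leaf 2873)) (.node (.leaf 820) (.leaf 2646))) (.node (.node (.leaf 1209) (.leaf 2097)) (.node (.leaf 2496) (.leaf 3381))))) (.node (.node (.node (.node (.leaf 64) (.leaf 2911)) (.node (.leaf 732) (.leaf 2773))) (.node (.node (.leaf 391) (.leaf 1971)) (.node (.leaf 2333) (.leaf 3150)))) (.node (.node (.node (.leaf 638) (.leaf 1750)) (.node (.leaf 907) (.leaf 2824))) (.node (.node (.leaf 1401) (.leaf 2219)) (.node (.leaf 2645) (.leaf 3639)))))) (.node (.node (.node (.node (.node (.leaf 135) (.leaf 2842)) (.node (.leaf 1654) (.leaf 2446))) (.node (.node (.leaf 927) (.leaf 1907)) (.node (.leaf 2295) (.leaf 3976)))) (.node (.node (.node (.leaf 497) (.leaf 2846)) (.node (.leaf 1992) (.leaf 2741))) (.node (.node (.leaf 1223)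 (.leaf 3520)) (.node (.leaf 1252) (.leaf 3631))))) (.node (.node (.node (.node (.leaf 349) (.leaf 1552)) (.node (.leaf 1818) (.leaf 2566))) (.node (.node (.leaf 1119) (.leaf 2041)) (.node (.leaf 2412) (.leaf 4037)))) (.node (.node (.node (.leaf 263) (.leaf 1799)) (.node (.leaf 2150) (.leaf 2887))) (.node (.node (.leaf 1478) (.leaf 2353)) (.node (.leaf 2652) (.leaf 4091))))))) (.node (.node (.node (.node (.node (.node (.leaf 75) (.leaf 2802)) (.node (.leaf 1595) (.leaf 2738))) (.node (.node (.leaf 327) (.leaf 1874)) (.node (.leaf 2262) (.leaf 3022)))) (.node (.node (.node (.leaf 157) (.leaf 1651)) (.node (.leaf 1798) (.leaf 3860))) (.node (.node (.leaf 1255) (.leaf 3500)) (.node (.leaf 2537) (.leaf 3391))))) (.node (.node (.node (.node (.leaf 300) (.leaf 2940)) (.node (.leaf 1774) (.leaf 3760))) (.node (.node (.leaf 1069) (.leaf 2006)) (.node (.leaf 2384) (.leaf 3198)))) (.node (.node (.node (.leaf 239) (.leaf 3165)) (.node (.leaf 2106) (.leaf 2857))) (.node (.node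 (.leaf 580) (.leaf 3593)) (.node (.leaf 1322) (.leaf 3698)))))) (.node (.node (.node (.node (.node (.leaf 193) (.leaf 2879)) (.node (.leaf 711) (.leaf 3676))) (.node (.node (.leaf 970) (.leaf 3324)) (.node (.leaf 2324) (.leaf 3116)))) (.node (.node (.node (.leaf 592) (.leaf 1721)) (.node (.leaf 1892) (.leaf 2769))) (.node (.node (.leaf 541) (.leaf 2183)) (.node (.leaf 1272) (.leaf 3530))))) (.node (.node (.node (.node (.leaf 399) (.leaf 2990)) (.node (.leaf 1862) (.leaf 2608))) (.node (.node (.leaf 469) (.leaf 2074)) (.node (.leaf 1179) (.leaf 3284)))) (.node (.node (.node (.leaf 785) (.leaf 3234)) (.node (.leaf 2188) (.leaf 3950))) (.node (.node (.leaf 1526) (.leaf 3226)) (.node (.leaf 2520) (.leaf 3888))))))))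

def twoNext14 : Janko.Tree (ℕ) :=
  (.node (.node (.node (.node (.node (.node (.node (.leaf 0) (.leaf 1398)) (.node (.leaf 1462) (.leaf 3643))) (.node (.node (.leaf 831) (.leaf 1851)) (.node (.leaf 2225) (.leaf 3962)))) (.node (.node (.node (.leaf 421) (.leaf 1630)) (.node (.leaf 1906) (.leaf 2890))) (.node (.node (.leaf 677) (.leaf 2095)) (.node (.leaf 1206) (.leaf 4060))))) (.node (.node (.node (.node (.leaf 69) (.leaf 1510)) (.node (.leaf 1733) (.leaf 2497))) (.node (.node (.leaf 1018) (.leaf 2250)) (.node (.leaf 1100) (.leaf 3155)))) (.node (.node (.node (.leaf 219) (.leaf 2240)) (.node (.leaf 2066) (.leaf 2799))) (.node (.node (.leaf 1402) (.leaf 3569)) (.node (.leaf 1592) (.leaf 3647)))))) (.node (.node (.node (.node (.node (.leaf 30) (.leaf 1450)) (.node (.leaf 1658) (.leaf 3705))) (.node (.node (.leaf 842) (.leaf 3315)) (.node (.leaf 1049) (.leaf 3088)))) (.node (.node (.node (.leaf 184) (.leaf 1683)) (.node (.leaf 1991) (.leaf 3837))) (.node (.node (.leaf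 1307) (.leaf 2151)) (.node (.leaf 2576) (.leaf 3454))))) (.node (.node (.node (.node (.leaf 101) (.leaf 2967)) (.node (.leaf 777) (.leaf 2625))) (.node (.node (.leaf 858) (.leaf 2368)) (.node (.leaf 1152) (.leaf 3237)))) (.node (.node (.node (.leaf 733) (.leaf 3204)) (.node (.leaf 2047) (.leaf 3884))) (.node (.node (.leaf 1483) (.leaf 3611)) (.node (.leaf 1343) (.leaf 3773))))))) (.node (.node (.node (.node (.node (.node (.leaf 74) (.leaf 1519)) (.node (.leaf 672) (.leaf 3671))) (.node (.node (.leaf 422) (.leaf 2080)) (.node (.leaf 2135) (.leaf 3663)))) (.node (.node (.node (.leaf 162) (.leaf 2594)) (.node (.leaf 1940) (.leaf 3859))) (.node (.node (.leaf 507) (.leaf 3499)) (.node (.leaf 1233) (.leaf 3493))))) (.node (.node (.node (.node (.leaf 82) (.leaf 1526)) (.node (.leaf 754) (.leaf 3778))) (.node (.node (.leaf 1068) (.leaf 2400)) (.node (.leaf 1126) (.leaf 3625)))) (.node (.node (.node (.leaf 686) (.leaf 1774)) (.node (.leaf 935) (.leaf 2840))) (.node (.node (.leaf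 1439) (.leaf 2259)) (.node (.leaf 2669) (.leaf 3792)))))) (.node (.node (.node (.node (.node (.leaf 166) (.leaf 1473)) (.node (.leaf 1204) (.leaf 3730))) (.node (.node (.leaf 975) (.leaf 3344)) (.node (.leaf 2328) (.leaf 3997)))) (.node (.node (.node (.leaf 591) (.leaf 3029)) (.node (.leaf 887) (.leaf 3789))) (.node (.node (.leaf 1354) (.leaf 3096)) (.node (.leaf 2611) (.leaf 3984))))) (.node (.node (.node (.node (.leaf 120) (.leaf 1584)) (.node (.leaf 800) (.leaf 3820))) (.node (.node (.leaf 454) (.leaf 3446)) (.node (.leaf 2452) (.leaf 3310)))) (.node (.node (.node (.leaf 786) (.leaf 1843)) (.node (.leaf 982) (.leaf 2923))) (.node (.node (.leaf 651) (.leaf 2338)) (.node (.leaf 1370) (.leaf 4080))))))))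

def twoNext15 : Janko.Tree (ℕ) :=
  (.node (.node (.node (.node (.node (.node (.node (.leaf 12) (.leaf 2421)) (.node (.leaf 1571) (.leaf 3167))) (.node (.node (.leaf 832) (.leaf 1850)) (.node (.leaf 1003) (.leaf 3672)))) (.node (.node (.node (.leaf 414) (.leaf 1613)) (.node (.leaf 1907) (.leaf 2814))) (.node (.node (.leaf 1182) (.leaf 2138)) (.node (.leaf 1205) (.leaf 3335))))) (.node (.node (.node (.node (.leaf 248) (.leaf 2912)) (.node (.leaf 1734) (.leaf 3052))) (.node (.node (.leaf 1019) (.leaf 2249)) (.node (.leaf 2359) (.leaf 3648)))) (.node (.node (.node (.leaf 218) (.leaf 2248)) (.node (.leaf 1724) (.leaf 3702))) (.node (.node (.leaf 1164) (.leaf 2228)) (.node (.leaf 2646) (.leaf 3628)))))) (.node (.node (.node (.node (.node (.leaf 136) (.leaf 2843)) (.node (.leaf 690) (.leaf 3662))) (.node (.node (.leaf 348) (.leaf 3250)) (.node (.leaf 2296) (.leaf 3432)))) (.node (.node (.node (.leaf 176) (.leaf 1682)) (.node (.leaf 862) (.leaf 3836))) (.node (.node (.leaf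 516) (.leaf 2246)) (.node (.leaf 1249) (.leaf 3453))))) (.node (.node (.node (.node (.leaf 100) (.leaf 2866)) (.node (.leaf 1819) (.leaf 2887))) (.node (.node (.leaf 435) (.leaf 2367)) (.node (.leaf 1174) (.leaf 3236)))) (.node (.node (.node (.leaf 734) (.leaf 1796)) (.node (.leaf 959) (.leaf 3935))) (.node (.node (.leaf 604) (.leaf 2298)) (.node (.leaf 2708) (.leaf 3772))))))) (.node (.node (.node (.node (.node (.node (.leaf 14) (.leaf 2616)) (.node (.leaf 667) (.leaf 2420))) (.node (.node (.leaf 876) (.leaf 3292)) (.node (.leaf 1027) (.leaf 3654)))) (.node (.node (.node (.leaf 497) (.leaf 1648)) (.node (.leaf 840) (.leaf 2684))) (.node (.node (.leaf 496) (.leaf 2121)) (.node (.leaf 2538) (.leaf 3477))))) (.node (.node (.node (.node (.leaf 81) (.leaf 2941)) (.node (.leaf 753) (.leaf 3059))) (.node (.node (.leaf 411) (.leaf 2003)) (.node (.leaf 1125) (.leaf 3202)))) (.node (.node (.node (.leaf 512) (.leaf 3166)) (.node (.leaf 934) (.leaf 3878))) (.node (.node (.leaf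 1319) (.leaf 2258)) (.node (.leaf 2677) (.leaf 3699)))))) (.node (.node (.node (.node (.node (.leaf 194) (.leaf 1472)) (.node (.leaf 1698) (.leaf 3725))) (.node (.node (.leaf 367) (.leaf 3345)) (.node (.leaf 1075) (.leaf 3122)))) (.node (.node (.node (.leaf 197) (.leaf 3028)) (.node (.leaf 2029) (.leaf 2812))) (.node (.node (.leaf 1355) (.leaf 3091)) (.node (.leaf 1280) (.leaf 4007))))) (.node (.node (.node (.node (.leaf 119) (.leaf 2922)) (.node (.leaf 1863) (.leaf 3821))) (.node (.node (.leaf 453) (.leaf 2071)) (.node (.leaf 2453) (.leaf 3309)))) (.node (.node (.node (.leaf 787) (.leaf 1822)) (.node (.leaf 981) (.leaf 2988))) (.node (.node (.leaf 625) (.leaf 2401)) (.node (.leaf 2735) (.leaf 4085))))))))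

def twoNext16 : Janko.Tree (ℕ) :=
  (.node (.node (.node (.node (.node (.node (.node (.leaf 7) (.leaf 2762)) (.node (.leaf 1452) (.leaf 2387))) (.node (.node (.leaf 305) (.leaf 2240)) (.node (.leaf 2228) (.leaf 2976)))) (.node (.node (.node (.leaf 140) (.leaf 1629)) (.node (.leaf 1888) (.leaf 3005))) (.node (.node (.leaf 603) (.leaf 3478)) (.node (.leaf 2497) (.leaf 3337))))) (.node (.node (.node (.node (.leaf 245) (.leaf 1510)) (.node (.leaf 733) (.leaf 3052))) (.node (.node (.leaf 392) (.leaf 3352)) (.node (.leaf 2359) (.leaf 3152)))) (.node (.node (.node (.leaf 500) (.leaf 1755)) (.node (.leaf 908) (.leaf 2969))) (.node (.node (.leaf 1402) (.leaf 2220)) (.node (.leaf 1592) (.leaf 4029)))))) (.node (.node (.node (.node (.node (.leaf 32) (.leaf 2834)) (.node (.leaf 1659) (.leaf 3706))) (.node (.node (.leaf 349) (.leaf 3306)) (.node (.leaf 1069) (.leaf 3532)))) (.node (.node (.node (.leaf 542) (.leaf 2723)) (.node (.leaf 1993) (.leaf 2859))) (.node (.node (.leaf 1308)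 (.leaf 3211)) (.node (.leaf 1251) (.leaf 3457))))) (.node (.node (.node (.node (.leaf 350) (.leaf 1553)) (.node (.leaf 1817) (.leaf 3794))) (.node (.node (.leaf 1070) (.leaf 2404)) (.node (.leaf 2413) (.leaf 3251)))) (.node (.node (.node (.leaf 264) (.leaf 1800)) (.node (.leaf 960) (.leaf 3680))) (.node (.node (.leaf 1433) (.leaf 3157)) (.node (.leaf 1345) (.leaf 3907))))))) (.node (.node (.node (.node (.node (.node (.leaf 76) (.leaf 2439)) (.node (.leaf 1615) (.leaf 3672))) (.node (.node (.leaf 329) (.leaf 2339)) (.node (.leaf 1853) (.leaf 3798)))) (.node (.node (.node (.leaf 494) (.leaf 1650)) (.node (.leaf 1949) (.leaf 2988))) (.node (.node (.leaf 498) (.leaf 2124)) (.node (.leaf 1233) (.leaf 3500))))) (.node (.node (.node (.node (.leaf 119) (.leaf 2931)) (.node (.leaf 776) (.leaf 3778))) (.node (.node (.leaf 1062) (.leaf 2007)) (.node (.leaf 1144) (.leaf 3513)))) (.node (.node (.node (.leaf 240) (.leaf 3164)) (.node (.leaf 988) (.leaf 3878))) (.node (.node (.leaf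 581) (.leaf 3138)) (.node (.leaf 1324) (.leaf 3939)))))) (.node (.node (.node (.node (.node (.leaf 166) (.leaf 2878)) (.node (.leaf 1695) (.leaf 3730))) (.node (.node (.leaf 374) (.leaf 3344)) (.node (.leaf 2329) (.leaf 3117)))) (.node (.node (.node (.leaf 593) (.leaf 2756)) (.node (.leaf 2029) (.leaf 2801))) (.node (.node (.leaf 699) (.leaf 2184)) (.node (.leaf 1273) (.leaf 3980))))) (.node (.node (.node (.node (.leaf 400) (.leaf 2511)) (.node (.leaf 1861) (.leaf 2626))) (.node (.node (.leaf 571) (.leaf 2073)) (.node (.leaf 1180) (.leaf 4021)))) (.node (.node (.node (.leaf 786) (.leaf 3235)) (.node (.leaf 2169) (.leaf 3791))) (.node (.node (.leaf 1469) (.leaf 3354)) (.node (.leaf 1397) (.leaf 3903))))))))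

def twoNext17 : Janko.Tree (ℕ) :=
  (.node (.node (.node (.node (.node (.node (.node (.leaf 13) (.leaf 1399)) (.node (.leaf 1572) (.leaf 3489))) (.node (.node (.leaf 833) (.leaf 1851)) (.node (.leaf 1004) (.leaf 3964)))) (.node (.node (.node (.leaf 447) (.leaf 1615)) (.node (.leaf 1908) (.leaf 2647))) (.node (.node (.leaf 1210) (.leaf 3479)) (.node (.leaf 1206) (.leaf 3344))))) (.node (.node (.node (.node (.leaf 217) (.leaf 1502)) (.node (.leaf 1735) (.leaf 3751))) (.node (.node (.leaf 1020) (.leaf 3369)) (.node (.leaf 2350) (.leaf 3453)))) (.node (.node (.node (.leaf 219) (.leaf 3128)) (.node (.leaf 2067) (.leaf 3910))) (.node (.node (.leaf 1403) (.leaf 3521)) (.node (.leaf 2643) (.leaf 3629)))))) (.node (.node (.node (.node (.node (.leaf 137) (.leaf 1682)) (.node (.leaf 691) (.leaf 2447))) (.node (.node (.leaf 931) (.leaf 3316)) (.node (.leaf 2169) (.leaf 3197)))) (.node (.node (.node (.leaf 178) (.leaf 1683)) (.node (.leaf 863) (.leaf 2731))) (.node (.node (.leaf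 517) (.leaf 2277)) (.node (.leaf 2556) (.leaf 4071))))) (.node (.node (.node (.node (.leaf 101) (.leaf 1688)) (.node (.leaf 780) (.leaf 3800))) (.node (.node (.leaf 436) (.leaf 2045)) (.node (.leaf 1153) (.leaf 4038)))) (.node (.node (.node (.leaf 735) (.leaf 1797)) (.node (.leaf 2151) (.leaf 2890))) (.node (.node (.leaf 605) (.leaf 2343)) (.node (.leaf 2709) (.leaf 3776))))))) (.node (.node (.node (.node (.node (.node (.leaf 15) (.leaf 1428)) (.node (.leaf 669) (.leaf 2421))) (.node (.node (.leaf 877) (.leaf 1887)) (.node (.leaf 1028) (.leaf 3026)))) (.node (.node (.node (.leaf 177) (.leaf 1674)) (.node (.leaf 841) (.leaf 2685))) (.node (.node (.leaf 1256) (.leaf 3501)) (.node (.leaf 2535) (.leaf 3393))))) (.node (.node (.node (.node (.leaf 301) (.leaf 2938)) (.node (.leaf 754) (.leaf 2660))) (.node (.node (.leaf 412) (.leaf 2004)) (.node (.leaf 1126) (.leaf 3352)))) (.node (.node (.node (.leaf 687) (.leaf 2021)) (.node (.leaf 935) (.leaf 3921))) (.node (.node (.leaf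 1440) (.leaf 2259)) (.node (.leaf 2498) (.leaf 3708)))))) (.node (.node (.node (.node (.node (.leaf 187) (.leaf 1601)) (.node (.leaf 1685) (.leaf 2641))) (.node (.node (.leaf 368) (.leaf 3236)) (.node (.leaf 1076) (.leaf 3989)))) (.node (.node (.node (.leaf 198) (.leaf 1723)) (.node (.leaf 2015) (.leaf 3893))) (.node (.node (.leaf 542) (.leaf 3549)) (.node (.leaf 1379) (.leaf 3531))))) (.node (.node (.node (.node (.leaf 120) (.leaf 2991)) (.node (.leaf 1859) (.leaf 3822))) (.node (.node (.leaf 1167) (.leaf 3433)) (.node (.leaf 2454) (.leaf 3286)))) (.node (.node (.node (.leaf 788) (.leaf 1823)) (.node (.leaf 982) (.leaf 2933))) (.node (.node (.leaf 1527) (.leaf 3630)) (.node (.leaf 2736) (.leaf 3967))))))))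

def twoNext18 : Janko.Tree (ℕ) :=
  (.node (.node (.node (.node (.node (.node (.node (.leaf 12) (.leaf 2509)) (.node (.leaf 649) (.leaf 2386))) (.node (.node (.leaf 834) (.leaf 3127)) (.node (.leaf 2229) (.leaf 3861)))) (.node (.node (.node (.leaf 413) (.leaf 1646)) (.node (.leaf 821) (.leaf 3001))) (.node (.node (.leaf 560) (.leaf 2138)) (.node (.leaf 2498) (.leaf 3336))))) (.node (.node (.node (.node (.leaf 65) (.leaf 1500)) (.node (.leaf 732) (.leaf 2499))) (.node (.node (.leaf 1021) (.leaf 3347)) (.node (.leaf 1101) (.leaf 3151)))) (.node (.node (.node (.leaf 639) (.leaf 2069)) (.node (.leaf 2058) (.leaf 3702))) (.node (.node (.leaf 561) (.leaf 3351)) (.node (.leaf 1295) (.leaf 4021)))))) (.node (.node (.node (.node (.node (.leaf 136) (.leaf 2843)) (.node (.leaf 1657) (.leaf 3707))) (.node (.node (.leaf 932) (.leaf 2091)) (.node (.leaf 2296) (.leaf 3432)))) (.node (.node (.node (.leaf 543) (.leaf 3066)) (.node (.leaf 865) (.leaf 3835))) (.node (.node (.leaf 521)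 (.leaf 2246)) (.node (.leaf 1250) (.leaf 4038))))) (.node (.node (.node (.node (.leaf 351) (.leaf 1555)) (.node (.leaf 1819) (.leaf 2567))) (.node (.node (.leaf 1063) (.leaf 3371)) (.node (.leaf 1158) (.leaf 3263)))) (.node (.node (.node (.leaf 736) (.leaf 3205)) (.node (.leaf 2152) (.leaf 3784))) (.node (.node (.leaf 1484) (.leaf 3156)) (.node (.leaf 2708) (.leaf 3904))))))) (.node (.node (.node (.node (.node (.node (.leaf 77) (.leaf 2433)) (.node (.leaf 1616) (.leaf 3670))) (.node (.node (.leaf 425) (.leaf 1875)) (.node (.leaf 2263) (.leaf 3717)))) (.node (.node (.node (.leaf 158) (.leaf 1649)) (.node (.leaf 1934) (.leaf 2971))) (.node (.node (.leaf 1197) (.leaf 3343)) (.node (.leaf 1227) (.leaf 4016))))) (.node (.node (.node (.node (.leaf 83) (.leaf 2941)) (.node (.leaf 1775) (.leaf 2532))) (.node (.node (.leaf 1061) (.leaf 3330)) (.node (.leaf 2385) (.leaf 3199)))) (.node (.node (.node (.leaf 678) (.leaf 3166)) (.node (.leaf 2107) (.leaf 2841))) (.node (.node (.leaf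 580) (.leaf 3561)) (.node (.leaf 2662) (.leaf 3699)))))) (.node (.node (.node (.node (.node (.leaf 48) (.leaf 1474)) (.node (.leaf 712) (.leaf 2472))) (.node (.node (.leaf 976) (.leaf 1938)) (.node (.leaf 2327) (.leaf 3119)))) (.node (.node (.node (.leaf 202) (.leaf 3027)) (.node (.leaf 888) (.leaf 3854))) (.node (.node (.leaf 720) (.leaf 3323)) (.node (.leaf 1275) (.leaf 4002))))) (.node (.node (.node (.node (.leaf 401) (.leaf 1585)) (.node (.leaf 1863) (.leaf 2609))) (.node (.node (.leaf 455) (.leaf 2072)) (.node (.leaf 1607) (.leaf 4029)))) (.node (.node (.node (.leaf 284) (.leaf 3236)) (.node (.leaf 2189) (.leaf 2929))) (.node (.node (.leaf 1465) (.leaf 2401)) (.node (.leaf 2735) (.leaf 3897))))))))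

def twoNext19 : Janko.Tree (ℕ) :=
  (.node (.node (.node (.node (.node (.node (.node (.leaf 0) (.leaf 2522)) (.node (.leaf 648) (.leaf 3645))) (.node (.node (.leaf 835) (.leaf 3265)) (.node (.leaf 2230) (.leaf 2974)))) (.node (.node (.node (.leaf 412) (.leaf 3020)) (.node (.leaf 1909) (.leaf 3063))) (.node (.node (.leaf 475) (.leaf 2095)) (.node (.leaf 2499) (.leaf 4061))))) (.node (.node (.node (.node (.leaf 64) (.leaf 1557)) (.node (.leaf 1736) (.leaf 2498))) (.node (.node (.leaf 1022) (.leaf 1972)) (.node (.leaf 1098) (.leaf 3150)))) (.node (.node (.node (.leaf 455) (.leaf 1751)) (.node (.leaf 2068) (.leaf 2799))) (.node (.node (.leaf 1230) (.leaf 3570)) (.node (.leaf 1638) (.leaf 4009)))))) (.node (.node (.node (.node (.node (.leaf 30) (.leaf 1450)) (.node (.leaf 1660) (.leaf 3708))) (.node (.node (.leaf 846) (.leaf 1908)) (.node (.leaf 1049) (.leaf 3088)))) (.node (.node (.node (.leaf 544) (.leaf 2721)) (.node (.leaf 1994) (.leaf 2916))) (.node (.node (.leaf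 1309) (.leaf 2151)) (.node (.leaf 2577) (.leaf 3584))))) (.node (.node (.node (.node (.leaf 352) (.leaf 2968)) (.node (.leaf 777) (.leaf 2566))) (.node (.node (.leaf 1062) (.leaf 3370)) (.node (.leaf 1173) (.leaf 3238)))) (.node (.node (.node (.leaf 737) (.leaf 2392)) (.node (.leaf 2153) (.leaf 3936))) (.node (.node (.leaf 1444) (.leaf 2299)) (.node (.leaf 1343) (.leaf 3774))))))) (.node (.node (.node (.node (.node (.node (.leaf 78) (.leaf 2803)) (.node (.leaf 1617) (.leaf 3673))) (.node (.node (.leaf 327) (.leaf 1874)) (.node (.leaf 2264) (.leaf 3754)))) (.node (.node (.node (.leaf 157) (.leaf 3039)) (.node (.leaf 930) (.leaf 2985))) (.node (.node (.leaf 1257) (.leaf 2122)) (.node (.leaf 1265) (.leaf 3547))))) (.node (.node (.node (.node (.leaf 302) (.leaf 1526)) (.node (.leaf 774) (.leaf 3779))) (.node (.node (.leaf 1070) (.leaf 2282)) (.node (.leaf 1139) (.leaf 4020)))) (.node (.node (.node (.leaf 688) (.leaf 1774)) (.node (.leaf 964) (.leaf 2838))) (.node (.node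 (.leaf 602) (.leaf 3134)) (.node (.leaf 1322) (.leaf 3792)))))) (.node (.node (.node (.node (.node (.leaf 195) (.leaf 2880)) (.node (.leaf 711) (.leaf 3731))) (.node (.node (.leaf 943) (.leaf 3346)) (.node (.leaf 2330) (.leaf 3589)))) (.node (.node (.node (.leaf 594) (.leaf 3026)) (.node (.leaf 885) (.leaf 2770))) (.node (.node (.leaf 1356) (.leaf 3396)) (.node (.leaf 2612) (.leaf 3978))))) (.node (.node (.node (.node (.leaf 402) (.leaf 1690)) (.node (.leaf 800) (.leaf 2623))) (.node (.node (.leaf 639) (.leaf 3447)) (.node (.leaf 1623) (.leaf 4010)))) (.node (.node (.node (.leaf 300) (.leaf 3237)) (.node (.leaf 1730) (.leaf 2927))) (.node (.node (.leaf 627) (.leaf 2338)) (.node (.leaf 1370) (.leaf 3902))))))))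

def twoNext20 : Janko.Tree (ℕ) :=
  (.node (.node (.node (.node (.node (.node (.node (.leaf 14) (.leaf 1407)) (.node (.leaf 1573) (.leaf 2388))) (.node (.node (.leaf 834) (.leaf 1852)) (.node (.leaf 1005) (.leaf 3685)))) (.node (.node (.node (.leaf 141) (.leaf 1617)) (.node (.leaf 1889) (.leaf 3785))) (.node (.node (.leaf 1211) (.leaf 2099)) (.node (.leaf 1207) (.leaf 3338))))) (.node (.node (.node (.node (.leaf 178) (.leaf 2912)) (.node (.leaf 734) (.leaf 2503))) (.node (.node (.leaf 1021) (.leaf 2316)) (.node (.leaf 1101) (.leaf 3264)))) (.node (.node (.node (.leaf 220) (.leaf 3096)) (.node (.leaf 2068) (.leaf 3911))) (.node (.node (.leaf 1164) (.leaf 3570)) (.node (.leaf 2646) (.leaf 3637)))))) (.node (.node (.node (.node (.node (.leaf 138) (.leaf 2844)) (.node (.leaf 692) (.leaf 2448))) (.node (.node (.leaf 932) (.leaf 2403)) (.node (.leaf 1772) (.leaf 3978)))) (.node (.node (.node (.leaf 250) (.leaf 1684)) (.node (.leaf 1991) (.leaf 3877))) (.node (.node (.leaf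 1307) (.leaf 3416)) (.node (.leaf 1252) (.leaf 4038))))) (.node (.node (.node (.node (.leaf 102) (.leaf 2968)) (.node (.leaf 785) (.leaf 3801))) (.node (.node (.leaf 799) (.leaf 3399)) (.node (.leaf 2408) (.leaf 3479)))) (.node (.node (.node (.leaf 736) (.leaf 1798)) (.node (.leaf 2152) (.leaf 2891))) (.node (.node (.leaf 606) (.leaf 3188)) (.node (.leaf 2710) (.leaf 3969))))))) (.node (.node (.node (.node (.node (.node (.leaf 74) (.leaf 2424)) (.node (.leaf 670) (.leaf 2900))) (.node (.node (.leaf 425) (.leaf 1880)) (.node (.leaf 1029) (.leaf 3799)))) (.node (.node (.node (.leaf 470) (.leaf 2516)) (.node (.leaf 1947) (.leaf 2975))) (.node (.node (.leaf 1197) (.leaf 3323)) (.node (.leaf 2538) (.leaf 3397))))) (.node (.node (.node (.node (.leaf 120) (.leaf 2618)) (.node (.leaf 755) (.leaf 3059))) (.node (.node (.leaf 751) (.leaf 2005)) (.node (.leaf 2386) (.leaf 3514)))) (.node (.node (.node (.leaf 688) (.leaf 3167)) (.node (.leaf 936) (.leaf 3883))) (.node (.node (.leaf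 1441) (.leaf 3133)) (.node (.leaf 2662) (.leaf 3956)))))) (.node (.node (.node (.node (.node (.leaf 194) (.leaf 2747)) (.node (.leaf 727) (.leaf 3725))) (.node (.node (.leaf 369) (.leaf 3345)) (.node (.leaf 1086) (.leaf 3589)))) (.node (.node (.node (.leaf 591) (.leaf 2050)) (.node (.leaf 959) (.leaf 3890))) (.node (.node (.leaf 544) (.leaf 2207)) (.node (.leaf 2612) (.leaf 4032))))) (.node (.node (.node (.node (.leaf 270) (.leaf 2512)) (.node (.leaf 1864) (.leaf 2610))) (.node (.node (.leaf 1168) (.leaf 2074)) (.node (.leaf 1603) (.leaf 3287)))) (.node (.node (.node (.leaf 787) (.leaf 1838)) (.node (.leaf 1015) (.leaf 3916))) (.node (.node (.leaf 1247) (.leaf 3623)) (.node (.leaf 1374) (.leaf 4083))))))))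

def twoNext21 : Janko.Tree (ℕ) :=
  (.node (.node (.node (.node (.node (.node (.node (.leaf 1) (.leaf 2763)) (.node (.leaf 649) (.leaf 3646))) (.node (.node (.leaf 836) (.leaf 1975)) (.node (.leaf 1103) (.leaf 2975)))) (.node (.node (.node (.leaf 448) (.leaf 3021)) (.node (.leaf 1910) (.leaf 2648))) (.node (.node (.leaf 476) (.leaf 2096)) (.node (.leaf 2500) (.leaf 3997))))) (.node (.node (.node (.node (.leaf 249) (.leaf 2913)) (.node (.leaf 1737) (.leaf 3701))) (.node (.node (.leaf 1023) (.leaf 1973)) (.node (.leaf 2360) (.leaf 3152)))) (.node (.node (.node (.leaf 640) (.leaf 1752)) (.node (.leaf 940) (.leaf 2800))) (.node (.node (.leaf 1400) (.leaf 3567)) (.node (.leaf 2604) (.leaf 4074)))))) (.node (.node (.node (.node (.node (.leaf 31) (.leaf 1451)) (.node (.leaf 1531) (.leaf 3709))) (.node (.node (.leaf 933) (.leaf 1909)) (.node (.leaf 1050) (.leaf 3089)))) (.node (.node (.node (.leaf 545) (.leaf 2783)) (.node (.leaf 1984) (.leaf 2732))) (.node (.node (.leaf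 1293) (.leaf 2152)) (.node (.leaf 2578) (.leaf 3484))))) (.node (.node (.node (.node (.leaf 353) (.leaf 1567)) (.node (.leaf 778) (.leaf 2568))) (.node (.node (.leaf 437) (.leaf 3413)) (.node (.leaf 2414) (.leaf 3239)))) (.node (.node (.node (.leaf 738) (.leaf 3135)) (.node (.leaf 2154) (.leaf 2908))) (.node (.node (.leaf 1485) (.leaf 2301)) (.node (.leaf 1344) (.leaf 3779))))))) (.node (.node (.node (.node (.node (.node (.leaf 79) (.leaf 1652)) (.node (.leaf 1618) (.leaf 3674))) (.node (.node (.leaf 878) (.leaf 3293)) (.node (.leaf 2265) (.leaf 3029)))) (.node (.node (.node (.leaf 498) (.leaf 1650)) (.node (.leaf 843) (.leaf 2686))) (.node (.node (.leaf 502) (.leaf 2123)) (.node (.leaf 2539) (.leaf 3407))))) (.node (.node (.node (.node (.leaf 303) (.leaf 2942)) (.node (.leaf 1776) (.leaf 3777))) (.node (.node (.leaf 413) (.leaf 3392)) (.node (.leaf 1127) (.leaf 3201)))) (.node (.node (.node (.leaf 626) (.leaf 1775)) (.node (.leaf 2108) (.leaf 3923))) (.node (.node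 (.leaf 581) (.leaf 2261)) (.node (.leaf 2678) (.leaf 3700)))))) (.node (.node (.node (.node (.node (.leaf 196) (.leaf 2881)) (.node (.leaf 1562) (.leaf 2726))) (.node (.node (.leaf 977) (.leaf 3343)) (.node (.leaf 2198) (.leaf 3359)))) (.node (.node (.node (.leaf 570) (.leaf 1724)) (.node (.leaf 887) (.leaf 2771))) (.node (.node (.leaf 1357) (.leaf 2185)) (.node (.leaf 2600) (.leaf 3607))))) (.node (.node (.node (.node (.leaf 403) (.leaf 2884)) (.node (.leaf 801) (.leaf 3816))) (.node (.node (.leaf 456) (.leaf 3448)) (.node (.leaf 2455) (.leaf 4051)))) (.node (.node (.node (.leaf 311) (.leaf 1824)) (.node (.leaf 2190) (.leaf 2929))) (.node (.node (.leaf 628) (.leaf 2342)) (.node (.leaf 2468) (.leaf 3900))))))))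

def twoNext22 : Janko.Tree (ℕ) :=
  (.node (.node (.node (.node (.node (.node (.node (.leaf 15) (.leaf 1401)) (.node (.leaf 1574) (.leaf 3645))) (.node (.node (.leaf 305) (.leaf 3266)) (.node (.leaf 2231) (.leaf 2977)))) (.node (.node (.node (.leaf 206) (.leaf 1628)) (.node (.leaf 1909) (.leaf 3729))) (.node (.node (.leaf 1212) (.leaf 2100)) (.node (.leaf 2501) (.leaf 4061))))) (.node (.node (.node (.node (.leaf 66) (.leaf 1557)) (.node (.leaf 1736) (.leaf 2500))) (.node (.node (.leaf 392) (.leaf 3370)) (.node (.leaf 2359) (.leaf 3620)))) (.node (.node (.node (.leaf 590) (.leaf 3093)) (.node (.leaf 923) (.leaf 3889))) (.node (.node (.leaf 1230) (.leaf 2227)) (.node (.leaf 1638) (.leaf 3635)))))) (.node (.node (.node (.node (.node (.leaf 131) (.leaf 2845)) (.node (.leaf 1661) (.leaf 2513))) (.node (.node (.leaf 349) (.leaf 3247)) (.node (.leaf 1771) (.leaf 3979)))) (.node (.node (.node (.leaf 179) (.leaf 2492)) (.node (.leaf 864) (.leaf 3833))) (.node (.node (.leaf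 518) (.leaf 3415)) (.node (.leaf 2577) (.leaf 3457))))) (.node (.node (.node (.node (.leaf 354) (.leaf 1556)) (.node (.leaf 1820) (.leaf 3714))) (.node (.node (.leaf 767) (.leaf 2046)) (.node (.leaf 1155) (.leaf 3566)))) (.node (.node (.node (.leaf 264) (.leaf 1797)) (.node (.leaf 960) (.leaf 3937))) (.node (.node (.leaf 605) (.leaf 3187)) (.node (.leaf 1620) (.leaf 3776))))))) (.node (.node (.node (.node (.node (.node (.leaf 16) (.leaf 1429)) (.node (.leaf 676) (.leaf 2422))) (.node (.node (.leaf 329) (.leaf 1878)) (.node (.leaf 1958) (.leaf 3754)))) (.node (.node (.node (.leaf 159) (.leaf 1718)) (.node (.leaf 1944) (.leaf 2974))) (.node (.node (.leaf 498) (.leaf 2184)) (.node (.leaf 1265) (.leaf 4058))))) (.node (.node (.node (.node (.leaf 302) (.leaf 1527)) (.node (.leaf 1767) (.leaf 3779))) (.node (.node (.leaf 771) (.leaf 2004)) (.node (.leaf 2387) (.leaf 4020)))) (.node (.node (.node (.leaf 259) (.leaf 3165)) (.node (.leaf 1931) (.leaf 3875))) (.node (.node (.leaf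 586) (.leaf 3253)) (.node (.leaf 1324) (.leaf 3910)))))) (.node (.node (.node (.node (.node (.leaf 195) (.leaf 2880)) (.node (.leaf 713) (.leaf 3731))) (.node (.node (.leaf 368) (.leaf 3346)) (.node (.leaf 2301) (.leaf 3120)))) (.node (.node (.node (.leaf 199) (.leaf 3087)) (.node (.leaf 2030) (.leaf 3891))) (.node (.node (.leaf 697) (.leaf 2192)) (.node (.leaf 1276) (.leaf 3535))))) (.node (.node (.node (.node (.leaf 269) (.leaf 1690)) (.node (.leaf 1862) (.leaf 3038))) (.node (.node (.leaf 1169) (.leaf 3447)) (.node (.leaf 1181) (.leaf 3286)))) (.node (.node (.node (.leaf 300) (.leaf 1837)) (.node (.leaf 2183) (.leaf 3912))) (.node (.node (.leaf 1528) (.leaf 3618)) (.node (.leaf 1372) (.leaf 4090))))))))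

def twoNext23 : Janko.Tree (ℕ) :=
  (.node (.node (.node (.node (.node (.node (.node (.leaf 16) (.leaf 2425)) (.node (.leaf 1575) (.leaf 2386))) (.node (.node (.leaf 837) (.leaf 3258)) (.node (.leaf 2223) (.leaf 3684)))) (.node (.node (.node (.leaf 449) (.leaf 1615)) (.node (.leaf 821) (.leaf 3752))) (.node (.node (.leaf 1213) (.leaf 3350)) (.node (.leaf 1706) (.leaf 3336))))) (.node (.node (.node (.node (.leaf 250) (.leaf 1500)) (.node (.leaf 732) (.leaf 3041))) (.node (.node (.leaf 1024) (.leaf 3371)) (.node (.leaf 1100) (.leaf 3621)))) (.node (.node (.node (.leaf 641) (.leaf 3092)) (.node (.leaf 908) (.leaf 3888))) (.node (.node (.leaf 561) (.leaf 2220)) (.node (.leaf 1295) (.leaf 3634)))))) (.node (.node (.node (.node (.node (.leaf 139) (.leaf 2846)) (.node (.leaf 1662) (.leaf 3004))) (.node (.node (.leaf 362) (.leaf 3246)) (.node (.leaf 2297) (.leaf 3980)))) (.node (.node (.node (.leaf 178) (.leaf 3067)) (.node (.leaf 863) (.leaf 3832))) (.node (.node (.leaf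 517) (.leaf 3521)) (.node (.leaf 1250) (.leaf 4005))))) (.node (.node (.node (.node (.leaf 355) (.leaf 1553)) (.node (.leaf 1821) (.leaf 3802))) (.node (.node (.leaf 766) (.leaf 3358)) (.node (.leaf 2415) (.leaf 3568)))) (.node (.node (.node (.leaf 739) (.leaf 2360)) (.node (.leaf 2155) (.leaf 3862))) (.node (.node (.leaf 1449) (.leaf 3612)) (.node (.leaf 2711) (.leaf 3775))))))) (.node (.node (.node (.node (.node (.node (.leaf 15) (.leaf 1428)) (.node (.leaf 1619) (.leaf 3675))) (.node (.node (.leaf 328) (.leaf 1877)) (.node (.leaf 2251) (.leaf 3717)))) (.node (.node (.node (.leaf 499) (.leaf 2515)) (.node (.leaf 1950) (.leaf 3861))) (.node (.node (.leaf 1258) (.leaf 3502)) (.node (.leaf 1227) (.leaf 4057))))) (.node (.node (.node (.node (.leaf 83) (.leaf 2943)) (.node (.leaf 1777) (.leaf 2532))) (.node (.node (.leaf 749) (.leaf 2376)) (.node (.leaf 2388) (.leaf 3199)))) (.node (.node (.node (.leaf 240) (.leaf 3168)) (.node (.leaf 2109) (.leaf 2842))) (.node (.node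 (.leaf 601) (.leaf 3131)) (.node (.leaf 1323) (.leaf 3909)))))) (.node (.node (.node (.node (.node (.leaf 48) (.leaf 1474)) (.node (.leaf 1699) (.leaf 2472))) (.node (.node (.leaf 946) (.leaf 1938)) (.node (.leaf 1077) (.leaf 3117)))) (.node (.node (.node (.leaf 198) (.leaf 2061)) (.node (.leaf 2031) (.leaf 3894))) (.node (.node (.leaf 542) (.leaf 3411)) (.node (.leaf 1273) (.leaf 4077))))) (.node (.node (.node (.node (.leaf 121) (.leaf 1585)) (.node (.leaf 1865) (.leaf 3823))) (.node (.node (.leaf 1170) (.leaf 2072)) (.node (.leaf 1626) (.leaf 3633)))) (.node (.node (.node (.leaf 284) (.leaf 2398)) (.node (.leaf 983) (.leaf 3913))) (.node (.node (.leaf 1529) (.leaf 3617)) (.node (.leaf 1371) (.leaf 4094))))))))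

def twoNext24 : Janko.Tree (ℕ) :=
  (.node (.node (.node (.node (.node (.node (.node (.leaf 3) (.leaf 2764)) (.node (.leaf 650) (.leaf 3185))) (.node (.node (.leaf 835) (.leaf 3266)) (.node (.leaf 2231) (.leaf 3861)))) (.node (.node (.node (.leaf 206) (.leaf 3022)) (.node (.leaf 822) (.leaf 2843))) (.node (.node (.leaf 477) (.leaf 3351)) (.node (.leaf 2501) (.leaf 4061))))) (.node (.node (.node (.node (.leaf 179) (.leaf 1504)) (.node (.leaf 1738) (.leaf 3061))) (.node (.node (.leaf 1022) (.leaf 2241)) (.node (.leaf 2361) (.leaf 3202)))) (.node (.node (.node (.leaf 590) (.leaf 1753)) (.node (.leaf 1754) (.leaf 3789))) (.node (.node (.leaf 562) (.leaf 3277)) (.node (.leaf 2645) (.leaf 3639)))))) (.node (.node (.node (.node (.node (.leaf 136) (.leaf 2496)) (.node (.leaf 1661) (.leaf 2513))) (.node (.node (.leaf 846) (.leaf 2336)) (.node (.leaf 1053) (.leaf 3090)))) (.node (.node (.node (.leaf 219) (.leaf 3067)) (.node (.leaf 865) (.leaf 2961))) (.node (.node (.leaf 527)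 (.leaf 2155)) (.node (.leaf 2579) (.leaf 3584))))) (.node (.node (.node (.node (.leaf 354) (.leaf 2601)) (.node (.leaf 779) (.leaf 2958))) (.node (.node (.leaf 438) (.leaf 2274)) (.node (.leaf 1416) (.leaf 3240)))) (.node (.node (.node (.leaf 737) (.leaf 2360)) (.node (.leaf 2153) (.leaf 3937))) (.node (.node (.leaf 1486) (.leaf 3341)) (.node (.leaf 2708) (.leaf 3909))))))) (.node (.node (.node (.node (.node (.node (.leaf 80) (.leaf 2804)) (.node (.leaf 676) (.leaf 3666))) (.node (.node (.leaf 879) (.leaf 3195)) (.node (.leaf 1958) (.leaf 3708)))) (.node (.node (.node (.leaf 251) (.leaf 3039)) (.node (.leaf 1936) (.leaf 2697))) (.node (.node (.leaf 1257) (.leaf 3343)) (.node (.leaf 2537) (.leaf 3492))))) (.node (.node (.node (.node (.leaf 100) (.leaf 2619)) (.node (.leaf 1777) (.leaf 2547))) (.node (.node (.leaf 414) (.leaf 2011)) (.node (.leaf 1142) (.leaf 3605)))) (.node (.node (.node (.leaf 555) (.leaf 2295)) (.node (.leaf 1931) (.leaf 2918))) (.node (.node (.leaf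 1436) (.leaf 3309)) (.node (.leaf 1574) (.leaf 3917)))))) (.node (.node (.node (.node (.node (.leaf 197) (.leaf 2871)) (.node (.leaf 728) (.leaf 2873))) (.node (.node (.leaf 978) (.leaf 1957)) (.node (.leaf 2283) (.leaf 3582)))) (.node (.node (.node (.leaf 218) (.leaf 1725)) (.node (.leaf 888) (.leaf 2984))) (.node (.node (.leaf 697) (.leaf 3494)) (.node (.leaf 1432) (.leaf 4033))))) (.node (.node (.node (.node (.leaf 404) (.leaf 2519)) (.node (.leaf 1108) (.leaf 3038))) (.node (.node (.leaf 457) (.leaf 3449)) (.node (.leaf 2452) (.leaf 3459)))) (.node (.node (.node (.leaf 781) (.leaf 1826)) (.node (.leaf 2180) (.leaf 3809))) (.node (.node (.leaf 1443) (.leaf 2346)) (.node (.leaf 1388) (.leaf 3949))))))))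

def twoNext25 : Janko.Tree (ℕ) :=
  (.node (.node (.node (.node (.node (.node (.node (.leaf 17) (.leaf 1402)) (.node (.leaf 1576) (.leaf 2387))) (.node (.node (.leaf 832) (.leaf 3267)) (.node (.leaf 2232) (.leaf 3963)))) (.node (.node (.node (.leaf 145) (.leaf 1617)) (.node (.leaf 1911) (.leaf 2717))) (.node (.node (.leaf 1214) (.leaf 2098)) (.node (.leaf 1315) (.leaf 4060))))) (.node (.node (.node (.node (.leaf 251) (.leaf 1501)) (.node (.leaf 733) (.leaf 2502))) (.node (.node (.leaf 1019) (.leaf 1977)) (.node (.leaf 1101) (.leaf 3154)))) (.node (.node (.node (.leaf 636) (.leaf 3129)) (.node (.leaf 910) (.leaf 2816))) (.node (.node (.leaf 1404) (.leaf 2222)) (.node (.leaf 1296) (.leaf 3635)))))) (.node (.node (.node (.node (.node (.leaf 140) (.leaf 1452)) (.node (.leaf 1663) (.leaf 3707))) (.node (.node (.leaf 904) (.leaf 3317)) (.node (.leaf 2298) (.leaf 3981)))) (.node (.node (.node (.leaf 179) (.leaf 1698)) (.node (.leaf 1864) (.leaf 2734))) (.node (.node (.leaf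 1310) (.leaf 3522)) (.node (.leaf 1251) (.leaf 3460))))) (.node (.node (.node (.node (.leaf 356) (.leaf 1555)) (.node (.leaf 1822) (.leaf 2576))) (.node (.node (.leaf 1120) (.leaf 2047)) (.node (.leaf 2416) (.leaf 3478)))) (.node (.node (.node (.leaf 734) (.leaf 3206)) (.node (.leaf 963) (.leaf 2998))) (.node (.node (.leaf 606) (.leaf 3540)) (.node (.leaf 2701) (.leaf 3780))))))) (.node (.node (.node (.node (.node (.node (.leaf 16) (.leaf 1429)) (.node (.leaf 1616) (.leaf 2728))) (.node (.node (.leaf 329) (.leaf 1878)) (.node (.leaf 2266) (.leaf 3031)))) (.node (.node (.node (.leaf 500) (.leaf 3045)) (.node (.leaf 1951) (.leaf 3862))) (.node (.node (.leaf 1259) (.leaf 3498)) (.node (.leaf 1228) (.leaf 3400))))) (.node (.node (.node (.node (.leaf 84) (.leaf 1529)) (.node (.leaf 1739) (.leaf 2534))) (.node (.node (.leaf 1071) (.leaf 3173)) (.node (.leaf 2389) (.leaf 3977)))) (.node (.node (.node (.leaf 242) (.leaf 3169)) (.node (.leaf 2104) (.leaf 2843))) (.node (.node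 (.leaf 1442) (.leaf 3594)) (.node (.leaf 1324) (.leaf 3703)))))) (.node (.node (.node (.node (.node (.leaf 49) (.leaf 1475)) (.node (.leaf 1700) (.leaf 3732))) (.node (.node (.leaf 369) (.leaf 3200)) (.node (.leaf 1079) (.leaf 3120)))) (.node (.node (.node (.leaf 595) (.leaf 3088)) (.node (.leaf 2032) (.leaf 3895))) (.node (.node (.leaf 1358) (.leaf 2187)) (.node (.leaf 1275) (.leaf 3569))))) (.node (.node (.node (.node (.leaf 122) (.leaf 1586)) (.node (.leaf 1866) (.leaf 3824))) (.node (.node (.leaf 1171) (.leaf 2073)) (.node (.leaf 1182) (.leaf 3290)))) (.node (.node (.node (.leaf 285) (.leaf 3238)) (.node (.leaf 985) (.leaf 2930))) (.node (.node (.leaf 1530) (.leaf 3456)) (.node (.leaf 1372) (.leaf 4094))))))))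

def twoNext26 : Janko.Tree (ℕ) :=
  (.node (.node (.node (.node (.node (.node (.node (.leaf 1) (.leaf 2765)) (.node (.leaf 1577) (.leaf 2389))) (.node (.node (.leaf 837) (.leaf 1852)) (.node (.leaf 1005) (.leaf 2976)))) (.node (.node (.node (.leaf 141) (.leaf 2700)) (.node (.leaf 1912) (.leaf 2834))) (.node (.node (.leaf 1215) (.leaf 2220)) (.node (.leaf 1207) (.leaf 3338))))) (.node (.node (.node (.node (.leaf 250) (.leaf 1506)) (.node (.leaf 1732) (.leaf 2592))) (.node (.node (.leaf 1024) (.leaf 2239)) (.node (.leaf 2356) (.leaf 3605)))) (.node (.node (.node (.leaf 220) (.leaf 1845)) (.node (.leaf 1751) (.leaf 2802))) (.node (.node (.leaf 1405) (.leaf 3571)) (.node (.leaf 2647) (.leaf 3646)))))) (.node (.node (.node (.node (.node (.leaf 32) (.leaf 2847)) (.node (.leaf 692) (.leaf 2448))) (.node (.node (.leaf 362) (.leaf 1910)) (.node (.leaf 1051) (.leaf 3097)))) (.node (.node (.node (.leaf 546) (.leaf 1692)) (.node (.leaf 1993) (.leaf 3868))) (.node (.node (.leaf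 519) (.leaf 2153)) (.node (.leaf 1253) (.leaf 4005))))) (.node (.node (.node (.node (.leaf 102) (.leaf 2884)) (.node (.leaf 778) (.leaf 2569))) (.node (.node (.leaf 1121) (.leaf 3356)) (.node (.leaf 2415) (.leaf 3603)))) (.node (.node (.node (.leaf 739) (.leaf 1799)) (.node (.leaf 2155) (.leaf 2891))) (.node (.node (.leaf 1482) (.leaf 2302)) (.node (.leaf 1345) (.leaf 3908))))))) (.node (.node (.node (.node (.node (.node (.leaf 81) (.leaf 2805)) (.node (.leaf 670) (.leaf 3675))) (.node (.node (.leaf 880) (.leaf 3294)) (.node (.leaf 1029) (.leaf 3763)))) (.node (.node (.node (.leaf 499) (.leaf 1651)) (.node (.leaf 844) (.leaf 2687))) (.node (.node (.leaf 1258) (.leaf 2124)) (.node (.leaf 2540) (.leaf 3402))))) (.node (.node (.node (.node (.leaf 99) (.leaf 2943)) (.node (.leaf 770) (.leaf 2562))) (.node (.node (.leaf 420) (.leaf 2009)) (.node (.leaf 1128) (.leaf 3202)))) (.node (.node (.node (.leaf 547) (.leaf 1776)) (.node (.leaf 936) (.leaf 3006))) (.node (.node (.leaf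 583) (.leaf 2262)) (.node (.leaf 1573) (.leaf 4084)))))) (.node (.node (.node (.node (.node (.leaf 198) (.leaf 2882)) (.node (.leaf 1699) (.leaf 2473))) (.node (.node (.leaf 974) (.leaf 1956)) (.node (.leaf 1925) (.leaf 3996)))) (.node (.node (.node (.leaf 200) (.leaf 1724)) (.node (.leaf 2029) (.leaf 2773))) (.node (.node (.leaf 544) (.leaf 3550)) (.node (.leaf 2613) (.leaf 4077))))) (.node (.node (.node (.node (.leaf 405) (.leaf 2518)) (.node (.leaf 1789) (.leaf 2610))) (.node (.node (.leaf 1165) (.leaf 2075)) (.node (.leaf 2451) (.leaf 3458)))) (.node (.node (.node (.leaf 789) (.leaf 1836)) (.node (.leaf 2179) (.leaf 3826))) (.node (.node (.leaf 629) (.leaf 2344)) (.node (.leaf 2737) (.leaf 3915))))))))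

def twoNext27 : Janko.Tree (ℕ) :=
  (.node (.node (.node (.node (.node (.node (.node (.leaf 18) (.leaf 2766)) (.node (.leaf 1565) (.leaf 3184))) (.node (.node (.leaf 305) (.leaf 3268)) (.node (.leaf 2233) (.leaf 2975)))) (.node (.node (.node (.leaf 450) (.leaf 2707)) (.node (.leaf 1913) (.leaf 2650))) (.node (.node (.leaf 1188) (.leaf 2227)) (.node (.leaf 2502) (.leaf 3337))))) (.node (.node (.node (.node (.leaf 66) (.leaf 2914)) (.node (.leaf 1739) (.leaf 2591))) (.node (.node (.leaf 392) (.leaf 1974)) (.node (.leaf 1946) (.leaf 3208)))) (.node (.node (.node (.leaf 642) (.leaf 2261)) (.node (.leaf 2069) (.leaf 2935))) (.node (.node (.leaf 1234) (.leaf 3572)) (.node (.leaf 2648) (.leaf 3638)))))) (.node (.node (.node (.node (.node (.leaf 31) (.leaf 2848)) (.node (.leaf 1664) (.leaf 2554))) (.node (.node (.leaf 349) (.leaf 3249)) (.node (.leaf 1050) (.leaf 3619)))) (.node (.node (.node (.leaf 200) (.leaf 1684)) (.node (.leaf 1995) (.leaf 2959))) (.node (.node (.leaf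 691) (.leaf 2152)) (.node (.leaf 2580) (.leaf 3457))))) (.node (.node (.node (.node (.leaf 357) (.leaf 2883)) (.node (.leaf 1823) (.leaf 2568))) (.node (.node (.leaf 1122) (.leaf 3355)) (.node (.leaf 1155) (.leaf 3641)))) (.node (.node (.node (.leaf 264) (.leaf 1798)) (.node (.leaf 960) (.leaf 2966))) (.node (.node (.leaf 1487) (.leaf 3613)) (.node (.leaf 1344) (.leaf 3956))))))) (.node (.node (.node (.node (.node (.node (.leaf 82) (.leaf 2806)) (.node (.leaf 708) (.leaf 2422))) (.node (.node (.leaf 881) (.leaf 3193)) (.node (.leaf 2267) (.leaf 3706)))) (.node (.node (.node (.leaf 159) (.leaf 1650)) (.node (.leaf 843) (.leaf 2695))) (.node (.node (.leaf 498) (.leaf 2123)) (.node (.leaf 2541) (.leaf 3491))))) (.node (.node (.node (.node (.leaf 304) (.leaf 1527)) (.node (.leaf 755) (.leaf 3780))) (.node (.node (.leaf 446) (.leaf 2008)) (.node (.leaf 1140) (.leaf 3625)))) (.node (.node (.node (.leaf 689) (.leaf 3170)) (.node (.leaf 2110) (.leaf 3924))) (.node (.node (.leaf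 1443) (.leaf 3576)) (.node (.leaf 2679) (.leaf 3920)))))) (.node (.node (.node (.node (.node (.leaf 199) (.leaf 2826)) (.node (.leaf 713) (.leaf 3733))) (.node (.node (.leaf 979) (.leaf 1939)) (.node (.leaf 1924) (.leaf 3423)))) (.node (.node (.node (.leaf 546) (.leaf 2066)) (.node (.leaf 887) (.leaf 2772))) (.node (.node (.leaf 543) (.leaf 3551)) (.node (.leaf 2614) (.leaf 3535))))) (.node (.node (.node (.node (.leaf 406) (.leaf 2992)) (.node (.leaf 802) (.leaf 3825))) (.node (.node (.leaf 1172) (.leaf 3450)) (.node (.leaf 2456) (.leaf 3575)))) (.node (.node (.node (.leaf 790) (.leaf 3239)) (.node (.leaf 2191) (.leaf 3951))) (.node (.node (.leaf 1436) (.leaf 2343)) (.node (.leaf 1386) (.leaf 3901))))))))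

def twoNext28 : Janko.Tree (ℕ) :=
  (.node (.node (.node (.node (.node (.node (.node (.leaf 4) (.leaf 1403)) (.node (.leaf 1577) (.leaf 3645))) (.node (.node (.leaf 312) (.leaf 3258)) (.node (.leaf 2223) (.leaf 2978)))) (.node (.node (.node (.leaf 449) (.leaf 1622)) (.node (.leaf 1912) (.leaf 2906))) (.node (.node (.leaf 1215) (.leaf 2100)) (.node (.leaf 1706) (.leaf 3505))))) (.node (.node (.node (.node (.leaf 252) (.leaf 1503)) (.node (.leaf 1736) (.leaf 3041))) (.node (.node (.leaf 1025) (.leaf 1976)) (.node (.leaf 1102) (.leaf 3640)))) (.node (.node (.node (.leaf 641) (.leaf 2084)) (.node (.leaf 1741) (.leaf 2812))) (.node (.node (.leaf 1405) (.leaf 2233)) (.node (.leaf 1297) (.leaf 3649)))))) (.node (.node (.node (.node (.node (.leaf 46) (.leaf 2474)) (.node (.leaf 1662) (.leaf 3004))) (.node (.node (.leaf 928) (.leaf 2156)) (.node (.leaf 1052) (.leaf 3097)))) (.node (.node (.node (.leaf 180) (.leaf 3068)) (.node (.leaf 1995) (.leaf 2757))) (.node (.node (.leaf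 1311) (.leaf 2154)) (.node (.leaf 2577) (.leaf 3461))))) (.node (.node (.node (.node (.leaf 355) (.leaf 1556)) (.node (.leaf 780) (.leaf 2928))) (.node (.node (.leaf 1121) (.leaf 2401)) (.node (.leaf 2417) (.leaf 3425)))) (.node (.node (.node (.leaf 343) (.leaf 3205)) (.node (.leaf 1911) (.leaf 3862))) (.node (.node (.leaf 1449) (.leaf 3342)) (.node (.leaf 1349) (.leaf 3920))))))) (.node (.node (.node (.node (.node (.node (.leaf 17) (.leaf 1430)) (.node (.leaf 1619) (.leaf 3676))) (.node (.node (.leaf 330) (.leaf 1879)) (.node (.leaf 2251) (.leaf 3045)))) (.node (.node (.node (.leaf 501) (.leaf 1653)) (.node (.leaf 1930) (.leaf 2689))) (.node (.node (.leaf 1260) (.leaf 2128)) (.node (.leaf 1578) (.leaf 3644))))) (.node (.node (.node (.node (.leaf 86) (.leaf 2550)) (.node (.leaf 817) (.leaf 2536))) (.node (.node (.leaf 1072) (.leaf 2368)) (.node (.leaf 1130) (.leaf 3633)))) (.node (.node (.node (.leaf 535) (.leaf 3161)) (.node (.leaf 2109) (.leaf 2845))) (.node (.node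 (.leaf 629) (.leaf 3310)) (.node (.leaf 1325) (.leaf 3792)))))) (.node (.node (.node (.node (.node (.leaf 50) (.leaf 2506)) (.node (.leaf 717) (.leaf 2874))) (.node (.node (.leaf 946) (.leaf 1955)) (.node (.leaf 1887) (.leaf 3121)))) (.node (.node (.node (.leaf 596) (.leaf 3089)) (.node (.leaf 2033) (.leaf 2783))) (.node (.node (.leaf 1359) (.leaf 3355)) (.node (.leaf 1276) (.leaf 3537))))) (.node (.node (.node (.node (.leaf 123) (.leaf 1589)) (.node (.leaf 1867) (.leaf 3823))) (.node (.node (.leaf 1172) (.leaf 3447)) (.node (.leaf 1183) (.leaf 3313)))) (.node (.node (.node (.leaf 286) (.leaf 1836)) (.node (.leaf 986) (.leaf 2941))) (.node (.node (.leaf 1531) (.leaf 2396)) (.node (.leaf 1373) (.leaf 4085))))))))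

def twoNext29 : Janko.Tree (ℕ) :=
  (.node (.node (.node (.node (.node (.node (.node (.leaf 19) (.leaf 2767)) (.node (.leaf 1578) (.leaf 3644))) (.node (.node (.leaf 306) (.leaf 3265)) (.node (.leaf 2230) (.leaf 3961)))) (.node (.node (.node (.leaf 451) (.leaf 3023)) (.node (.leaf 1914) (.leaf 2651))) (.node (.node (.leaf 1216) (.leaf 3480)) (.node (.leaf 2499) (.leaf 3342))))) (.node (.node (.node (.node (.leaf 67) (.leaf 2915)) (.node (.leaf 756) (.leaf 3752))) (.node (.node (.leaf 393) (.leaf 2000)) (.node (.leaf 2228) (.leaf 4000)))) (.node (.node (.node (.leaf 643) (.leaf 1754)) (.node (.leaf 1089) (.leaf 3912))) (.node (.node (.leaf 1406) (.leaf 3573)) (.node (.leaf 2503) (.leaf 4080)))))) (.node (.node (.node (.node (.node (.leaf 141) (.leaf 2849)) (.node (.leaf 695) (.leaf 3697))) (.node (.node (.leaf 350) (.leaf 3318)) (.node (.leaf 2299) (.leaf 3092)))) (.node (.node (.node (.leaf 547) (.leaf 1686)) (.node (.leaf 1996) (.leaf 3723))) (.node (.node (.leaf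 520) (.leaf 3523)) (.node (.leaf 2571) (.leaf 3458))))) (.node (.node (.node (.node (.leaf 352) (.leaf 2969)) (.node (.leaf 835) (.leaf 2580))) (.node (.node (.leaf 1123) (.leaf 2049)) (.node (.leaf 1156) (.leaf 3241)))) (.node (.node (.node (.leaf 265) (.leaf 1927)) (.node (.leaf 961) (.leaf 3936))) (.node (.node (.leaf 1488) (.leaf 3612)) (.node (.leaf 2712) (.leaf 3785))))))) (.node (.node (.node (.node (.node (.node (.leaf 83) (.leaf 2807)) (.node (.leaf 1620) (.leaf 2423))) (.node (.node (.leaf 882) (.leaf 2014)) (.node (.leaf 1032) (.leaf 3905)))) (.node (.node (.node (.leaf 160) (.leaf 3012)) (.node (.leaf 844) (.leaf 3863))) (.node (.node (.leaf 499) (.leaf 3503)) (.node (.leaf 1229) (.leaf 3406))))) (.node (.node (.node (.node (.leaf 305) (.leaf 1528)) (.node (.leaf 757) (.leaf 3781))) (.node (.node (.leaf 415) (.leaf 2009)) (.node (.leaf 2390) (.leaf 3204)))) (.node (.node (.node (.leaf 690) (.leaf 2008)) (.node (.leaf 1121) (.leaf 2863))) (.node (.node (.leaf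 1444) (.leaf 2264)) (.node (.leaf 2425) (.leaf 4086)))))) (.node (.node (.node (.node (.node (.leaf 200) (.leaf 1476)) (.node (.leaf 1701) (.leaf 2475))) (.node (.node (.leaf 980) (.leaf 1941)) (.node (.leaf 1083) (.leaf 3187)))) (.node (.node (.node (.leaf 201) (.leaf 1725)) (.node (.leaf 888) (.leaf 2834))) (.node (.node (.leaf 544) (.leaf 3552)) (.node (.leaf 2615) (.leaf 3543))))) (.node (.node (.node (.node (.leaf 407) (.leaf 2993)) (.node (.leaf 803) (.leaf 2743))) (.node (.node (.leaf 1173) (.leaf 2347)) (.node (.leaf 2457) (.leaf 3618)))) (.node (.node (.node (.leaf 791) (.leaf 1828)) (.node (.leaf 2192) (.leaf 3952))) (.node (.node (.leaf 630) (.leaf 2344)) (.node (.leaf 2419) (.leaf 3908))))))))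

def twoNext30 : Janko.Tree (ℕ) :=
  (.node (.node (.node (.node (.node (.node (.node (.leaf 18) (.leaf 2527)) (.node (.leaf 650) (.leaf 2388))) (.node (.node (.leaf 838) (.leaf 3268)) (.node (.leaf 2233) (.leaf 3793)))) (.node (.node (.node (.leaf 450) (.leaf 1624)) (.node (.leaf 822) (.leaf 3842))) (.node (.node (.leaf 477) (.leaf 2099)) (.node (.leaf 2502) (.leaf 3501))))) (.node (.node (.node (.node (.leaf 253) (.leaf 1509)) (.node (.leaf 734) (.leaf 2504))) (.node (.node (.leaf 1023) (.leaf 1975)) (.node (.leaf 2362) (.leaf 3648)))) (.node (.node (.node (.leaf 642) (.leaf 2078)) (.node (.leaf 911) (.leaf 2935))) (.node (.node (.leaf 562) (.leaf 2223)) (.node (.leaf 2641) (.leaf 3758)))))) (.node (.node (.node (.node (.node (.leaf 33) (.leaf 1453)) (.node (.leaf 1664) (.leaf 2554))) (.node (.node (.leaf 934) (.leaf 1911)) (.node (.leaf 1764) (.leaf 3090)))) (.node (.node (.node (.leaf 244) (.leaf 2999)) (.node (.leaf 1994) (.leaf 2736))) (.node (.node (.leaf 1312)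 (.leaf 3089)) (.node (.leaf 1252) (.leaf 4031))))) (.node (.node (.node (.node (.leaf 357) (.leaf 2968)) (.node (.leaf 1823) (.leaf 2572))) (.node (.node (.leaf 438) (.leaf 3354)) (.node (.leaf 2418) (.leaf 3426)))) (.node (.node (.node (.leaf 740) (.leaf 1800)) (.node (.leaf 2156) (.leaf 2966))) (.node (.node (.leaf 607) (.leaf 3613)) (.node (.leaf 1347) (.leaf 3892))))))) (.node (.node (.node (.node (.node (.node (.leaf 84) (.leaf 2808)) (.node (.leaf 708) (.leaf 3677))) (.node (.node (.leaf 883) (.leaf 1881)) (.node (.leaf 2267) (.leaf 3033)))) (.node (.node (.node (.leaf 502) (.leaf 1652)) (.node (.leaf 1952) (.leaf 2690))) (.node (.node (.leaf 1261) (.leaf 2126)) (.node (.leaf 2528) (.leaf 3401))))) (.node (.node (.node (.node (.leaf 85) (.leaf 1530)) (.node (.leaf 809) (.leaf 2546))) (.node (.node (.leaf 1073) (.leaf 3393)) (.node (.leaf 1132) (.leaf 3288)))) (.node (.node (.node (.leaf 243) (.leaf 3170)) (.node (.leaf 2110) (.leaf 2844))) (.node (.node (.leaf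 1443) (.leaf 3576)) (.node (.leaf 2680) (.leaf 3704)))))) (.node (.node (.node (.node (.node (.leaf 201) (.leaf 2883)) (.node (.leaf 715) (.leaf 3733))) (.node (.node (.leaf 370) (.leaf 1972)) (.node (.leaf 1885) (.leaf 3539)))) (.node (.node (.node (.leaf 597) (.leaf 2154)) (.node (.leaf 2024) (.leaf 3769))) (.node (.node (.leaf 1360) (.leaf 2188)) (.node (.leaf 2612) (.leaf 3536))))) (.node (.node (.node (.node (.leaf 408) (.leaf 1587)) (.node (.leaf 1868) (.leaf 3825))) (.node (.node (.leaf 1166) (.leaf 2074)) (.node (.leaf 1189) (.leaf 3291)))) (.node (.node (.node (.leaf 285) (.leaf 1826)) (.node (.leaf 2178) (.leaf 2931))) (.node (.node (.leaf 1532) (.leaf 3631)) (.node (.leaf 1467) (.leaf 4093))))))))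

def twoNext31 : Janko.Tree (ℕ) :=
  (.node (.node (.node (.node (.node (.node (.node (.leaf 1) (.leaf 1578)) (.node (.leaf 1579) (.leaf 2387))) (.node (.node (.leaf 424) (.leaf 1852)) (.node (.leaf 1005) (.leaf 3964)))) (.node (.node (.node (.leaf 141) (.leaf 1618)) (.node (.leaf 1915) (.leaf 3843))) (.node (.node (.leaf 1217) (.leaf 3481)) (.node (.leaf 1207) (.leaf 3340))))) (.node (.node (.node (.node (.leaf 254) (.leaf 1501)) (.node (.leaf 733) (.leaf 2503))) (.node (.node (.leaf 1026) (.leaf 3366)) (.node (.leaf 2354) (.leaf 3155)))) (.node (.node (.node (.leaf 220) (.leaf 3130)) (.node (.leaf 910) (.leaf 2802))) (.node (.node (.leaf 575) (.leaf 2231)) (.node (.leaf 1296) (.leaf 3950)))))) (.node (.node (.node (.node (.node (.leaf 142) (.leaf 2850)) (.node (.leaf 692) (.leaf 2448))) (.node (.node (.leaf 935) (.leaf 2016)) (.node (.leaf 2300) (.leaf 3128)))) (.node (.node (.node (.leaf 548) (.leaf 2998)) (.node (.leaf 865) (.leaf 2754))) (.node (.node (.leaf 1313)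 (.leaf 3267)) (.node (.leaf 1251) (.leaf 3520))))) (.node (.node (.node (.node (.leaf 102) (.leaf 1555)) (.node (.leaf 778) (.leaf 2570))) (.node (.node (.leaf 1124) (.leaf 3353)) (.node (.leaf 2419) (.leaf 3422)))) (.node (.node (.node (.leaf 388) (.leaf 3207)) (.node (.leaf 2157) (.leaf 2891))) (.node (.node (.leaf 606) (.leaf 2302)) (.node (.leaf 1346) (.leaf 3917))))))) (.node (.node (.node (.node (.node (.node (.leaf 85) (.leaf 2615)) (.node (.leaf 670) (.leaf 3678))) (.node (.node (.leaf 884) (.leaf 3295)) (.node (.leaf 1029) (.leaf 3085)))) (.node (.node (.node (.leaf 503) (.leaf 3046)) (.node (.leaf 931) (.leaf 2688))) (.node (.node (.leaf 1262) (.leaf 2125)) (.node (.leaf 1403) (.leaf 3400))))) (.node (.node (.node (.node (.leaf 84) (.leaf 2944)) (.node (.leaf 1778) (.leaf 2534))) (.node (.node (.leaf 1074) (.leaf 2366)) (.node (.leaf 1129) (.leaf 3287)))) (.node (.node (.node (.leaf 242) (.leaf 1776)) (.node (.leaf 936) (.leaf 3922))) (.node (.node (.leaf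 583) (.leaf 2262)) (.node (.leaf 2681) (.leaf 3939)))))) (.node (.node (.node (.node (.node (.leaf 182) (.leaf 2884)) (.node (.leaf 714) (.leaf 2473))) (.node (.node (.leaf 369) (.leaf 3347)) (.node (.leaf 1080) (.leaf 3995)))) (.node (.node (.node (.leaf 598) (.leaf 2167)) (.node (.leaf 954) (.leaf 2775))) (.node (.node (.leaf 1361) (.leaf 2274)) (.node (.leaf 1275) (.leaf 4048))))) (.node (.node (.node (.node (.leaf 321) (.leaf 1586)) (.node (.leaf 1869) (.leaf 2610))) (.node (.node (.leaf 457) (.leaf 2073)) (.node (.leaf 1208) (.leaf 3615)))) (.node (.node (.node (.leaf 792) (.leaf 1883)) (.node (.leaf 2040) (.leaf 2939))) (.node (.node (.leaf 1533) (.leaf 2394)) (.node (.leaf 2738) (.leaf 4081))))))))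

def twoNext32 : Janko.Tree (ℕ) :=
  (.node (.node (.node (.node (.node (.node (.node (.leaf 2) (.leaf 2523)) (.node (.leaf 1565) (.leaf 2390))) (.node (.node (.leaf 307) (.leaf 2263)) (.node (.leaf 2135) (.leaf 3964)))) (.node (.node (.node (.leaf 452) (.leaf 2453)) (.node (.leaf 1913) (.leaf 2653))) (.node (.node (.leaf 1188) (.leaf 3350)) (.node (.leaf 2500) (.leaf 3613))))) (.node (.node (.node (.node (.leaf 70) (.leaf 2916)) (.node (.leaf 910) (.leaf 3747))) (.node (.node (.leaf 941) (.leaf 2161)) (.node (.leaf 2362) (.leaf 3599)))) (.node (.node (.node (.leaf 644) (.leaf 2069)) (.node (.leaf 1734) (.leaf 3893))) (.node (.node (.leaf 1234) (.leaf 2225)) (.node (.leaf 2649) (.leaf 3758)))))) (.node (.node (.node (.node (.node (.leaf 47) (.leaf 2475)) (.node (.leaf 694) (.leaf 3709))) (.node (.node (.leaf 351) (.leaf 2157)) (.node (.leaf 2300) (.leaf 3619)))) (.node (.node (.node (.leaf 244) (.leaf 1717)) (.node (.leaf 1997) (.leaf 3073))) (.node (.node (.leaf 521)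 (.leaf 3267)) (.node (.leaf 1253) (.leaf 3469))))) (.node (.node (.node (.node (.leaf 114) (.leaf 2970)) (.node (.leaf 1824) (.leaf 3803))) (.node (.node (.leaf 1122) (.leaf 3087)) (.node (.leaf 1159) (.leaf 3423)))) (.node (.node (.node (.leaf 266) (.leaf 2392)) (.node (.leaf 962) (.leaf 2925))) (.node (.node (.leaf 608) (.leaf 3181)) (.node (.leaf 1355) (.leaf 4084))))))) (.node (.node (.node (.node (.node (.node (.leaf 84) (.leaf 2808)) (.node (.leaf 1618) (.leaf 2426))) (.node (.node (.leaf 883) (.leaf 3295)) (.node (.leaf 1033) (.leaf 3035)))) (.node (.node (.node (.leaf 163) (.leaf 1654)) (.node (.leaf 877) (.leaf 2880))) (.node (.node (.leaf 639) (.leaf 2134)) (.node (.leaf 2540) (.leaf 3406))))) (.node (.node (.node (.node (.leaf 306) (.leaf 2571)) (.node (.leaf 797) (.leaf 3782))) (.node (.node (.leaf 860) (.leaf 2010)) (.node (.leaf 1145) (.leaf 3317)))) (.node (.node (.node (.leaf 528) (.leaf 3171)) (.node (.leaf 2111) (.leaf 3922))) (.node (.node (.leaf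 1445) (.leaf 3430)) (.node (.leaf 2680) (.leaf 3915)))))) (.node (.node (.node (.node (.node (.leaf 201) (.leaf 1477)) (.node (.leaf 725) (.leaf 2831))) (.node (.node (.leaf 971) (.leaf 1943)) (.node (.leaf 1082) (.leaf 3539)))) (.node (.node (.node (.leaf 202) (.leaf 1733)) (.node (.leaf 1134) (.leaf 3756))) (.node (.node (.leaf 545) (.leaf 3356)) (.node (.leaf 2616) (.leaf 4048))))) (.node (.node (.node (.node (.leaf 408) (.leaf 1588)) (.node (.leaf 1788) (.leaf 2793))) (.node (.node (.leaf 1174) (.leaf 2075)) (.node (.leaf 2458) (.leaf 3293)))) (.node (.node (.node (.leaf 287) (.leaf 3239)) (.node (.leaf 2178) (.leaf 2933))) (.node (.node (.leaf 631) (.leaf 2345)) (.node (.leaf 2738) (.leaf 4086))))))))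

def twoNext33 : Janko.Tree (ℕ) :=
  (.node (.node (.node (.node (.node (.node (.node (.leaf 20) (.leaf 2768)) (.node (.leaf 1575) (.leaf 3642))) (.node (.node (.leaf 839) (.leaf 3269)) (.node (.leaf 2234) (.leaf 3081)))) (.node (.node (.node (.leaf 142) (.leaf 1619)) (.node (.leaf 825) (.leaf 3831))) (.node (.node (.leaf 482) (.leaf 3459)) (.node (.leaf 1208) (.leaf 3346))))) (.node (.node (.node (.node (.leaf 255) (.leaf 1503)) (.node (.leaf 1740) (.leaf 2504))) (.node (.node (.leaf 1027) (.leaf 1976)) (.node (.leaf 2363) (.leaf 3157)))) (.node (.node (.node (.leaf 221) (.leaf 1978)) (.node (.leaf 911) (.leaf 2804))) (.node (.node (.leaf 582) (.leaf 3574)) (.node (.leaf 1297) (.leaf 3651)))))) (.node (.node (.node (.node (.node (.leaf 143) (.leaf 2848)) (.node (.leaf 1640) (.leaf 2449))) (.node (.node (.leaf 936) (.leaf 3211)) (.node (.leaf 2281) (.leaf 3616)))) (.node (.node (.node (.leaf 543) (.leaf 3069)) (.node (.leaf 866) (.leaf 3878))) (.node (.node (.leaf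 1314) (.leaf 2173)) (.node (.leaf 1350) (.leaf 3463))))) (.node (.node (.node (.node (.leaf 103) (.leaf 1556)) (.node (.leaf 779) (.leaf 2572))) (.node (.node (.leaf 441) (.leaf 3414)) (.node (.leaf 2420) (.leaf 3243)))) (.node (.node (.node (.leaf 741) (.leaf 3208)) (.node (.leaf 2158) (.leaf 3852))) (.node (.node (.leaf 1489) (.leaf 2306)) (.node (.leaf 1347) (.leaf 3788))))))) (.node (.node (.node (.node (.node (.node (.leaf 77) (.leaf 1623)) (.node (.leaf 671) (.leaf 2477))) (.node (.node (.leaf 885) (.leaf 1893)) (.node (.leaf 1030) (.leaf 3899)))) (.node (.node (.node (.leaf 504) (.leaf 3047)) (.node (.leaf 1953) (.leaf 2690))) (.node (.node (.leaf 1263) (.leaf 2126)) (.node (.leaf 1231) (.leaf 4019))))) (.node (.node (.node (.node (.leaf 85) (.leaf 1537)) (.node (.leaf 1779) (.leaf 2536))) (.node (.node (.leaf 1075) (.leaf 3110)) (.node (.leaf 2258) (.leaf 3207)))) (.node (.node (.node (.leaf 243) (.leaf 1777)) (.node (.leaf 937) (.leaf 3925))) (.node (.node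 (.leaf 584) (.leaf 2263)) (.node (.leaf 2682) (.leaf 3705)))))) (.node (.node (.node (.node (.node (.leaf 202) (.leaf 2885)) (.node (.leaf 715) (.leaf 2474))) (.node (.node (.leaf 371) (.leaf 3348)) (.node (.leaf 1096) (.leaf 3481)))) (.node (.node (.node (.leaf 599) (.leaf 3090)) (.node (.leaf 2034) (.leaf 2777))) (.node (.node (.leaf 1362) (.leaf 3551)) (.node (.leaf 1276) (.leaf 4077))))) (.node (.node (.node (.node (.leaf 409) (.leaf 2994)) (.node (.leaf 804) (.leaf 2611))) (.node (.node (.leaf 458) (.leaf 2129)) (.node (.leaf 1184) (.leaf 3301)))) (.node (.node (.node (.leaf 793) (.leaf 3240)) (.node (.leaf 990) (.leaf 3953))) (.node (.node (.leaf 693) (.leaf 3599)) (.node (.leaf 2729) (.leaf 3916))))))))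

def twoNext34 : Janko.Tree (ℕ) :=
  (.node (.node (.node (.node (.node (.node (.node (.leaf 21) (.leaf 1404)) (.node (.leaf 1579) (.leaf 3638))) (.node (.node (.leaf 306) (.leaf 1853)) (.node (.leaf 2140) (.leaf 3959)))) (.node (.node (.node (.leaf 453) (.leaf 2456)) (.node (.leaf 1915) (.leaf 3844))) (.node (.node (.leaf 1217) (.leaf 3481)) (.node (.leaf 2503) (.leaf 3342))))) (.node (.node (.node (.node (.leaf 68) (.leaf 2853)) (.node (.leaf 735) (.leaf 3753))) (.node (.node (.leaf 394) (.leaf 2044)) (.node (.leaf 1102) (.leaf 3222)))) (.node (.node (.node (.leaf 645) (.leaf 1755)) (.node (.leaf 2070) (.leaf 3913))) (.node (.node (.leaf 575) (.leaf 2226)) (.node (.leaf 2636) (.leaf 3649)))))) (.node (.node (.node (.node (.node (.leaf 142) (.leaf 2850)) (.node (.leaf 693) (.leaf 3710))) (.node (.node (.leaf 350) (.leaf 2016)) (.node (.leaf 1066) (.leaf 3128)))) (.node (.node (.node (.leaf 180) (.leaf 1687)) (.node (.leaf 1998) (.leaf 2739))) (.node (.node (.leaf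 1308) (.leaf 2167)) (.node (.leaf 2579) (.leaf 3557))))) (.node (.node (.node (.node (.leaf 358) (.leaf 2965)) (.node (.leaf 783) (.leaf 3802))) (.node (.node (.leaf 1124) (.leaf 2050)) (.node (.leaf 1157) (.leaf 3524)))) (.node (.node (.node (.leaf 265) (.leaf 3207)) (.node (.leaf 961) (.leaf 3857))) (.node (.node (.leaf 1490) (.leaf 3179)) (.node (.leaf 2713) (.leaf 3917))))))) (.node (.node (.node (.node (.node (.node (.leaf 17) (.leaf 1430)) (.node (.leaf 1621) (.leaf 2907))) (.node (.node (.leaf 330) (.leaf 1882)) (.node (.leaf 2268) (.leaf 3036)))) (.node (.node (.node (.leaf 161) (.leaf 3046)) (.node (.leaf 1945) (.leaf 2747))) (.node (.node (.leaf 500) (.leaf 3504)) (.node (.leaf 2537) (.leaf 3404))))) (.node (.node (.node (.node (.leaf 307) (.leaf 1529)) (.node (.leaf 758) (.leaf 3732))) (.node (.node (.leaf 416) (.leaf 2137)) (.node (.leaf 1131) (.leaf 4015)))) (.node (.node (.node (.leaf 691) (.leaf 3172)) (.node (.leaf 2112) (.leaf 2846))) (.node (.node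 (.leaf 1446) (.leaf 2266)) (.node (.leaf 1325) (.leaf 3949)))))) (.node (.node (.node (.node (.node (.leaf 50) (.leaf 1476)) (.node (.leaf 1702) (.leaf 2476))) (.node (.node (.leaf 981) (.leaf 1954)) (.node (.leaf 1081) (.leaf 3121)))) (.node (.node (.node (.leaf 593) (.leaf 1727)) (.node (.leaf 1106) (.leaf 3652))) (.node (.node (.leaf 1363) (.leaf 2274)) (.node (.leaf 2607) (.leaf 3538))))) (.node (.node (.node (.node (.leaf 123) (.leaf 2449)) (.node (.leaf 1794) (.leaf 3824))) (.node (.node (.leaf 1154) (.leaf 3449)) (.node (.leaf 2459) (.leaf 3627)))) (.node (.node (.node (.leaf 792) (.leaf 1883)) (.node (.leaf 986) (.leaf 2934))) (.node (.node (.leaf 1534) (.leaf 3349)) (.node (.leaf 1383) (.leaf 4094))))))))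

def twoNext35 : Janko.Tree (ℕ) :=
  (.node (.node (.node (.node (.node (.node (.node (.leaf 22) (.leaf 2544)) (.node (.leaf 650) (.leaf 3646))) (.node (.node (.leaf 427) (.leaf 3270)) (.node (.leaf 1006) (.leaf 2978)))) (.node (.node (.node (.leaf 454) (.leaf 2451)) (.node (.leaf 822) (.leaf 3845))) (.node (.node (.leaf 477) (.leaf 2099)) (.node (.leaf 2504) (.leaf 3341))))) (.node (.node (.node (.node (.leaf 67) (.leaf 2859)) (.node (.leaf 1741) (.leaf 3718))) (.node (.node (.leaf 1028) (.leaf 2160)) (.node (.leaf 2364) (.leaf 3221)))) (.node (.node (.node (.leaf 646) (.leaf 1754)) (.node (.leaf 1727) (.leaf 3912))) (.node (.node (.leaf 562) (.leaf 2224)) (.node (.leaf 1435) (.leaf 3895)))))) (.node (.node (.node (.node (.node (.leaf 33) (.leaf 1453)) (.node (.leaf 1665) (.leaf 3711))) (.node (.node (.leaf 937) (.leaf 1911)) (.node (.leaf 1052) (.leaf 3090)))) (.node (.node (.node (.leaf 549) (.leaf 2725)) (.node (.leaf 1999) (.leaf 3879))) (.node (.node (.leaf 1315)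 (.leaf 2154)) (.node (.leaf 2581) (.leaf 3464))))) (.node (.node (.node (.node (.leaf 326) (.leaf 2435)) (.node (.leaf 1825) (.leaf 3714))) (.node (.node (.leaf 438) (.leaf 3101)) (.node (.leaf 1156) (.leaf 3582)))) (.node (.node (.node (.leaf 393) (.leaf 1800)) (.node (.leaf 2159) (.leaf 2892))) (.node (.node (.leaf 1491) (.leaf 2303)) (.node (.leaf 1353) (.leaf 3892))))))) (.node (.node (.node (.node (.node (.node (.leaf 86) (.leaf 2809)) (.node (.leaf 1622) (.leaf 3679))) (.node (.node (.leaf 886) (.leaf 1879)) (.node (.leaf 2254) (.leaf 3034)))) (.node (.node (.node (.leaf 160) (.leaf 1652)) (.node (.leaf 845) (.leaf 2878))) (.node (.node (.leaf 571) (.leaf 2132)) (.node (.leaf 2542) (.leaf 3403))))) (.node (.node (.node (.node (.leaf 308) (.leaf 1528)) (.node (.leaf 757) (.leaf 3735))) (.node (.node (.leaf 415) (.leaf 3394)) (.node (.leaf 2391) (.leaf 3333)))) (.node (.node (.node (.leaf 519) (.leaf 3173)) (.node (.leaf 2113) (.leaf 2845))) (.node (.node (.leaf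 1447) (.leaf 3231)) (.node (.leaf 2683) (.leaf 3948)))))) (.node (.node (.node (.node (.node (.leaf 203) (.leaf 2886)) (.node (.leaf 723) (.leaf 3734))) (.node (.node (.leaf 982) (.leaf 1941)) (.node (.leaf 2331) (.leaf 3998)))) (.node (.node (.node (.leaf 600) (.leaf 2070)) (.node (.leaf 889) (.leaf 3651))) (.node (.node (.leaf 1364) (.leaf 2188)) (.node (.leaf 1427) (.leaf 3537))))) (.node (.node (.node (.node (.leaf 410) (.leaf 2995)) (.node (.leaf 1870) (.leaf 2792))) (.node (.node (.leaf 1153) (.leaf 3304)) (.node (.leaf 2460) (.leaf 4028)))) (.node (.node (.node (.leaf 285) (.leaf 1826)) (.node (.leaf 2193) (.leaf 2932))) (.node (.node (.leaf 1535) (.leaf 3632)) (.node (.leaf 1373) (.leaf 4090))))))))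

def twoNext36 : Janko.Tree (ℕ) :=
  (.node (.node (.node (.node (.node (.node (.node (.leaf 21) (.leaf 2765)) (.node (.leaf 1576) (.leaf 3646))) (.node (.node (.leaf 840) (.leaf 2264)) (.node (.leaf 2235) (.leaf 3828)))) (.node (.node (.node (.leaf 143) (.leaf 1620)) (.node (.leaf 1039) (.leaf 3844))) (.node (.node (.leaf 1218) (.leaf 3481)) (.node (.leaf 1705) (.leaf 3346))))) (.node (.node (.node (.node (.leaf 150) (.leaf 1506)) (.node (.leaf 911) (.leaf 3746))) (.node (.node (.leaf 1014) (.leaf 3366)) (.node (.leaf 2354) (.leaf 3486)))) (.node (.node (.node (.leaf 458) (.leaf 3131)) (.node (.leaf 1016) (.leaf 2926))) (.node (.node (.leaf 1401) (.leaf 3136)) (.node (.leaf 1439) (.leaf 3950)))))) (.node (.node (.node (.node (.node (.leaf 144) (.leaf 2461)) (.node (.leaf 695) (.leaf 2450))) (.node (.node (.leaf 352) (.leaf 2164)) (.node (.leaf 1085) (.leaf 3094)))) (.node (.node (.node (.leaf 548) (.leaf 1689)) (.node (.leaf 867) (.leaf 3074))) (.node (.node (.leaf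 1315) (.leaf 3475)) (.node (.leaf 2581) (.leaf 4030))))) (.node (.node (.node (.node (.leaf 104) (.leaf 2922)) (.node (.leaf 1823) (.leaf 2576))) (.node (.node (.leaf 447) (.leaf 3415)) (.node (.leaf 1400) (.leaf 3333)))) (.node (.node (.node (.leaf 742) (.leaf 3198)) (.node (.leaf 963) (.leaf 3918))) (.node (.node (.leaf 1490) (.leaf 2305)) (.node (.leaf 1348) (.leaf 3886))))))) (.node (.node (.node (.node (.node (.node (.leaf 85) (.leaf 2615)) (.node (.leaf 672) (.leaf 2907))) (.node (.node (.leaf 884) (.leaf 2246)) (.node (.leaf 1031) (.leaf 3753)))) (.node (.node (.node (.leaf 192) (.leaf 3048)) (.node (.leaf 1942) (.leaf 3042))) (.node (.node (.leaf 506) (.leaf 2127)) (.node (.leaf 2530) (.leaf 3408))))) (.node (.node (.node (.node (.leaf 309) (.leaf 2551)) (.node (.leaf 790) (.leaf 2541))) (.node (.node (.leaf 850) (.leaf 3394)) (.node (.leaf 1801) (.leaf 3625)))) (.node (.node (.node (.leaf 549) (.leaf 2141)) (.node (.leaf 967) (.leaf 3838))) (.node (.node (.leaf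 587) (.leaf 3555)) (.node (.leaf 2681) (.leaf 3764)))))) (.node (.node (.node (.node (.node (.leaf 182) (.leaf 1478)) (.node (.leaf 716) (.leaf 2850))) (.node (.node (.leaf 372) (.leaf 3349)) (.node (.leaf 1083) (.leaf 3995)))) (.node (.node (.node (.leaf 600) (.leaf 3091)) (.node (.leaf 2035) (.leaf 2779))) (.node (.node (.leaf 1363) (.leaf 3248)) (.node (.leaf 2495) (.leaf 3998))))) (.node (.node (.node (.node (.leaf 321) (.leaf 2995)) (.node (.leaf 806) (.leaf 3826))) (.node (.node (.leaf 1175) (.leaf 3304)) (.node (.leaf 1248) (.leaf 3451)))) (.node (.node (.node (.leaf 794) (.leaf 1830)) (.node (.leaf 2040) (.leaf 3703))) (.node (.node (.leaf 1534) (.leaf 3632)) (.node (.leaf 1396) (.leaf 3955))))))))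

def twoNext37 : Janko.Tree (ℕ) :=
  (.node (.node (.node (.node (.node (.node (.node (.leaf 23) (.leaf 1405)) (.node (.leaf 651) (.leaf 3592))) (.node (.node (.leaf 307) (.leaf 1855)) (.node (.leaf 1007) (.leaf 2979)))) (.node (.node (.node (.leaf 455) (.leaf 3024)) (.node (.leaf 823) (.leaf 3772))) (.node (.node (.leaf 478) (.leaf 3482)) (.node (.leaf 2505) (.leaf 4018))))) (.node (.node (.node (.node (.leaf 68) (.leaf 2917)) (.node (.leaf 1742) (.leaf 3754))) (.node (.node (.leaf 1029) (.leaf 3372)) (.node (.leaf 1105) (.leaf 3158)))) (.node (.node (.node (.leaf 647) (.leaf 1755)) (.node (.leaf 2071) (.leaf 3914))) (.node (.node (.leaf 563) (.leaf 2226)) (.node (.leaf 2650) (.leaf 3750)))))) (.node (.node (.node (.node (.node (.leaf 34) (.leaf 1454)) (.node (.leaf 1666) (.leaf 3712))) (.node (.node (.leaf 938) (.leaf 1912)) (.node (.leaf 1054) (.leaf 3091)))) (.node (.node (.node (.leaf 550) (.leaf 3070)) (.node (.leaf 1867) (.leaf 3821))) (.node (.node (.leaf 1316)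 (.leaf 2156)) (.node (.leaf 2582) (.leaf 3473))))) (.node (.node (.node (.node (.leaf 359) (.leaf 1599)) (.node (.leaf 1809) (.leaf 3773))) (.node (.node (.leaf 439) (.leaf 2051)) (.node (.leaf 1157) (.leaf 4039)))) (.node (.node (.node (.leaf 266) (.leaf 1801)) (.node (.leaf 1041) (.leaf 2893))) (.node (.node (.leaf 1492) (.leaf 3609)) (.node (.leaf 2688) (.leaf 3790))))))) (.node (.node (.node (.node (.node (.node (.leaf 87) (.leaf 2806)) (.node (.leaf 1472) (.leaf 3680))) (.node (.node (.leaf 881) (.leaf 1881)) (.node (.leaf 1140) (.leaf 3036)))) (.node (.node (.node (.leaf 161) (.leaf 1653)) (.node (.leaf 847) (.leaf 2692))) (.node (.node (.leaf 501) (.leaf 3491)) (.node (.leaf 2543) (.leaf 3404))))) (.node (.node (.node (.node (.leaf 86) (.leaf 2945)) (.node (.leaf 758) (.leaf 3783))) (.node (.node (.leaf 416) (.leaf 2024)) (.node (.leaf 2392) (.leaf 4022)))) (.node (.node (.node (.leaf 692) (.leaf 1778)) (.node (.leaf 2114) (.leaf 2847))) (.node (.node (.leaf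 1448) (.leaf 2289)) (.node (.leaf 2679) (.leaf 3706)))))) (.node (.node (.node (.node (.node (.leaf 192) (.leaf 1587)) (.node (.leaf 1566) (.leaf 2483))) (.node (.node (.leaf 983) (.leaf 1943)) (.node (.leaf 2332) (.leaf 3124)))) (.node (.node (.node (.leaf 601) (.leaf 1728)) (.node (.leaf 890) (.leaf 2788))) (.node (.node (.leaf 1365) (.leaf 2189)) (.node (.leaf 2617) (.leaf 3541))))) (.node (.node (.node (.node (.leaf 402) (.leaf 1608)) (.node (.leaf 1871) (.leaf 2612))) (.node (.node (.leaf 459) (.leaf 3451)) (.node (.leaf 2461) (.leaf 3294)))) (.node (.node (.node (.leaf 286) (.leaf 1827)) (.node (.leaf 2194) (.leaf 2934))) (.node (.node (.leaf 1536) (.leaf 2356)) (.node (.leaf 2739) (.leaf 3924))))))))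

def twoNext38 : Janko.Tree (ℕ) :=
  (.node (.node (.node (.node (.node (.node (.node (.leaf 2) (.leaf 2764)) (.node (.leaf 1580) (.leaf 3639))) (.node (.node (.leaf 836) (.leaf 3270)) (.node (.leaf 2236) (.leaf 3953)))) (.node (.node (.node (.leaf 456) (.leaf 2710)) (.node (.leaf 1916) (.leaf 2653))) (.node (.node (.leaf 1219) (.leaf 3350)) (.node (.leaf 1721) (.leaf 3345))))) (.node (.node (.node (.node (.leaf 256) (.leaf 1504)) (.node (.leaf 1741) (.leaf 2505))) (.node (.node (.leaf 1028) (.leaf 1977)) (.node (.leaf 2364) (.leaf 3160)))) (.node (.node (.node (.leaf 222) (.leaf 3132)) (.node (.leaf 1752) (.leaf 2806))) (.node (.node (.leaf 1407) (.leaf 2260)) (.node (.leaf 1299) (.leaf 3895)))))) (.node (.node (.node (.node (.node (.leaf 145) (.leaf 2849)) (.node (.leaf 1665) (.leaf 2457))) (.node (.node (.leaf 937) (.leaf 2163)) (.node (.leaf 1077) (.leaf 3095)))) (.node (.node (.node (.leaf 549) (.leaf 1691)) (.node (.leaf 2000) (.leaf 3879))) (.node (.node (.leaf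 1309) (.leaf 3474)) (.node (.leaf 2580) (.leaf 3464))))) (.node (.node (.node (.node (.leaf 103) (.leaf 1558)) (.node (.leaf 780) (.leaf 2574))) (.node (.node (.leaf 1125) (.leaf 3416)) (.node (.leaf 2421) (.leaf 3245)))) (.node (.node (.node (.leaf 738) (.leaf 3209)) (.node (.leaf 2159) (.leaf 3919))) (.node (.node (.leaf 608) (.leaf 2304)) (.node (.leaf 1350) (.leaf 3935))))))) (.node (.node (.node (.node (.node (.node (.leaf 86) (.leaf 2809)) (.node (.leaf 1614) (.leaf 2426))) (.node (.node (.leaf 886) (.leaf 3211)) (.node (.leaf 1030) (.leaf 3747)))) (.node (.node (.node (.leaf 505) (.leaf 2665)) (.node (.leaf 1941) (.leaf 3864))) (.node (.node (.leaf 1191) (.leaf 2129)) (.node (.leaf 1232) (.leaf 4065))))) (.node (.node (.node (.node (.leaf 310) (.leaf 2944)) (.node (.leaf 1780) (.leaf 2542))) (.node (.node (.leaf 1076) (.leaf 2018)) (.node (.leaf 2391) (.leaf 3208)))) (.node (.node (.node (.leaf 548) (.leaf 3174)) (.node (.leaf 938) (.leaf 2913))) (.node (.node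 (.leaf 585) (.leaf 2265)) (.node (.leaf 2683) (.leaf 3768)))))) (.node (.node (.node (.node (.node (.leaf 203) (.leaf 2886)) (.node (.leaf 718) (.leaf 2475))) (.node (.node (.leaf 371) (.leaf 2345)) (.node (.leaf 2331) (.leaf 3998)))) (.node (.node (.node (.leaf 594) (.leaf 3092)) (.node (.leaf 2036) (.leaf 2778))) (.node (.node (.leaf 545) (.leaf 3552)) (.node (.leaf 2490) (.leaf 3995))))) (.node (.node (.node (.node (.leaf 410) (.leaf 1602)) (.node (.leaf 1786) (.leaf 3809))) (.node (.node (.leaf 1176) (.leaf 3450)) (.node (.leaf 1185) (.leaf 4027)))) (.node (.node (.node (.leaf 788) (.leaf 1832)) (.node (.leaf 2193) (.leaf 2980))) (.node (.node (.leaf 631) (.leaf 2352)) (.node (.leaf 1376) (.leaf 3931))))))))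

def twoNext39 : Janko.Tree (ℕ) :=
  (.node (.node (.node (.node (.node (.node (.node (.leaf 24) (.leaf 2769)) (.node (.leaf 1581) (.leaf 2390))) (.node (.node (.leaf 841) (.leaf 1853)) (.node (.leaf 2237) (.leaf 3965)))) (.node (.node (.node (.leaf 222) (.leaf 2716)) (.node (.leaf 1917) (.leaf 3846))) (.node (.node (.leaf 1220) (.leaf 2100)) (.node (.leaf 1209) (.leaf 3344))))) (.node (.node (.node (.node (.leaf 148) (.leaf 2718)) (.node (.leaf 735) (.leaf 3030))) (.node (.node (.leaf 394) (.leaf 1976)) (.node (.leaf 1102) (.leaf 4012)))) (.node (.node (.node (.leaf 456) (.leaf 3133)) (.node (.leaf 912) (.leaf 2805))) (.node (.node (.leaf 1408) (.leaf 3135)) (.node (.leaf 2651) (.leaf 3649)))))) (.node (.node (.node (.node (.node (.leaf 146) (.leaf 2851)) (.node (.leaf 693) (.leaf 3713))) (.node (.node (.leaf 350) (.leaf 3319)) (.node (.leaf 2301) (.leaf 3548)))) (.node (.node (.node (.leaf 180) (.leaf 1688)) (.node (.leaf 1992) (.leaf 2739))) (.node (.node (.leaf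 521) (.leaf 3510)) (.node (.leaf 1253) (.leaf 3557))))) (.node (.node (.node (.node (.leaf 331) (.leaf 2691)) (.node (.leaf 779) (.leaf 2573))) (.node (.node (.leaf 1126) (.leaf 3417)) (.node (.leaf 1398) (.leaf 3317)))) (.node (.node (.node (.leaf 743) (.leaf 3153)) (.node (.leaf 961) (.leaf 3938))) (.node (.node (.leaf 1493) (.leaf 3614)) (.node (.leaf 2714) (.leaf 3884))))))) (.node (.node (.node (.node (.node (.node (.leaf 17) (.leaf 1430)) (.node (.leaf 671) (.leaf 3681))) (.node (.node (.leaf 330) (.leaf 3210)) (.node (.leaf 2256) (.leaf 3750)))) (.node (.node (.node (.leaf 190) (.leaf 3049)) (.node (.leaf 1954) (.leaf 3865))) (.node (.node (.leaf 1264) (.leaf 3405)) (.node (.leaf 1231) (.leaf 3407))))) (.node (.node (.node (.node (.leaf 311) (.leaf 1530)) (.node (.leaf 781) (.leaf 2537))) (.node (.node (.leaf 826) (.leaf 2010)) (.node (.leaf 1131) (.leaf 3605)))) (.node (.node (.node (.leaf 244) (.leaf 3175)) (.node (.leaf 965) (.leaf 3926))) (.node (.node (.leaf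 584) (.leaf 3364)) (.node (.leaf 1325) (.leaf 3972)))))) (.node (.node (.node (.node (.node (.leaf 50) (.leaf 1476)) (.node (.leaf 1703) (.leaf 2474))) (.node (.node (.leaf 397) (.leaf 2352)) (.node (.leaf 1081) (.leaf 3121)))) (.node (.node (.node (.leaf 202) (.leaf 3093)) (.node (.leaf 2037) (.leaf 3896))) (.node (.node (.leaf 1366) (.leaf 3553)) (.node (.leaf 1277) (.leaf 3539))))) (.node (.node (.node (.node (.leaf 123) (.leaf 1588)) (.node (.leaf 804) (.leaf 3827))) (.node (.node (.leaf 1177) (.leaf 2075)) (.node (.leaf 1184) (.leaf 3549)))) (.node (.node (.node (.leaf 795) (.leaf 3241)) (.node (.leaf 986) (.leaf 3701))) (.node (.node (.leaf 1537) (.leaf 2345)) (.node (.leaf 1375) (.leaf 3923))))))))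

def twoNext40 : Janko.Tree (ℕ) :=
  (.node (.node (.node (.node (.node (.node (.node (.leaf 22) (.leaf 1406)) (.node (.leaf 1562) (.leaf 3299))) (.node (.node (.leaf 427) (.leaf 2195)) (.node (.leaf 2076) (.leaf 3900)))) (.node (.node (.node (.leaf 456) (.leaf 1646)) (.node (.leaf 824) (.leaf 3845))) (.node (.node (.leaf 479) (.leaf 2139)) (.node (.leaf 1210) (.leaf 3508))))) (.node (.node (.node (.node (.leaf 69) (.leaf 2914)) (.node (.leaf 919) (.leaf 2883))) (.node (.node (.leaf 1030) (.leaf 1979)) (.node (.leaf 1104) (.leaf 3499)))) (.node (.node (.node (.leaf 640) (.leaf 1756)) (.node (.leaf 2072) (.leaf 2810))) (.node (.node (.leaf 564) (.leaf 2227)) (.node (.leaf 1319) (.leaf 3653)))))) (.node (.node (.node (.node (.node (.leaf 37) (.leaf 1455)) (.node (.leaf 1667) (.leaf 2457))) (.node (.node (.leaf 939) (.leaf 1915)) (.node (.leaf 1068) (.leaf 3549)))) (.node (.node (.node (.leaf 551) (.leaf 2592)) (.node (.leaf 2000) (.leaf 2841))) (.node (.node (.leaf 632)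 (.leaf 2199)) (.node (.leaf 2583) (.leaf 4047))))) (.node (.node (.node (.node (.leaf 360) (.leaf 1584)) (.node (.leaf 789) (.leaf 2585))) (.node (.node (.leaf 440) (.leaf 2052)) (.node (.leaf 1158) (.leaf 4015)))) (.node (.node (.node (.leaf 393) (.leaf 2151)) (.node (.leaf 2160) (.leaf 2895))) (.node (.node (.leaf 1491) (.leaf 2306)) (.node (.leaf 2714) (.leaf 3959))))))) (.node (.node (.node (.node (.node (.node (.leaf 88) (.leaf 2807)) (.node (.leaf 1623) (.leaf 3679))) (.node (.node (.leaf 887) (.leaf 1882)) (.node (.leaf 1831) (.leaf 3825)))) (.node (.node (.node (.leaf 162) (.leaf 3046)) (.node (.leaf 848) (.leaf 3026))) (.node (.node (.leaf 503) (.leaf 3405)) (.node (.leaf 2524) (.leaf 3586))))) (.node (.node (.node (.node (.leaf 87) (.leaf 1532)) (.node (.leaf 811) (.leaf 2766))) (.node (.node (.leaf 417) (.leaf 3395)) (.node (.leaf 1799) (.leaf 3314)))) (.node (.node (.node (.leaf 693) (.leaf 2119)) (.node (.leaf 2108) (.leaf 3741))) (.node (.node (.leaf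 607) (.leaf 3580)) (.node (.leaf 2684) (.leaf 3768)))))) (.node (.node (.node (.node (.node (.leaf 193) (.leaf 2887)) (.node (.leaf 1703) (.leaf 2832))) (.node (.node (.leaf 373) (.leaf 1948)) (.node (.leaf 2333) (.leaf 3123)))) (.node (.node (.node (.leaf 602) (.leaf 1729)) (.node (.leaf 891) (.leaf 2780))) (.node (.node (.leaf 1364) (.leaf 2249)) (.node (.leaf 1527) (.leaf 4060))))) (.node (.node (.node (.node (.leaf 124) (.leaf 2647)) (.node (.leaf 1786) (.leaf 2628))) (.node (.node (.leaf 460) (.leaf 3452)) (.node (.leaf 1238) (.leaf 4052)))) (.node (.node (.node (.leaf 792) (.leaf 1829)) (.node (.leaf 1856) (.leaf 3923))) (.node (.node (.leaf 1535) (.leaf 2365)) (.node (.leaf 1394) (.leaf 4088))))))))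

def twoNext41 : Janko.Tree (ℕ) :=
  (.node (.node (.node (.node (.node (.node (.node (.leaf 25) (.leaf 2770)) (.node (.leaf 1582) (.leaf 2391))) (.node (.node (.leaf 842) (.leaf 1854)) (.node (.leaf 1008) (.leaf 2982)))) (.node (.node (.node (.leaf 457) (.leaf 1621)) (.node (.leaf 1918) (.leaf 2708))) (.node (.node (.leaf 1221) (.leaf 2101)) (.node (.leaf 2506) (.leaf 3347))))) (.node (.node (.node (.node (.leaf 257) (.leaf 1679)) (.node (.leaf 736) (.leaf 3755))) (.node (.node (.leaf 395) (.leaf 3339)) (.node (.leaf 2340) (.leaf 3166)))) (.node (.node (.node (.leaf 223) (.leaf 3134)) (.node (.leaf 913) (.leaf 2878))) (.node (.node (.leaf 1409) (.leaf 3575)) (.node (.leaf 2524) (.leaf 3650)))))) (.node (.node (.node (.node (.node (.leaf 147) (.leaf 2785)) (.node (.leaf 694) (.leaf 2452))) (.node (.node (.leaf 351) (.leaf 3320)) (.node (.leaf 2302) (.leaf 3093)))) (.node (.node (.node (.leaf 181) (.leaf 1691)) (.node (.leaf 2001) (.leaf 2740))) (.node (.node (.leaf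 522) (.leaf 3524)) (.node (.leaf 1254) (.leaf 3465))))) (.node (.node (.node (.node (.leaf 104) (.leaf 2971)) (.node (.leaf 1826) (.leaf 2574))) (.node (.node (.leaf 1021) (.leaf 3418)) (.node (.leaf 2422) (.leaf 3247)))) (.node (.node (.node (.leaf 744) (.leaf 1802)) (.node (.leaf 962) (.leaf 3939))) (.node (.node (.leaf 611) (.leaf 3504)) (.node (.leaf 2705) (.leaf 3807))))))) (.node (.node (.node (.node (.node (.node (.leaf 18) (.leaf 1431)) (.node (.leaf 672) (.leaf 2429))) (.node (.node (.leaf 331) (.leaf 3296)) (.node (.leaf 1031) (.leaf 3058)))) (.node (.node (.node (.leaf 506) (.leaf 1664)) (.node (.leaf 1955) (.leaf 2899))) (.node (.node (.leaf 1265) (.leaf 3499)) (.node (.leaf 1232) (.leaf 4056))))) (.node (.node (.node (.node (.leaf 312) (.leaf 2902)) (.node (.leaf 1781) (.leaf 2538))) (.node (.node (.leaf 1077) (.leaf 2012)) (.node (.leaf 1132) (.leaf 3209)))) (.node (.node (.node (.leaf 245) (.leaf 3176)) (.node (.leaf 939) (.leaf 2854))) (.node (.node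 (.leaf 585) (.leaf 2267)) (.node (.leaf 1326) (.leaf 3710)))))) (.node (.node (.node (.node (.node (.leaf 51) (.leaf 1477)) (.node (.leaf 1689) (.leaf 3735))) (.node (.node (.leaf 984) (.leaf 3350)) (.node (.leaf 1082) (.leaf 3993)))) (.node (.node (.node (.leaf 203) (.leaf 3094)) (.node (.leaf 2038) (.leaf 3897))) (.node (.node (.leaf 1361) (.leaf 3554)) (.node (.leaf 1278) (.leaf 3544))))) (.node (.node (.node (.node (.leaf 411) (.leaf 1590)) (.node (.leaf 1872) (.leaf 3828))) (.node (.node (.leaf 1178) (.leaf 2076)) (.node (.leaf 1185) (.leaf 3295)))) (.node (.node (.node (.leaf 316) (.leaf 3242)) (.node (.leaf 987) (.leaf 2936))) (.node (.node (.leaf 1533) (.leaf 3446)) (.node (.leaf 1376) (.leaf 3973))))))))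

def twoNext42 : Janko.Tree (ℕ) :=
  (.node (.node (.node (.node (.node (.node (.node (.leaf 24) (.leaf 1412)) (.node (.leaf 652) (.leaf 3628))) (.node (.node (.leaf 308) (.leaf 1856)) (.node (.leaf 1750) (.leaf 3894)))) (.node (.node (.node (.leaf 143) (.leaf 1629)) (.node (.leaf 823) (.leaf 3846))) (.node (.node (.leaf 1222) (.leaf 3357)) (.node (.leaf 2507) (.leaf 3507))))) (.node (.node (.node (.node (.leaf 247) (.leaf 2718)) (.node (.leaf 918) (.leaf 2506))) (.node (.node (.leaf 1031) (.leaf 1978)) (.node (.leaf 1103) (.leaf 3159)))) (.node (.node (.node (.leaf 648) (.leaf 3135)) (.node (.leaf 2073) (.leaf 2807))) (.node (.node (.leaf 563) (.leaf 3570)) (.node (.leaf 2651) (.leaf 3755)))))) (.node (.node (.node (.node (.node (.leaf 35) (.leaf 2658)) (.node (.leaf 696) (.leaf 2450))) (.node (.node (.leaf 933) (.leaf 1913)) (.node (.leaf 1055) (.leaf 3445)))) (.node (.node (.node (.leaf 552) (.leaf 3061)) (.node (.leaf 867) (.leaf 3878))) (.node (.node (.leaf 579)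 (.leaf 3331)) (.node (.leaf 2584) (.leaf 4001))))) (.node (.node (.node (.node (.leaf 356) (.leaf 2691)) (.node (.leaf 781) (.leaf 3804))) (.node (.node (.leaf 439) (.leaf 3214)) (.node (.leaf 2413) (.leaf 3317)))) (.node (.node (.node (.leaf 267) (.leaf 3210)) (.node (.leaf 966) (.leaf 3834))) (.node (.node (.leaf 1493) (.leaf 3614)) (.node (.leaf 1351) (.leaf 3964))))))) (.node (.node (.node (.node (.node (.node (.leaf 89) (.leaf 2810)) (.node (.leaf 1608) (.leaf 3681))) (.node (.node (.leaf 885) (.leaf 3295)) (.node (.leaf 2232) (.leaf 3823)))) (.node (.node (.node (.leaf 496) (.leaf 1654)) (.node (.leaf 1939) (.leaf 2693))) (.node (.node (.leaf 1194) (.leaf 2130)) (.node (.leaf 2544) (.leaf 4062))))) (.node (.node (.node (.node (.leaf 313) (.leaf 1531)) (.node (.leaf 810) (.leaf 2769))) (.node (.node (.leaf 1056) (.leaf 3326)) (.node (.leaf 2360) (.leaf 3621)))) (.node (.node (.node (.leaf 694) (.leaf 1779)) (.node (.leaf 2115) (.leaf 2848))) (.node (.node (.leaf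 1449) (.leaf 3509)) (.node (.leaf 2682) (.leaf 3764)))))) (.node (.node (.node (.node (.node (.leaf 204) (.leaf 2407)) (.node (.leaf 719) (.leaf 3734))) (.node (.node (.leaf 397) (.leaf 1950)) (.node (.leaf 1084) (.leaf 3122)))) (.node (.node (.node (.leaf 582) (.leaf 2172)) (.node (.leaf 2039) (.leaf 3896))) (.node (.node (.leaf 1366) (.leaf 2190)) (.node (.leaf 2618) (.leaf 3541))))) (.node (.node (.node (.node (.leaf 412) (.leaf 2645)) (.node (.leaf 806) (.leaf 2614))) (.node (.node (.leaf 1179) (.leaf 3453)) (.node (.leaf 2462) (.leaf 4025)))) (.node (.node (.node (.leaf 287) (.leaf 1835)) (.node (.leaf 2195) (.leaf 3954))) (.node (.node (.leaf 1537) (.leaf 2348)) (.node (.leaf 2740) (.leaf 3928))))))))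

def twoNext43 : Janko.Tree (ℕ) :=
  (.node (.node (.node (.node (.node (.node (.node (.leaf 2) (.leaf 1431)) (.node (.leaf 1583) (.leaf 3647))) (.node (.node (.leaf 307) (.leaf 3271)) (.node (.leaf 1749) (.leaf 3891)))) (.node (.node (.node (.leaf 458) (.leaf 3025)) (.node (.leaf 1919) (.leaf 2653))) (.node (.node (.leaf 1223) (.leaf 2150)) (.node (.leaf 2508) (.leaf 3580))))) (.node (.node (.node (.node (.leaf 258) (.leaf 1504)) (.node (.leaf 1743) (.leaf 2601))) (.node (.node (.leaf 1032) (.leaf 3373)) (.node (.leaf 2358) (.leaf 3158)))) (.node (.node (.node (.leaf 649) (.leaf 2260)) (.node (.leaf 2074) (.leaf 3796))) (.node (.node (.leaf 1410) (.leaf 3351)) (.node (.leaf 1299) (.leaf 3940)))))) (.node (.node (.node (.node (.node (.leaf 34) (.leaf 2852)) (.node (.leaf 1668) (.leaf 2493))) (.node (.node (.leaf 940) (.leaf 1912)) (.node (.leaf 1054) (.leaf 3451)))) (.node (.node (.node (.leaf 553) (.leaf 2590)) (.node (.leaf 2002) (.leaf 2840))) (.node (.node (.leaf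 578) (.leaf 2158)) (.node (.leaf 2585) (.leaf 4000))))) (.node (.node (.node (.node (.leaf 361) (.leaf 1558)) (.node (.leaf 1780) (.leaf 2583))) (.node (.node (.leaf 1127) (.leaf 2270)) (.node (.leaf 2423) (.leaf 3245)))) (.node (.node (.node (.leaf 266) (.leaf 3211)) (.node (.leaf 2161) (.leaf 2893))) (.node (.node (.leaf 608) (.leaf 2304)) (.node (.leaf 1348) (.leaf 3793))))))) (.node (.node (.node (.node (.node (.node (.leaf 90) (.leaf 2811)) (.node (.leaf 1180) (.leaf 2426))) (.node (.node (.leaf 888) (.leaf 1881)) (.node (.leaf 2055) (.leaf 3038)))) (.node (.node (.node (.leaf 507) (.leaf 1653)) (.node (.leaf 1956) (.leaf 2756))) (.node (.node (.leaf 501) (.leaf 2127)) (.node (.leaf 1404) (.leaf 3409))))) (.node (.node (.node (.node (.leaf 314) (.leaf 2946)) (.node (.leaf 759) (.leaf 2764))) (.node (.node (.leaf 1078) (.leaf 3325)) (.node (.leaf 1797) (.leaf 3620)))) (.node (.node (.node (.leaf 695) (.leaf 3177)) (.node (.leaf 2116) (.leaf 2847))) (.node (.node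 (.leaf 605) (.leaf 3508)) (.node (.leaf 2685) (.leaf 3812)))))) (.node (.node (.node (.node (.node (.leaf 205) (.leaf 2888)) (.node (.leaf 716) (.leaf 2476))) (.node (.node (.leaf 371) (.leaf 1944)) (.node (.leaf 2334) (.leaf 3997)))) (.node (.node (.node (.leaf 581) (.leaf 1904)) (.node (.leaf 2022) (.leaf 2778))) (.node (.node (.leaf 545) (.leaf 2275)) (.node (.leaf 2619) (.leaf 3540))))) (.node (.node (.node (.node (.leaf 413) (.leaf 2724)) (.node (.leaf 805) (.leaf 2613))) (.node (.node (.leaf 495) (.leaf 3454)) (.node (.leaf 1214) (.leaf 4024)))) (.node (.node (.node (.leaf 286) (.leaf 1827)) (.node (.leaf 2196) (.leaf 3955))) (.node (.node (.leaf 631) (.leaf 2397)) (.node (.leaf 1389) (.leaf 3927))))))))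

def twoNext44 : Janko.Tree (ℕ) :=
  (.node (.node (.node (.node (.node (.node (.node (.leaf 26) (.leaf 2771)) (.node (.leaf 1563) (.leaf 2395))) (.node (.node (.leaf 833) (.leaf 2216)) (.node (.leaf 1009) (.leaf 3931)))) (.node (.node (.node (.leaf 222) (.leaf 1624)) (.node (.leaf 825) (.leaf 2830))) (.node (.node (.leaf 1222) (.leaf 2138)) (.node (.leaf 2507) (.leaf 3348))))) (.node (.node (.node (.node (.leaf 258) (.leaf 2718)) (.node (.leaf 739) (.leaf 2884))) (.node (.node (.leaf 396) (.leaf 1980)) (.node (.leaf 1825) (.leaf 3488)))) (.node (.node (.node (.leaf 224) (.leaf 3135)) (.node (.leaf 980) (.leaf 3810))) (.node (.node (.leaf 565) (.leaf 2229)) (.node (.leaf 1446) (.leaf 3755)))))) (.node (.node (.node (.node (.node (.leaf 148) (.leaf 2658)) (.node (.leaf 1665) (.leaf 3713))) (.node (.node (.leaf 937) (.leaf 1914)) (.node (.leaf 1079) (.leaf 3095)))) (.node (.node (.node (.leaf 203) (.leaf 1692)) (.node (.leaf 1992) (.leaf 2742))) (.node (.node (.leaf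 1304) (.leaf 3525)) (.node (.leaf 1255) (.leaf 4008))))) (.node (.node (.node (.node (.leaf 331) (.leaf 1575)) (.node (.leaf 1827) (.leaf 2575))) (.node (.node (.leaf 441) (.leaf 3419)) (.node (.leaf 2423) (.leaf 3552)))) (.node (.node (.node (.leaf 280) (.leaf 1803)) (.node (.leaf 2159) (.leaf 2899))) (.node (.node (.leaf 616) (.leaf 3614)) (.node (.leaf 1351) (.leaf 3934))))))) (.node (.node (.node (.node (.node (.node (.leaf 19) (.leaf 2614)) (.node (.leaf 1621) (.leaf 2428))) (.node (.node (.leaf 422) (.leaf 3297)) (.node (.leaf 2256) (.leaf 3762)))) (.node (.node (.node (.leaf 507) (.leaf 1658)) (.node (.leaf 1939) (.leaf 3027))) (.node (.node (.leaf 1194) (.leaf 3396)) (.node (.leaf 1265) (.leaf 3493))))) (.node (.node (.node (.node (.leaf 313) (.leaf 1533)) (.node (.leaf 1782) (.leaf 2539))) (.node (.node (.leaf 1056) (.leaf 2043)) (.node (.leaf 1133) (.leaf 3979)))) (.node (.node (.node (.leaf 522) (.leaf 2120)) (.node (.leaf 940) (.leaf 3722))) (.node (.node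 (.leaf 586) (.leaf 3519)) (.node (.leaf 1336) (.leaf 3948)))))) (.node (.node (.node (.node (.node (.leaf 52) (.leaf 2886)) (.node (.leaf 1209) (.leaf 2479))) (.node (.node (.leaf 985) (.leaf 2098)) (.node (.leaf 2331) (.leaf 3997)))) (.node (.node (.node (.leaf 475) (.leaf 2168)) (.node (.leaf 2039) (.leaf 3898))) (.node (.node (.leaf 1367) (.leaf 2265)) (.node (.leaf 1279) (.leaf 4000))))) (.node (.node (.node (.node (.leaf 412) (.leaf 1638)) (.node (.leaf 1873) (.leaf 2811))) (.node (.node (.leaf 1179) (.leaf 2077)) (.node (.leaf 1186) (.leaf 4001)))) (.node (.node (.node (.leaf 757) (.leaf 3243)) (.node (.leaf 2107) (.leaf 3855))) (.node (.node (.leaf 1538) (.leaf 2350)) (.node (.leaf 2741) (.leaf 3933))))))))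

def twoNext45 : Janko.Tree (ℕ) :=
  (.node (.node (.node (.node (.node (.node (.node (.leaf 3) (.leaf 1407)) (.node (.leaf 1584) (.leaf 3648))) (.node (.node (.leaf 309) (.leaf 1863)) (.node (.leaf 2238) (.leaf 2988)))) (.node (.node (.node (.leaf 150) (.leaf 2861)) (.node (.leaf 1807) (.leaf 2698))) (.node (.node (.leaf 1224) (.leaf 3483)) (.node (.leaf 2509) (.leaf 3421))))) (.node (.node (.node (.node (.leaf 259) (.leaf 2918)) (.node (.leaf 1744) (.leaf 2632))) (.node (.node (.leaf 1033) (.leaf 3374)) (.node (.leaf 1104) (.leaf 3399)))) (.node (.node (.node (.leaf 650) (.leaf 1949)) (.node (.leaf 2075) (.leaf 2809))) (.node (.node (.leaf 1411) (.leaf 3534)) (.node (.leaf 1300) (.leaf 4081)))))) (.node (.node (.node (.node (.node (.leaf 35) (.leaf 2853)) (.node (.leaf 1658) (.leaf 3714))) (.node (.node (.leaf 909) (.leaf 3321)) (.node (.leaf 2303) (.leaf 3982)))) (.node (.node (.node (.leaf 554) (.leaf 3071)) (.node (.leaf 1999) (.leaf 3724))) (.node (.node (.leaf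 1317) (.leaf 2159)) (.node (.leaf 1353) (.leaf 3468))))) (.node (.node (.node (.node (.leaf 362) (.leaf 1559)) (.node (.leaf 782) (.leaf 3756))) (.node (.node (.leaf 1128) (.leaf 2053)) (.node (.leaf 1190) (.leaf 3246)))) (.node (.node (.node (.leaf 745) (.leaf 3212)) (.node (.leaf 975) (.leaf 3940))) (.node (.node (.leaf 609) (.leaf 3613)) (.node (.leaf 2715) (.leaf 3794))))))) (.node (.node (.node (.node (.node (.node (.leaf 91) (.leaf 2812)) (.node (.leaf 674) (.leaf 3668))) (.node (.node (.leaf 889) (.leaf 1882)) (.node (.leaf 2269) (.leaf 3039)))) (.node (.node (.node (.leaf 508) (.leaf 2791)) (.node (.leaf 852) (.leaf 3865))) (.node (.node (.leaf 1266) (.leaf 2130)) (.node (.leaf 2545) (.leaf 3410))))) (.node (.node (.node (.node (.leaf 315) (.leaf 2947)) (.node (.leaf 760) (.leaf 3784))) (.node (.node (.leaf 1073) (.leaf 3396)) (.node (.leaf 2393) (.leaf 3210)))) (.node (.node (.node (.leaf 696) (.leaf 3175)) (.node (.leaf 2117) (.leaf 2858))) (.node (.node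 (.leaf 1450) (.leaf 2271)) (.node (.leaf 2553) (.leaf 3711)))))) (.node (.node (.node (.node (.node (.leaf 206) (.leaf 1493)) (.node (.leaf 718) (.leaf 3736))) (.node (.node (.leaf 372) (.leaf 1945)) (.node (.leaf 2328) (.leaf 3373)))) (.node (.node (.node (.leaf 204) (.leaf 3095)) (.node (.leaf 2040) (.leaf 2779))) (.node (.node (.leaf 546) (.leaf 2191)) (.node (.leaf 2620) (.leaf 3545))))) (.node (.node (.node (.node (.leaf 414) (.leaf 2996)) (.node (.leaf 806) (.leaf 2614))) (.node (.node (.leaf 1180) (.leaf 2132)) (.node (.leaf 2463) (.leaf 3297)))) (.node (.node (.node (.leaf 796) (.leaf 1829)) (.node (.leaf 2197) (.leaf 3889))) (.node (.node (.leaf 632) (.leaf 3436)) (.node (.leaf 1377) (.leaf 3937))))))))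

def twoNext46 : Janko.Tree (ℕ) :=
  (.node (.node (.node (.node (.node (.node (.node (.leaf 27) (.leaf 2772)) (.node (.leaf 1583) (.leaf 2394))) (.node (.node (.leaf 843) (.leaf 1855)) (.node (.leaf 1974) (.leaf 3955)))) (.node (.node (.node (.leaf 458) (.leaf 1622)) (.node (.leaf 1919) (.leaf 2829))) (.node (.node (.leaf 479) (.leaf 3478)) (.node (.leaf 1210) (.leaf 3412))))) (.node (.node (.node (.node (.leaf 248) (.leaf 2914)) (.node (.leaf 737) (.leaf 2601))) (.node (.node (.leaf 995) (.leaf 3373)) (.node (.leaf 1141) (.leaf 4012)))) (.node (.node (.node (.leaf 634) (.leaf 1756)) (.node (.leaf 914) (.leaf 3695))) (.node (.node (.leaf 1410) (.leaf 2228)) (.node (.leaf 1445) (.leaf 3653)))))) (.node (.node (.node (.node (.node (.leaf 149) (.leaf 1455)) (.node (.leaf 695) (.leaf 2493))) (.node (.node (.leaf 352) (.leaf 2094)) (.node (.leaf 1078) (.leaf 3094)))) (.node (.node (.node (.leaf 182) (.leaf 3067)) (.node (.leaf 2002) (.leaf 2741))) (.node (.node (.leaf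 523) (.leaf 3526)) (.node (.leaf 2586) (.leaf 4070))))) (.node (.node (.node (.node (.leaf 105) (.leaf 2679)) (.node (.leaf 1828) (.leaf 3024))) (.node (.node (.leaf 1127) (.leaf 3420)) (.node (.leaf 1173) (.leaf 3248)))) (.node (.node (.node (.leaf 398) (.leaf 1802)) (.node (.leaf 963) (.leaf 2962))) (.node (.node (.leaf 1494) (.leaf 2306)) (.node (.leaf 2714) (.leaf 3961))))))) (.node (.node (.node (.node (.node (.node (.leaf 92) (.leaf 2628)) (.node (.leaf 1618) (.leaf 2427))) (.node (.node (.leaf 332) (.leaf 3292)) (.node (.leaf 1032) (.leaf 3816)))) (.node (.node (.node (.leaf 497) (.leaf 1656)) (.node (.leaf 848) (.leaf 2756))) (.node (.node (.leaf 503) (.leaf 3502)) (.node (.leaf 2538) (.leaf 3484))))) (.node (.node (.node (.node (.leaf 87) (.leaf 2946)) (.node (.leaf 1783) (.leaf 2996))) (.node (.node (.leaf 417) (.leaf 2013)) (.node (.leaf 2383) (.leaf 3978)))) (.node (.node (.node (.leaf 246) (.leaf 3177)) (.node (.leaf 958) (.leaf 2851))) (.node (.node (.leaf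 1441) (.leaf 3564)) (.node (.leaf 2656) (.leaf 3901)))))) (.node (.node (.node (.node (.node (.leaf 51) (.leaf 1478)) (.node (.leaf 1704) (.leaf 3016))) (.node (.node (.leaf 377) (.leaf 2101)) (.node (.leaf 1083) (.leaf 3124)))) (.node (.node (.node (.leaf 448) (.leaf 1730)) (.node (.leaf 891) (.leaf 2781))) (.node (.node (.leaf 1365) (.leaf 3555)) (.node (.leaf 1632) (.leaf 3999))))) (.node (.node (.node (.node (.leaf 124) (.leaf 2646)) (.node (.leaf 1874) (.leaf 3796))) (.node (.node (.leaf 460) (.leaf 3455)) (.node (.leaf 1605) (.leaf 4047)))) (.node (.node (.node (.leaf 288) (.leaf 3180)) (.node (.leaf 988) (.leaf 2937))) (.node (.node (.leaf 1536) (.leaf 2351)) (.node (.leaf 2742) (.leaf 3932))))))))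

def twoNext47 : Janko.Tree (ℕ) :=
  (.node (.node (.node (.node (.node (.node (.node (.leaf 28) (.leaf 2773)) (.node (.leaf 652) (.leaf 3631))) (.node (.node (.leaf 844) (.leaf 1854)) (.node (.leaf 2239) (.leaf 3954)))) (.node (.node (.node (.leaf 143) (.leaf 1621)) (.node (.leaf 823) (.leaf 2654))) (.node (.node (.leaf 1225) (.leaf 2102)) (.node (.leaf 2510) (.leaf 3360))))) (.node (.node (.node (.node (.leaf 69) (.leaf 1506)) (.node (.leaf 736) (.leaf 2506))) (.node (.node (.leaf 985) (.leaf 1978)) (.node (.leaf 1824) (.leaf 3160)))) (.node (.node (.node (.leaf 223) (.leaf 3136)) (.node (.leaf 1728) (.leaf 3694))) (.node (.node (.leaf 563) (.leaf 3569)) (.node (.leaf 2652) (.leaf 3696)))))) (.node (.node (.node (.node (.node (.leaf 150) (.leaf 2854)) (.node (.leaf 694) (.leaf 2450))) (.node (.node (.leaf 351) (.leaf 3322)) (.node (.leaf 1056) (.leaf 3283)))) (.node (.node (.node (.leaf 201) (.leaf 2492)) (.node (.leaf 867) (.leaf 3880))) (.node (.node (.leaf 1318)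 (.leaf 3527)) (.node (.leaf 2578) (.leaf 4011))))) (.node (.node (.node (.node (.leaf 104) (.leaf 1573)) (.node (.leaf 1829) (.leaf 3805))) (.node (.node (.leaf 439) (.leaf 3421)) (.node (.leaf 1158) (.leaf 3316)))) (.node (.node (.node (.leaf 268) (.leaf 3213)) (.node (.leaf 962) (.leaf 2896))) (.node (.node (.leaf 1495) (.leaf 2305)) (.node (.leaf 1350) (.leaf 3932))))))) (.node (.node (.node (.node (.node (.node (.leaf 93) (.leaf 1432)) (.node (.leaf 1624) (.leaf 3682))) (.node (.node (.leaf 890) (.leaf 2080)) (.node (.leaf 1031) (.leaf 3760)))) (.node (.node (.node (.leaf 162) (.leaf 1655)) (.node (.leaf 1957) (.leaf 2693))) (.node (.node (.leaf 502) (.leaf 2184)) (.node (.leaf 1233) (.leaf 3480))))) (.node (.node (.node (.node (.leaf 316) (.leaf 1531)) (.node (.leaf 1784) (.leaf 3069))) (.node (.node (.leaf 1079) (.leaf 2370)) (.node (.leaf 1793) (.leaf 4002)))) (.node (.node (.node (.leaf 520) (.leaf 1779)) (.node (.leaf 939) (.leaf 2849))) (.node (.node (.leaf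 1451) (.leaf 3563)) (.node (.leaf 1327) (.leaf 3915)))))) (.node (.node (.node (.node (.node (.leaf 207) (.leaf 1477)) (.node (.leaf 1705) (.leaf 2477))) (.node (.node (.leaf 396) (.leaf 2096)) (.node (.leaf 1082) (.leaf 3123)))) (.node (.node (.node (.leaf 603) (.leaf 2189)) (.node (.leaf 2041) (.leaf 3899))) (.node (.node (.leaf 1368) (.leaf 2272)) (.node (.leaf 2606) (.leaf 4047))))) (.node (.node (.node (.node (.leaf 140) (.leaf 1592)) (.node (.leaf 1875) (.leaf 2807))) (.node (.node (.leaf 673) (.leaf 3448)) (.node (.leaf 2464) (.leaf 3999)))) (.node (.node (.node (.leaf 797) (.leaf 3186)) (.node (.leaf 2092) (.leaf 2987))) (.node (.node (.leaf 1539) (.leaf 2349)) (.node (.leaf 2743) (.leaf 3961))))))))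

def twoNext48 : Janko.Tree (ℕ) :=
  (.node (.node (.node (.node (.node (.node (.node (.leaf 18) (.leaf 2425)) (.node (.leaf 653) (.leaf 3263))) (.node (.node (.leaf 310) (.leaf 2196)) (.node (.leaf 1974) (.leaf 2993)))) (.node (.node (.node (.leaf 151) (.leaf 2693)) (.node (.leaf 1920) (.leaf 2861))) (.node (.node (.leaf 1223) (.leaf 3477)) (.node (.leaf 2508) (.leaf 3412))))) (.node (.node (.node (.node (.leaf 260) (.leaf 2674)) (.node (.leaf 901) (.leaf 3651))) (.node (.node (.leaf 1020) (.leaf 3375)) (.node (.leaf 2358) (.leaf 3166)))) (.node (.node (.node (.leaf 651) (.leaf 2260)) (.node (.leaf 1749) (.leaf 3796))) (.node (.node (.leaf 1412) (.leaf 3426)) (.node (.leaf 1303) (.leaf 3940)))))) (.node (.node (.node (.node (.node (.leaf 36) (.leaf 2852)) (.node (.leaf 696) (.leaf 2454))) (.node (.node (.leaf 379) (.leaf 3322)) (.node (.leaf 2304) (.leaf 3548)))) (.node (.node (.node (.leaf 547) (.leaf 1723)) (.node (.leaf 1106) (.leaf 2743))) (.node (.node (.leaf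 1305) (.leaf 3472)) (.node (.leaf 2586) (.leaf 3557))))) (.node (.node (.node (.node (.leaf 301) (.leaf 2555)) (.node (.leaf 783) (.leaf 3805))) (.node (.node (.leaf 1129) (.leaf 2054)) (.node (.leaf 1428) (.leaf 3553)))) (.node (.node (.node (.leaf 746) (.leaf 1804)) (.node (.leaf 2092) (.leaf 3652))) (.node (.node (.leaf 610) (.leaf 2322)) (.node (.leaf 2716) (.leaf 3953))))))) (.node (.node (.node (.node (.node (.node (.leaf 92) (.leaf 1484)) (.node (.leaf 1610) (.leaf 2429))) (.node (.node (.leaf 876) (.leaf 3249)) (.node (.leaf 2268) (.leaf 3820)))) (.node (.node (.node (.leaf 509) (.leaf 1711)) (.node (.leaf 1956) (.leaf 3858))) (.node (.node (.leaf 1267) (.leaf 2131)) (.node (.leaf 2535) (.leaf 3414))))) (.node (.node (.node (.node (.leaf 314) (.leaf 2948)) (.node (.leaf 784) (.leaf 2562))) (.node (.node (.leaf 1078) (.leaf 2015)) (.node (.leaf 2394) (.leaf 3432)))) (.node (.node (.node (.leaf 543) (.leaf 2106)) (.node (.leaf 1028) (.leaf 3876))) (.node (.node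 (.leaf 1451) (.leaf 3364)) (.node (.leaf 2638) (.leaf 3921)))))) (.node (.node (.node (.node (.node (.leaf 53) (.leaf 2631)) (.node (.leaf 719) (.leaf 2996))) (.node (.node (.leaf 976) (.leaf 1946)) (.node (.leaf 1084) (.leaf 3999)))) (.node (.node (.node (.leaf 510) (.leaf 3092)) (.node (.leaf 2022) (.leaf 3896))) (.node (.node (.leaf 556) (.leaf 3545)) (.node (.leaf 1632) (.leaf 4011))))) (.node (.node (.node (.node (.leaf 413) (.leaf 2997)) (.node (.leaf 807) (.leaf 2806))) (.node (.node (.leaf 495) (.leaf 3455)) (.node (.leaf 1605) (.leaf 3628)))) (.node (.node (.node (.leaf 758) (.leaf 1832)) (.node (.leaf 994) (.leaf 3856))) (.node (.node (.leaf 1358) (.leaf 3204)) (.node (.leaf 1392) (.leaf 4090))))))))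

def twoNext49 : Janko.Tree (ℕ) :=
  (.node (.node (.node (.node (.node (.node (.node (.leaf 29) (.leaf 1659)) (.node (.leaf 1585) (.leaf 2395))) (.node (.node (.leaf 845) (.leaf 3272)) (.node (.leaf 2240) (.leaf 3009)))) (.node (.node (.node (.leaf 144) (.leaf 1624)) (.node (.leaf 824) (.leaf 2656))) (.node (.node (.leaf 1220) (.leaf 2103)) (.node (.leaf 1213) (.leaf 3528))))) (.node (.node (.node (.node (.leaf 70) (.leaf 1507)) (.node (.leaf 737) (.leaf 2507))) (.node (.node (.leaf 397) (.leaf 1979)) (.node (.leaf 2365) (.leaf 3403)))) (.node (.node (.node (.leaf 224) (.leaf 3133)) (.node (.leaf 915) (.leaf 3915))) (.node (.node (.leaf 564) (.leaf 2229)) (.node (.leaf 2653) (.leaf 3798)))))) (.node (.node (.node (.node (.node (.leaf 151) (.leaf 1458)) (.node (.leaf 1538) (.leaf 2451))) (.node (.node (.leaf 941) (.leaf 1934)) (.node (.leaf 1057) (.leaf 3194)))) (.node (.node (.node (.leaf 183) (.leaf 2841)) (.node (.leaf 2003) (.leaf 3881))) (.node (.node (.leaf 1319)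 (.leaf 2160)) (.node (.leaf 2587) (.leaf 4072))))) (.node (.node (.node (.node (.leaf 363) (.leaf 2965)) (.node (.leaf 1830) (.leaf 3802))) (.node (.node (.leaf 440) (.leaf 3422)) (.node (.leaf 1160) (.leaf 4040)))) (.node (.node (.node (.leaf 269) (.leaf 1913)) (.node (.leaf 2162) (.leaf 2897))) (.node (.node (.leaf 1496) (.leaf 3615)) (.node (.leaf 1351) (.leaf 3795))))))) (.node (.node (.node (.node (.node (.node (.leaf 94) (.leaf 2813)) (.node (.leaf 1625) (.leaf 3683))) (.node (.node (.leaf 891) (.leaf 1925)) (.node (.leaf 2270) (.leaf 3040)))) (.node (.node (.node (.leaf 163) (.leaf 1656)) (.node (.leaf 1958) (.leaf 2697))) (.node (.node (.leaf 503) (.leaf 3452)) (.node (.leaf 1235) (.leaf 4066))))) (.node (.node (.node (.node (.leaf 90) (.leaf 1532)) (.node (.leaf 1785) (.leaf 2540))) (.node (.node (.leaf 1080) (.leaf 3397)) (.node (.leaf 1134) (.leaf 3275)))) (.node (.node (.node (.leaf 247) (.leaf 1780)) (.node (.leaf 2118) (.leaf 2851))) (.node (.node (.leaf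 1413) (.leaf 3595)) (.node (.leaf 1329) (.leaf 3727)))))) (.node (.node (.node (.node (.node (.leaf 208) (.leaf 2889)) (.node (.leaf 1706) (.leaf 2478))) (.node (.node (.leaf 986) (.leaf 3351)) (.node (.leaf 2205) (.leaf 3125)))) (.node (.node (.node (.leaf 604) (.leaf 1731)) (.node (.leaf 894) (.leaf 3051))) (.node (.node (.leaf 1369) (.leaf 2367)) (.node (.leaf 2621) (.leaf 3550))))) (.node (.node (.node (.node (.leaf 373) (.leaf 1593)) (.node (.leaf 1876) (.leaf 2616))) (.node (.node (.leaf 1177) (.leaf 2300)) (.node (.leaf 2459) (.leaf 4053)))) (.node (.node (.node (.leaf 798) (.leaf 3244)) (.node (.leaf 989) (.leaf 3955))) (.node (.node (.leaf 1540) (.leaf 2351)) (.node (.leaf 2744) (.leaf 3938))))))))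

def twoNext50 : Janko.Tree (ℕ) :=
  (.node (.node (.node (.node (.node (.node (.node (.leaf 4) (.leaf 1408)) (.node (.leaf 1586) (.leaf 3251))) (.node (.node (.leaf 309) (.leaf 3271)) (.node (.leaf 1009) (.leaf 3966)))) (.node (.node (.node (.leaf 226) (.leaf 3026)) (.node (.leaf 828) (.leaf 2860))) (.node (.node (.leaf 1225) (.leaf 3480)) (.node (.leaf 2510) (.leaf 3348))))) (.node (.node (.node (.node (.leaf 236) (.leaf 2919)) (.node (.leaf 1745) (.leaf 3650))) (.node (.node (.leaf 1034) (.leaf 2310)) (.node (.leaf 1105) (.leaf 3164)))) (.node (.node (.node (.leaf 626) (.leaf 3136)) (.node (.leaf 1748) (.leaf 2811))) (.node (.node (.leaf 1406) (.leaf 3425)) (.node (.leaf 1301) (.leaf 3696)))))) (.node (.node (.node (.node (.node (.leaf 152) (.leaf 2854)) (.node (.leaf 1667) (.leaf 2455))) (.node (.node (.leaf 353) (.leaf 1928)) (.node (.leaf 2305) (.leaf 3283)))) (.node (.node (.node (.leaf 555) (.leaf 1694)) (.node (.leaf 1134) (.leaf 3880))) (.node (.node (.leaf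 1318) (.leaf 3471)) (.node (.leaf 1255) (.leaf 3469))))) (.node (.node (.node (.node (.leaf 106) (.leaf 1570)) (.node (.leaf 1824) (.leaf 2582))) (.node (.node (.leaf 442) (.leaf 2057)) (.node (.leaf 1425) (.leaf 3316)))) (.node (.node (.node (.leaf 747) (.leaf 3213)) (.node (.leaf 964) (.leaf 3756))) (.node (.node (.leaf 609) (.leaf 2337)) (.node (.leaf 2711) (.leaf 3828))))))) (.node (.node (.node (.node (.node (.node (.leaf 19) (.leaf 1433)) (.node (.leaf 675) (.leaf 3682))) (.node (.node (.leaf 890) (.leaf 1884)) (.node (.leaf 1033) (.leaf 3082)))) (.node (.node (.node (.leaf 485) (.leaf 3050)) (.node (.leaf 1957) (.leaf 3853))) (.node (.node (.leaf 1268) (.leaf 3340)) (.node (.leaf 2534) (.leaf 3523))))) (.node (.node (.node (.node (.leaf 316) (.leaf 2822)) (.node (.leaf 761) (.leaf 2547))) (.node (.node (.leaf 1079) (.leaf 2017)) (.node (.leaf 2395) (.leaf 3532)))) (.node (.node (.node (.leaf 542) (.leaf 3176)) (.node (.leaf 1014) (.leaf 3926))) (.node (.node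 (.leaf 601) (.leaf 2272)) (.node (.leaf 1599) (.leaf 3723)))))) (.node (.node (.node (.node (.node (.leaf 207) (.leaf 1479)) (.node (.leaf 1703) (.leaf 2539))) (.node (.node (.leaf 374) (.leaf 2355)) (.node (.leaf 2333) (.leaf 4000)))) (.node (.node (.node (.leaf 205) (.leaf 3091)) (.node (.leaf 2041) (.leaf 2780))) (.node (.node (.leaf 689) (.leaf 3411)) (.node (.leaf 1279) (.leaf 3983))))) (.node (.node (.node (.node (.leaf 140) (.leaf 2998)) (.node (.leaf 1877) (.leaf 2926))) (.node (.node (.leaf 673) (.leaf 2077)) (.node (.leaf 1186) (.leaf 3299)))) (.node (.node (.node (.leaf 797) (.leaf 1830)) (.node (.leaf 2174) (.leaf 2987))) (.node (.node (.leaf 1463) (.leaf 2393)) (.node (.leaf 1378) (.leaf 4083))))))))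

def twoNext51 : Janko.Tree (ℕ) :=
  (.node (.node (.node (.node (.node (.node (.node (.leaf 3) (.leaf 1407)) (.node (.leaf 1587) (.leaf 3244))) (.node (.node (.leaf 335) (.leaf 1856)) (.node (.leaf 2241) (.leaf 3967)))) (.node (.node (.node (.leaf 459) (.leaf 3027)) (.node (.leaf 1921) (.leaf 3847))) (.node (.node (.leaf 479) (.leaf 3484)) (.node (.leaf 1210) (.leaf 3372))))) (.node (.node (.node (.node (.leaf 235) (.leaf 2920)) (.node (.leaf 899) (.leaf 3756))) (.node (.node (.leaf 1035) (.leaf 3376)) (.node (.leaf 1104) (.leaf 3163)))) (.node (.node (.node (.leaf 619) (.leaf 1756)) (.node (.leaf 2076) (.leaf 2810))) (.node (.node (.leaf 1413) (.leaf 3424)) (.node (.leaf 1300) (.leaf 3653)))))) (.node (.node (.node (.node (.node (.leaf 153) (.leaf 1455)) (.node (.leaf 1669) (.leaf 3023))) (.node (.node (.leaf 942) (.leaf 1914)) (.node (.leaf 2306) (.leaf 3094)))) (.node (.node (.node (.leaf 556) (.leaf 1693)) (.node (.leaf 868) (.leaf 2741))) (.node (.node (.leaf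 523) (.leaf 3528)) (.node (.leaf 2588) (.leaf 4030))))) (.node (.node (.node (.node (.leaf 364) (.leaf 1560)) (.node (.leaf 1141) (.leaf 2575))) (.node (.node (.leaf 1130) (.leaf 3242)) (.node (.leaf 2424) (.leaf 3248)))) (.node (.node (.node (.leaf 748) (.leaf 1802)) (.node (.leaf 2107) (.leaf 3650))) (.node (.node (.leaf 1497) (.leaf 2308)) (.node (.leaf 1620) (.leaf 4092))))))) (.node (.node (.node (.node (.node (.node (.leaf 95) (.leaf 1515)) (.node (.leaf 674) (.leaf 2427))) (.node (.node (.leaf 332) (.leaf 2336)) (.node (.leaf 2271) (.leaf 3971)))) (.node (.node (.node (.leaf 484) (.leaf 1709)) (.node (.leaf 848) (.leaf 3852))) (.node (.node (.leaf 1269) (.leaf 3501)) (.node (.leaf 2546) (.leaf 4041))))) (.node (.node (.node (.node (.leaf 87) (.leaf 2949)) (.node (.leaf 782) (.leaf 3084))) (.node (.node (.leaf 417) (.leaf 2014)) (.node (.leaf 2396) (.leaf 3212)))) (.node (.node (.node (.leaf 697) (.leaf 3178)) (.node (.leaf 941) (.leaf 2913))) (.node (.node (.leaf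 586) (.leaf 3555)) (.node (.leaf 1598) (.leaf 3721)))))) (.node (.node (.node (.node (.node (.leaf 51) (.leaf 1550)) (.node (.leaf 718) (.leaf 3737))) (.node (.node (.leaf 987) (.leaf 2361)) (.node (.leaf 2335) (.leaf 4001)))) (.node (.node (.node (.leaf 204) (.leaf 3096)) (.node (.leaf 891) (.leaf 2779))) (.node (.node (.leaf 547) (.leaf 2192)) (.node (.leaf 2622) (.leaf 4008))))) (.node (.node (.node (.node (.leaf 124) (.leaf 2999)) (.node (.leaf 1878) (.leaf 2804))) (.node (.node (.leaf 460) (.leaf 3456)) (.node (.leaf 2465) (.leaf 4054)))) (.node (.node (.node (.leaf 288) (.leaf 2363)) (.node (.leaf 2198) (.leaf 2937))) (.node (.node (.leaf 633) (.leaf 3203)) (.node (.leaf 1390) (.leaf 4086))))))))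

def twoNext52 : Janko.Tree (ℕ) :=
  (.node (.node (.node (.node (.node (.node (.node (.leaf 30) (.leaf 2416)) (.node (.leaf 1586) (.leaf 3617))) (.node (.node (.leaf 311) (.leaf 1858)) (.node (.leaf 2239) (.leaf 3966)))) (.node (.node (.node (.leaf 146) (.leaf 2672)) (.node (.leaf 1919) (.leaf 3014))) (.node (.node (.leaf 486) (.leaf 2105)) (.node (.leaf 1585) (.leaf 3360))))) (.node (.node (.node (.node (.leaf 261) (.leaf 2901)) (.node (.leaf 738) (.leaf 2510))) (.node (.node (.leaf 1036) (.leaf 3373)) (.node (.leaf 2366) (.leaf 3173)))) (.node (.node (.node (.leaf 225) (.leaf 3134)) (.node (.leaf 916) (.leaf 3912))) (.node (.node (.leaf 1410) (.leaf 3569)) (.node (.leaf 1302) (.leaf 3664)))))) (.node (.node (.node (.node (.node (.leaf 152) (.leaf 1457)) (.node (.leaf 1669) (.leaf 3024))) (.node (.node (.leaf 380) (.leaf 2292)) (.node (.leaf 1073) (.leaf 3283)))) (.node (.node (.node (.leaf 184) (.leaf 1720)) (.node (.leaf 2004) (.leaf 2858))) (.node (.node (.leaf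 1312) (.leaf 2162)) (.node (.leaf 2578) (.leaf 4006))))) (.node (.node (.node (.node (.leaf 347) (.leaf 1583)) (.node (.leaf 1141) (.leaf 2950))) (.node (.node (.leaf 1127) (.leaf 2057)) (.node (.leaf 1415) (.leaf 3462)))) (.node (.node (.node (.leaf 749) (.leaf 3214)) (.node (.leaf 2163) (.leaf 3919))) (.node (.node (.leaf 611) (.leaf 3616)) (.node (.leaf 1352) (.leaf 3968))))))) (.node (.node (.node (.node (.node (.node (.leaf 93) (.leaf 2814)) (.node (.leaf 1604) (.leaf 3684))) (.node (.node (.leaf 892) (.leaf 1910)) (.node (.leaf 2254) (.leaf 3864)))) (.node (.node (.node (.leaf 204) (.leaf 1657)) (.node (.leaf 1959) (.leaf 2701))) (.node (.node (.leaf 504) (.leaf 3340)) (.node (.leaf 1236) (.leaf 3523))))) (.node (.node (.node (.node (.leaf 128) (.leaf 2946)) (.node (.leaf 805) (.leaf 3729))) (.node (.node (.leaf 1081) (.leaf 2237)) (.node (.leaf 1135) (.leaf 4023)))) (.node (.node (.node (.leaf 248) (.leaf 1781)) (.node (.leaf 1779) (.leaf 2862))) (.node (.node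 (.leaf 648) (.leaf 3316)) (.node (.leaf 1561) (.leaf 3731)))))) (.node (.node (.node (.node (.node (.leaf 207) (.leaf 2632)) (.node (.leaf 1707) (.leaf 3016))) (.node (.node (.leaf 943) (.leaf 1972)) (.node (.leaf 2335) (.leaf 3126)))) (.node (.node (.node (.leaf 605) (.leaf 1732)) (.node (.leaf 895) (.leaf 2781))) (.node (.node (.leaf 1320) (.leaf 3528)) (.node (.leaf 2606) (.leaf 4070))))) (.node (.node (.node (.node (.leaf 407) (.leaf 2643)) (.node (.leaf 1877) (.leaf 2982))) (.node (.node (.leaf 461) (.leaf 3448)) (.node (.leaf 2464) (.leaf 3647)))) (.node (.node (.node (.leaf 766) (.leaf 3241)) (.node (.leaf 991) (.leaf 3802))) (.node (.node (.leaf 1541) (.leaf 2352)) (.node (.leaf 1380) (.leaf 4091))))))))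

def twoNext53 : Janko.Tree (ℕ) :=
  (.node (.node (.node (.node (.node (.node (.node (.leaf 4) (.leaf 1408)) (.node (.leaf 1588) (.leaf 2397))) (.node (.node (.leaf 846) (.leaf 3229)) (.node (.leaf 1012) (.leaf 3933)))) (.node (.node (.node (.leaf 460) (.leaf 3028)) (.node (.leaf 837) (.leaf 3775))) (.node (.node (.leaf 480) (.leaf 3132)) (.node (.leaf 1211) (.leaf 3580))))) (.node (.node (.node (.node (.leaf 71) (.leaf 2921)) (.node (.leaf 1746) (.leaf 3757))) (.node (.node (.leaf 398) (.leaf 1990)) (.node (.leaf 1106) (.leaf 3164)))) (.node (.node (.node (.leaf 652) (.leaf 1757)) (.node (.leaf 2077) (.leaf 2811))) (.node (.node (.leaf 587) (.leaf 3576)) (.node (.leaf 2654) (.leaf 3654)))))) (.node (.node (.node (.node (.node (.leaf 40) (.leaf 2836)) (.node (.leaf 1670) (.leaf 2453))) (.node (.node (.leaf 943) (.leaf 1916)) (.node (.leaf 1058) (.leaf 3983)))) (.node (.node (.node (.leaf 557) (.leaf 1694)) (.node (.leaf 869) (.leaf 2742))) (.node (.node (.leaf 524)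 (.leaf 3529)) (.node (.leaf 2585) (.leaf 3470))))) (.node (.node (.node (.node (.leaf 365) (.leaf 2972)) (.node (.leaf 1831) (.leaf 2577))) (.node (.node (.leaf 1116) (.leaf 3420)) (.node (.leaf 1339) (.leaf 3249)))) (.node (.node (.node (.leaf 270) (.leaf 1803)) (.node (.leaf 965) (.leaf 2898))) (.node (.node (.leaf 666) (.leaf 2309)) (.node (.leaf 2583) (.leaf 4093))))))) (.node (.node (.node (.node (.node (.node (.leaf 82) (.leaf 1434)) (.node (.leaf 675) (.leaf 2428))) (.node (.node (.leaf 333) (.leaf 3298)) (.node (.leaf 2272) (.leaf 3972)))) (.node (.node (.node (.leaf 164) (.leaf 3034)) (.node (.leaf 849) (.leaf 3691))) (.node (.node (.leaf 1270) (.leaf 2315)) (.node (.leaf 2547) (.leaf 3416))))) (.node (.node (.node (.node (.leaf 88) (.leaf 2943)) (.node (.leaf 762) (.leaf 2542))) (.node (.node (.leaf 418) (.leaf 2017)) (.node (.leaf 2069) (.leaf 3213)))) (.node (.node (.node (.leaf 698) (.leaf 3112)) (.node (.leaf 942) (.leaf 2852))) (.node (.node (.leaf 588)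 (.leaf 2273)) (.node (.leaf 1333) (.leaf 3837)))))) (.node (.node (.node (.node (.node (.leaf 209) (.leaf 1591)) (.node (.leaf 719) (.leaf 3733))) (.node (.node (.leaf 988) (.leaf 1947)) (.node (.leaf 2336) (.leaf 4002)))) (.node (.node (.node (.leaf 205) (.leaf 3097)) (.node (.leaf 892) (.leaf 2840))) (.node (.node (.leaf 548) (.leaf 2193)) (.node (.leaf 1282) (.leaf 3553))))) (.node (.node (.node (.node (.leaf 125) (.leaf 1594)) (.node (.leaf 1879) (.leaf 3829))) (.node (.node (.leaf 1181) (.leaf 3454)) (.node (.leaf 1371) (.leaf 3401)))) (.node (.node (.node (.leaf 289) (.leaf 2005)) (.node (.leaf 1078) (.leaf 2941))) (.node (.node (.leaf 634) (.leaf 3633)) (.node (.leaf 2745) (.leaf 3944))))))))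

def twoNext54 : Janko.Tree (ℕ) :=
  (.node (.node (.node (.node (.node (.node (.node (.leaf 31) (.leaf 2774)) (.node (.leaf 653) (.leaf 3616))) (.node (.node (.leaf 335) (.leaf 1857)) (.node (.leaf 2241) (.leaf 2993)))) (.node (.node (.node (.leaf 229) (.leaf 1625)) (.node (.leaf 825) (.leaf 2657))) (.node (.node (.leaf 1226) (.leaf 3339)) (.node (.leaf 2511) (.leaf 3372))))) (.node (.node (.node (.node (.leaf 262) (.leaf 1508)) (.node (.leaf 742) (.leaf 2508))) (.node (.node (.leaf 1037) (.leaf 1980)) (.node (.leaf 2367) (.leaf 4013)))) (.node (.node (.node (.leaf 618) (.leaf 3137)) (.node (.leaf 922) (.leaf 3916))) (.node (.node (.leaf 565) (.leaf 2230)) (.node (.leaf 1438) (.leaf 3674)))))) (.node (.node (.node (.node (.node (.leaf 36) (.leaf 1456)) (.node (.leaf 1668) (.leaf 2575))) (.node (.node (.leaf 942) (.leaf 2290)) (.node (.leaf 1072) (.leaf 3548)))) (.node (.node (.node (.leaf 541) (.leaf 3072)) (.node (.leaf 2005) (.leaf 2744))) (.node (.node (.leaf 1311)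 (.leaf 3321)) (.node (.leaf 2588) (.leaf 4040))))) (.node (.node (.node (.node (.leaf 364) (.leaf 1563)) (.node (.leaf 1825) (.leaf 3806))) (.node (.node (.leaf 441) (.leaf 2054)) (.node (.leaf 1161) (.leaf 3427)))) (.node (.node (.node (.leaf 750) (.leaf 2052)) (.node (.leaf 2164) (.leaf 3918))) (.node (.node (.leaf 1497) (.leaf 3617)) (.node (.leaf 2717) (.leaf 3797))))))) (.node (.node (.node (.node (.node (.node (.leaf 95) (.leaf 2815)) (.node (.leaf 1626) (.leaf 2430))) (.node (.node (.leaf 893) (.leaf 2336)) (.node (.leaf 2271) (.leaf 3042)))) (.node (.node (.node (.leaf 193) (.leaf 1659)) (.node (.leaf 1960) (.leaf 2699))) (.node (.node (.leaf 1271) (.leaf 2131)) (.node (.leaf 2533) (.leaf 3414))))) (.node (.node (.node (.node (.leaf 317) (.leaf 1533)) (.node (.leaf 804) (.leaf 3785))) (.node (.node (.leaf 1082) (.leaf 3388)) (.node (.leaf 2397) (.leaf 4024)))) (.node (.node (.node (.leaf 258) (.leaf 2303)) (.node (.leaf 2119) (.leaf 3847))) (.node (.node (.leaf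 640) (.leaf 3553)) (.node (.leaf 1559) (.leaf 3725)))))) (.node (.node (.node (.node (.node (.leaf 53) (.leaf 1550)) (.node (.leaf 1698) (.leaf 2479))) (.node (.node (.leaf 987) (.leaf 1955)) (.node (.leaf 2334) (.leaf 3579)))) (.node (.node (.node (.leaf 606) (.leaf 1738)) (.node (.leaf 2042) (.leaf 3898))) (.node (.node (.leaf 1313) (.leaf 3473)) (.node (.leaf 2622) (.leaf 4008))))) (.node (.node (.node (.node (.leaf 415) (.leaf 2642)) (.node (.leaf 807) (.leaf 2617))) (.node (.node (.leaf 1182) (.leaf 3456)) (.node (.leaf 2465) (.leaf 4054)))) (.node (.node (.node (.leaf 765) (.leaf 2363)) (.node (.leaf 2176) (.leaf 3803))) (.node (.node (.leaf 1542) (.leaf 3632)) (.node (.leaf 1382) (.leaf 3942))))))))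

def twoNext55 : Janko.Tree (ℕ) :=
  (.node (.node (.node (.node (.node (.node (.node (.leaf 32) (.leaf 2405)) (.node (.leaf 1589) (.leaf 3623))) (.node (.node (.leaf 309) (.leaf 3273)) (.node (.leaf 1009) (.leaf 3070)))) (.node (.node (.node (.leaf 144) (.leaf 1722)) (.node (.leaf 824) (.leaf 3848))) (.node (.node (.leaf 1193) (.leaf 2103)) (.node (.leaf 2512) (.leaf 3348))))) (.node (.node (.node (.node (.leaf 263) (.leaf 2411)) (.node (.leaf 1747) (.leaf 2507))) (.node (.node (.leaf 1038) (.leaf 1979)) (.node (.leaf 2368) (.leaf 3171)))) (.node (.node (.node (.leaf 617) (.leaf 3138)) (.node (.leaf 915) (.leaf 3893))) (.node (.node (.leaf 564) (.leaf 2229)) (.node (.leaf 2655) (.leaf 3960)))))) (.node (.node (.node (.node (.node (.leaf 154) (.leaf 2855)) (.node (.leaf 696) (.leaf 2582))) (.node (.node (.leaf 353) (.leaf 2369)) (.node (.leaf 2307) (.leaf 3095)))) (.node (.node (.node (.leaf 183) (.leaf 1712)) (.node (.leaf 2006) (.leaf 2857))) (.node (.node (.leaf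 1320) (.leaf 3530)) (.node (.leaf 1255) (.leaf 4039))))) (.node (.node (.node (.node (.leaf 106) (.leaf 1562)) (.node (.leaf 783) (.leaf 3807))) (.node (.node (.leaf 440) (.leaf 2082)) (.node (.leaf 1160) (.leaf 3470)))) (.node (.node (.node (.leaf 751) (.leaf 3215)) (.node (.leaf 2165) (.leaf 3930))) (.node (.node (.leaf 609) (.leaf 3618)) (.node (.leaf 2709) (.leaf 3830))))))) (.node (.node (.node (.node (.node (.node (.leaf 19) (.leaf 2816)) (.node (.leaf 1181) (.leaf 3685))) (.node (.node (.leaf 894) (.leaf 1884)) (.node (.leaf 1033) (.leaf 3086)))) (.node (.node (.node (.leaf 510) (.leaf 3051)) (.node (.leaf 1961) (.leaf 2698))) (.node (.node (.leaf 1272) (.leaf 3505)) (.node (.leaf 1714) (.leaf 3986))))) (.node (.node (.node (.node (.leaf 318) (.leaf 1532)) (.node (.leaf 1786) (.leaf 3786))) (.node (.node (.leaf 1083) (.leaf 2235)) (.node (.leaf 2348) (.leaf 4025)))) (.node (.node (.node (.leaf 247) (.leaf 3179)) (.node (.leaf 2120) (.leaf 2860))) (.node (.node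 (.leaf 1452) (.leaf 3552)) (.node (.leaf 1330) (.leaf 3730)))))) (.node (.node (.node (.node (.node (.leaf 52) (.leaf 1479)) (.node (.leaf 1204) (.leaf 2478))) (.node (.node (.leaf 374) (.leaf 3352)) (.node (.leaf 1084) (.leaf 3296)))) (.node (.node (.node (.leaf 607) (.leaf 1757)) (.node (.leaf 2026) (.leaf 3822))) (.node (.node (.leaf 1312) (.leaf 3472)) (.node (.leaf 1279) (.leaf 3983))))) (.node (.node (.node (.node (.leaf 416) (.leaf 3000)) (.node (.leaf 1880) (.leaf 3811))) (.node (.node (.leaf 677) (.leaf 2077)) (.node (.leaf 1186) (.leaf 3299)))) (.node (.node (.node (.leaf 799) (.leaf 1830)) (.node (.leaf 989) (.leaf 3801))) (.node (.node (.leaf 1543) (.leaf 3349)) (.node (.leaf 1379) (.leaf 3941))))))))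

def twoNext56 : Janko.Tree (ℕ) :=
  (.node (.node (.node (.node (.node (.node (.node (.leaf 5) (.leaf 1409)) (.node (.leaf 1587) (.leaf 3413))) (.node (.node (.leaf 847) (.leaf 1859)) (.node (.leaf 2016) (.leaf 3967)))) (.node (.node (.node (.leaf 229) (.leaf 2673)) (.node (.leaf 1044) (.leaf 3015))) (.node (.node (.leaf 481) (.leaf 3339)) (.node (.leaf 1212) (.leaf 3421))))) (.node (.node (.node (.node (.leaf 97) (.leaf 1558)) (.node (.leaf 1747) (.leaf 2509))) (.node (.node (.leaf 399) (.leaf 1984)) (.node (.leaf 1107) (.leaf 3165)))) (.node (.node (.node (.leaf 476) (.leaf 2259)) (.node (.leaf 917) (.leaf 2935))) (.node (.node (.leaf 1160) (.leaf 3270)) (.node (.leaf 2655) (.leaf 3674)))))) (.node (.node (.node (.node (.node (.leaf 153) (.leaf 1458)) (.node (.leaf 1671) (.leaf 2455))) (.node (.node (.leaf 390) (.leaf 1964)) (.node (.leaf 1059) (.leaf 3129)))) (.node (.node (.node (.leaf 558) (.leaf 1715)) (.node (.leaf 1004) (.leaf 3880))) (.node (.node (.leaf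 582) (.leaf 3321)) (.node (.leaf 2490) (.leaf 3529))))) (.node (.node (.node (.node (.leaf 262) (.leaf 1581)) (.node (.leaf 1745) (.leaf 2588))) (.node (.node (.leaf 442) (.leaf 3242)) (.node (.leaf 1408) (.leaf 3312)))) (.node (.node (.node (.leaf 271) (.leaf 3213)) (.node (.leaf 966) (.leaf 3675))) (.node (.node (.leaf 1498) (.leaf 2310)) (.node (.leaf 2717) (.leaf 4087))))))) (.node (.node (.node (.node (.node (.node (.leaf 71) (.leaf 1435)) (.node (.leaf 708) (.leaf 3682))) (.node (.node (.leaf 334) (.leaf 1901)) (.node (.leaf 2258) (.leaf 3865)))) (.node (.node (.node (.leaf 227) (.leaf 3051)) (.node (.leaf 1076) (.leaf 2751))) (.node (.node (.leaf 1271) (.leaf 3501)) (.node (.leaf 2533) (.leaf 4041))))) (.node (.node (.node (.node (.leaf 89) (.leaf 1537)) (.node (.leaf 763) (.leaf 3028))) (.node (.node (.leaf 829) (.leaf 2018)) (.node (.leaf 2397) (.leaf 3976)))) (.node (.node (.node (.leaf 249) (.leaf 2303)) (.node (.leaf 987) (.leaf 3835))) (.node (.node (.leaf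 628) (.leaf 3517)) (.node (.leaf 1332) (.leaf 3797)))))) (.node (.node (.node (.node (.node (.leaf 210) (.leaf 2815)) (.node (.leaf 1384) (.leaf 2483))) (.node (.node (.leaf 989) (.leaf 1950)) (.node (.leaf 2314) (.leaf 3579)))) (.node (.node (.node (.leaf 450) (.leaf 3098)) (.node (.leaf 893) (.leaf 3822))) (.node (.node (.leaf 630) (.leaf 3465)) (.node (.leaf 1283) (.leaf 3977))))) (.node (.node (.node (.node (.leaf 126) (.leaf 1595)) (.node (.leaf 1878) (.leaf 2983))) (.node (.node (.leaf 1182) (.leaf 3125)) (.node (.leaf 2466) (.leaf 3438)))) (.node (.node (.node (.leaf 292) (.leaf 2363)) (.node (.leaf 2176) (.leaf 2942))) (.node (.node (.leaf 1462) (.leaf 2364)) (.node (.leaf 1395) (.leaf 4092))))))))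

def twoNext57 : Janko.Tree (ℕ) :=
  (.node (.node (.node (.node (.node (.node (.node (.leaf 33) (.leaf 2775)) (.node (.leaf 656) (.leaf 2402))) (.node (.node (.leaf 310) (.leaf 3274)) (.node (.leaf 1010) (.leaf 3055)))) (.node (.node (.node (.leaf 461) (.leaf 3027)) (.node (.leaf 1922) (.leaf 3847))) (.node (.node (.leaf 1227) (.leaf 3485)) (.node (.leaf 2513) (.leaf 3349))))) (.node (.node (.node (.node (.leaf 264) (.leaf 1509)) (.node (.leaf 763) (.leaf 3758))) (.node (.node (.leaf 1039) (.leaf 3118)) (.node (.leaf 2369) (.leaf 3184)))) (.node (.node (.node (.leaf 653) (.leaf 3139)) (.node (.leaf 2078) (.leaf 3917))) (.node (.node (.leaf 1414) (.leaf 2233)) (.node (.leaf 2636) (.leaf 3659)))))) (.node (.node (.node (.node (.node (.leaf 155) (.leaf 2856)) (.node (.leaf 697) (.leaf 3715))) (.node (.node (.leaf 354) (.leaf 3323)) (.node (.leaf 2133) (.leaf 3096)))) (.node (.node (.node (.leaf 184) (.leaf 2832)) (.node (.leaf 870) (.leaf 3879))) (.node (.node (.leaf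 525) (.leaf 2164)) (.node (.leaf 2589) (.leaf 3471))))) (.node (.node (.node (.node (.leaf 107) (.leaf 1563)) (.node (.leaf 784) (.leaf 3808))) (.node (.node (.leaf 1131) (.leaf 3423)) (.node (.leaf 1161) (.leaf 4041)))) (.node (.node (.node (.leaf 752) (.leaf 1819)) (.node (.leaf 2166) (.leaf 2955))) (.node (.node (.leaf 610) (.leaf 3619)) (.node (.leaf 2718) (.leaf 3799))))))) (.node (.node (.node (.node (.node (.node (.leaf 96) (.leaf 2817)) (.node (.leaf 1627) (.leaf 2702))) (.node (.node (.leaf 895) (.leaf 1885)) (.node (.leaf 1034) (.leaf 3044)))) (.node (.node (.node (.leaf 511) (.leaf 1668)) (.node (.leaf 1962) (.leaf 2699))) (.node (.node (.leaf 1273) (.leaf 2134)) (.node (.leaf 1240) (.leaf 3515))))) (.node (.node (.node (.node (.leaf 319) (.leaf 2950)) (.node (.leaf 1787) (.leaf 3787))) (.node (.node (.leaf 1084) (.leaf 3398)) (.node (.leaf 2398) (.leaf 3214)))) (.node (.node (.node (.leaf 699) (.leaf 3180)) (.node (.leaf 2121) (.leaf 3926))) (.node (.node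 (.leaf 1453) (.leaf 2275)) (.node (.leaf 1346) (.leaf 3728)))))) (.node (.node (.node (.node (.node (.leaf 53) (.leaf 1480)) (.node (.leaf 1708) (.leaf 3738))) (.node (.node (.leaf 375) (.leaf 3188)) (.node (.leaf 1085) (.leaf 3151)))) (.node (.node (.node (.leaf 608) (.leaf 1733)) (.node (.leaf 1903) (.leaf 3746))) (.node (.node (.leaf 549) (.leaf 2196)) (.node (.leaf 1280) (.leaf 3555))))) (.node (.node (.node (.node (.leaf 417) (.leaf 2845)) (.node (.leaf 1875) (.leaf 2619))) (.node (.node (.leaf 1183) (.leaf 3457)) (.node (.leaf 1187) (.leaf 3300)))) (.node (.node (.node (.leaf 800) (.leaf 3245)) (.node (.leaf 2199) (.leaf 3935))) (.node (.node (.leaf 635) (.leaf 3608)) (.node (.leaf 2613) (.leaf 3959))))))))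

def twoNext58 : Janko.Tree (ℕ) :=
  (.node (.node (.node (.node (.node (.node (.node (.leaf 34) (.leaf 2525)) (.node (.leaf 1589) (.leaf 3630))) (.node (.node (.leaf 315) (.leaf 3273)) (.node (.leaf 2157) (.leaf 3070)))) (.node (.node (.node (.leaf 146) (.leaf 1722)) (.node (.leaf 826) (.leaf 3848))) (.node (.node (.leaf 480) (.leaf 2105)) (.node (.leaf 1211) (.leaf 3428))))) (.node (.node (.node (.node (.leaf 72) (.leaf 2922)) (.node (.leaf 743) (.leaf 2762))) (.node (.node (.leaf 1040) (.leaf 1982)) (.node (.leaf 2370) (.leaf 3167)))) (.node (.node (.node (.leaf 459) (.leaf 2273)) (.node (.leaf 1746) (.leaf 2812))) (.node (.node (.leaf 566) (.leaf 2264)) (.node (.leaf 1316) (.leaf 3664)))))) (.node (.node (.node (.node (.node (.leaf 154) (.leaf 2855)) (.node (.leaf 1672) (.leaf 2454))) (.node (.node (.leaf 389) (.leaf 2291)) (.node (.leaf 1065) (.leaf 3554)))) (.node (.node (.node (.leaf 533) (.leaf 1696)) (.node (.leaf 951) (.leaf 2743))) (.node (.node (.leaf 602)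 (.leaf 2162)) (.node (.leaf 2495) (.leaf 3533))))) (.node (.node (.node (.node (.leaf 261) (.leaf 2973)) (.node (.leaf 901) (.leaf 2578))) (.node (.node (.leaf 1129) (.leaf 2082)) (.node (.leaf 2425) (.leaf 3250)))) (.node (.node (.node (.leaf 753) (.leaf 1804)) (.node (.leaf 2160) (.leaf 3666))) (.node (.node (.leaf 614) (.leaf 3375)) (.node (.leaf 1352) (.leaf 3830))))))) (.node (.node (.node (.node (.node (.node (.leaf 20) (.leaf 2635)) (.node (.leaf 1619) (.leaf 2429))) (.node (.node (.leaf 857) (.leaf 2324)) (.node (.leaf 1758) (.leaf 3086)))) (.node (.node (.node (.leaf 165) (.leaf 1660)) (.node (.leaf 850) (.leaf 3866))) (.node (.node (.leaf 504) (.leaf 3505)) (.node (.leaf 1236) (.leaf 3986))))) (.node (.node (.node (.node (.leaf 88) (.leaf 1535)) (.node (.leaf 769) (.leaf 2543))) (.node (.node (.leaf 419) (.leaf 3394)) (.node (.leaf 1135) (.leaf 3975)))) (.node (.node (.node (.leaf 540) (.leaf 1781)) (.node (.leaf 943) (.leaf 2859))) (.node (.node (.leaf 589)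 (.leaf 3551)) (.node (.leaf 1331) (.leaf 3968)))))) (.node (.node (.node (.node (.node (.leaf 211) (.leaf 2814)) (.node (.leaf 1356) (.leaf 2481))) (.node (.node (.leaf 990) (.leaf 1948)) (.node (.leaf 2308) (.leaf 3126)))) (.node (.node (.node (.leaf 449) (.leaf 3099)) (.node (.leaf 892) (.leaf 3899))) (.node (.node (.leaf 598) (.leaf 3308)) (.node (.leaf 2623) (.leaf 4026))))) (.node (.node (.node (.node (.leaf 125) (.leaf 1601)) (.node (.leaf 1880) (.leaf 3811))) (.node (.node (.leaf 461) (.leaf 3130)) (.node (.leaf 2467) (.leaf 4053)))) (.node (.node (.node (.leaf 290) (.leaf 3241)) (.node (.leaf 991) (.leaf 3781))) (.node (.node (.leaf 1468) (.leaf 2354)) (.node (.leaf 1381) (.leaf 3965))))))))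

def twoNext59 : Janko.Tree (ℕ) :=
  (.node (.node (.node (.node (.node (.node (.node (.leaf 35) (.leaf 2776)) (.node (.leaf 653) (.leaf 3629))) (.node (.node (.leaf 334) (.leaf 1857)) (.node (.leaf 2156) (.leaf 2993)))) (.node (.node (.node (.leaf 145) (.leaf 1625)) (.node (.leaf 1076) (.leaf 2657))) (.node (.node (.leaf 1196) (.leaf 2104)) (.node (.leaf 2514) (.leaf 3419))))) (.node (.node (.node (.node (.leaf 71) (.leaf 1584)) (.node (.leaf 738) (.leaf 2940))) (.node (.node (.leaf 1041) (.leaf 1981)) (.node (.leaf 2013) (.leaf 3643)))) (.node (.node (.node (.leaf 226) (.leaf 1758)) (.node (.leaf 2079) (.leaf 3789))) (.node (.node (.leaf 1415) (.leaf 2263)) (.node (.leaf 1302) (.leaf 3829)))))) (.node (.node (.node (.node (.node (.leaf 36) (.leaf 1456)) (.node (.leaf 1673) (.leaf 3716))) (.node (.node (.leaf 944) (.leaf 1918)) (.node (.leaf 1058) (.leaf 3139)))) (.node (.node (.node (.leaf 526) (.leaf 1713)) (.node (.leaf 950) (.leaf 2742))) (.node (.node (.leaf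 580) (.leaf 3485)) (.node (.leaf 1256) (.leaf 4063))))) (.node (.node (.node (.node (.leaf 366) (.leaf 1576)) (.node (.leaf 900) (.leaf 2586))) (.node (.node (.leaf 1132) (.leaf 2054)) (.node (.leaf 1401) (.leaf 3315)))) (.node (.node (.node (.leaf 754) (.leaf 1803)) (.node (.leaf 2044) (.leaf 2900))) (.node (.node (.leaf 1499) (.leaf 3380)) (.node (.leaf 2719) (.leaf 3797))))))) (.node (.node (.node (.node (.node (.node (.leaf 97) (.leaf 2649)) (.node (.leaf 676) (.leaf 2428))) (.node (.node (.leaf 847) (.leaf 1899)) (.node (.leaf 2273) (.leaf 3042)))) (.node (.node (.node (.leaf 164) (.leaf 1657)) (.node (.leaf 1044) (.leaf 2749))) (.node (.node (.leaf 1274) (.leaf 2131)) (.node (.leaf 2548) (.leaf 3414))))) (.node (.node (.node (.node (.leaf 320) (.leaf 1534)) (.node (.leaf 762) (.leaf 2629))) (.node (.node (.leaf 827) (.leaf 2137)) (.node (.leaf 2365) (.leaf 4026)))) (.node (.node (.node (.leaf 700) (.leaf 3181)) (.node (.leaf 976) (.leaf 2853))) (.node (.node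 (.leaf 588) (.leaf 3550)) (.node (.leaf 2686) (.leaf 4087)))))) (.node (.node (.node (.node (.node (.leaf 212) (.leaf 2890)) (.node (.leaf 720) (.leaf 2480))) (.node (.node (.leaf 991) (.leaf 1947)) (.node (.leaf 2337) (.leaf 3467)))) (.node (.node (.node (.leaf 206) (.leaf 3100)) (.node (.leaf 2028) (.leaf 2781))) (.node (.node (.leaf 597) (.leaf 2194)) (.node (.leaf 2609) (.leaf 3975))))) (.node (.node (.node (.node (.leaf 418) (.leaf 1594)) (.node (.leaf 807) (.leaf 2617))) (.node (.node (.leaf 474) (.leaf 2078)) (.node (.leaf 2468) (.leaf 3437)))) (.node (.node (.node (.leaf 289) (.leaf 1832)) (.node (.leaf 990) (.leaf 3800))) (.node (.node (.leaf 1544) (.leaf 2362)) (.node (.leaf 2746) (.leaf 3953))))))))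

def twoNext60 : Janko.Tree (ℕ) :=
  (.node (.node (.node (.node (.node (.node (.node (.leaf 34) (.leaf 2525)) (.node (.leaf 1289) (.leaf 2760))) (.node (.node (.leaf 838) (.leaf 3275)) (.node (.leaf 1011) (.leaf 3720)))) (.node (.node (.node (.leaf 462) (.leaf 2543)) (.node (.leaf 1923) (.leaf 2854))) (.node (.node (.leaf 1228) (.leaf 3176)) (.node (.leaf 1213) (.leaf 3563))))) (.node (.node (.node (.node (.leaf 265) (.leaf 1557)) (.node (.leaf 1748) (.leaf 2940))) (.node (.node (.leaf 1040) (.leaf 2037)) (.node (.leaf 2370) (.leaf 3643)))) (.node (.node (.node (.leaf 654) (.leaf 1810)) (.node (.leaf 1746) (.leaf 2813))) (.node (.node (.leaf 1161) (.leaf 2234)) (.node (.leaf 1335) (.leaf 3901)))))) (.node (.node (.node (.node (.node (.leaf 156) (.leaf 2857)) (.node (.leaf 698) (.leaf 3023))) (.node (.node (.leaf 357) (.leaf 3324)) (.node (.leaf 1060) (.leaf 3128)))) (.node (.node (.node (.leaf 185) (.leaf 1698)) (.node (.leaf 871) (.leaf 2745))) (.node (.node (.leaf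 526) (.leaf 3530)) (.node (.leaf 2590) (.leaf 3533))))) (.node (.node (.node (.node (.leaf 109) (.leaf 2974)) (.node (.leaf 1820) (.leaf 2580))) (.node (.node (.leaf 1132) (.leaf 3422)) (.node (.leaf 1266) (.leaf 3556)))) (.node (.node (.node (.leaf 753) (.leaf 2276)) (.node (.leaf 2044) (.leaf 3770))) (.node (.node (.leaf 1497) (.leaf 3151)) (.node (.leaf 2709) (.leaf 3914))))))) (.node (.node (.node (.node (.node (.node (.leaf 72) (.leaf 2818)) (.node (.leaf 1616) (.leaf 2430))) (.node (.node (.leaf 882) (.leaf 2200)) (.node (.leaf 2253) (.leaf 3062)))) (.node (.node (.node (.leaf 512) (.leaf 1660)) (.node (.leaf 856) (.leaf 2700))) (.node (.node (.leaf 1272) (.leaf 2133)) (.node (.leaf 1714) (.leaf 3418))))) (.node (.node (.node (.node (.leaf 90) (.leaf 1543)) (.node (.leaf 764) (.leaf 3029))) (.node (.node (.leaf 1077) (.leaf 2049)) (.node (.leaf 2348) (.leaf 3445)))) (.node (.node (.node (.leaf 540) (.leaf 3179)) (.node (.leaf 2122) (.leaf 3738))) (.node (.node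 (.leaf 621) (.leaf 3225)) (.node (.leaf 1333) (.leaf 3786)))))) (.node (.node (.node (.node (.node (.leaf 54) (.leaf 1483)) (.node (.leaf 1709) (.leaf 2489))) (.node (.node (.leaf 378) (.leaf 2338)) (.node (.leaf 2301) (.leaf 3296)))) (.node (.node (.node (.leaf 609) (.leaf 2070)) (.node (.leaf 979) (.leaf 3891))) (.node (.node (.leaf 550) (.leaf 3254)) (.node (.leaf 1281) (.leaf 4050))))) (.node (.node (.node (.node (.leaf 127) (.leaf 1596)) (.node (.leaf 1881) (.leaf 3665))) (.node (.node (.leaf 677) (.leaf 3458)) (.node (.leaf 1217) (.leaf 3303)))) (.node (.node (.node (.leaf 748) (.leaf 2319)) (.node (.leaf 1886) (.leaf 3800))) (.node (.node (.leaf 637) (.leaf 2356)) (.node (.leaf 1475) (.leaf 4093))))))))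

def twoNext61 : Janko.Tree (ℕ) :=
  (.node (.node (.node (.node (.node (.node (.node (.leaf 36) (.leaf 2772)) (.node (.leaf 654) (.leaf 3649))) (.node (.node (.leaf 848) (.leaf 1858)) (.node (.leaf 1113) (.leaf 3048)))) (.node (.node (.node (.leaf 146) (.leaf 1626)) (.node (.leaf 827) (.leaf 2661))) (.node (.node (.leaf 481) (.leaf 3486)) (.node (.leaf 1291) (.leaf 3353))))) (.node (.node (.node (.node (.leaf 72) (.leaf 2923)) (.node (.leaf 740) (.leaf 2528))) (.node (.node (.leaf 1042) (.leaf 1982)) (.node (.leaf 2186) (.leaf 4012)))) (.node (.node (.node (.leaf 227) (.leaf 3140)) (.node (.leaf 919) (.leaf 3918))) (.node (.node (.leaf 1416) (.leaf 3577)) (.node (.leaf 1304) (.leaf 3661)))))) (.node (.node (.node (.node (.node (.leaf 37) (.leaf 1457)) (.node (.leaf 1541) (.leaf 3694))) (.node (.node (.leaf 945) (.leaf 1919)) (.node (.leaf 2308) (.leaf 3984)))) (.node (.node (.node (.leaf 559) (.leaf 2780)) (.node (.leaf 2007) (.leaf 3877))) (.node (.node (.leaf 1321)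 (.leaf 2399)) (.node (.leaf 1257) (.leaf 3475))))) (.node (.node (.node (.node (.leaf 367) (.leaf 1564)) (.node (.leaf 1832) (.leaf 3809))) (.node (.node (.leaf 1133) (.leaf 2055)) (.node (.leaf 2426) (.leaf 3260)))) (.node (.node (.node (.leaf 755) (.leaf 3216)) (.node (.leaf 2167) (.leaf 2901))) (.node (.node (.leaf 1483) (.leaf 2311)) (.node (.leaf 1355) (.leaf 3803))))))) (.node (.node (.node (.node (.node (.node (.leaf 98) (.leaf 1436)) (.node (.leaf 678) (.leaf 2484))) (.node (.node (.leaf 335) (.leaf 3292)) (.node (.leaf 2274) (.leaf 3907)))) (.node (.node (.node (.leaf 165) (.leaf 3052)) (.node (.leaf 851) (.leaf 3834))) (.node (.node (.leaf 1269) (.leaf 3495)) (.node (.leaf 2549) (.leaf 3415))))) (.node (.node (.node (.node (.leaf 321) (.leaf 1535)) (.node (.leaf 1788) (.leaf 3786))) (.node (.node (.leaf 420) (.leaf 3168)) (.node (.leaf 2396) (.leaf 3217)))) (.node (.node (.node (.leaf 253) (.leaf 1784)) (.node (.leaf 944) (.leaf 2855))) (.node (.node (.leaf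 589) (.leaf 2276)) (.node (.leaf 2687) (.leaf 4087)))))) (.node (.node (.node (.node (.node (.leaf 213) (.leaf 2891)) (.node (.leaf 721) (.leaf 2481))) (.node (.node (.leaf 992) (.leaf 1950)) (.node (.leaf 2338) (.leaf 4001)))) (.node (.node (.node (.leaf 207) (.leaf 1985)) (.node (.leaf 893) (.leaf 2782))) (.node (.node (.leaf 1370) (.leaf 2195)) (.node (.leaf 1390) (.leaf 3572))))) (.node (.node (.node (.node (.leaf 419) (.leaf 3001)) (.node (.leaf 808) (.leaf 2618))) (.node (.node (.leaf 1154) (.leaf 2079)) (.node (.leaf 2469) (.leaf 4055)))) (.node (.node (.node (.leaf 290) (.leaf 1833)) (.node (.leaf 991) (.leaf 2949))) (.node (.node (.leaf 1545) (.leaf 3598)) (.node (.leaf 2747) (.leaf 3954))))))))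

def twoNext62 : Janko.Tree (ℕ) :=
  (.node (.node (.node (.node (.node (.node (.node (.leaf 5) (.leaf 1409)) (.node (.leaf 1590) (.leaf 2405))) (.node (.node (.leaf 312) (.leaf 3149)) (.node (.leaf 1010) (.leaf 3765)))) (.node (.node (.node (.leaf 463) (.leaf 3028)) (.node (.leaf 1924) (.leaf 2852))) (.node (.node (.leaf 1224) (.leaf 2106)) (.node (.leaf 2514) (.leaf 3482))))) (.node (.node (.node (.node (.leaf 266) (.leaf 2912)) (.node (.leaf 1749) (.leaf 2522))) (.node (.node (.leaf 399) (.leaf 3377)) (.node (.leaf 1107) (.leaf 3168)))) (.node (.node (.node (.leaf 655) (.leaf 1759)) (.node (.leaf 917) (.leaf 2892))) (.node (.node (.leaf 1415) (.leaf 3578)) (.node (.leaf 1327) (.leaf 3948)))))) (.node (.node (.node (.node (.node (.leaf 157) (.leaf 1459)) (.node (.leaf 1674) (.leaf 3716))) (.node (.node (.leaf 355) (.leaf 3325)) (.node (.leaf 1071) (.leaf 3619)))) (.node (.node (.node (.leaf 525) (.leaf 1707)) (.node (.leaf 2008) (.leaf 3873))) (.node (.node (.leaf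 532) (.leaf 3485)) (.node (.leaf 2591) (.leaf 3529))))) (.node (.node (.node (.node (.leaf 108) (.leaf 2975)) (.node (.leaf 785) (.leaf 2581))) (.node (.node (.leaf 1130) (.leaf 3424)) (.node (.leaf 1426) (.leaf 3256)))) (.node (.node (.node (.leaf 271) (.leaf 1805)) (.node (.leaf 2161) (.leaf 3941))) (.node (.node (.leaf 611) (.leaf 3152)) (.node (.leaf 2719) (.leaf 3819))))))) (.node (.node (.node (.node (.node (.node (.leaf 97) (.leaf 2819)) (.node (.leaf 1615) (.leaf 3684))) (.node (.node (.leaf 896) (.leaf 1896)) (.node (.leaf 1035) (.leaf 3047)))) (.node (.node (.node (.leaf 513) (.leaf 3051)) (.node (.leaf 1935) (.leaf 3022))) (.node (.node (.leaf 1274) (.leaf 2132)) (.node (.leaf 2548) (.leaf 3520))))) (.node (.node (.node (.node (.leaf 320) (.leaf 2951)) (.node (.leaf 802) (.leaf 2629))) (.node (.node (.leaf 1085) (.leaf 2020)) (.node (.leaf 2365) (.leaf 3549)))) (.node (.node (.node (.leaf 249) (.leaf 3181)) (.node (.leaf 2123) (.leaf 3927))) (.node (.node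 (.leaf 1454) (.leaf 3223)) (.node (.leaf 2686) (.leaf 3752)))))) (.node (.node (.node (.node (.node (.leaf 214) (.leaf 1481)) (.node (.leaf 1710) (.leaf 3739))) (.node (.node (.leaf 376) (.leaf 3353)) (.node (.leaf 1086) (.leaf 3467)))) (.node (.node (.node (.leaf 610) (.leaf 1734)) (.node (.leaf 2001) (.leaf 3890))) (.node (.node (.leaf 1371) (.leaf 2197)) (.node (.leaf 1280) (.leaf 4055))))) (.node (.node (.node (.node (.leaf 418) (.leaf 2640)) (.node (.leaf 1879) (.leaf 2621))) (.node (.node (.leaf 474) (.leaf 3459)) (.node (.leaf 1188) (.leaf 3626)))) (.node (.node (.node (.leaf 801) (.leaf 3246)) (.node (.leaf 2083) (.leaf 2945))) (.node (.node (.leaf 1460) (.leaf 2361)) (.node (.leaf 2746) (.leaf 4085))))))))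

def twoNext63 : Janko.Tree (ℕ) :=
  (.node (.node (.node (.node (.node (.node (.node (.leaf 37) (.leaf 2777)) (.node (.leaf 1591) (.leaf 2774))) (.node (.node (.leaf 849) (.leaf 3276)) (.node (.leaf 2242) (.leaf 2994)))) (.node (.node (.node (.leaf 464) (.leaf 3029)) (.node (.leaf 1925) (.leaf 2658))) (.node (.node (.leaf 1229) (.leaf 3487)) (.node (.leaf 1211) (.leaf 3519))))) (.node (.node (.node (.node (.leaf 267) (.leaf 1510)) (.node (.leaf 1750) (.leaf 2509))) (.node (.node (.leaf 1043) (.leaf 2035)) (.node (.leaf 2043) (.leaf 3165)))) (.node (.node (.node (.leaf 656) (.leaf 1841)) (.node (.leaf 1872) (.leaf 3857))) (.node (.node (.leaf 566) (.leaf 3398)) (.node (.leaf 2656) (.leaf 3949)))))) (.node (.node (.node (.node (.node (.leaf 158) (.leaf 2858)) (.node (.leaf 1666) (.leaf 2454))) (.node (.node (.leaf 354) (.leaf 3326)) (.node (.leaf 2309) (.leaf 3097)))) (.node (.node (.node (.leaf 524) (.leaf 1697)) (.node (.leaf 2009) (.leaf 3881))) (.node (.node (.leaf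 558) (.leaf 2162)) (.node (.leaf 2592) (.leaf 3577))))) (.node (.node (.node (.node (.leaf 107) (.leaf 2976)) (.node (.leaf 1833) (.leaf 2579))) (.node (.node (.leaf 442) (.leaf 3425)) (.node (.leaf 1162) (.leaf 3254)))) (.node (.node (.node (.leaf 756) (.leaf 1876)) (.node (.leaf 966) (.leaf 3942))) (.node (.node (.leaf 610) (.leaf 3148)) (.node (.leaf 1352) (.leaf 3947))))))) (.node (.node (.node (.node (.node (.node (.leaf 20) (.leaf 2820)) (.node (.leaf 1628) (.leaf 2977))) (.node (.node (.leaf 897) (.leaf 1886)) (.node (.leaf 1034) (.leaf 3083)))) (.node (.node (.node (.leaf 514) (.leaf 1659)) (.node (.leaf 1963) (.leaf 3867))) (.node (.node (.leaf 504) (.leaf 3504)) (.node (.leaf 1236) (.leaf 4031))))) (.node (.node (.node (.node (.leaf 88) (.leaf 1541)) (.node (.leaf 1789) (.leaf 2543))) (.node (.node (.leaf 1086) (.leaf 2019)) (.node (.leaf 1135) (.leaf 4027)))) (.node (.node (.node (.leaf 701) (.leaf 1781)) (.node (.leaf 2124) (.leaf 3928))) (.node (.node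 (.leaf 612) (.leaf 3289)) (.node (.leaf 1331) (.leaf 3729)))))) (.node (.node (.node (.node (.node (.leaf 215) (.leaf 1480)) (.node (.leaf 1711) (.leaf 2487))) (.node (.node (.leaf 375) (.leaf 3354)) (.node (.leaf 1085) (.leaf 3126)))) (.node (.node (.node (.leaf 611) (.leaf 1733)) (.node (.leaf 978) (.leaf 3900))) (.node (.node (.leaf 1372) (.leaf 3556)) (.node (.leaf 2611) (.leaf 3558))))) (.node (.node (.node (.node (.leaf 125) (.leaf 3002)) (.node (.leaf 1882) (.leaf 2904))) (.node (.node (.leaf 461) (.leaf 3460)) (.node (.leaf 1215) (.leaf 3301)))) (.node (.node (.node (.leaf 746) (.leaf 3247)) (.node (.leaf 2200) (.leaf 2942))) (.node (.node (.leaf 635) (.leaf 2355)) (.node (.leaf 1381) (.leaf 4080))))))))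

def twoNext64 : Janko.Tree (ℕ) :=
  (.node (.node (.node (.node (.node (.node (.node (.leaf 35) (.leaf 2776)) (.node (.leaf 655) (.leaf 3650))) (.node (.node (.leaf 424) (.leaf 3273)) (.node (.leaf 1012) (.leaf 3737)))) (.node (.node (.node (.leaf 147) (.leaf 1693)) (.node (.leaf 828) (.leaf 2660))) (.node (.node (.leaf 1196) (.leaf 3178)) (.node (.leaf 2515) (.leaf 3564))))) (.node (.node (.node (.node (.leaf 73) (.leaf 2911)) (.node (.leaf 741) (.leaf 3710))) (.node (.node (.leaf 1041) (.leaf 1983)) (.node (.leaf 2013) (.leaf 3648)))) (.node (.node (.node (.leaf 228) (.leaf 3141)) (.node (.leaf 2079) (.leaf 2892))) (.node (.node (.leaf 1169) (.leaf 3578)) (.node (.leaf 1318) (.leaf 3699)))))) (.node (.node (.node (.node (.node (.leaf 38) (.leaf 2855)) (.node (.leaf 1674) (.leaf 3716))) (.node (.node (.leaf 370) (.leaf 2288)) (.node (.leaf 1071) (.leaf 3981)))) (.node (.node (.node (.leaf 448) (.leaf 2739)) (.node (.leaf 2008) (.leaf 3881))) (.node (.node (.leaf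 1322) (.leaf 2166)) (.node (.leaf 2431) (.leaf 4039))))) (.node (.node (.node (.node (.leaf 368) (.leaf 1579)) (.node (.leaf 1821) (.leaf 2809))) (.node (.node (.leaf 889) (.leaf 3424)) (.node (.leaf 2427) (.leaf 4007)))) (.node (.node (.node (.leaf 754) (.leaf 2277)) (.node (.leaf 2066) (.leaf 2903))) (.node (.node (.leaf 620) (.leaf 3149)) (.node (.leaf 1354) (.leaf 3944))))))) (.node (.node (.node (.node (.node (.node (.leaf 99) (.leaf 1437)) (.node (.leaf 679) (.leaf 2977))) (.node (.node (.leaf 729) (.leaf 1909)) (.node (.leaf 2250) (.leaf 3049)))) (.node (.node (.node (.leaf 195) (.leaf 3053)) (.node (.leaf 853) (.leaf 3867))) (.node (.node (.leaf 1275) (.leaf 3504)) (.node (.leaf 1530) (.leaf 3520))))) (.node (.node (.node (.node (.leaf 322) (.leaf 1536)) (.node (.leaf 802) (.leaf 2921))) (.node (.node (.leaf 421) (.leaf 2046)) (.node (.leaf 2321) (.leaf 3218)))) (.node (.node (.node (.leaf 700) (.leaf 1783)) (.node (.leaf 945) (.leaf 2864))) (.node (.node (.leaf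 642) (.leaf 3162)) (.node (.leaf 2688) (.leaf 3926)))))) (.node (.node (.node (.node (.node (.leaf 214) (.leaf 1482)) (.node (.leaf 722) (.leaf 2482))) (.node (.node (.leaf 927) (.leaf 2317)) (.node (.leaf 1874) (.leaf 4002)))) (.node (.node (.node (.leaf 208) (.leaf 2061)) (.node (.leaf 2028) (.leaf 3769))) (.node (.node (.leaf 1371) (.leaf 3271)) (.node (.leaf 1505) (.leaf 4025))))) (.node (.node (.node (.node (.leaf 420) (.leaf 2640)) (.node (.leaf 818) (.leaf 3790))) (.node (.node (.leaf 1178) (.leaf 2080)) (.node (.leaf 2463) (.leaf 3450)))) (.node (.node (.node (.leaf 291) (.leaf 3228)) (.node (.leaf 992) (.leaf 2945))) (.node (.node (.leaf 1460) (.leaf 2357)) (.node (.leaf 1473) (.leaf 4066))))))))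

def twoNext65 : Janko.Tree (ℕ) :=
  (.node (.node (.node (.node (.node (.node (.node (.leaf 38) (.leaf 1697)) (.node (.leaf 1592) (.leaf 2406))) (.node (.node (.leaf 850) (.leaf 3270)) (.node (.leaf 2243) (.leaf 2999)))) (.node (.node (.node (.leaf 465) (.leaf 3030)) (.node (.leaf 1926) (.leaf 3844))) (.node (.node (.leaf 1230) (.leaf 2382)) (.node (.leaf 1212) (.leaf 3356))))) (.node (.node (.node (.node (.leaf 268) (.leaf 1511)) (.node (.leaf 1751) (.leaf 2511))) (.node (.node (.leaf 1038) (.leaf 3361)) (.node (.leaf 2368) (.leaf 4014)))) (.node (.node (.node (.leaf 657) (.leaf 1760)) (.node (.leaf 2080) (.leaf 2815))) (.node (.node (.leaf 567) (.leaf 2322)) (.node (.leaf 2657) (.leaf 3663)))))) (.node (.node (.node (.node (.node (.leaf 159) (.leaf 2850)) (.node (.leaf 1675) (.leaf 3717))) (.node (.node (.leaf 355) (.leaf 1920)) (.node (.leaf 1062) (.leaf 3098)))) (.node (.node (.node (.leaf 186) (.leaf 1699)) (.node (.leaf 2010) (.leaf 3827))) (.node (.node (.leaf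 527) (.leaf 2163)) (.node (.leaf 1258) (.leaf 3476))))) (.node (.node (.node (.node (.leaf 108) (.leaf 2977)) (.node (.leaf 1834) (.leaf 2581))) (.node (.node (.leaf 443) (.leaf 2056)) (.node (.leaf 1163) (.leaf 3256)))) (.node (.node (.node (.leaf 274) (.leaf 1917)) (.node (.leaf 967) (.leaf 3932))) (.node (.node (.leaf 1500) (.leaf 2313)) (.node (.leaf 2695) (.leaf 3806))))))) (.node (.node (.node (.node (.node (.node (.leaf 21) (.leaf 2821)) (.node (.leaf 1629) (.leaf 3686))) (.node (.node (.leaf 898) (.leaf 3299)) (.node (.leaf 1035) (.leaf 3903)))) (.node (.node (.node (.leaf 515) (.leaf 1660)) (.node (.leaf 1843) (.leaf 2711))) (.node (.node (.leaf 505) (.leaf 3506)) (.node (.leaf 1237) (.leaf 4067))))) (.node (.node (.node (.node (.leaf 89) (.leaf 2932)) (.node (.leaf 766) (.leaf 2544))) (.node (.node (.leaf 1087) (.leaf 2020)) (.node (.leaf 1136) (.leaf 3235)))) (.node (.node (.node (.leaf 702) (.leaf 3163)) (.node (.leaf 2072) (.leaf 3018))) (.node (.node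 (.leaf 1455) (.leaf 2355)) (.node (.leaf 1332) (.leaf 3731)))))) (.node (.node (.node (.node (.node (.leaf 216) (.leaf 2892)) (.node (.leaf 1712) (.leaf 3726))) (.node (.node (.leaf 376) (.leaf 3355)) (.node (.leaf 1086) (.leaf 3127)))) (.node (.node (.node (.leaf 612) (.leaf 1734)) (.node (.leaf 2043) (.leaf 3901))) (.node (.node (.leaf 1373) (.leaf 2204)) (.node (.leaf 1281) (.leaf 3559))))) (.node (.node (.node (.node (.leaf 126) (.leaf 1598)) (.node (.leaf 1883) (.leaf 2644))) (.node (.node (.leaf 462) (.leaf 3461)) (.node (.leaf 1189) (.leaf 3302)))) (.node (.node (.node (.leaf 802) (.leaf 3248)) (.node (.leaf 1081) (.leaf 3956))) (.node (.node (.leaf 1546) (.leaf 3447)) (.node (.leaf 1382) (.leaf 3975))))))))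

def twoNext66 : Janko.Tree (ℕ) :=
  (.node (.node (.node (.node (.node (.node (.node (.leaf 37) (.leaf 2777)) (.node (.leaf 654) (.leaf 3651))) (.node (.node (.leaf 849) (.leaf 1859)) (.node (.leaf 2242) (.leaf 3069)))) (.node (.node (.node (.leaf 466) (.leaf 1627)) (.node (.leaf 1920) (.leaf 2659))) (.node (.node (.leaf 482) (.leaf 3487)) (.node (.leaf 1216) (.leaf 3519))))) (.node (.node (.node (.node (.leaf 121) (.leaf 2917)) (.node (.leaf 912) (.leaf 3709))) (.node (.node (.leaf 1043) (.leaf 1985)) (.node (.leaf 2043) (.leaf 3640)))) (.node (.node (.node (.leaf 658) (.leaf 3142)) (.node (.leaf 1872) (.leaf 2813))) (.node (.node (.leaf 1168) (.leaf 2234)) (.node (.leaf 1305) (.leaf 3939)))))) (.node (.node (.node (.node (.node (.leaf 160) (.leaf 1458)) (.node (.leaf 698) (.leaf 3023))) (.node (.node (.leaf 946) (.leaf 2287)) (.node (.leaf 1060) (.leaf 3982)))) (.node (.node (.node (.leaf 475) (.leaf 3073)) (.node (.leaf 871) (.leaf 3874))) (.node (.node (.leaf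 1323) (.leaf 3318)) (.node (.leaf 1424) (.leaf 3992))))) (.node (.node (.node (.node (.leaf 369) (.leaf 1565)) (.node (.leaf 1833) (.leaf 2615))) (.node (.node (.leaf 868) (.leaf 3422)) (.node (.leaf 2428) (.leaf 4003)))) (.node (.node (.node (.leaf 756) (.leaf 1876)) (.node (.leaf 1726) (.leaf 3943))) (.node (.node (.leaf 612) (.leaf 3275)) (.node (.leaf 1353) (.leaf 3808))))))) (.node (.node (.node (.node (.node (.node (.leaf 100) (.leaf 1440)) (.node (.leaf 1613) (.leaf 3685))) (.node (.node (.leaf 772) (.leaf 1889)) (.node (.leaf 2275) (.leaf 3053)))) (.node (.node (.node (.leaf 194) (.leaf 3049)) (.node (.leaf 1937) (.leaf 2707))) (.node (.node (.leaf 1273) (.leaf 2134)) (.node (.leaf 2550) (.leaf 3418))))) (.node (.node (.node (.node (.leaf 94) (.leaf 1538)) (.node (.leaf 764) (.leaf 3787))) (.node (.node (.leaf 446) (.leaf 3399)) (.node (.leaf 2399) (.leaf 4028)))) (.node (.node (.node (.leaf 701) (.leaf 1782)) (.node (.leaf 2125) (.leaf 2856))) (.node (.node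 (.leaf 641) (.leaf 3224)) (.node (.leaf 1334) (.leaf 3876)))))) (.node (.node (.node (.node (.node (.leaf 54) (.leaf 1486)) (.node (.leaf 1713) (.leaf 2484))) (.node (.node (.leaf 993) (.leaf 1951)) (.node (.leaf 1873) (.leaf 3980)))) (.node (.node (.node (.leaf 613) (.leaf 3101)) (.node (.leaf 894) (.leaf 2783))) (.node (.node (.leaf 550) (.leaf 2196)) (.node (.leaf 2587) (.leaf 4052))))) (.node (.node (.node (.node (.leaf 414) (.leaf 1596)) (.node (.leaf 1778) (.leaf 2620))) (.node (.node (.leaf 1184) (.leaf 2209)) (.node (.leaf 2470) (.leaf 3304)))) (.node (.node (.node (.leaf 298) (.leaf 1834)) (.node (.leaf 2201) (.leaf 3800))) (.node (.node (.leaf 637) (.leaf 3634)) (.node (.leaf 2715) (.leaf 4067))))))))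

def twoNext67 : Janko.Tree (ℕ) :=
  (.node (.node (.node (.node (.node (.node (.node (.leaf 5) (.leaf 1409)) (.node (.leaf 1593) (.leaf 3652))) (.node (.node (.leaf 312) (.leaf 1858)) (.node (.leaf 1010) (.leaf 2996)))) (.node (.node (.node (.leaf 467) (.leaf 1723)) (.node (.leaf 1927) (.leaf 3849))) (.node (.node (.leaf 481) (.leaf 2106)) (.node (.leaf 2516) (.leaf 3482))))) (.node (.node (.node (.node (.leaf 269) (.leaf 2924)) (.node (.leaf 1752) (.leaf 3745))) (.node (.node (.leaf 399) (.leaf 3378)) (.node (.leaf 1107) (.leaf 3169)))) (.node (.node (.node (.leaf 531) (.leaf 3143)) (.node (.leaf 917) (.leaf 2925))) (.node (.node (.leaf 1417) (.leaf 3516)) (.node (.leaf 1304) (.leaf 3704)))))) (.node (.node (.node (.node (.node (.leaf 161) (.leaf 1457)) (.node (.leaf 1676) (.leaf 2455))) (.node (.node (.leaf 368) (.leaf 3327)) (.node (.leaf 1119) (.leaf 3985)))) (.node (.node (.node (.leaf 560) (.leaf 3074)) (.node (.leaf 2011) (.leaf 2745))) (.node (.node (.leaf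 1324) (.leaf 3531)) (.node (.leaf 1423) (.leaf 4006))))) (.node (.node (.node (.node (.leaf 370) (.leaf 1577)) (.node (.leaf 785) (.leaf 2808))) (.node (.node (.leaf 1134) (.leaf 3426)) (.node (.leaf 2429) (.leaf 4004)))) (.node (.node (.node (.leaf 271) (.leaf 1805)) (.node (.leaf 1725) (.leaf 3808))) (.node (.node (.leaf 1454) (.leaf 3281)) (.node (.leaf 2713) (.leaf 3943))))))) (.node (.node (.node (.node (.node (.node (.leaf 101) (.leaf 2667)) (.node (.leaf 1630) (.leaf 2430))) (.node (.node (.leaf 336) (.leaf 1888)) (.node (.leaf 2190) (.leaf 3048)))) (.node (.node (.node (.leaf 166) (.leaf 2665)) (.node (.leaf 851) (.leaf 2700))) (.node (.node (.leaf 1276) (.leaf 2133)) (.node (.leaf 2551) (.leaf 3461))))) (.node (.node (.node (.node (.leaf 323) (.leaf 2952)) (.node (.leaf 1108) (.leaf 3788))) (.node (.node (.leaf 420) (.leaf 2038)) (.node (.leaf 2381) (.leaf 3627)))) (.node (.node (.node (.leaf 249) (.leaf 3182)) (.node (.leaf 2126) (.leaf 2863))) (.node (.node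 (.leaf 590) (.leaf 2278)) (.node (.leaf 2689) (.leaf 3838)))))) (.node (.node (.node (.node (.node (.leaf 217) (.leaf 2696)) (.node (.leaf 1696) (.leaf 3078))) (.node (.node (.leaf 925) (.leaf 2048)) (.node (.leaf 2339) (.leaf 3979)))) (.node (.node (.node (.leaf 592) (.leaf 2050)) (.node (.leaf 893) (.leaf 2782))) (.node (.node (.leaf 1374) (.leaf 2195)) (.node (.leaf 2410) (.leaf 4023))))) (.node (.node (.node (.node (.leaf 421) (.leaf 2678)) (.node (.leaf 809) (.leaf 3037))) (.node (.node (.leaf 1185) (.leaf 3297)) (.node (.leaf 2471) (.leaf 3449)))) (.node (.node (.node (.leaf 803) (.leaf 2056)) (.node (.leaf 2202) (.leaf 3781))) (.node (.node (.leaf 636) (.leaf 3635)) (.node (.leaf 1471) (.leaf 4079))))))))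

def twoNext68 : Janko.Tree (ℕ) :=
  (.node (.node (.node (.node (.node (.node (.node (.leaf 39) (.leaf 2778)) (.node (.leaf 656) (.leaf 2407))) (.node (.node (.leaf 851) (.leaf 1863)) (.node (.leaf 2244) (.leaf 2998)))) (.node (.node (.node (.leaf 466) (.leaf 1712)) (.node (.leaf 1927) (.leaf 2661))) (.node (.node (.leaf 1221) (.leaf 3160)) (.node (.leaf 2514) (.leaf 3473))))) (.node (.node (.node (.node (.leaf 121) (.leaf 2753)) (.node (.leaf 912) (.leaf 2554))) (.node (.node (.leaf 826) (.leaf 3378)) (.node (.leaf 2369) (.leaf 3245)))) (.node (.node (.node (.leaf 658) (.leaf 1761)) (.node (.leaf 921) (.leaf 3857))) (.node (.node (.leaf 570) (.leaf 3398)) (.node (.leaf 1329) (.leaf 3960)))))) (.node (.node (.node (.node (.node (.leaf 160) (.leaf 1459)) (.node (.leaf 1666) (.leaf 2494))) (.node (.node (.leaf 356) (.leaf 1921)) (.node (.leaf 2309) (.leaf 3311)))) (.node (.node (.node (.leaf 188) (.leaf 1719)) (.node (.leaf 2009) (.leaf 2972))) (.node (.node (.leaf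 691) (.leaf 2165)) (.node (.leaf 1259) (.leaf 4012))))) (.node (.node (.node (.node (.leaf 371) (.leaf 1567)) (.node (.leaf 1828) (.leaf 2582))) (.node (.node (.leaf 858) (.leaf 2082)) (.node (.leaf 1230) (.leaf 3574)))) (.node (.node (.node (.leaf 288) (.leaf 3142)) (.node (.leaf 1730) (.leaf 3943))) (.node (.node (.leaf 1501) (.leaf 2337)) (.node (.leaf 1499) (.leaf 3958))))))) (.node (.node (.node (.node (.node (.node (.leaf 24) (.leaf 1440)) (.node (.leaf 1613) (.leaf 3687))) (.node (.node (.leaf 899) (.leaf 1907)) (.node (.leaf 1805) (.leaf 3751)))) (.node (.node (.node (.leaf 516) (.leaf 1664)) (.node (.leaf 1937) (.leaf 2720))) (.node (.node (.leaf 1191) (.leaf 3507)) (.node (.leaf 2462) (.leaf 4031))))) (.node (.node (.node (.node (.leaf 320) (.leaf 2952)) (.node (.leaf 1789) (.leaf 2604))) (.node (.node (.leaf 890) (.leaf 2041)) (.node (.leaf 1137) (.leaf 4028)))) (.node (.node (.node (.leaf 703) (.leaf 1784)) (.node (.leaf 2125) (.leaf 3847))) (.node (.node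 (.leaf 1456) (.leaf 3596)) (.node (.leaf 2686) (.leaf 3925)))))) (.node (.node (.node (.node (.node (.leaf 215) (.leaf 2696)) (.node (.leaf 1713) (.leaf 3078))) (.node (.node (.leaf 377) (.leaf 2318)) (.node (.leaf 1087) (.leaf 3554)))) (.node (.node (.node (.leaf 613) (.leaf 1735)) (.node (.leaf 2042) (.leaf 2784))) (.node (.node (.leaf 1372) (.leaf 3256)) (.node (.leaf 2611) (.leaf 4044))))) (.node (.node (.node (.node (.leaf 418) (.leaf 3002)) (.node (.leaf 1835) (.leaf 3815))) (.node (.node (.leaf 463) (.leaf 3428)) (.node (.leaf 1190) (.leaf 3626)))) (.node (.node (.node (.leaf 803) (.leaf 1884)) (.node (.leaf 2201) (.leaf 2957))) (.node (.node (.leaf 1547) (.leaf 3634)) (.node (.leaf 1383) (.leaf 4067))))))))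

def twoNext69 : Janko.Tree (ℕ) :=
  (.node (.node (.node (.node (.node (.node (.node (.leaf 6) (.leaf 1410)) (.node (.leaf 1481) (.leaf 3653))) (.node (.node (.leaf 313) (.leaf 3277)) (.node (.leaf 1011) (.leaf 3966)))) (.node (.node (.node (.leaf 468) (.leaf 1628)) (.node (.leaf 1928) (.leaf 3739))) (.node (.node (.leaf 483) (.leaf 2107)) (.node (.leaf 1225) (.leaf 3358))))) (.node (.node (.node (.node (.leaf 262) (.leaf 2925)) (.node (.leaf 1749) (.leaf 3759))) (.node (.node (.leaf 400) (.leaf 1994)) (.node (.leaf 1109) (.leaf 3170)))) (.node (.node (.node (.leaf 659) (.leaf 3144)) (.node (.leaf 918) (.leaf 3913))) (.node (.node (.leaf 1418) (.leaf 2237)) (.node (.leaf 2658) (.leaf 3743)))))) (.node (.node (.node (.node (.node (.leaf 162) (.leaf 2792)) (.node (.leaf 1673) (.leaf 2456))) (.node (.node (.leaf 947) (.leaf 3172)) (.node (.leaf 2310) (.leaf 3986)))) (.node (.node (.node (.leaf 561) (.leaf 3075)) (.node (.leaf 874) (.leaf 2746))) (.node (.node (.leaf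 1325) (.leaf 3532)) (.node (.leaf 2593) (.leaf 3492))))) (.node (.node (.node (.node (.leaf 109) (.leaf 2978)) (.node (.leaf 786) (.leaf 3810))) (.node (.node (.leaf 1135) (.leaf 3427)) (.node (.leaf 2430) (.leaf 3257)))) (.node (.node (.node (.leaf 272) (.leaf 1806)) (.node (.leaf 968) (.leaf 3010))) (.node (.node (.leaf 613) (.leaf 3513)) (.node (.leaf 1354) (.leaf 3872))))))) (.node (.node (.node (.node (.node (.node (.leaf 102) (.leaf 2819)) (.node (.leaf 683) (.leaf 2431))) (.node (.node (.leaf 337) (.leaf 1889)) (.node (.leaf 1036) (.leaf 3053)))) (.node (.node (.node (.leaf 167) (.leaf 3011)) (.node (.leaf 1964) (.leaf 3681))) (.node (.node (.leaf 1277) (.leaf 2135)) (.node (.leaf 2552) (.leaf 3563))))) (.node (.node (.node (.node (.leaf 292) (.leaf 2944)) (.node (.leaf 1790) (.leaf 3789))) (.node (.node (.leaf 1088) (.leaf 3159)) (.node (.leaf 2105) (.leaf 3325)))) (.node (.node (.node (.leaf 250) (.leaf 3183)) (.node (.leaf 2127) (.leaf 3929))) (.node (.node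 (.leaf 591) (.leaf 2279)) (.node (.leaf 2683) (.leaf 3737)))))) (.node (.node (.node (.node (.node (.leaf 212) (.leaf 1499)) (.node (.leaf 1714) (.leaf 3734))) (.node (.node (.leaf 994) (.leaf 3354)) (.node (.leaf 2210) (.leaf 3143)))) (.node (.node (.node (.leaf 614) (.leaf 3102)) (.node (.leaf 2044) (.leaf 2844))) (.node (.node (.leaf 553) (.leaf 3557)) (.node (.leaf 2624) (.leaf 3560))))) (.node (.node (.node (.node (.leaf 378) (.leaf 2985)) (.node (.leaf 810) (.leaf 2622))) (.node (.node (.leaf 1186) (.leaf 2081)) (.node (.leaf 2472) (.leaf 4054)))) (.node (.node (.node (.leaf 323) (.leaf 1835)) (.node (.leaf 2203) (.leaf 3942))) (.node (.node (.leaf 637) (.leaf 3636)) (.node (.leaf 2748) (.leaf 3979))))))))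

def twoNext70 : Janko.Tree (ℕ) :=
  (.node (.node (.node (.node (.node (.node (.node (.leaf 40) (.leaf 2779)) (.node (.leaf 1593) (.leaf 2887))) (.node (.node (.leaf 852) (.leaf 1861)) (.node (.leaf 1013) (.leaf 2997)))) (.node (.node (.node (.leaf 147) (.leaf 3031)) (.node (.leaf 1921) (.leaf 3849))) (.node (.node (.leaf 1231) (.leaf 3486)) (.node (.leaf 1213) (.leaf 3528))))) (.node (.node (.node (.node (.leaf 73) (.leaf 1513)) (.node (.leaf 741) (.leaf 3004))) (.node (.node (.leaf 1044) (.leaf 1986)) (.node (.leaf 2293) (.leaf 3333)))) (.node (.node (.node (.leaf 228) (.leaf 2280)) (.node (.leaf 1740) (.leaf 2925))) (.node (.node (.leaf 568) (.leaf 3516)) (.node (.leaf 1328) (.leaf 3829)))))) (.node (.node (.node (.node (.node (.leaf 38) (.leaf 2857)) (.node (.leaf 1676) (.leaf 3030))) (.node (.node (.leaf 360) (.leaf 1927)) (.node (.leaf 1119) (.leaf 3100)))) (.node (.node (.node (.leaf 478) (.leaf 1700)) (.node (.leaf 2011) (.leaf 3863))) (.node (.node (.leaf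 528) (.leaf 3319)) (.node (.leaf 1648) (.leaf 3488))))) (.node (.node (.node (.node (.leaf 372) (.leaf 1569)) (.node (.leaf 1827) (.leaf 3805))) (.node (.node (.leaf 444) (.leaf 3242)) (.node (.leaf 1164) (.leaf 3591)))) (.node (.node (.node (.leaf 757) (.leaf 3141)) (.node (.leaf 2168) (.leaf 2903))) (.node (.node (.leaf 1502) (.leaf 2322)) (.node (.leaf 1391) (.leaf 3807))))))) (.node (.node (.node (.node (.node (.node (.leaf 22) (.leaf 1437)) (.node (.leaf 679) (.leaf 3688))) (.node (.node (.leaf 900) (.leaf 3300)) (.node (.leaf 2276) (.leaf 3071)))) (.node (.node (.node (.leaf 517) (.leaf 1662)) (.node (.leaf 853) (.leaf 2703))) (.node (.node (.leaf 506) (.leaf 3508)) (.node (.leaf 1238) (.leaf 3461))))) (.node (.node (.node (.node (.leaf 90) (.leaf 1539)) (.node (.leaf 1108) (.leaf 2545))) (.node (.node (.leaf 876) (.leaf 2022)) (.node (.leaf 1136) (.leaf 3218)))) (.node (.node (.node (.leaf 704) (.leaf 3182)) (.node (.leaf 945) (.leaf 2862))) (.node (.node (.leaf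 1457) (.leaf 3597)) (.node (.leaf 1333) (.leaf 3735)))))) (.node (.node (.node (.node (.node (.leaf 217) (.leaf 1487)) (.node (.leaf 722) (.leaf 2485))) (.node (.node (.leaf 985) (.leaf 2048)) (.node (.leaf 2340) (.leaf 3129)))) (.node (.node (.node (.leaf 208) (.leaf 2170)) (.node (.leaf 895) (.leaf 3902))) (.node (.node (.leaf 1374) (.leaf 3556)) (.node (.leaf 1282) (.leaf 3593))))) (.node (.node (.node (.node (.leaf 127) (.leaf 2678)) (.node (.leaf 1829) (.leaf 3744))) (.node (.node (.leaf 462) (.leaf 3421)) (.node (.leaf 1208) (.leaf 3303)))) (.node (.node (.node (.leaf 299) (.leaf 3249)) (.node (.leaf 992) (.leaf 2947))) (.node (.node (.leaf 1548) (.leaf 2357)) (.node (.leaf 2738) (.leaf 4066))))))))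

def twoNext71 : Janko.Tree (ℕ) :=
  (.node (.node (.node (.node (.node (.node (.node (.leaf 41) (.leaf 2780)) (.node (.leaf 654) (.leaf 2625))) (.node (.node (.leaf 853) (.leaf 1860)) (.node (.leaf 2245) (.leaf 3068)))) (.node (.node (.node (.leaf 469) (.leaf 1720)) (.node (.leaf 828) (.leaf 2659))) (.node (.node (.leaf 1232) (.leaf 3488)) (.node (.leaf 1212) (.leaf 3471))))) (.node (.node (.node (.node (.leaf 270) (.leaf 1512)) (.node (.leaf 1016) (.leaf 2513))) (.node (.node (.leaf 850) (.leaf 1983)) (.node (.leaf 2292) (.leaf 4015)))) (.node (.node (.node (.leaf 660) (.leaf 2294)) (.node (.leaf 2081) (.leaf 2813))) (.node (.node (.leaf 567) (.leaf 2234)) (.node (.leaf 1306) (.leaf 3664)))))) (.node (.node (.node (.node (.node (.leaf 163) (.leaf 2744)) (.node (.leaf 698) (.leaf 2505))) (.node (.node (.leaf 948) (.leaf 1920)) (.node (.leaf 1060) (.leaf 3099)))) (.node (.node (.node (.leaf 186) (.leaf 1716)) (.node (.leaf 871) (.leaf 3882))) (.node (.node (.leaf 527)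 (.leaf 2163)) (.node (.leaf 2594) (.leaf 3486))))) (.node (.node (.node (.node (.leaf 373) (.leaf 1566)) (.node (.leaf 1835) (.leaf 3024))) (.node (.node (.leaf 443) (.leaf 2057)) (.node (.leaf 1402) (.leaf 4042)))) (.node (.node (.node (.leaf 758) (.leaf 3217)) (.node (.leaf 2169) (.leaf 3944))) (.node (.node (.leaf 1503) (.leaf 2314)) (.node (.leaf 1498) (.leaf 3806))))))) (.node (.node (.node (.node (.node (.node (.leaf 21) (.leaf 1466)) (.node (.leaf 1631) (.leaf 3689))) (.node (.node (.leaf 901) (.leaf 1902)) (.node (.leaf 2277) (.leaf 3813)))) (.node (.node (.node (.leaf 518) (.leaf 1661)) (.node (.leaf 852) (.leaf 2752))) (.node (.node (.leaf 1278) (.leaf 3509)) (.node (.leaf 2447) (.leaf 3418))))) (.node (.node (.node (.node (.leaf 89) (.leaf 1536)) (.node (.leaf 764) (.leaf 2630))) (.node (.node (.leaf 422) (.leaf 2039)) (.node (.leaf 2382) (.leaf 3293)))) (.node (.node (.node (.leaf 705) (.leaf 1782)) (.node (.leaf 2128) (.leaf 2861))) (.node (.node (.leaf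 1458) (.leaf 3598)) (.node (.leaf 1332) (.leaf 3732)))))) (.node (.node (.node (.node (.node (.leaf 54) (.leaf 1482)) (.node (.leaf 1715) (.leaf 2482))) (.node (.node (.leaf 995) (.leaf 1951)) (.node (.leaf 2332) (.leaf 3262)))) (.node (.node (.node (.leaf 615) (.leaf 3103)) (.node (.leaf 2045) (.leaf 3897))) (.node (.node (.leaf 550) (.leaf 2197)) (.node (.leaf 1281) (.leaf 4078))))) (.node (.node (.node (.node (.leaf 126) (.leaf 1596)) (.node (.leaf 1828) (.leaf 3743))) (.node (.node (.leaf 1187) (.leaf 3420)) (.node (.leaf 1189) (.leaf 3302)))) (.node (.node (.node (.leaf 291) (.leaf 1910)) (.node (.leaf 2204) (.leaf 2955))) (.node (.node (.leaf 1549) (.leaf 3637)) (.node (.leaf 1467) (.leaf 4071))))))))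

def twoNext72 : Janko.Tree (ℕ) :=
  (.node (.node (.node (.node (.node (.node (.node (.leaf 12) (.leaf 1488)) (.node (.leaf 1594) (.leaf 3654))) (.node (.node (.leaf 316) (.leaf 1869)) (.node (.leaf 2242) (.leaf 2999)))) (.node (.node (.node (.leaf 467) (.leaf 3020)) (.node (.leaf 993) (.leaf 3849))) (.node (.node (.leaf 484) (.leaf 2116)) (.node (.leaf 2447) (.leaf 3372))))) (.node (.node (.node (.node (.leaf 269) (.leaf 2805)) (.node (.leaf 1752) (.leaf 3760))) (.node (.node (.leaf 401) (.leaf 1986)) (.node (.leaf 1110) (.leaf 3172)))) (.node (.node (.node (.leaf 531) (.leaf 3145)) (.node (.leaf 920) (.leaf 2817))) (.node (.node (.leaf 1151) (.leaf 2238)) (.node (.leaf 2659) (.leaf 3935)))))) (.node (.node (.node (.node (.node (.leaf 161) (.leaf 2744)) (.node (.leaf 1356) (.leaf 2493))) (.node (.node (.leaf 948) (.leaf 1922)) (.node (.leaf 1064) (.leaf 3110)))) (.node (.node (.node (.leaf 478) (.leaf 1701)) (.node (.leaf 1112) (.leaf 2750))) (.node (.node (.leaf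 681) (.leaf 3318)) (.node (.leaf 1648) (.leaf 3496))))) (.node (.node (.node (.node (.leaf 110) (.leaf 1582)) (.node (.leaf 904) (.leaf 2584))) (.node (.node (.leaf 1136) (.leaf 3420)) (.node (.leaf 1423) (.leaf 3268)))) (.node (.node (.node (.leaf 273) (.leaf 1809)) (.node (.leaf 969) (.leaf 3808))) (.node (.node (.leaf 614) (.leaf 3370)) (.node (.leaf 2713) (.leaf 3951))))))) (.node (.node (.node (.node (.node (.node (.leaf 103) (.leaf 2667)) (.node (.leaf 1630) (.leaf 2432))) (.node (.node (.leaf 902) (.leaf 3301)) (.node (.leaf 1037) (.leaf 3057)))) (.node (.node (.node (.leaf 168) (.leaf 1673)) (.node (.leaf 1018) (.leaf 2705))) (.node (.node (.leaf 1264) (.leaf 2136)) (.node (.leaf 1244) (.leaf 3429))))) (.node (.node (.node (.node (.leaf 133) (.leaf 1539)) (.node (.leaf 768) (.leaf 2620))) (.node (.node (.leaf 1089) (.leaf 2024)) (.node (.leaf 1839) (.leaf 3627)))) (.node (.node (.node (.leaf 499) (.leaf 3184)) (.node (.leaf 2126) (.leaf 3733))) (.node (.node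 (.leaf 615) (.leaf 3221)) (.node (.leaf 1334) (.leaf 3927)))))) (.node (.node (.node (.node (.node (.leaf 200) (.leaf 2893)) (.node (.leaf 1696) (.leaf 3069))) (.node (.node (.leaf 995) (.leaf 2188)) (.node (.leaf 2340) (.leaf 3139)))) (.node (.node (.node (.leaf 592) (.leaf 2170)) (.node (.leaf 2026) (.leaf 3902))) (.node (.node (.leaf 559) (.leaf 2204)) (.node (.leaf 2623) (.leaf 4059))))) (.node (.node (.node (.node (.leaf 317) (.leaf 1600)) (.node (.leaf 1743) (.leaf 3754))) (.node (.node (.leaf 464) (.leaf 3427)) (.node (.leaf 1278) (.leaf 3305)))) (.node (.node (.node (.leaf 804) (.leaf 1883)) (.node (.leaf 2202) (.leaf 2949))) (.node (.node (.leaf 638) (.leaf 3635)) (.node (.leaf 2749) (.leaf 3994))))))))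

def twoNext73 : Janko.Tree (ℕ) :=
  (.node (.node (.node (.node (.node (.node (.node (.leaf 42) (.leaf 2781)) (.node (.leaf 655) (.leaf 2408))) (.node (.node (.leaf 854) (.leaf 1861)) (.node (.leaf 1024) (.leaf 3922)))) (.node (.node (.node (.leaf 464) (.leaf 2960)) (.node (.leaf 829) (.leaf 3848))) (.node (.node (.leaf 1233) (.leaf 3431)) (.node (.leaf 2517) (.leaf 3996))))) (.node (.node (.node (.node (.leaf 271) (.leaf 1513)) (.node (.leaf 1753) (.leaf 2514))) (.node (.node (.leaf 1045) (.leaf 3379)) (.node (.leaf 2116) (.leaf 3190)))) (.node (.node (.node (.leaf 233) (.leaf 1762)) (.node (.leaf 2082) (.leaf 2814))) (.node (.node (.leaf 568) (.leaf 2235)) (.node (.leaf 1307) (.leaf 3665)))))) (.node (.node (.node (.node (.node (.leaf 45) (.leaf 2859)) (.node (.leaf 1677) (.leaf 3718))) (.node (.node (.leaf 916) (.leaf 3328)) (.node (.leaf 1061) (.leaf 3161)))) (.node (.node (.node (.leaf 562) (.leaf 3068)) (.node (.leaf 872) (.leaf 3883))) (.node (.node (.leaf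 528) (.leaf 3533)) (.node (.leaf 2595) (.leaf 3602))))) (.node (.node (.node (.node (.leaf 374) (.leaf 1704)) (.node (.leaf 787) (.leaf 3769))) (.node (.node (.leaf 444) (.leaf 2058)) (.node (.leaf 1165) (.leaf 4043)))) (.node (.node (.node (.leaf 759) (.leaf 3218)) (.node (.leaf 2170) (.leaf 2946))) (.node (.node (.leaf 1504) (.leaf 3620)) (.node (.leaf 2720) (.leaf 4092))))))) (.node (.node (.node (.node (.node (.node (.leaf 22) (.leaf 2822)) (.node (.leaf 1632) (.leaf 2487))) (.node (.node (.leaf 338) (.leaf 1890)) (.node (.leaf 2278) (.leaf 3970)))) (.node (.node (.node (.leaf 519) (.leaf 1662)) (.node (.leaf 853) (.leaf 3671))) (.node (.node (.leaf 1279) (.leaf 3510)) (.node (.leaf 1239) (.leaf 3419))))) (.node (.node (.node (.node (.leaf 324) (.leaf 2953)) (.node (.leaf 765) (.leaf 2546))) (.node (.node (.leaf 423) (.leaf 3107)) (.node (.leaf 1137) (.leaf 4027)))) (.node (.node (.node (.leaf 706) (.leaf 1783)) (.node (.leaf 2124) (.leaf 2864))) (.node (.node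 (.leaf 1459) (.leaf 2280)) (.node (.leaf 2560) (.leaf 3849)))))) (.node (.node (.node (.node (.node (.leaf 55) (.leaf 1484)) (.node (.leaf 725) (.leaf 2485))) (.node (.node (.leaf 421) (.leaf 1952)) (.node (.leaf 2341) (.leaf 4003)))) (.node (.node (.node (.leaf 607) (.leaf 3099)) (.node (.leaf 2046) (.leaf 2995))) (.node (.node (.leaf 551) (.leaf 3558)) (.node (.leaf 2625) (.leaf 4079))))) (.node (.node (.node (.node (.leaf 422) (.leaf 1597)) (.node (.leaf 811) (.leaf 2626))) (.node (.node (.leaf 1188) (.leaf 2083)) (.node (.leaf 2473) (.leaf 4052)))) (.node (.node (.node (.leaf 293) (.leaf 3250)) (.node (.leaf 2200) (.leaf 3934))) (.node (.node (.leaf 1550) (.leaf 3626)) (.node (.leaf 1384) (.leaf 4058))))))))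

def twoNext74 : Janko.Tree (ℕ) :=
  (.node (.node (.node (.node (.node (.node (.node (.leaf 7) (.leaf 1411)) (.node (.leaf 659) (.leaf 3655))) (.node (.node (.leaf 314) (.leaf 3278)) (.node (.leaf 1012) (.leaf 3068)))) (.node (.node (.node (.leaf 469) (.leaf 3025)) (.node (.leaf 927) (.leaf 2661))) (.node (.node (.leaf 483) (.leaf 3334)) (.node (.leaf 1214) (.leaf 3360))))) (.node (.node (.node (.node (.leaf 270) (.leaf 2804)) (.node (.leaf 1016) (.leaf 3761))) (.node (.node (.leaf 400) (.leaf 3378)) (.node (.leaf 1109) (.leaf 3171)))) (.node (.node (.node (.leaf 660) (.leaf 3146)) (.node (.leaf 1743) (.leaf 2889))) (.node (.node (.leaf 1419) (.leaf 3531)) (.node (.leaf 2660) (.leaf 3886)))))) (.node (.node (.node (.node (.node (.leaf 163) (.leaf 2858)) (.node (.leaf 1384) (.leaf 3713))) (.node (.node (.leaf 361) (.leaf 2285)) (.node (.leaf 1067) (.leaf 3534)))) (.node (.node (.node (.leaf 188) (.leaf 3076)) (.node (.leaf 1917) (.leaf 2749))) (.node (.node (.leaf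 1326) (.leaf 2166)) (.node (.leaf 1259) (.leaf 3490))))) (.node (.node (.node (.node (.leaf 375) (.leaf 1568)) (.node (.leaf 924) (.leaf 2583))) (.node (.node (.leaf 1137) (.leaf 3419)) (.node (.leaf 1422) (.leaf 3258)))) (.node (.node (.node (.leaf 272) (.leaf 1807)) (.node (.leaf 968) (.leaf 3944))) (.node (.node (.leaf 1498) (.leaf 2316)) (.node (.leaf 1355) (.leaf 3827))))))) (.node (.node (.node (.node (.node (.node (.leaf 104) (.leaf 1466)) (.node (.leaf 1631) (.leaf 3690))) (.node (.node (.leaf 903) (.leaf 3302)) (.node (.leaf 1036) (.leaf 3056)))) (.node (.node (.node (.leaf 520) (.leaf 3054)) (.node (.leaf 1017) (.leaf 2706))) (.node (.node (.leaf 1278) (.leaf 3392)) (.node (.leaf 2529) (.leaf 3439))))) (.node (.node (.node (.node (.leaf 91) (.leaf 2952)) (.node (.leaf 796) (.leaf 3790))) (.node (.node (.leaf 1090) (.leaf 2033)) (.node (.leaf 2398) (.leaf 3293)))) (.node (.node (.node (.leaf 251) (.leaf 1785)) (.node (.leaf 2128) (.leaf 2874))) (.node (.node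 (.leaf 592) (.leaf 3220)) (.node (.leaf 2688) (.leaf 3738)))))) (.node (.node (.node (.node (.node (.leaf 218) (.leaf 2894)) (.node (.leaf 1715) (.leaf 3737))) (.node (.node (.leaf 396) (.leaf 3355)) (.node (.leaf 1087) (.leaf 3262)))) (.node (.node (.node (.leaf 615) (.leaf 1735)) (.node (.leaf 2045) (.leaf 2784))) (.node (.node (.leaf 1375) (.leaf 2202)) (.node (.leaf 1283) (.leaf 3562))))) (.node (.node (.node (.node (.leaf 128) (.leaf 2637)) (.node (.leaf 920) (.leaf 3799))) (.node (.node (.leaf 1187) (.leaf 3462)) (.node (.leaf 1264) (.leaf 3558)))) (.node (.node (.node (.leaf 805) (.leaf 3239)) (.node (.leaf 2204) (.leaf 2954))) (.node (.node (.leaf 1551) (.leaf 3637)) (.node (.leaf 2750) (.leaf 3988))))))))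

def twoNext75 : Janko.Tree (ℕ) :=
  (.node (.node (.node (.node (.node (.node (.node (.leaf 6) (.leaf 2406)) (.node (.leaf 1595) (.leaf 3656))) (.node (.node (.leaf 313) (.leaf 1867)) (.node (.leaf 1011) (.leaf 2997)))) (.node (.node (.node (.leaf 147) (.leaf 1629)) (.node (.leaf 926) (.leaf 2660))) (.node (.node (.leaf 509) (.leaf 2108)) (.node (.leaf 2462) (.leaf 3412))))) (.node (.node (.node (.node (.leaf 73) (.leaf 2926)) (.node (.leaf 741) (.leaf 3762))) (.node (.node (.leaf 855) (.leaf 1985)) (.node (.leaf 2371) (.leaf 4013)))) (.node (.node (.node (.leaf 228) (.leaf 3147)) (.node (.leaf 918) (.leaf 3841))) (.node (.node (.leaf 1149) (.leaf 3318)) (.node (.leaf 2661) (.leaf 3885)))))) (.node (.node (.node (.node (.node (.leaf 38) (.leaf 1459)) (.node (.leaf 699) (.leaf 2457))) (.node (.node (.leaf 356) (.leaf 3329)) (.node (.leaf 2311) (.leaf 3102)))) (.node (.node (.node (.leaf 187) (.leaf 3077)) (.node (.leaf 1916) (.leaf 3866))) (.node (.node (.leaf 657)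 (.leaf 2238)) (.node (.leaf 2596) (.leaf 3495))))) (.node (.node (.node (.node (.leaf 376) (.leaf 2979)) (.node (.leaf 902) (.leaf 3804))) (.node (.node (.leaf 1138) (.leaf 3428)) (.node (.leaf 2431) (.leaf 3266)))) (.node (.node (.node (.leaf 760) (.leaf 1806)) (.node (.leaf 2171) (.leaf 2903))) (.node (.node (.leaf 1391) (.leaf 2404)) (.node (.leaf 1354) (.leaf 3809))))))) (.node (.node (.node (.node (.node (.node (.leaf 105) (.leaf 1437)) (.node (.leaf 679) (.leaf 3683))) (.node (.node (.leaf 904) (.leaf 3303)) (.node (.leaf 2279) (.leaf 3973)))) (.node (.node (.node (.leaf 246) (.leaf 1671)) (.node (.leaf 1965) (.leaf 2704))) (.node (.node (.leaf 506) (.leaf 2243)) (.node (.leaf 2553) (.leaf 4051))))) (.node (.node (.node (.node (.leaf 325) (.leaf 1538)) (.node (.leaf 1791) (.leaf 2627))) (.node (.node (.leaf 1091) (.leaf 2023)) (.node (.leaf 1837) (.leaf 3218)))) (.node (.node (.node (.leaf 470) (.leaf 3185)) (.node (.leaf 945) (.leaf 2873))) (.node (.node (.leaf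 613) (.leaf 3599)) (.node (.leaf 2690) (.leaf 4088)))))) (.node (.node (.node (.node (.node (.leaf 219) (.leaf 2895)) (.node (.leaf 722) (.leaf 2539))) (.node (.node (.leaf 377) (.leaf 3356)) (.node (.leaf 2342) (.leaf 3129)))) (.node (.node (.node (.leaf 208) (.leaf 3104)) (.node (.leaf 895) (.leaf 3903))) (.node (.node (.leaf 1376) (.leaf 2201)) (.node (.leaf 2626) (.leaf 3595))))) (.node (.node (.node (.node (.leaf 423) (.leaf 3003)) (.node (.leaf 919) (.leaf 3798))) (.node (.node (.leaf 462) (.leaf 3463)) (.node (.leaf 1191) (.leaf 4055)))) (.node (.node (.node (.leaf 806) (.leaf 1836)) (.node (.leaf 992) (.leaf 2948))) (.node (.node (.leaf 1552) (.leaf 2357)) (.node (.leaf 2751) (.leaf 3993))))))))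

def twoNext76 : Janko.Tree (ℕ) :=
  (.node (.node (.node (.node (.node (.node (.node (.leaf 43) (.leaf 2775)) (.node (.leaf 1593) (.leaf 2409))) (.node (.node (.leaf 402) (.leaf 1862)) (.node (.leaf 1013) (.leaf 3732)))) (.node (.node (.node (.leaf 159) (.leaf 3000)) (.node (.leaf 931) (.leaf 2677))) (.node (.node (.leaf 485) (.leaf 3319)) (.node (.leaf 2518) (.leaf 3362))))) (.node (.node (.node (.node (.leaf 272) (.leaf 2570)) (.node (.leaf 1751) (.leaf 3707))) (.node (.node (.leaf 1046) (.leaf 3380)) (.node (.leaf 1111) (.leaf 4013)))) (.node (.node (.node (.leaf 661) (.leaf 1763)) (.node (.leaf 2083) (.leaf 2889))) (.node (.node (.leaf 569) (.leaf 2236)) (.node (.leaf 1323) (.leaf 3671)))))) (.node (.node (.node (.node (.node (.leaf 58) (.leaf 2860)) (.node (.leaf 1678) (.leaf 3712))) (.node (.node (.leaf 949) (.leaf 2285)) (.node (.leaf 1063) (.leaf 3521)))) (.node (.node (.node (.leaf 563) (.leaf 3076)) (.node (.leaf 873) (.leaf 2936))) (.node (.node (.leaf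 529) (.leaf 3531)) (.node (.leaf 2594) (.leaf 3562))))) (.node (.node (.node (.node (.leaf 375) (.leaf 2446)) (.node (.leaf 788) (.leaf 3661))) (.node (.node (.leaf 445) (.leaf 2059)) (.node (.leaf 1166) (.leaf 3260)))) (.node (.node (.node (.leaf 274) (.leaf 1808)) (.node (.leaf 970) (.leaf 3688))) (.node (.node (.leaf 1391) (.leaf 3371)) (.node (.leaf 2721) (.leaf 3894))))))) (.node (.node (.node (.node (.node (.node (.leaf 23) (.leaf 2821)) (.node (.leaf 1633) (.leaf 3690))) (.node (.node (.leaf 339) (.leaf 1905)) (.node (.leaf 1038) (.leaf 3058)))) (.node (.node (.node (.leaf 520) (.leaf 1663)) (.node (.leaf 854) (.leaf 2877))) (.node (.node (.leaf 1280) (.leaf 3392)) (.node (.leaf 1241) (.leaf 3439))))) (.node (.node (.node (.node (.leaf 134) (.leaf 2954)) (.node (.leaf 767) (.leaf 3780))) (.node (.node (.leaf 849) (.leaf 2384)) (.node (.leaf 2382) (.leaf 3252)))) (.node (.node (.node (.leaf 257) (.leaf 3182)) (.node (.leaf 2129) (.leaf 2865))) (.node (.node (.leaf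 636) (.leaf 2281)) (.node (.leaf 2690) (.leaf 3928)))))) (.node (.node (.node (.node (.node (.leaf 56) (.leaf 1485)) (.node (.leaf 726) (.leaf 2486))) (.node (.node (.leaf 955) (.leaf 2019)) (.node (.leaf 2332) (.leaf 3984)))) (.node (.node (.node (.leaf 209) (.leaf 3103)) (.node (.leaf 2030) (.leaf 3897))) (.node (.node (.leaf 552) (.leaf 2212)) (.node (.leaf 2609) (.leaf 4073))))) (.node (.node (.node (.node (.leaf 318) (.leaf 1599)) (.node (.leaf 812) (.leaf 3037))) (.node (.node (.leaf 1189) (.leaf 3130)) (.node (.leaf 1453) (.leaf 4055)))) (.node (.node (.node (.leaf 434) (.leaf 3238)) (.node (.leaf 2205) (.leaf 3806))) (.node (.node (.leaf 1551) (.leaf 3237)) (.node (.leaf 1385) (.leaf 4069))))))))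

def twoNext77 : Janko.Tree (ℕ) :=
  (.node (.node (.node (.node (.node (.node (.node (.leaf 7) (.leaf 1412)) (.node (.leaf 668) (.leaf 3657))) (.node (.node (.leaf 314) (.leaf 3259)) (.node (.leaf 2246) (.leaf 3000)))) (.node (.node (.node (.leaf 148) (.leaf 1631)) (.node (.leaf 830) (.leaf 3850))) (.node (.node (.leaf 1234) (.leaf 2110)) (.node (.leaf 1215) (.leaf 3990))))) (.node (.node (.node (.node (.leaf 74) (.leaf 2927)) (.node (.leaf 742) (.leaf 2515))) (.node (.node (.leaf 401) (.leaf 1986)) (.node (.leaf 2372) (.leaf 4016)))) (.node (.node (.node (.leaf 229) (.leaf 3148)) (.node (.leaf 920) (.leaf 3919))) (.node (.node (.leaf 1420) (.leaf 3579)) (.node (.leaf 1308) (.leaf 3873)))))) (.node (.node (.node (.node (.node (.leaf 39) (.leaf 1460)) (.node (.leaf 700) (.leaf 2458))) (.node (.node (.leaf 358) (.leaf 1924)) (.node (.leaf 2312) (.leaf 3104)))) (.node (.node (.node (.leaf 188) (.leaf 3078)) (.node (.leaf 1877) (.leaf 2750))) (.node (.node (.leaf 1327)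 (.leaf 3370)) (.node (.leaf 1262) (.leaf 3493))))) (.node (.node (.node (.node (.leaf 377) (.leaf 2980)) (.node (.leaf 1836) (.leaf 2584))) (.node (.node (.leaf 1139) (.leaf 3429)) (.node (.leaf 2432) (.leaf 4044)))) (.node (.node (.node (.leaf 761) (.leaf 3219)) (.node (.leaf 1051) (.leaf 2905))) (.node (.node (.leaf 1505) (.leaf 2318)) (.node (.leaf 1356) (.leaf 3813))))))) (.node (.node (.node (.node (.node (.node (.leaf 106) (.leaf 1438)) (.node (.leaf 680) (.leaf 2655))) (.node (.node (.leaf 905) (.leaf 3304)) (.node (.leaf 2153) (.leaf 3974)))) (.node (.node (.node (.leaf 521) (.leaf 2992)) (.node (.leaf 1846) (.leaf 2706))) (.node (.node (.leaf 507) (.leaf 3425)) (.node (.leaf 1328) (.leaf 3424))))) (.node (.node (.node (.node (.leaf 326) (.leaf 1539)) (.node (.leaf 1792) (.leaf 2722))) (.node (.node (.leaf 1092) (.leaf 2025)) (.node (.leaf 2400) (.leaf 3617)))) (.node (.node (.node (.leaf 252) (.leaf 3177)) (.node (.leaf 946) (.leaf 3930))) (.node (.node (.leaf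 593) (.leaf 3442)) (.node (.leaf 2691) (.leaf 3880)))))) (.node (.node (.node (.node (.node (.leaf 220) (.leaf 2896)) (.node (.leaf 723) (.leaf 3687))) (.node (.node (.leaf 379) (.leaf 3357)) (.node (.leaf 2339) (.leaf 3131)))) (.node (.node (.node (.leaf 616) (.leaf 2023)) (.node (.leaf 896) (.leaf 3067))) (.node (.node (.leaf 1271) (.leaf 2202)) (.node (.leaf 2627) (.leaf 3564))))) (.node (.node (.node (.node (.leaf 424) (.leaf 3004)) (.node (.leaf 1884) (.leaf 3830))) (.node (.node (.leaf 463) (.leaf 2394)) (.node (.leaf 1192) (.leaf 3408)))) (.node (.node (.node (.leaf 807) (.leaf 1837)) (.node (.leaf 993) (.leaf 3957))) (.node (.node (.leaf 1553) (.leaf 2358)) (.node (.leaf 2424) (.leaf 3991))))))))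

def twoNext78 : Janko.Tree (ℕ) :=
  (.node (.node (.node (.node (.node (.node (.node (.leaf 44) (.leaf 2782)) (.node (.leaf 656) (.leaf 2412))) (.node (.node (.leaf 855) (.leaf 1864)) (.node (.leaf 2244) (.leaf 3782)))) (.node (.node (.node (.leaf 470) (.leaf 2644)) (.node (.leaf 1929) (.leaf 2692))) (.node (.node (.leaf 509) (.leaf 2165)) (.node (.leaf 2519) (.leaf 3363))))) (.node (.node (.node (.node (.leaf 273) (.leaf 1514)) (.node (.leaf 1754) (.leaf 3706))) (.node (.node (.leaf 1042) (.leaf 3376)) (.node (.leaf 2371) (.leaf 3173)))) (.node (.node (.node (.leaf 662) (.leaf 1766)) (.node (.leaf 1886) (.leaf 2817))) (.node (.node (.leaf 573) (.leaf 2235)) (.node (.leaf 1322) (.leaf 3669)))))) (.node (.node (.node (.node (.node (.leaf 164) (.leaf 2861)) (.node (.leaf 1679) (.leaf 3715))) (.node (.node (.leaf 950) (.leaf 1922)) (.node (.leaf 1070) (.leaf 3417)))) (.node (.node (.node (.leaf 564) (.leaf 1701)) (.node (.leaf 872) (.leaf 2924))) (.node (.node (.leaf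 1306) (.leaf 2238)) (.node (.leaf 2596) (.leaf 4059))))) (.node (.node (.node (.node (.leaf 110) (.leaf 2979)) (.node (.leaf 794) (.leaf 3660))) (.node (.node (.leaf 1140) (.leaf 3231)) (.node (.leaf 1172) (.leaf 3261)))) (.node (.node (.node (.leaf 760) (.leaf 1812)) (.node (.leaf 2171) (.leaf 3687))) (.node (.node (.leaf 1499) (.leaf 2404)) (.node (.leaf 2722) (.leaf 3900))))))) (.node (.node (.node (.node (.node (.node (.leaf 107) (.leaf 2823)) (.node (.leaf 1634) (.leaf 2432))) (.node (.node (.leaf 906) (.leaf 1891)) (.node (.leaf 2279) (.leaf 3973)))) (.node (.node (.node (.leaf 168) (.leaf 2668)) (.node (.leaf 1966) (.leaf 2748))) (.node (.node (.leaf 1281) (.leaf 2136)) (.node (.leaf 2531) (.leaf 3429))))) (.node (.node (.node (.node (.leaf 325) (.leaf 2949)) (.node (.leaf 799) (.leaf 3084))) (.node (.node (.leaf 424) (.leaf 3400)) (.node (.leaf 1138) (.leaf 3622)))) (.node (.node (.node (.leaf 534) (.leaf 1784)) (.node (.leaf 2127) (.leaf 3850))) (.node (.node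 (.leaf 635) (.leaf 2294)) (.node (.leaf 2689) (.leaf 4088)))))) (.node (.node (.node (.node (.node (.leaf 55) (.leaf 2633)) (.node (.leaf 1716) (.leaf 3013))) (.node (.node (.leaf 952) (.leaf 1953)) (.node (.leaf 2342) (.leaf 4004)))) (.node (.node (.node (.leaf 617) (.leaf 3104)) (.node (.leaf 959) (.leaf 3903))) (.node (.node (.leaf 551) (.leaf 3559)) (.node (.leaf 2626) (.leaf 3595))))) (.node (.node (.node (.node (.leaf 423) (.leaf 2638)) (.node (.leaf 1080) (.leaf 2627))) (.node (.node (.leaf 1183) (.leaf 3125)) (.node (.leaf 2474) (.leaf 4050)))) (.node (.node (.node (.leaf 294) (.leaf 3244)) (.node (.leaf 2203) (.leaf 2950))) (.node (.node (.leaf 638) (.leaf 3636)) (.node (.leaf 2752) (.leaf 4076))))))))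

def twoNext79 : Janko.Tree (ℕ) :=
  (.node (.node (.node (.node (.node (.node (.node (.leaf 45) (.leaf 2783)) (.node (.leaf 655) (.leaf 2915))) (.node (.node (.leaf 400) (.leaf 3279)) (.node (.leaf 2247) (.leaf 3925)))) (.node (.node (.node (.leaf 251) (.leaf 2643)) (.node (.leaf 1930) (.leaf 2663))) (.node (.node (.leaf 483) (.leaf 2164)) (.node (.leaf 2520) (.leaf 3361))))) (.node (.node (.node (.node (.leaf 274) (.leaf 2928)) (.node (.leaf 1755) (.leaf 3763))) (.node (.node (.leaf 1047) (.leaf 2310)) (.node (.leaf 1109) (.leaf 3172)))) (.node (.node (.node (.leaf 663) (.leaf 2312)) (.node (.leaf 1896) (.leaf 2869))) (.node (.node (.leaf 1421) (.leaf 3388)) (.node (.leaf 2662) (.leaf 3668)))))) (.node (.node (.node (.node (.node (.leaf 165) (.leaf 2862)) (.node (.leaf 1680) (.leaf 3719))) (.node (.node (.leaf 951) (.leaf 2323)) (.node (.leaf 1061) (.leaf 3416)))) (.node (.node (.node (.leaf 565) (.leaf 3079)) (.node (.leaf 2012) (.leaf 2917))) (.node (.node (.leaf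 1328) (.leaf 2166)) (.node (.leaf 1259) (.leaf 4073))))) (.node (.node (.node (.node (.leaf 378) (.leaf 1568)) (.node (.leaf 820) (.leaf 3659))) (.node (.node (.leaf 1128) (.leaf 2266)) (.node (.leaf 1165) (.leaf 3259)))) (.node (.node (.node (.leaf 272) (.leaf 2341)) (.node (.leaf 968) (.leaf 3945))) (.node (.node (.leaf 614) (.leaf 2316)) (.node (.leaf 2723) (.leaf 3890))))))) (.node (.node (.node (.node (.node (.node (.leaf 108) (.leaf 2824)) (.node (.leaf 1635) (.leaf 3691))) (.node (.node (.leaf 907) (.leaf 1903)) (.node (.leaf 1036) (.leaf 3056)))) (.node (.node (.node (.leaf 522) (.leaf 3055)) (.node (.leaf 1967) (.leaf 2876))) (.node (.node (.leaf 1282) (.leaf 2269)) (.node (.leaf 1239) (.leaf 3594))))) (.node (.node (.node (.node (.leaf 91) (.leaf 2822)) (.node (.leaf 765) (.leaf 2547))) (.node (.node (.leaf 838) (.leaf 3401)) (.node (.leaf 1137) (.leaf 3219)))) (.node (.node (.node (.leaf 707) (.leaf 1783)) (.node (.leaf 2130) (.leaf 2964))) (.node (.node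 (.leaf 1460) (.leaf 2280)) (.node (.leaf 1334) (.leaf 3738)))))) (.node (.node (.node (.node (.node (.leaf 221) (.leaf 2897)) (.node (.leaf 1700) (.leaf 3736))) (.node (.node (.leaf 996) (.leaf 2049)) (.node (.leaf 1087) (.leaf 4003)))) (.node (.node (.node (.leaf 618) (.leaf 1735)) (.node (.leaf 2047) (.leaf 2784))) (.node (.node (.leaf 1377) (.leaf 2210)) (.node (.leaf 1283) (.leaf 3562))))) (.node (.node (.node (.node (.leaf 128) (.leaf 1597)) (.node (.leaf 1885) (.leaf 3790))) (.node (.node (.leaf 1190) (.leaf 2084)) (.node (.leaf 2475) (.leaf 3305)))) (.node (.node (.node (.leaf 293) (.leaf 3251)) (.node (.leaf 2206) (.leaf 3958))) (.node (.node (.leaf 1554) (.leaf 3235)) (.node (.leaf 2703) (.leaf 4095))))))))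

def twoNext80 : Janko.Tree (ℕ) :=
  (.node (.node (.node (.node (.node (.node (.node (.leaf 33) (.leaf 1413)) (.node (.leaf 1294) (.leaf 2412))) (.node (.node (.leaf 315) (.leaf 3279)) (.node (.leaf 2247) (.leaf 3839)))) (.node (.node (.node (.leaf 149) (.leaf 2622)) (.node (.leaf 831) (.leaf 3851))) (.node (.node (.leaf 1235) (.leaf 2112)) (.node (.leaf 1216) (.leaf 3518))))) (.node (.node (.node (.node (.leaf 75) (.leaf 2572)) (.node (.leaf 743) (.leaf 2517))) (.node (.node (.leaf 855) (.leaf 1990)) (.node (.leaf 2373) (.leaf 3603)))) (.node (.node (.node (.leaf 230) (.leaf 1766)) (.node (.leaf 1740) (.leaf 3841))) (.node (.node (.leaf 1421) (.leaf 3509)) (.node (.leaf 1309) (.leaf 3678)))))) (.node (.node (.node (.node (.node (.leaf 40) (.leaf 1461)) (.node (.leaf 1254) (.leaf 2460))) (.node (.node (.leaf 359) (.leaf 3329)) (.node (.leaf 2313) (.leaf 3106)))) (.node (.node (.node (.leaf 189) (.leaf 3077)) (.node (.leaf 874) (.leaf 3852))) (.node (.node (.leaf 1306)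 (.leaf 3109)) (.node (.leaf 1690) (.leaf 3551))))) (.node (.node (.node (.node (.leaf 376) (.leaf 2444)) (.node (.leaf 1837) (.leaf 3804))) (.node (.node (.leaf 1140) (.leaf 3231)) (.node (.leaf 1167) (.leaf 3468)))) (.node (.node (.node (.leaf 762) (.leaf 2341)) (.node (.leaf 2172) (.leaf 3842))) (.node (.node (.leaf 1419) (.leaf 3246)) (.node (.leaf 1357) (.leaf 3818))))))) (.node (.node (.node (.node (.node (.node (.leaf 107) (.leaf 2823)) (.node (.leaf 1326) (.leaf 3683))) (.node (.node (.leaf 906) (.leaf 1893)) (.node (.leaf 2280) (.leaf 3779)))) (.node (.node (.node (.leaf 246) (.leaf 3055)) (.node (.leaf 1966) (.leaf 2707))) (.node (.node (.leaf 508) (.leaf 2243)) (.node (.leaf 2531) (.leaf 3992))))) (.node (.node (.node (.node (.leaf 327) (.leaf 1540)) (.node (.leaf 1793) (.leaf 3763))) (.node (.node (.leaf 1093) (.leaf 2045)) (.node (.leaf 1143) (.leaf 4009)))) (.node (.node (.node (.leaf 254) (.leaf 1785)) (.node (.leaf 1008) (.leaf 3850))) (.node (.node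 (.leaf 594) (.leaf 3180)) (.node (.leaf 2669) (.leaf 3929)))))) (.node (.node (.node (.node (.node (.leaf 57) (.leaf 2633)) (.node (.leaf 724) (.leaf 3013))) (.node (.node (.leaf 942) (.leaf 2038)) (.node (.leaf 1088) (.leaf 3253)))) (.node (.node (.node (.leaf 617) (.leaf 3105)) (.node (.leaf 2025) (.leaf 2787))) (.node (.node (.leaf 553) (.leaf 2203)) (.node (.leaf 2613) (.leaf 4005))))) (.node (.node (.node (.node (.leaf 328) (.leaf 2637)) (.node (.leaf 1080) (.leaf 2989))) (.node (.node (.leaf 1187) (.leaf 2086)) (.node (.leaf 1237) (.leaf 3593)))) (.node (.node (.node (.leaf 388) (.leaf 2398)) (.node (.leaf 2174) (.leaf 3807))) (.node (.node (.leaf 1552) (.leaf 3638)) (.node (.leaf 2752) (.leaf 4040))))))))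

def twoNext81 : Janko.Tree (ℕ) :=
  (.node (.node (.node (.node (.node (.node (.node (.leaf 8) (.leaf 2784)) (.node (.leaf 1596) (.leaf 3655))) (.node (.node (.leaf 856) (.leaf 3271)) (.node (.leaf 2248) (.leaf 3968)))) (.node (.node (.node (.leaf 471) (.leaf 1635)) (.node (.leaf 1931) (.leaf 2664))) (.node (.node (.leaf 484) (.leaf 2125)) (.node (.leaf 2521) (.leaf 3363))))) (.node (.node (.node (.node (.leaf 275) (.leaf 2926)) (.node (.leaf 1756) (.leaf 3764))) (.node (.node (.leaf 1048) (.leaf 3338)) (.node (.leaf 1110) (.leaf 3174)))) (.node (.node (.node (.leaf 664) (.leaf 3146)) (.node (.leaf 2084) (.leaf 3920))) (.node (.node (.leaf 594) (.leaf 2239)) (.node (.leaf 2488) (.leaf 3669)))))) (.node (.node (.node (.node (.node (.leaf 166) (.leaf 2795)) (.node (.leaf 701) (.leaf 2805))) (.node (.node (.leaf 952) (.leaf 3312)) (.node (.leaf 1063) (.leaf 3115)))) (.node (.node (.node (.leaf 566) (.leaf 2976)) (.node (.leaf 2013) (.leaf 2752))) (.node (.node (.leaf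 1323) (.leaf 2168)) (.node (.leaf 1260) (.leaf 4073))))) (.node (.node (.node (.node (.leaf 113) (.leaf 1569)) (.node (.leaf 789) (.leaf 3811))) (.node (.node (.leaf 1141) (.leaf 2063)) (.node (.leaf 2433) (.leaf 3261)))) (.node (.node (.node (.leaf 273) (.leaf 1825)) (.node (.leaf 969) (.leaf 3014))) (.node (.node (.leaf 615) (.leaf 2317)) (.node (.leaf 2724) (.leaf 3826))))))) (.node (.node (.node (.node (.node (.node (.leaf 27) (.leaf 1439)) (.node (.leaf 1636) (.leaf 3689))) (.node (.node (.leaf 908) (.leaf 3305)) (.node (.leaf 1037) (.leaf 3057)))) (.node (.node (.node (.leaf 514) (.leaf 3049)) (.node (.leaf 1968) (.leaf 3868))) (.node (.node (.leaf 1283) (.leaf 3509)) (.node (.leaf 2554) (.leaf 3426))))) (.node (.node (.node (.node (.leaf 92) (.leaf 1671)) (.node (.leaf 767) (.leaf 2548))) (.node (.node (.leaf 425) (.leaf 3402)) (.node (.leaf 2268) (.leaf 3220)))) (.node (.node (.node (.leaf 708) (.leaf 3119)) (.node (.leaf 2131) (.leaf 3894))) (.node (.node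 (.leaf 1461) (.leaf 2283)) (.node (.leaf 1335) (.leaf 3740)))))) (.node (.node (.node (.node (.node (.leaf 222) (.leaf 2894)) (.node (.leaf 1577) (.leaf 2670))) (.node (.node (.leaf 997) (.leaf 1954)) (.node (.leaf 2085) (.leaf 4005)))) (.node (.node (.node (.leaf 619) (.leaf 1736)) (.node (.leaf 2048) (.leaf 3904))) (.node (.node (.leaf 1378) (.leaf 2224)) (.node (.leaf 1284) (.leaf 3568))))) (.node (.node (.node (.node (.leaf 129) (.leaf 3005)) (.node (.leaf 1886) (.leaf 2628))) (.node (.node (.leaf 1159) (.leaf 3464)) (.node (.leaf 2476) (.leaf 3306)))) (.node (.node (.node (.leaf 294) (.leaf 3252)) (.node (.leaf 2207) (.leaf 3951))) (.node (.node (.leaf 1549) (.leaf 2359)) (.node (.leaf 2753) (.leaf 4095))))))))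

def twoNext82 : Janko.Tree (ℕ) :=
  (.node (.node (.node (.node (.node (.node (.node (.leaf 46) (.leaf 1431)) (.node (.leaf 657) (.leaf 2409))) (.node (.node (.leaf 847) (.leaf 1865)) (.node (.leaf 2245) (.leaf 3063)))) (.node (.node (.node (.leaf 148) (.leaf 2606)) (.node (.leaf 830) (.leaf 3852))) (.node (.node (.leaf 489) (.leaf 2111)) (.node (.leaf 2515) (.leaf 3512))))) (.node (.node (.node (.node (.leaf 276) (.leaf 2928)) (.node (.leaf 1747) (.leaf 2994))) (.node (.node (.leaf 402) (.leaf 1988)) (.node (.leaf 1790) (.leaf 3240)))) (.node (.node (.node (.leaf 665) (.leaf 1763)) (.node (.leaf 921) (.leaf 2869))) (.node (.node (.leaf 574) (.leaf 3580)) (.node (.leaf 1315) (.leaf 4082)))))) (.node (.node (.node (.node (.node (.leaf 39) (.leaf 2863)) (.node (.leaf 1201) (.leaf 3012))) (.node (.node (.leaf 381) (.leaf 2323)) (.node (.leaf 1989) (.leaf 3105)))) (.node (.node (.node (.leaf 567) (.leaf 3079)) (.node (.leaf 2012) (.leaf 3851))) (.node (.node (.leaf 529)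 (.leaf 3102)) (.node (.leaf 2512) (.leaf 3517))))) (.node (.node (.node (.node (.leaf 378) (.leaf 2953)) (.node (.leaf 1838) (.leaf 2585))) (.node (.node (.leaf 445) (.leaf 2059)) (.node (.leaf 1420) (.leaf 3307)))) (.node (.node (.node (.leaf 277) (.leaf 1813)) (.node (.leaf 1729) (.leaf 2906))) (.node (.node (.leaf 1151) (.leaf 2319)) (.node (.leaf 2725) (.leaf 3952))))))) (.node (.node (.node (.node (.node (.node (.leaf 23) (.leaf 2821)) (.node (.leaf 681) (.leaf 3691))) (.node (.node (.leaf 339) (.leaf 1895)) (.node (.leaf 1761) (.leaf 3059)))) (.node (.node (.node (.leaf 522) (.leaf 1670)) (.node (.leaf 854) (.leaf 3867))) (.node (.node (.leaf 1245) (.leaf 2269)) (.node (.leaf 1241) (.leaf 4039))))) (.node (.node (.node (.node (.leaf 328) (.leaf 2955)) (.node (.leaf 1123) (.leaf 3708))) (.node (.node (.leaf 1094) (.leaf 2026)) (.node (.leaf 1139) (.leaf 4010)))) (.node (.node (.node (.leaf 537) (.leaf 3184)) (.node (.leaf 1007) (.leaf 2865))) (.node (.node (.leaf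 600) (.leaf 3243)) (.node (.leaf 2663) (.leaf 3749)))))) (.node (.node (.node (.node (.node (.leaf 221) (.leaf 1485)) (.node (.leaf 723) (.leaf 2486))) (.node (.node (.leaf 380) (.leaf 3358)) (.node (.leaf 2343) (.leaf 3133)))) (.node (.node (.node (.leaf 209) (.leaf 3106)) (.node (.leaf 897) (.leaf 3777))) (.node (.node (.leaf 1377) (.leaf 2205)) (.node (.leaf 1432) (.leaf 3584))))) (.node (.node (.node (.node (.leaf 327) (.leaf 1600)) (.node (.leaf 812) (.leaf 3788))) (.node (.node (.leaf 464) (.leaf 2194)) (.node (.leaf 1193) (.leaf 4044)))) (.node (.node (.node (.leaf 808) (.leaf 1839)) (.node (.leaf 994) (.leaf 3958))) (.node (.node (.leaf 1554) (.leaf 2390)) (.node (.leaf 1385) (.leaf 4006))))))))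

def twoNext83 : Janko.Tree (ℕ) :=
  (.node (.node (.node (.node (.node (.node (.node (.leaf 47) (.leaf 1412)) (.node (.leaf 1326) (.leaf 2437))) (.node (.node (.leaf 857) (.leaf 1862)) (.node (.leaf 1013) (.leaf 3001)))) (.node (.node (.node (.leaf 256) (.leaf 1632)) (.node (.leaf 1932) (.leaf 3853))) (.node (.node (.leaf 508) (.leaf 3489)) (.node (.leaf 1718) (.leaf 3515))))) (.node (.node (.node (.node (.leaf 137) (.leaf 1514)) (.node (.leaf 742) (.leaf 3765))) (.node (.node (.leaf 401) (.leaf 1987)) (.node (.leaf 2374) (.leaf 4017)))) (.node (.node (.node (.leaf 666) (.leaf 1792)) (.node (.leaf 2085) (.leaf 2817))) (.node (.node (.leaf 569) (.leaf 3507)) (.node (.leaf 1308) (.leaf 3676)))))) (.node (.node (.node (.node (.node (.leaf 167) (.leaf 2856)) (.node (.leaf 1200) (.leaf 2458))) (.node (.node (.leaf 953) (.leaf 1922)) (.node (.leaf 1996) (.leaf 3987)))) (.node (.node (.node (.leaf 568) (.leaf 1701)) (.node (.leaf 872) (.leaf 3858))) (.node (.node (.leaf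 1329) (.leaf 3534)) (.node (.leaf 2511) (.leaf 3494))))) (.node (.node (.node (.node (.leaf 110) (.leaf 2442)) (.node (.leaf 1839) (.leaf 2584))) (.node (.node (.leaf 1142) (.leaf 3430)) (.node (.leaf 2434) (.leaf 3466)))) (.node (.node (.node (.leaf 763) (.leaf 1808)) (.node (.leaf 2173) (.leaf 3946))) (.node (.node (.leaf 1150) (.leaf 2403)) (.node (.leaf 1687) (.leaf 4089))))))) (.node (.node (.node (.node (.node (.node (.leaf 109) (.leaf 2825)) (.node (.leaf 1294) (.leaf 2432))) (.node (.node (.leaf 909) (.leaf 1892)) (.node (.leaf 2281) (.leaf 3778)))) (.node (.node (.node (.leaf 168) (.leaf 1663)) (.node (.leaf 1969) (.leaf 3022))) (.node (.node (.leaf 1235) (.leaf 2136)) (.node (.leaf 1240) (.leaf 4040))))) (.node (.node (.node (.node (.leaf 329) (.leaf 2947)) (.node (.leaf 1133) (.leaf 3707))) (.node (.node (.leaf 1095) (.leaf 2042)) (.node (.leaf 2385) (.leaf 4029)))) (.node (.node (.node (.leaf 252) (.leaf 2389)) (.node (.leaf 947) (.leaf 2986))) (.node (.node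 (.leaf 593) (.leaf 3600)) (.node (.leaf 2692) (.leaf 3748)))))) (.node (.node (.node (.node (.node (.leaf 55) (.leaf 2835)) (.node (.leaf 1702) (.leaf 3740))) (.node (.node (.leaf 379) (.leaf 2046)) (.node (.leaf 2344) (.leaf 3132)))) (.node (.node (.node (.leaf 225) (.leaf 3107)) (.node (.leaf 896) (.leaf 2785))) (.node (.node (.leaf 551) (.leaf 3560)) (.node (.leaf 2628) (.leaf 4038))))) (.node (.node (.node (.node (.leaf 425) (.leaf 1681)) (.node (.leaf 1887) (.leaf 3787))) (.node (.node (.leaf 463) (.leaf 3308)) (.node (.leaf 1226) (.leaf 4056)))) (.node (.node (.node (.leaf 343) (.leaf 1838)) (.node (.leaf 2208) (.leaf 2950))) (.node (.node (.leaf 638) (.leaf 3639)) (.node (.leaf 2720) (.leaf 3992))))))))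

def twoNext84 : Janko.Tree (ℕ) :=
  (.node (.node (.node (.node (.node (.node (.node (.leaf 9) (.leaf 2440)) (.node (.leaf 1597) (.leaf 2915))) (.node (.node (.leaf 857) (.leaf 1865)) (.node (.leaf 2191) (.leaf 3750)))) (.node (.node (.node (.leaf 472) (.leaf 1634)) (.node (.leaf 832) (.leaf 2665))) (.node (.node (.leaf 1226) (.leaf 2113)) (.node (.leaf 1718) (.leaf 3590))))) (.node (.node (.node (.node (.leaf 276) (.leaf 2552)) (.node (.leaf 1757) (.leaf 2994))) (.node (.node (.leaf 403) (.leaf 1999)) (.node (.leaf 2371) (.leaf 3506)))) (.node (.node (.node (.leaf 665) (.leaf 2312)) (.node (.leaf 2081) (.leaf 2828))) (.node (.node (.leaf 1422) (.leaf 3265)) (.node (.leaf 1310) (.leaf 3670)))))) (.node (.node (.node (.node (.node (.leaf 41) (.leaf 2863)) (.node (.leaf 702) (.leaf 3012))) (.node (.node (.leaf 381) (.leaf 1926)) (.node (.leaf 1067) (.leaf 3107)))) (.node (.node (.node (.leaf 567) (.leaf 2485)) (.node (.leaf 2014) (.leaf 3086))) (.node (.node (.leaf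 1328) (.leaf 2189)) (.node (.leaf 1261) (.leaf 4017))))) (.node (.node (.node (.node (.leaf 353) (.leaf 1570)) (.node (.leaf 1780) (.leaf 2943))) (.node (.node (.leaf 1128) (.leaf 2266)) (.node (.leaf 1420) (.leaf 4014)))) (.node (.node (.node (.leaf 760) (.leaf 3220)) (.node (.leaf 2171) (.leaf 3843))) (.node (.node (.leaf 1494) (.leaf 3247)) (.node (.leaf 2725) (.leaf 3899))))))) (.node (.node (.node (.node (.node (.node (.leaf 108) (.leaf 1466)) (.node (.leaf 687) (.leaf 2798))) (.node (.node (.leaf 907) (.leaf 1908)) (.node (.leaf 2279) (.leaf 3973)))) (.node (.node (.node (.leaf 169) (.leaf 3056)) (.node (.leaf 1967) (.leaf 2719))) (.node (.node (.leaf 1270) (.leaf 3510)) (.node (.leaf 1560) (.leaf 3464))))) (.node (.node (.node (.node (.leaf 95) (.leaf 2955)) (.node (.leaf 796) (.leaf 3700))) (.node (.node (.leaf 426) (.leaf 2027)) (.node (.leaf 2376) (.leaf 3222)))) (.node (.node (.node (.leaf 537) (.leaf 2389)) (.node (.leaf 2132) (.leaf 2964))) (.node (.node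 (.leaf 595) (.leaf 2284)) (.node (.leaf 2656) (.leaf 3812)))))) (.node (.node (.node (.node (.node (.leaf 223) (.leaf 2897)) (.node (.leaf 1229) (.leaf 3736))) (.node (.node (.leaf 935) (.leaf 3347)) (.node (.leaf 2343) (.leaf 3137)))) (.node (.node (.node (.leaf 618) (.leaf 1814)) (.node (.leaf 2020) (.leaf 3759))) (.node (.node (.leaf 1379) (.leaf 3560)) (.node (.leaf 2608) (.leaf 4035))))) (.node (.node (.node (.node (.leaf 132) (.leaf 3003)) (.node (.leaf 1885) (.leaf 3752))) (.node (.node (.leaf 491) (.leaf 2194)) (.node (.leaf 2477) (.leaf 3991)))) (.node (.node (.node (.leaf 295) (.leaf 3132)) (.node (.leaf 2198) (.leaf 3773))) (.node (.node (.leaf 1555) (.leaf 3206)) (.node (.leaf 2703) (.leaf 4071))))))))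

def twoNext85 : Janko.Tree (ℕ) :=
  (.node (.node (.node (.node (.node (.node (.node (.leaf 48) (.leaf 1709)) (.node (.leaf 658) (.leaf 3658))) (.node (.node (.leaf 795) (.leaf 3280)) (.node (.leaf 1014) (.leaf 3002)))) (.node (.node (.node (.leaf 149) (.leaf 1655)) (.node (.leaf 1817) (.leaf 3854))) (.node (.node (.leaf 1236) (.leaf 3490)) (.node (.leaf 2522) (.leaf 3385))))) (.node (.node (.node (.node (.leaf 277) (.leaf 1515)) (.node (.leaf 743) (.leaf 2519))) (.node (.node (.leaf 1049) (.leaf 1988)) (.node (.leaf 1124) (.leaf 3181)))) (.node (.node (.node (.leaf 667) (.leaf 3149)) (.node (.leaf 2086) (.leaf 2818))) (.node (.node (.leaf 571) (.leaf 2252)) (.node (.leaf 2663) (.leaf 3684)))))) (.node (.node (.node (.node (.node (.leaf 168) (.leaf 1614)) (.node (.leaf 1681) (.leaf 3720))) (.node (.node (.leaf 950) (.leaf 1923)) (.node (.leaf 2314) (.leaf 3988)))) (.node (.node (.node (.leaf 569) (.leaf 1702)) (.node (.leaf 873) (.leaf 2757))) (.node (.node (.leaf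 1330) (.leaf 3535)) (.node (.leaf 1363) (.leaf 3496))))) (.node (.node (.node (.node (.leaf 111) (.leaf 2981)) (.node (.leaf 1840) (.leaf 2588))) (.node (.node (.leaf 1138) (.leaf 3203)) (.node (.leaf 1169) (.leaf 3263)))) (.node (.node (.node (.leaf 739) (.leaf 1810)) (.node (.leaf 2155) (.leaf 3945))) (.node (.node (.leaf 1506) (.leaf 3621)) (.node (.leaf 2541) (.leaf 3820))))))) (.node (.node (.node (.node (.node (.node (.leaf 110) (.leaf 2826)) (.node (.leaf 682) (.leaf 3692))) (.node (.node (.leaf 342) (.leaf 2030)) (.node (.leaf 1053) (.leaf 3958)))) (.node (.node (.node (.leaf 523) (.leaf 1665)) (.node (.leaf 1965) (.leaf 3843))) (.node (.node (.leaf 509) (.leaf 2137)) (.node (.leaf 1241) (.leaf 3428))))) (.node (.node (.node (.node (.leaf 330) (.leaf 2956)) (.node (.leaf 1794) (.leaf 2551))) (.node (.node (.leaf 1000) (.leaf 3395)) (.node (.leaf 1142) (.leaf 4030)))) (.node (.node (.node (.leaf 709) (.leaf 3186)) (.node (.leaf 948) (.leaf 2868))) (.node (.node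 (.leaf 1462) (.leaf 2304)) (.node (.leaf 2693) (.leaf 3742)))))) (.node (.node (.node (.node (.node (.leaf 56) (.leaf 1693)) (.node (.leaf 724) (.leaf 2489))) (.node (.node (.leaf 380) (.leaf 3287)) (.node (.leaf 2345) (.leaf 3205)))) (.node (.node (.node (.leaf 236) (.leaf 3108)) (.node (.leaf 897) (.leaf 2786))) (.node (.node (.leaf 552) (.leaf 3556)) (.node (.leaf 2629) (.leaf 3571))))) (.node (.node (.node (.node (.leaf 426) (.leaf 3006)) (.node (.leaf 815) (.leaf 2630))) (.node (.node (.leaf 1191) (.leaf 3156)) (.node (.leaf 1194) (.leaf 3309)))) (.node (.node (.node (.leaf 809) (.leaf 1839)) (.node (.leaf 2209) (.leaf 2951))) (.node (.node (.leaf 639) (.leaf 2361)) (.node (.leaf 2751) (.leaf 3999))))))))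

def twoNext86 : Janko.Tree (ℕ) :=
  (.node (.node (.node (.node (.node (.node (.node (.leaf 8) (.leaf 2436)) (.node (.leaf 1598) (.leaf 2437))) (.node (.node (.leaf 334) (.leaf 3279)) (.node (.leaf 2181) (.leaf 3718)))) (.node (.node (.node (.leaf 468) (.leaf 1633)) (.node (.leaf 1932) (.leaf 3048))) (.node (.node (.leaf 486) (.leaf 3489)) (.node (.leaf 2516) (.leaf 3588))))) (.node (.node (.node (.node (.leaf 75) (.leaf 2927)) (.node (.leaf 1739) (.leaf 2517))) (.node (.node (.leaf 1050) (.leaf 3381)) (.node (.leaf 1111) (.leaf 3175)))) (.node (.node (.node (.leaf 230) (.leaf 1792)) (.node (.leaf 2085) (.leaf 2842))) (.node (.node (.leaf 1423) (.leaf 2248)) (.node (.leaf 1321) (.leaf 3672)))))) (.node (.node (.node (.node (.node (.leaf 167) (.leaf 1461)) (.node (.leaf 1682) (.leaf 2460))) (.node (.node (.leaf 359) (.leaf 2282)) (.node (.leaf 1064) (.leaf 3987)))) (.node (.node (.node (.leaf 189) (.leaf 3078)) (.node (.leaf 875) (.leaf 3865))) (.node (.node (.leaf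 1329) (.leaf 2169)) (.node (.leaf 1260) (.leaf 3641))))) (.node (.node (.node (.node (.leaf 379) (.leaf 2555)) (.node (.leaf 790) (.leaf 2619))) (.node (.node (.leaf 1142) (.leaf 3430)) (.node (.leaf 1167) (.leaf 4045)))) (.node (.node (.node (.leaf 274) (.leaf 3221)) (.node (.leaf 970) (.leaf 3946))) (.node (.node (.leaf 616) (.leaf 2403)) (.node (.leaf 1357) (.leaf 3822))))))) (.node (.node (.node (.node (.node (.node (.leaf 109) (.leaf 2667)) (.node (.leaf 1609) (.leaf 2803))) (.node (.node (.leaf 909) (.leaf 1894)) (.node (.leaf 1038) (.leaf 3058)))) (.node (.node (.node (.leaf 524) (.leaf 3057)) (.node (.leaf 1969) (.leaf 2709))) (.node (.node (.leaf 1284) (.leaf 3476)) (.node (.leaf 2438) (.leaf 4030))))) (.node (.node (.node (.node (.leaf 93) (.leaf 1540)) (.node (.leaf 768) (.leaf 2981))) (.node (.node (.leaf 1096) (.leaf 3403)) (.node (.leaf 2006) (.leaf 3599)))) (.node (.node (.node (.leaf 254) (.leaf 3185)) (.node (.leaf 2133) (.leaf 2986))) (.node (.node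 (.leaf 633) (.leaf 3601)) (.node (.leaf 1336) (.leaf 3972)))))) (.node (.node (.node (.node (.node (.leaf 216) (.leaf 2835)) (.node (.leaf 1675) (.leaf 3740))) (.node (.node (.leaf 998) (.leaf 3352)) (.node (.leaf 1088) (.leaf 3134)))) (.node (.node (.node (.leaf 225) (.leaf 1737)) (.node (.leaf 2049) (.leaf 3658))) (.node (.node (.leaf 554) (.leaf 2206)) (.node (.leaf 1285) (.leaf 3573))))) (.node (.node (.node (.node (.leaf 130) (.leaf 1681)) (.node (.leaf 1887) (.leaf 3786))) (.node (.node (.leaf 465) (.leaf 2086)) (.node (.leaf 2478) (.leaf 3985)))) (.node (.node (.node (.leaf 759) (.leaf 3131)) (.node (.leaf 2208) (.leaf 3957))) (.node (.node (.leaf 1553) (.leaf 2378)) (.node (.leaf 2720) (.leaf 4079))))))))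

def twoNext87 : Janko.Tree (ℕ) :=
  (.node (.node (.node (.node (.node (.node (.node (.leaf 49) (.leaf 1414)) (.node (.leaf 1599) (.leaf 2409))) (.node (.node (.leaf 315) (.leaf 1864)) (.node (.leaf 2180) (.leaf 3753)))) (.node (.node (.node (.leaf 473) (.leaf 3032)) (.node (.leaf 830) (.leaf 3053))) (.node (.node (.leaf 1237) (.leaf 2111)) (.node (.leaf 1216) (.leaf 3365))))) (.node (.node (.node (.node (.leaf 278) (.leaf 2929)) (.node (.leaf 1732) (.leaf 3720))) (.node (.node (.leaf 1051) (.leaf 1997)) (.node (.leaf 1110) (.leaf 3174)))) (.node (.node (.node (.leaf 668) (.leaf 1763)) (.node (.leaf 921) (.leaf 3875))) (.node (.node (.leaf 1424) (.leaf 2240)) (.node (.leaf 2664) (.leaf 3962)))))) (.node (.node (.node (.node (.node (.leaf 39) (.leaf 2864)) (.node (.leaf 1683) (.leaf 2459))) (.node (.node (.leaf 878) (.leaf 3330)) (.node (.leaf 2315) (.leaf 3105)))) (.node (.node (.node (.leaf 570) (.leaf 2484)) (.node (.leaf 2015) (.leaf 3864))) (.node (.node (.leaf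 529) (.leaf 2168)) (.node (.leaf 2597) (.leaf 3603))))) (.node (.node (.node (.node (.leaf 380) (.leaf 2438)) (.node (.leaf 789) (.leaf 2618))) (.node (.node (.leaf 445) (.leaf 2059)) (.node (.leaf 1546) (.leaf 4046)))) (.node (.node (.node (.leaf 273) (.leaf 3222)) (.node (.leaf 969) (.leaf 2906))) (.node (.node (.leaf 1507) (.leaf 2319)) (.node (.leaf 1717) (.leaf 3898))))))) (.node (.node (.node (.node (.node (.node (.leaf 23) (.leaf 1440)) (.node (.leaf 1637) (.leaf 2433))) (.node (.node (.leaf 339) (.leaf 3306)) (.node (.leaf 1037) (.leaf 3057)))) (.node (.node (.node (.leaf 525) (.leaf 3058)) (.node (.leaf 854) (.leaf 2717))) (.node (.node (.leaf 1285) (.leaf 3475)) (.node (.leaf 2555) (.leaf 3469))))) (.node (.node (.node (.node (.leaf 92) (.leaf 2957)) (.node (.leaf 1795) (.leaf 2549))) (.node (.node (.leaf 1097) (.leaf 3404)) (.node (.leaf 2005) (.leaf 3220)))) (.node (.node (.node (.leaf 253) (.leaf 1785)) (.node (.leaf 2134) (.leaf 2865))) (.node (.node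 (.leaf 1463) (.leaf 3602)) (.node (.leaf 1335) (.leaf 3768)))))) (.node (.node (.node (.node (.node (.leaf 224) (.leaf 1485)) (.node (.leaf 1228) (.leaf 2486))) (.node (.node (.leaf 928) (.leaf 1955)) (.node (.leaf 2346) (.leaf 3561)))) (.node (.node (.node (.leaf 209) (.leaf 2051)) (.node (.leaf 1953) (.leaf 3905))) (.node (.node (.leaf 1380) (.leaf 2203)) (.node (.leaf 1284) (.leaf 4034))))) (.node (.node (.node (.node (.leaf 129) (.leaf 1600)) (.node (.leaf 812) (.leaf 3785))) (.node (.node (.leaf 1192) (.leaf 3465)) (.node (.leaf 2479) (.leaf 3982)))) (.node (.node (.node (.leaf 810) (.leaf 3253)) (.node (.leaf 994) (.leaf 3771))) (.node (.node (.leaf 1556) (.leaf 3290)) (.node (.leaf 1385) (.leaf 4067))))))))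

def twoNext88 : Janko.Tree (ℕ) :=
  (.node (.node (.node (.node (.node (.node (.node (.leaf 10) (.leaf 2415)) (.node (.leaf 659) (.leaf 3657))) (.node (.node (.leaf 443) (.leaf 3281)) (.node (.leaf 2190) (.leaf 3711)))) (.node (.node (.node (.leaf 256) (.leaf 1635)) (.node (.leaf 1933) (.leaf 2824))) (.node (.node (.leaf 1193) (.leaf 3491)) (.node (.leaf 2421) (.leaf 3527))))) (.node (.node (.node (.node (.leaf 137) (.leaf 1525)) (.node (.leaf 744) (.leaf 3765))) (.node (.node (.leaf 1050) (.leaf 1989)) (.node (.leaf 1116) (.leaf 3487)))) (.node (.node (.node (.leaf 666) (.leaf 3148)) (.node (.leaf 2087) (.leaf 2820))) (.node (.node (.leaf 572) (.leaf 3581)) (.node (.leaf 1321) (.leaf 3962)))))) (.node (.node (.node (.node (.node (.leaf 167) (.leaf 2856)) (.node (.leaf 1682) (.leaf 2849))) (.node (.node (.leaf 953) (.leaf 1925)) (.node (.leaf 2311) (.leaf 3989)))) (.node (.node (.node (.leaf 568) (.leaf 3080)) (.node (.leaf 2012) (.leaf 3884))) (.node (.node (.leaf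 1331) (.leaf 3104)) (.node (.leaf 1262) (.leaf 4016))))) (.node (.node (.node (.node (.leaf 112) (.leaf 2617)) (.node (.leaf 1770) (.leaf 2589))) (.node (.node (.leaf 1139) (.leaf 3101)) (.node (.leaf 2434) (.leaf 3620)))) (.node (.node (.node (.leaf 293) (.leaf 1811)) (.node (.leaf 981) (.leaf 3681))) (.node (.node (.leaf 1495) (.leaf 3197)) (.node (.leaf 1687) (.leaf 3971))))))) (.node (.node (.node (.node (.node (.node (.leaf 111) (.leaf 2819)) (.node (.leaf 684) (.leaf 3693))) (.node (.node (.leaf 735) (.leaf 2091)) (.node (.leaf 1916) (.leaf 3060)))) (.node (.node (.node (.leaf 524) (.leaf 1676)) (.node (.leaf 1970) (.leaf 2711))) (.node (.node (.leaf 1286) (.leaf 3357)) (.node (.leaf 1242) (.leaf 4051))))) (.node (.node (.node (.node (.leaf 105) (.leaf 2947)) (.node (.leaf 1791) (.leaf 2927))) (.node (.node (.leaf 1096) (.leaf 3403)) (.node (.leaf 1813) (.leaf 3226)))) (.node (.node (.node (.leaf 710) (.leaf 3187)) (.node (.leaf 1006) (.leaf 2869))) (.node (.node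 (.leaf 633) (.leaf 3601)) (.node (.leaf 1548) (.leaf 3830)))))) (.node (.node (.node (.node (.node (.leaf 221) (.leaf 2896)) (.node (.leaf 1702) (.leaf 2488))) (.node (.node (.leaf 878) (.leaf 3327)) (.node (.leaf 2344) (.leaf 3575)))) (.node (.node (.node (.leaf 612) (.leaf 3102)) (.node (.leaf 898) (.leaf 3777))) (.node (.node (.leaf 1377) (.leaf 2206)) (.node (.leaf 2605) (.leaf 4049))))) (.node (.node (.node (.node (.leaf 308) (.leaf 1602)) (.node (.leaf 821) (.leaf 2898))) (.node (.node (.leaf 492) (.leaf 3308)) (.node (.leaf 1195) (.leaf 4022)))) (.node (.node (.node (.leaf 759) (.leaf 2215)) (.node (.leaf 2210) (.leaf 3793))) (.node (.node (.leaf 649) (.leaf 3631)) (.node (.leaf 2676) (.leaf 4072))))))))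

def twoNext89 : Janko.Tree (ℕ) :=
  (.node (.node (.node (.node (.node (.node (.node (.leaf 50) (.leaf 1633)) (.node (.leaf 1600) (.leaf 2410))) (.node (.node (.leaf 317) (.leaf 1865)) (.node (.leaf 1017) (.leaf 3003)))) (.node (.node (.node (.leaf 474) (.leaf 3033)) (.node (.leaf 831) (.leaf 2666))) (.node (.node (.leaf 1238) (.leaf 2112)) (.node (.leaf 1217) (.leaf 3366))))) (.node (.node (.node (.node (.leaf 267) (.leaf 1637)) (.node (.leaf 1758) (.leaf 2754))) (.node (.node (.leaf 1052) (.leaf 3319)) (.node (.leaf 2375) (.leaf 3185)))) (.node (.node (.node (.leaf 663) (.leaf 1764)) (.node (.leaf 922) (.leaf 3782))) (.node (.node (.leaf 1425) (.leaf 2242)) (.node (.leaf 1312) (.leaf 3859)))))) (.node (.node (.node (.node (.node (.leaf 169) (.leaf 2862)) (.node (.leaf 1684) (.leaf 3721))) (.node (.node (.leaf 954) (.leaf 3331)) (.node (.leaf 2236) (.leaf 3106)))) (.node (.node (.node (.leaf 565) (.leaf 1703)) (.node (.leaf 886) (.leaf 2760))) (.node (.node (.leaf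 530) (.leaf 2218)) (.node (.leaf 2598) (.leaf 3502))))) (.node (.node (.node (.node (.leaf 381) (.leaf 1571)) (.node (.leaf 790) (.leaf 3812))) (.node (.node (.leaf 446) (.leaf 2329)) (.node (.leaf 2435) (.leaf 3980)))) (.node (.node (.node (.leaf 764) (.leaf 3223)) (.node (.leaf 2174) (.leaf 2910))) (.node (.node (.leaf 1508) (.leaf 2320)) (.node (.leaf 2723) (.leaf 3825))))))) (.node (.node (.node (.node (.node (.node (.leaf 24) (.leaf 1441)) (.node (.leaf 1517) (.leaf 2434))) (.node (.node (.leaf 340) (.leaf 3307)) (.node (.leaf 2282) (.leaf 3896)))) (.node (.node (.node (.leaf 526) (.leaf 3059)) (.node (.leaf 855) (.leaf 3833))) (.node (.node (.leaf 510) (.leaf 3417)) (.node (.leaf 1331) (.leaf 3508))))) (.node (.node (.node (.node (.leaf 93) (.leaf 1543)) (.node (.leaf 1796) (.leaf 2550))) (.node (.node (.leaf 1098) (.leaf 3405)) (.node (.leaf 1143) (.leaf 4031)))) (.node (.node (.node (.leaf 254) (.leaf 1786)) (.node (.leaf 949) (.leaf 2866))) (.node (.node (.leaf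 597) (.leaf 3526)) (.node (.leaf 1336) (.leaf 3753)))))) (.node (.node (.node (.node (.node (.leaf 225) (.leaf 1486)) (.node (.leaf 1717) (.leaf 3730))) (.node (.node (.leaf 999) (.leaf 1957)) (.node (.leaf 1091) (.leaf 3136)))) (.node (.node (.node (.leaf 210) (.leaf 1738)) (.node (.leaf 2050) (.leaf 3050))) (.node (.node (.leaf 1366) (.leaf 3561)) (.node (.leaf 1285) (.leaf 3637))))) (.node (.node (.node (.node (.leaf 130) (.leaf 2810)) (.node (.leaf 813) (.leaf 2631))) (.node (.node (.leaf 1193) (.leaf 2089)) (.node (.leaf 2427) (.leaf 3315)))) (.node (.node (.node (.leaf 805) (.leaf 3254)) (.node (.leaf 995) (.leaf 2952))) (.node (.node (.leaf 1557) (.leaf 2364)) (.node (.leaf 1386) (.leaf 4007))))))))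

def twoNext90 : Janko.Tree (ℕ) :=
  (.node (.node (.node (.node (.node (.node (.node (.leaf 49) (.leaf 1416)) (.node (.leaf 1594) (.leaf 3659))) (.node (.node (.leaf 435) (.leaf 3276)) (.node (.leaf 2249) (.leaf 3745)))) (.node (.node (.node (.leaf 150) (.leaf 3032)) (.node (.leaf 930) (.leaf 2825))) (.node (.node (.leaf 1237) (.leaf 2114)) (.node (.leaf 1400) (.leaf 3581))))) (.node (.node (.node (.node (.leaf 278) (.leaf 2905)) (.node (.leaf 984) (.leaf 3720))) (.node (.node (.leaf 403) (.leaf 2313)) (.node (.leaf 1114) (.leaf 3178)))) (.node (.node (.node (.leaf 668) (.leaf 3150)) (.node (.leaf 2088) (.leaf 2827))) (.node (.node (.leaf 1162) (.leaf 3527)) (.node (.leaf 1310) (.leaf 3673)))))) (.node (.node (.node (.node (.node (.leaf 41) (.leaf 2864)) (.node (.leaf 702) (.leaf 2461))) (.node (.node (.leaf 878) (.leaf 2283)) (.node (.leaf 2315) (.leaf 3108)))) (.node (.node (.node (.leaf 570) (.leaf 3060)) (.node (.leaf 874) (.leaf 3885))) (.node (.node (.leaf 1332)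 (.leaf 3103)) (.node (.leaf 2597) (.leaf 3500))))) (.node (.node (.node (.node (.leaf 111) (.leaf 2982)) (.node (.leaf 1841) (.leaf 3813))) (.node (.node (.leaf 1143) (.leaf 2061)) (.node (.leaf 1546) (.leaf 3264)))) (.node (.node (.node (.leaf 275) (.leaf 2278)) (.node (.leaf 971) (.leaf 3679))) (.node (.node (.leaf 1507) (.leaf 3153)) (.node (.leaf 1717) (.leaf 3821))))))) (.node (.node (.node (.node (.node (.node (.leaf 112) (.leaf 2818)) (.node (.leaf 1611) (.leaf 3694))) (.node (.node (.leaf 910) (.leaf 3306)) (.node (.leaf 1039) (.leaf 3080)))) (.node (.node (.node (.leaf 169) (.leaf 1666)) (.node (.leaf 1968) (.leaf 2716))) (.node (.node (.leaf 1287) (.leaf 2139)) (.node (.leaf 2556) (.leaf 3594))))) (.node (.node (.node (.node (.leaf 331) (.leaf 2957)) (.node (.leaf 1795) (.leaf 2552))) (.node (.node (.leaf 426) (.leaf 2027)) (.node (.leaf 2341) (.leaf 3289)))) (.node (.node (.node (.leaf 711) (.leaf 3188)) (.node (.leaf 1027) (.leaf 3841))) (.node (.node (.leaf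 595) (.leaf 2284)) (.node (.leaf 1547) (.leaf 4087)))))) (.node (.node (.node (.node (.node (.leaf 57) (.leaf 2898)) (.node (.leaf 725) (.leaf 2487))) (.node (.node (.leaf 953) (.leaf 2289)) (.node (.leaf 2346) (.leaf 3460)))) (.node (.node (.node (.leaf 620) (.leaf 3109)) (.node (.leaf 2051) (.leaf 2787))) (.node (.node (.leaf 553) (.leaf 3560)) (.node (.leaf 2630) (.leaf 3572))))) (.node (.node (.node (.node (.leaf 427) (.leaf 2995)) (.node (.leaf 1888) (.leaf 2896))) (.node (.node (.leaf 1192) (.leaf 3465)) (.node (.leaf 2480) (.leaf 4046)))) (.node (.node (.node (.leaf 295) (.leaf 1840)) (.node (.leaf 2211) (.leaf 2978))) (.node (.node (.leaf 1452) (.leaf 2396)) (.node (.leaf 2754) (.leaf 4095))))))))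

def twoNext91 : Janko.Tree (ℕ) :=
  (.node (.node (.node (.node (.node (.node (.node (.leaf 8) (.leaf 2408)) (.node (.leaf 1601) (.leaf 3660))) (.node (.node (.leaf 858) (.leaf 3149)) (.node (.leaf 2250) (.leaf 3709)))) (.node (.node (.node (.leaf 149) (.leaf 1633)) (.node (.leaf 1934) (.leaf 2821))) (.node (.node (.leaf 486) (.leaf 3492)) (.node (.leaf 1399) (.leaf 3525))))) (.node (.node (.node (.node (.leaf 75) (.leaf 1516)) (.node (.leaf 1731) (.leaf 2517))) (.node (.node (.leaf 1053) (.leaf 3382)) (.node (.leaf 1113) (.leaf 3176)))) (.node (.node (.node (.leaf 230) (.leaf 3151)) (.node (.leaf 2089) (.leaf 2818))) (.node (.node (.leaf 1426) (.leaf 3526)) (.node (.leaf 1369) (.leaf 3670)))))) (.node (.node (.node (.node (.node (.leaf 40) (.leaf 1461)) (.node (.leaf 1685) (.leaf 3722))) (.node (.node (.leaf 359) (.leaf 1923)) (.node (.leaf 1064) (.leaf 3990)))) (.node (.node (.node (.leaf 189) (.leaf 3081)) (.node (.leaf 873) (.leaf 3886))) (.node (.node (.leaf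 1333) (.leaf 2170)) (.node (.leaf 1260) (.leaf 3497))))) (.node (.node (.node (.node (.leaf 382) (.leaf 2983)) (.node (.leaf 1759) (.leaf 3071))) (.node (.node (.leaf 1144) (.leaf 3087)) (.node (.leaf 1167) (.leaf 3314)))) (.node (.node (.node (.leaf 434) (.leaf 3224)) (.node (.leaf 2175) (.leaf 2907))) (.node (.node (.leaf 616) (.leaf 3209)) (.node (.leaf 1357) (.leaf 3820))))))) (.node (.node (.node (.node (.node (.node (.leaf 113) (.leaf 2827)) (.node (.leaf 682) (.leaf 3695))) (.node (.node (.leaf 911) (.leaf 1894)) (.node (.leaf 1112) (.leaf 3974)))) (.node (.node (.node (.leaf 185) (.leaf 1674)) (.node (.leaf 1971) (.leaf 2710))) (.node (.node (.leaf 1288) (.leaf 3511)) (.node (.leaf 2557) (.leaf 3429))))) (.node (.node (.node (.node (.leaf 103) (.leaf 1540)) (.node (.leaf 768) (.leaf 3791))) (.node (.node (.leaf 1099) (.leaf 3406)) (.node (.leaf 1812) (.leaf 3223)))) (.node (.node (.node (.leaf 712) (.leaf 3189)) (.node (.leaf 2135) (.leaf 2889))) (.node (.node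 (.leaf 1358) (.leaf 2375)) (.node (.leaf 2694) (.leaf 3968)))))) (.node (.node (.node (.node (.node (.leaf 56) (.leaf 2899)) (.node (.leaf 724) (.leaf 3739))) (.node (.node (.leaf 381) (.leaf 2288)) (.node (.leaf 1088) (.leaf 3459)))) (.node (.node (.node (.leaf 621) (.leaf 3110)) (.node (.leaf 1737) (.leaf 2786))) (.node (.node (.leaf 552) (.leaf 2205)) (.node (.leaf 2545) (.leaf 3571))))) (.node (.node (.node (.node (.leaf 306) (.leaf 2449)) (.node (.leaf 1889) (.leaf 2962))) (.node (.node (.leaf 465) (.leaf 2086)) (.node (.leaf 2481) (.leaf 4045)))) (.node (.node (.node (.leaf 811) (.leaf 3255)) (.node (.leaf 2212) (.leaf 3959))) (.node (.node (.leaf 640) (.leaf 2395)) (.node (.leaf 2736) (.leaf 4076))))))))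

def twoNext92 : Janko.Tree (ℕ) :=
  (.node (.node (.node (.node (.node (.node (.node (.leaf 51) (.leaf 2785)) (.node (.leaf 1601) (.leaf 3659))) (.node (.node (.leaf 423) (.leaf 1866)) (.node (.leaf 1019) (.leaf 3775)))) (.node (.node (.node (.leaf 226) (.leaf 3034)) (.node (.leaf 1932) (.leaf 2822))) (.node (.node (.leaf 1239) (.leaf 3489)) (.node (.leaf 1404) (.leaf 3585))))) (.node (.node (.node (.node (.leaf 268) (.leaf 2890)) (.node (.leaf 745) (.leaf 2521))) (.node (.node (.leaf 1051) (.leaf 3382)) (.node (.leaf 2006) (.leaf 3641)))) (.node (.node (.node (.leaf 237) (.leaf 3150)) (.node (.leaf 923) (.leaf 3781))) (.node (.node (.leaf 1162) (.leaf 2269)) (.node (.leaf 2664) (.leaf 3829)))))) (.node (.node (.node (.node (.node (.leaf 170) (.leaf 1544)) (.node (.leaf 1683) (.leaf 2851))) (.node (.node (.leaf 952) (.leaf 2282)) (.node (.leaf 1066) (.leaf 3987)))) (.node (.node (.node (.leaf 455) (.leaf 1721)) (.node (.leaf 875) (.leaf 2761))) (.node (.node (.leaf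 660) (.leaf 3536)) (.node (.leaf 2599) (.leaf 4018))))) (.node (.node (.node (.node (.leaf 113) (.leaf 2568)) (.node (.leaf 791) (.leaf 3813))) (.node (.node (.leaf 1125) (.leaf 2067)) (.node (.leaf 1171) (.leaf 3621)))) (.node (.node (.node (.leaf 765) (.leaf 2278)) (.node (.leaf 982) (.leaf 2909))) (.node (.node (.leaf 1502) (.leaf 2399)) (.node (.leaf 2724) (.leaf 3827))))))) (.node (.node (.node (.node (.node (.node (.leaf 25) (.leaf 1442)) (.node (.leaf 1611) (.leaf 2435))) (.node (.node (.leaf 341) (.leaf 2089)) (.node (.leaf 1917) (.leaf 3974)))) (.node (.node (.node (.leaf 525) (.leaf 1668)) (.node (.leaf 1935) (.leaf 2712))) (.node (.node (.leaf 511) (.leaf 2150)) (.node (.leaf 2556) (.leaf 4026))))) (.node (.node (.node (.node (.leaf 94) (.leaf 1542)) (.node (.leaf 1797) (.leaf 2944))) (.node (.node (.leaf 1097) (.leaf 3404)) (.node (.leaf 2385) (.leaf 3417)))) (.node (.node (.node (.leaf 255) (.leaf 1787)) (.node (.leaf 951) (.leaf 2882))) (.node (.node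 (.leaf 1463) (.leaf 3602)) (.node (.leaf 1337) (.leaf 3757)))))) (.node (.node (.node (.node (.node (.leaf 164) (.leaf 2625)) (.node (.leaf 1716) (.leaf 3739))) (.node (.node (.leaf 1000) (.leaf 2267)) (.node (.leaf 1090) (.leaf 3561)))) (.node (.node (.node (.leaf 211) (.leaf 1739)) (.node (.leaf 2051) (.leaf 2791))) (.node (.node (.leaf 554) (.leaf 3470)) (.node (.leaf 1479) (.leaf 4042))))) (.node (.node (.node (.node (.leaf 131) (.leaf 2470)) (.node (.leaf 814) (.leaf 2835))) (.node (.node (.leaf 502) (.leaf 2090)) (.node (.leaf 2480) (.leaf 3320)))) (.node (.node (.node (.leaf 810) (.leaf 2217)) (.node (.leaf 1898) (.leaf 3702))) (.node (.node (.leaf 1509) (.leaf 3390)) (.node (.leaf 1387) (.leaf 4046))))))))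

def twoNext93 : Janko.Tree (ℕ) :=
  (.node (.node (.node (.node (.node (.node (.node (.leaf 9) (.leaf 1417)) (.node (.leaf 1602) (.leaf 2411))) (.node (.node (.leaf 859) (.leaf 1997)) (.node (.leaf 2251) (.leaf 3941)))) (.node (.node (.node (.leaf 475) (.leaf 1634)) (.node (.leaf 1915) (.leaf 2668))) (.node (.node (.leaf 487) (.leaf 3487)) (.node (.leaf 1218) (.leaf 3367))))) (.node (.node (.node (.node (.leaf 76) (.leaf 1518)) (.node (.leaf 1759) (.leaf 2518))) (.node (.node (.leaf 406) (.leaf 3376)) (.node (.leaf 1114) (.leaf 3178)))) (.node (.node (.node (.leaf 231) (.leaf 1765)) (.node (.leaf 2090) (.leaf 2820))) (.node (.node (.leaf 1423) (.leaf 3582)) (.node (.leaf 2665) (.leaf 4083)))))) (.node (.node (.node (.node (.node (.leaf 41) (.leaf 2865)) (.node (.leaf 705) (.leaf 2737))) (.node (.node (.leaf 360) (.leaf 3332)) (.node (.leaf 2088) (.leaf 3378)))) (.node (.node (.node (.leaf 190) (.leaf 3082)) (.node (.leaf 2016) (.leaf 3887))) (.node (.node (.leaf 1334)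 (.leaf 2171)) (.node (.leaf 1261) (.leaf 3614))))) (.node (.node (.node (.node (.leaf 383) (.leaf 2984)) (.node (.leaf 1842) (.leaf 2677))) (.node (.node (.leaf 1145) (.leaf 2062)) (.node (.leaf 1168) (.leaf 4046)))) (.node (.node (.node (.leaf 276) (.leaf 3221)) (.node (.leaf 1055) (.leaf 3943))) (.node (.node (.leaf 617) (.leaf 3622)) (.node (.leaf 1359) (.leaf 3823))))))) (.node (.node (.node (.node (.node (.node (.leaf 114) (.leaf 2828)) (.node (.leaf 1638) (.leaf 3696))) (.node (.node (.leaf 912) (.leaf 1895)) (.node (.leaf 2157) (.leaf 3971)))) (.node (.node (.node (.leaf 485) (.leaf 3060)) (.node (.leaf 1972) (.leaf 3682))) (.node (.node (.leaf 1289) (.leaf 3512)) (.node (.leaf 2558) (.leaf 3430))))) (.node (.node (.node (.node (.leaf 332) (.leaf 2939)) (.node (.leaf 769) (.leaf 2559))) (.node (.node (.leaf 1095) (.leaf 3303)) (.node (.leaf 2401) (.leaf 3224)))) (.node (.node (.node (.leaf 713) (.leaf 3122)) (.node (.leaf 2136) (.leaf 3673))) (.node (.node (.leaf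 1464) (.leaf 3600)) (.node (.leaf 2565) (.leaf 3771)))))) (.node (.node (.node (.node (.node (.leaf 226) (.leaf 1487)) (.node (.leaf 1718) (.leaf 3741))) (.node (.node (.leaf 382) (.leaf 1961)) (.node (.leaf 2325) (.leaf 4006)))) (.node (.node (.node (.leaf 622) (.leaf 3111)) (.node (.leaf 2052) (.leaf 3056))) (.node (.node (.leaf 1381) (.leaf 2206)) (.node (.leaf 1286) (.leaf 4078))))) (.node (.node (.node (.node (.leaf 428) (.leaf 1603)) (.node (.leaf 883) (.leaf 2710))) (.node (.node (.leaf 466) (.leaf 2087)) (.node (.leaf 2482) (.leaf 3336)))) (.node (.node (.node (.leaf 812) (.leaf 3253)) (.node (.leaf 996) (.leaf 2954))) (.node (.node (.leaf 641) (.leaf 2366)) (.node (.leaf 2460) (.leaf 4015))))))))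

def twoNext94 : Janko.Tree (ℕ) :=
  (.node (.node (.node (.node (.node (.node (.node (.leaf 52) (.leaf 2786)) (.node (.leaf 1595) (.leaf 3657))) (.node (.node (.leaf 318) (.leaf 3282)) (.node (.leaf 1965) (.leaf 3008)))) (.node (.node (.node (.leaf 151) (.leaf 1636)) (.node (.leaf 832) (.leaf 2948))) (.node (.node (.leaf 1240) (.leaf 2113)) (.node (.leaf 2523) (.leaf 3409))))) (.node (.node (.node (.node (.leaf 279) (.leaf 2816)) (.node (.leaf 1760) (.leaf 2991))) (.node (.node (.leaf 1053) (.leaf 1996)) (.node (.leaf 2376) (.leaf 4017)))) (.node (.node (.node (.leaf 669) (.leaf 3148)) (.node (.leaf 2068) (.leaf 2942))) (.node (.node (.leaf 572) (.leaf 2243)) (.node (.leaf 1369) (.leaf 3960)))))) (.node (.node (.node (.node (.node (.leaf 171) (.leaf 1571)) (.node (.leaf 1685) (.leaf 3722))) (.node (.node (.leaf 955) (.leaf 1926)) (.node (.leaf 2300) (.leaf 3107)))) (.node (.node (.node (.leaf 571) (.leaf 1705)) (.node (.leaf 2014) (.leaf 2885))) (.node (.node (.leaf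 531) (.leaf 3537)) (.node (.leaf 1263) (.leaf 3503))))) (.node (.node (.node (.node (.leaf 382) (.leaf 1572)) (.node (.leaf 1822) (.leaf 2589))) (.node (.node (.leaf 447) (.leaf 3227)) (.node (.leaf 1414) (.leaf 3314)))) (.node (.node (.node (.leaf 766) (.leaf 1811)) (.node (.leaf 2175) (.leaf 2908))) (.node (.node (.leaf 1501) (.leaf 2321)) (.node (.leaf 2648) (.leaf 3951))))))) (.node (.node (.node (.node (.node (.node (.leaf 115) (.leaf 2654)) (.node (.leaf 684) (.leaf 2564))) (.node (.node (.leaf 340) (.leaf 3280)) (.node (.leaf 1112) (.leaf 3081)))) (.node (.node (.node (.leaf 185) (.leaf 1669)) (.node (.leaf 856) (.leaf 3869))) (.node (.node (.leaf 1290) (.leaf 3511)) (.node (.leaf 1242) (.leaf 3977))))) (.node (.node (.node (.node (.leaf 322) (.leaf 1541)) (.node (.leaf 1798) (.leaf 2551))) (.node (.node (.leaf 1099) (.leaf 3406)) (.node (.leaf 1144) (.leaf 3521)))) (.node (.node (.node (.leaf 714) (.leaf 3190)) (.node (.leaf 1004) (.leaf 2871))) (.node (.node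 (.leaf 1358) (.leaf 2375)) (.node (.leaf 2695) (.leaf 4089)))))) (.node (.node (.node (.node (.node (.leaf 58) (.leaf 2888)) (.node (.leaf 726) (.leaf 2489))) (.node (.node (.leaf 1001) (.leaf 2251)) (.node (.leaf 1089) (.leaf 3138)))) (.node (.node (.node (.leaf 210) (.leaf 1757)) (.node (.leaf 898) (.leaf 2789))) (.node (.node (.leaf 1379) (.leaf 3463)) (.node (.leaf 2631) (.leaf 3592))))) (.node (.node (.node (.node (.leaf 138) (.leaf 2463)) (.node (.leaf 813) (.leaf 2897))) (.node (.node (.leaf 501) (.leaf 3466)) (.node (.leaf 1195) (.leaf 4057)))) (.node (.node (.node (.leaf 811) (.leaf 3255)) (.node (.leaf 2213) (.leaf 2969))) (.node (.node (.leaf 1503) (.leaf 3604)) (.node (.leaf 1386) (.leaf 4022))))))))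

def twoNext95 : Janko.Tree (ℕ) :=
  (.node (.node (.node (.node (.node (.node (.node (.leaf 53) (.leaf 2787)) (.node (.leaf 659) (.leaf 3661))) (.node (.node (.leaf 317) (.leaf 3274)) (.node (.leaf 1017) (.leaf 3969)))) (.node (.node (.node (.leaf 476) (.leaf 3035)) (.node (.leaf 831) (.leaf 2954))) (.node (.node (.leaf 1241) (.leaf 2112)) (.node (.leaf 2524) (.leaf 4062))))) (.node (.node (.node (.node (.leaf 280) (.leaf 2815)) (.node (.leaf 793) (.leaf 3766))) (.node (.node (.leaf 403) (.leaf 1989)) (.node (.leaf 2004) (.leaf 3240)))) (.node (.node (.node (.leaf 536) (.leaf 3152)) (.node (.leaf 2058) (.leaf 2945))) (.node (.node (.leaf 1266) (.leaf 3392)) (.node (.leaf 1310) (.leaf 3674)))))) (.node (.node (.node (.node (.node (.leaf 172) (.leaf 1462)) (.node (.leaf 702) (.leaf 2461))) (.node (.node (.leaf 956) (.leaf 2007)) (.node (.leaf 1764) (.leaf 3106)))) (.node (.node (.node (.leaf 500) (.leaf 1704)) (.node (.leaf 2017) (.leaf 3767))) (.node (.node (.leaf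 658) (.leaf 3538)) (.node (.leaf 2600) (.leaf 4074))))) (.node (.node (.node (.node (.leaf 111) (.leaf 2958)) (.node (.leaf 1843) (.leaf 3751))) (.node (.node (.leaf 1146) (.leaf 3431)) (.node (.leaf 2436) (.leaf 3264)))) (.node (.node (.node (.leaf 767) (.leaf 3162)) (.node (.leaf 971) (.leaf 3871))) (.node (.node (.leaf 1509) (.leaf 2402)) (.node (.leaf 2647) (.leaf 3826))))))) (.node (.node (.node (.node (.node (.node (.leaf 116) (.leaf 2829)) (.node (.leaf 683) (.leaf 2970))) (.node (.node (.leaf 913) (.leaf 2087)) (.node (.leaf 1039) (.leaf 3060)))) (.node (.node (.node (.leaf 169) (.leaf 1667)) (.node (.leaf 1973) (.leaf 3870))) (.node (.node (.leaf 1291) (.leaf 2139)) (.node (.leaf 2559) (.leaf 3976))))) (.node (.node (.node (.node (.leaf 333) (.leaf 2951)) (.node (.leaf 1799) (.leaf 2550))) (.node (.node (.leaf 426) (.leaf 2027)) (.node (.leaf 1143) (.leaf 3415)))) (.node (.node (.node (.leaf 715) (.leaf 3183)) (.node (.leaf 949) (.leaf 2870))) (.node (.node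 (.leaf 595) (.leaf 2284)) (.node (.leaf 2687) (.leaf 3952)))))) (.node (.node (.node (.node (.node (.leaf 227) (.leaf 2407)) (.node (.leaf 1719) (.leaf 2488))) (.node (.node (.leaf 1002) (.leaf 1958)) (.node (.leaf 2347) (.leaf 3137)))) (.node (.node (.node (.leaf 623) (.leaf 1738)) (.node (.leaf 1814) (.leaf 2788))) (.node (.node (.leaf 1382) (.leaf 3462)) (.node (.leaf 2632) (.leaf 3574))))) (.node (.node (.node (.node (.leaf 429) (.leaf 3007)) (.node (.leaf 1890) (.leaf 2633))) (.node (.node (.leaf 1194) (.leaf 3307)) (.node (.leaf 2483) (.leaf 4058)))) (.node (.node (.node (.leaf 295) (.leaf 1840)) (.node (.leaf 2214) (.leaf 3814))) (.node (.node (.leaf 1502) (.leaf 3332)) (.node (.leaf 2737) (.leaf 4014))))))))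

def twoNext96 : Janko.Tree (ℕ) :=
  (.node (.node (.node (.node (.node (.node (.node (.leaf 49) (.leaf 1418)) (.node (.leaf 1243) (.leaf 2437))) (.node (.node (.leaf 416) (.leaf 3282)) (.node (.leaf 1845) (.leaf 3776)))) (.node (.node (.node (.leaf 459) (.leaf 3032)) (.node (.leaf 843) (.leaf 2692))) (.node (.node (.leaf 490) (.leaf 2114)) (.node (.leaf 1219) (.leaf 3629))))) (.node (.node (.node (.node (.leaf 77) (.leaf 2607)) (.node (.leaf 1760) (.leaf 2520))) (.node (.node (.leaf 411) (.leaf 3383)) (.node (.leaf 1115) (.leaf 3189)))) (.node (.node (.node (.leaf 232) (.leaf 1792)) (.node (.leaf 1894) (.leaf 2842))) (.node (.node (.leaf 1426) (.leaf 2245)) (.node (.leaf 1314) (.leaf 3892)))))) (.node (.node (.node (.node (.node (.leaf 42) (.leaf 2866)) (.node (.leaf 1362) (.leaf 2833))) (.node (.node (.leaf 361) (.leaf 3330)) (.node (.leaf 2315) (.leaf 3108)))) (.node (.node (.node (.leaf 191) (.leaf 2504)) (.node (.leaf 2017) (.leaf 2885))) (.node (.node (.leaf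 1327) (.leaf 3099)) (.node (.leaf 2597) (.leaf 4019))))) (.node (.node (.node (.node (.leaf 384) (.leaf 2569)) (.node (.leaf 1822) (.leaf 3071))) (.node (.node (.leaf 1126) (.leaf 2064)) (.node (.leaf 1170) (.leaf 3567)))) (.node (.node (.node (.leaf 277) (.leaf 3224)) (.node (.leaf 990) (.leaf 3871))) (.node (.node (.leaf 1154) (.leaf 2328)) (.node (.leaf 1360) (.leaf 3965))))))) (.node (.node (.node (.node (.node (.node (.leaf 115) (.leaf 2654)) (.node (.leaf 1268) (.leaf 3663))) (.node (.node (.leaf 342) (.leaf 1896)) (.node (.leaf 1924) (.leaf 3719)))) (.node (.node (.node (.leaf 519) (.leaf 2502)) (.node (.leaf 1963) (.leaf 3869))) (.node (.node (.leaf 1290) (.leaf 3199)) (.node (.leaf 2557) (.leaf 3436))))) (.node (.node (.node (.node (.leaf 333) (.leaf 2528)) (.node (.leaf 770) (.leaf 2929))) (.node (.node (.leaf 1100) (.leaf 2130)) (.node (.leaf 2381) (.leaf 4010)))) (.node (.node (.node (.leaf 714) (.leaf 3190)) (.node (.leaf 2137) (.leaf 2881))) (.node (.node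 (.leaf 599) (.leaf 2323)) (.node (.leaf 2695) (.leaf 4089)))))) (.node (.node (.node (.node (.node (.leaf 165) (.leaf 2411)) (.node (.leaf 1700) (.leaf 3742))) (.node (.node (.leaf 842) (.leaf 1960)) (.node (.leaf 1091) (.leaf 4003)))) (.node (.node (.node (.leaf 212) (.leaf 2085)) (.node (.leaf 1737) (.leaf 2797))) (.node (.node (.leaf 1382) (.leaf 3411)) (.node (.leaf 1287) (.leaf 3985))))) (.node (.node (.node (.node (.leaf 429) (.leaf 1626)) (.node (.leaf 815) (.leaf 3831))) (.node (.node (.leaf 469) (.leaf 2088)) (.node (.leaf 2481) (.leaf 4057)))) (.node (.node (.node (.leaf 813) (.leaf 2197)) (.node (.leaf 1854) (.leaf 3811))) (.node (.node (.leaf 1417) (.leaf 2367)) (.node (.leaf 1513) (.leaf 4074))))))))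

def twoNext97 : Janko.Tree (ℕ) :=
  (.node (.node (.node (.node (.node (.node (.node (.leaf 54) (.leaf 1456)) (.node (.leaf 660) (.leaf 3662))) (.node (.node (.leaf 318) (.leaf 3283)) (.node (.leaf 1018) (.leaf 3054)))) (.node (.node (.node (.leaf 477) (.leaf 1643)) (.node (.leaf 1935) (.leaf 3748))) (.node (.node (.leaf 1242) (.leaf 3437)) (.node (.leaf 2525) (.leaf 4063))))) (.node (.node (.node (.node (.leaf 281) (.leaf 1522)) (.node (.leaf 1761) (.leaf 3767))) (.node (.node (.leaf 404) (.leaf 1991)) (.node (.leaf 2244) (.leaf 3179)))) (.node (.node (.node (.leaf 670) (.leaf 3153)) (.node (.leaf 924) (.leaf 2823))) (.node (.node (.leaf 1427) (.leaf 3583)) (.node (.leaf 1311) (.leaf 3675)))))) (.node (.node (.node (.node (.node (.leaf 173) (.leaf 1463)) (.node (.leaf 703) (.leaf 2462))) (.node (.node (.leaf 957) (.leaf 3333)) (.node (.leaf 2316) (.leaf 3167)))) (.node (.node (.node (.leaf 572) (.leaf 1705)) (.node (.leaf 2018) (.leaf 3885))) (.node (.node (.leaf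 532) (.leaf 2172)) (.node (.leaf 1274) (.leaf 3645))))) (.node (.node (.node (.node (.leaf 112) (.leaf 2983)) (.node (.leaf 1838) (.leaf 2592))) (.node (.node (.leaf 1147) (.leaf 2109)) (.node (.leaf 2437) (.leaf 3268)))) (.node (.node (.node (.leaf 768) (.leaf 2019)) (.node (.leaf 972) (.leaf 3946))) (.node (.node (.leaf 618) (.leaf 3450)) (.node (.leaf 2471) (.leaf 3882))))))) (.node (.node (.node (.node (.node (.node (.leaf 117) (.leaf 1446)) (.node (.leaf 684) (.leaf 2436))) (.node (.node (.leaf 914) (.leaf 3308)) (.node (.leaf 1040) (.leaf 3064)))) (.node (.node (.node (.leaf 170) (.leaf 1669)) (.node (.leaf 1974) (.leaf 3871))) (.node (.node (.leaf 1292) (.leaf 2140)) (.node (.leaf 2555) (.leaf 3638))))) (.node (.node (.node (.node (.leaf 334) (.leaf 1542)) (.node (.leaf 1800) (.leaf 3792))) (.node (.node (.leaf 427) (.leaf 2028)) (.node (.leaf 1144) (.leaf 3225)))) (.node (.node (.node (.leaf 716) (.leaf 1940)) (.node (.leaf 951) (.leaf 2871))) (.node (.node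 (.leaf 596) (.leaf 3603)) (.node (.leaf 2696) (.leaf 3832)))))) (.node (.node (.node (.node (.node (.leaf 228) (.leaf 2900)) (.node (.leaf 1720) (.leaf 2490))) (.node (.node (.leaf 1003) (.leaf 1981)) (.node (.leaf 2348) (.leaf 3138)))) (.node (.node (.node (.leaf 624) (.leaf 2035)) (.node (.leaf 901) (.leaf 2789))) (.node (.node (.leaf 1383) (.leaf 3562)) (.node (.leaf 2633) (.leaf 3578))))) (.node (.node (.node (.node (.leaf 385) (.leaf 3008)) (.node (.leaf 1891) (.leaf 2634))) (.node (.node (.leaf 1195) (.leaf 2146)) (.node (.leaf 2479) (.leaf 4024)))) (.node (.node (.node (.leaf 296) (.leaf 1841)) (.node (.leaf 2215) (.leaf 2957))) (.node (.node (.leaf 642) (.leaf 3640)) (.node (.leaf 1387) (.leaf 4064))))))))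

def twoNext98 : Janko.Tree (ℕ) :=
  (.node (.node (.node (.node (.node (.node (.node (.leaf 10) (.leaf 2788)) (.node (.leaf 1177) (.leaf 2915))) (.node (.node (.leaf 860) (.leaf 1866)) (.node (.leaf 1753) (.leaf 3969)))) (.node (.node (.node (.leaf 476) (.leaf 1635)) (.node (.leaf 833) (.leaf 2677))) (.node (.node (.leaf 488) (.leaf 3491)) (.node (.leaf 1218) (.leaf 3369))))) (.node (.node (.node (.node (.leaf 76) (.leaf 2616)) (.node (.leaf 745) (.leaf 2992))) (.node (.node (.leaf 1054) (.leaf 3384)) (.node (.leaf 1117) (.leaf 3612)))) (.node (.node (.node (.leaf 231) (.leaf 2312)) (.node (.leaf 1908) (.leaf 2828))) (.node (.node (.leaf 1266) (.leaf 2247)) (.node (.leaf 1317) (.leaf 3920)))))) (.node (.node (.node (.node (.node (.leaf 174) (.leaf 2867)) (.node (.leaf 1591) (.leaf 3721))) (.node (.node (.leaf 948) (.leaf 2007)) (.node (.leaf 2311) (.leaf 3989)))) (.node (.node (.node (.leaf 190) (.leaf 3041)) (.node (.leaf 2015) (.leaf 2761))) (.node (.node (.leaf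 1335) (.leaf 3098)) (.node (.leaf 1262) (.leaf 4074))))) (.node (.node (.node (.node (.leaf 117) (.leaf 2958)) (.node (.leaf 791) (.leaf 3751))) (.node (.node (.leaf 1146) (.leaf 3229)) (.node (.leaf 1417) (.leaf 3568)))) (.node (.node (.node (.leaf 762) (.leaf 3162)) (.node (.leaf 989) (.leaf 2910))) (.node (.node (.leaf 1174) (.leaf 2326)) (.node (.leaf 1359) (.leaf 4092))))))) (.node (.node (.node (.node (.node (.node (.leaf 25) (.leaf 1442)) (.node (.leaf 1267) (.leaf 3656))) (.node (.node (.leaf 913) (.leaf 2200)) (.node (.leaf 1923) (.leaf 3728)))) (.node (.node (.node (.leaf 527) (.leaf 1706)) (.node (.leaf 1973) (.leaf 2712))) (.node (.node (.leaf 511) (.leaf 3513)) (.node (.leaf 2559) (.leaf 3434))))) (.node (.node (.node (.node (.leaf 323) (.leaf 1578)) (.node (.leaf 1777) (.leaf 3791))) (.node (.node (.leaf 1098) (.leaf 3405)) (.node (.leaf 2402) (.leaf 4009)))) (.node (.node (.node (.leaf 255) (.leaf 1787)) (.node (.leaf 2010) (.leaf 3860))) (.node (.node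 (.leaf 627) (.leaf 3329)) (.node (.leaf 1337) (.leaf 3757)))))) (.node (.node (.node (.node (.node (.leaf 227) (.leaf 1489)) (.node (.leaf 1719) (.leaf 3743))) (.node (.node (.leaf 383) (.leaf 1959)) (.node (.leaf 2347) (.leaf 4007)))) (.node (.node (.node (.leaf 623) (.leaf 2081)) (.node (.leaf 1814) (.leaf 3906))) (.node (.node (.leaf 1380) (.leaf 3545)) (.node (.leaf 1286) (.leaf 3991))))) (.node (.node (.node (.node (.leaf 139) (.leaf 1604)) (.node (.leaf 1890) (.leaf 3832))) (.node (.node (.leaf 467) (.leaf 2087)) (.node (.leaf 2483) (.leaf 3320)))) (.node (.node (.node (.leaf 814) (.leaf 3254)) (.node (.leaf 997) (.leaf 2983))) (.node (.node (.leaf 1170) (.leaf 2366)) (.node (.leaf 2753) (.leaf 4019))))))))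

def twoNext99 : Janko.Tree (ℕ) :=
  (.node (.node (.node (.node (.node (.node (.node (.leaf 9) (.leaf 2789)) (.node (.leaf 1176) (.leaf 2412))) (.node (.node (.leaf 407) (.leaf 3284)) (.node (.leaf 2252) (.leaf 3008)))) (.node (.node (.node (.leaf 151) (.leaf 1634)) (.node (.leaf 1936) (.leaf 2669))) (.node (.node (.leaf 487) (.leaf 3402)) (.node (.leaf 2526) (.leaf 3413))))) (.node (.node (.node (.node (.leaf 282) (.leaf 1519)) (.node (.leaf 1048) (.leaf 2518))) (.node (.node (.leaf 1055) (.leaf 3385)) (.node (.leaf 2377) (.leaf 3187)))) (.node (.node (.node (.leaf 539) (.leaf 1766)) (.node (.leaf 2091) (.leaf 3883))) (.node (.node (.leaf 572) (.leaf 2244)) (.node (.leaf 2666) (.leaf 4084)))))) (.node (.node (.node (.node (.node (.leaf 175) (.leaf 2868)) (.node (.leaf 1590) (.leaf 3723))) (.node (.node (.leaf 360) (.leaf 1926)) (.node (.leaf 1067) (.leaf 3587)))) (.node (.node (.node (.leaf 505) (.leaf 2500)) (.node (.leaf 875) (.leaf 3667))) (.node (.node (.leaf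 1336) (.leaf 3311)) (.node (.leaf 1261) (.leaf 3503))))) (.node (.node (.node (.node (.leaf 385) (.leaf 1572)) (.node (.leaf 1844) (.leaf 2589))) (.node (.node (.leaf 447) (.leaf 2062)) (.node (.leaf 1168) (.leaf 3566)))) (.node (.node (.node (.leaf 769) (.leaf 1811)) (.node (.leaf 2176) (.leaf 2909))) (.node (.node (.leaf 1152) (.leaf 2325)) (.node (.leaf 2726) (.leaf 3828))))))) (.node (.node (.node (.node (.node (.node (.leaf 118) (.leaf 2830)) (.node (.leaf 1639) (.leaf 3655))) (.node (.node (.leaf 340) (.leaf 2083)) (.node (.leaf 2283) (.leaf 3712)))) (.node (.node (.node (.leaf 528) (.leaf 2501)) (.node (.leaf 856) (.leaf 3872))) (.node (.node (.leaf 1293) (.leaf 3514)) (.node (.leaf 1242) (.leaf 3433))))) (.node (.node (.node (.node (.leaf 94) (.leaf 2527)) (.node (.leaf 1767) (.leaf 2552))) (.node (.node (.leaf 1101) (.leaf 2129)) (.node (.leaf 2321) (.leaf 4021)))) (.node (.node (.node (.leaf 717) (.leaf 3191)) (.node (.leaf 2018) (.leaf 2875))) (.node (.node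 (.leaf 1465) (.leaf 2285)) (.node (.leaf 2697) (.leaf 3818)))))) (.node (.node (.node (.node (.node (.leaf 58) (.leaf 2901)) (.node (.leaf 726) (.leaf 3744))) (.node (.node (.leaf 929) (.leaf 3359)) (.node (.leaf 1089) (.leaf 3984)))) (.node (.node (.node (.leaf 210) (.leaf 1740)) (.node (.leaf 898) (.leaf 2795))) (.node (.node (.leaf 554) (.leaf 2207)) (.node (.leaf 2634) (.leaf 3981))))) (.node (.node (.node (.node (.leaf 131) (.leaf 1603)) (.node (.leaf 813) (.leaf 3833))) (.node (.node (.leaf 466) (.leaf 3280)) (.node (.leaf 1195) (.leaf 3397)))) (.node (.node (.node (.leaf 815) (.leaf 3256)) (.node (.leaf 2216) (.leaf 2982))) (.node (.node (.leaf 1169) (.leaf 3393)) (.node (.leaf 1511) (.leaf 4018))))))))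

def twoNext100 : Janko.Tree (ℕ) :=
  (.node (.node (.node (.node (.node (.node (.node (.leaf 55) (.leaf 2788)) (.node (.leaf 1181) (.leaf 3655))) (.node (.node (.leaf 437) (.leaf 3274)) (.node (.leaf 1965) (.leaf 3010)))) (.node (.node (.node (.leaf 187) (.leaf 1636)) (.node (.leaf 844) (.leaf 3043))) (.node (.node (.leaf 1177) (.leaf 3402)) (.node (.leaf 1220) (.leaf 3630))))) (.node (.node (.node (.node (.leaf 78) (.leaf 1521)) (.node (.leaf 793) (.leaf 2991))) (.node (.node (.leaf 405) (.leaf 2002)) (.node (.leaf 2377) (.leaf 3600)))) (.node (.node (.node (.leaf 671) (.leaf 3146)) (.node (.leaf 964) (.leaf 2825))) (.node (.node (.leaf 1425) (.leaf 3460)) (.node (.leaf 1313) (.leaf 3677)))))) (.node (.node (.node (.node (.node (.leaf 174) (.leaf 1464)) (.node (.leaf 704) (.leaf 2471))) (.node (.node (.leaf 958) (.leaf 1928)) (.node (.leaf 1951) (.leaf 3587)))) (.node (.node (.node (.leaf 573) (.leaf 2499)) (.node (.leaf 1954) (.leaf 3767))) (.node (.node (.leaf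 533) (.leaf 2208)) (.node (.leaf 1263) (.leaf 4020))))) (.node (.node (.node (.node (.leaf 382) (.leaf 2923)) (.node (.leaf 1843) (.leaf 2593))) (.node (.node (.leaf 560) (.leaf 3229)) (.node (.leaf 2438) (.leaf 3269)))) (.node (.node (.node (.leaf 769) (.leaf 3223)) (.node (.leaf 975) (.leaf 2924))) (.node (.node (.leaf 619) (.leaf 3618)) (.node (.leaf 1361) (.leaf 3832))))))) (.node (.node (.node (.node (.node (.node (.leaf 116) (.leaf 2829)) (.node (.leaf 685) (.leaf 3662))) (.node (.node (.leaf 915) (.leaf 2262)) (.node (.leaf 1043) (.leaf 3735)))) (.node (.node (.node (.leaf 171) (.leaf 1670)) (.node (.leaf 1975) (.leaf 3870))) (.node (.node (.leaf 1291) (.leaf 3174)) (.node (.leaf 2560) (.leaf 3443))))) (.node (.node (.node (.node (.leaf 335) (.leaf 2951)) (.node (.leaf 1131) (.leaf 2559))) (.node (.node (.leaf 870) (.leaf 3407)) (.node (.leaf 2391) (.leaf 3440)))) (.node (.node (.node (.leaf 715) (.leaf 3183)) (.node (.leaf 956) (.leaf 3748))) (.node (.node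 (.leaf 598) (.leaf 3328)) (.node (.leaf 2687) (.leaf 3952)))))) (.node (.node (.node (.node (.node (.leaf 145) (.leaf 1508)) (.node (.leaf 1704) (.leaf 2491))) (.node (.node (.leaf 950) (.leaf 1961)) (.node (.leaf 2349) (.leaf 3262)))) (.node (.node (.node (.leaf 625) (.leaf 2060)) (.node (.leaf 905) (.leaf 2790))) (.node (.node (.leaf 720) (.leaf 3482)) (.node (.leaf 1288) (.leaf 3583))))) (.node (.node (.node (.node (.leaf 430) (.leaf 2465)) (.node (.leaf 1892) (.leaf 2894))) (.node (.node (.leaf 482) (.leaf 3280)) (.node (.leaf 2484) (.leaf 4058)))) (.node (.node (.node (.leaf 346) (.leaf 1851)) (.node (.leaf 1855) (.leaf 3930))) (.node (.node (.leaf 643) (.leaf 3194)) (.node (.leaf 2737) (.leaf 4024))))))))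

def twoNext101 : Janko.Tree (ℕ) :=
  (.node (.node (.node (.node (.node (.node (.node (.leaf 10) (.leaf 2790)) (.node (.leaf 661) (.leaf 2413))) (.node (.node (.leaf 861) (.leaf 1869)) (.node (.leaf 2241) (.leaf 3017)))) (.node (.node (.node (.leaf 152) (.leaf 2774)) (.node (.leaf 1821) (.leaf 3855))) (.node (.node (.leaf 488) (.leaf 2380)) (.node (.leaf 1301) (.leaf 3371))))) (.node (.node (.node (.node (.leaf 283) (.leaf 1534)) (.node (.leaf 748) (.leaf 3768))) (.node (.node (.leaf 1056) (.leaf 3386)) (.node (.leaf 1130) (.leaf 4017)))) (.node (.node (.node (.leaf 232) (.leaf 1767)) (.node (.leaf 925) (.leaf 3688))) (.node (.node (.leaf 573) (.leaf 2247)) (.node (.leaf 2667) (.leaf 3690)))))) (.node (.node (.node (.node (.node (.leaf 176) (.leaf 2869)) (.node (.leaf 1551) (.leaf 3666))) (.node (.node (.leaf 361) (.leaf 3137)) (.node (.leaf 1068) (.leaf 3511)))) (.node (.node (.node (.leaf 191) (.leaf 1707)) (.node (.leaf 876) (.leaf 2870))) (.node (.node (.leaf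 1337) (.leaf 3539)) (.node (.leaf 2601) (.leaf 3505))))) (.node (.node (.node (.node (.leaf 132) (.leaf 1573)) (.node (.leaf 1845) (.leaf 2590))) (.node (.node (.leaf 1148) (.leaf 3432)) (.node (.leaf 1170) (.leaf 4026)))) (.node (.node (.node (.leaf 770) (.leaf 1812)) (.node (.leaf 2177) (.leaf 3947))) (.node (.node (.leaf 1510) (.leaf 2326)) (.node (.leaf 2727) (.leaf 3836))))))) (.node (.node (.node (.node (.node (.node (.leaf 32) (.leaf 1713)) (.node (.leaf 1520) (.leaf 2438))) (.node (.node (.leaf 341) (.leaf 1897)) (.node (.leaf 2284) (.leaf 3066)))) (.node (.node (.node (.leaf 529) (.leaf 3061)) (.node (.leaf 857) (.leaf 3861))) (.node (.node (.leaf 1288) (.leaf 2307)) (.node (.leaf 1243) (.leaf 3434))))) (.node (.node (.node (.node (.leaf 95) (.leaf 2958)) (.node (.leaf 771) (.leaf 3793))) (.node (.node (.leaf 1102) (.leaf 2029)) (.node (.leaf 2403) (.leaf 3282)))) (.node (.node (.node (.leaf 712) (.leaf 3189)) (.node (.leaf 2138) (.leaf 3025))) (.node (.node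 (.leaf 1466) (.leaf 2287)) (.node (.leaf 2694) (.leaf 3805)))))) (.node (.node (.node (.node (.node (.leaf 59) (.leaf 1604)) (.node (.leaf 727) (.leaf 3745))) (.node (.node (.leaf 384) (.leaf 3360)) (.node (.leaf 1090) (.leaf 4008)))) (.node (.node (.node (.leaf 211) (.leaf 1959)) (.node (.leaf 899) (.leaf 3898))) (.node (.node (.leaf 555) (.leaf 2208)) (.node (.leaf 2508) (.leaf 3591))))) (.node (.node (.node (.node (.leaf 133) (.leaf 1661)) (.node (.leaf 814) (.leaf 2635))) (.node (.node (.leaf 467) (.leaf 3467)) (.node (.leaf 1196) (.leaf 3382)))) (.node (.node (.node (.leaf 816) (.leaf 1963)) (.node (.leaf 2214) (.leaf 2959))) (.node (.node (.leaf 1558) (.leaf 2370)) (.node (.leaf 2755) (.leaf 4028))))))))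

def twoNext102 : Janko.Tree (ℕ) :=
  (.node (.node (.node (.node (.node (.node (.node (.leaf 56) (.leaf 1418)) (.node (.leaf 1603) (.leaf 3654))) (.node (.node (.leaf 436) (.leaf 3284)) (.node (.leaf 1019) (.leaf 3009)))) (.node (.node (.node (.leaf 186) (.leaf 3034)) (.node (.leaf 1936) (.leaf 2671))) (.node (.node (.leaf 1243) (.leaf 3492)) (.node (.leaf 2526) (.leaf 3413))))) (.node (.node (.node (.node (.leaf 282) (.leaf 1520)) (.node (.leaf 1048) (.leaf 2521))) (.node (.node (.leaf 404) (.leaf 1992)) (.node (.leaf 1118) (.leaf 3186)))) (.node (.node (.node (.leaf 667) (.leaf 3145)) (.node (.leaf 2092) (.leaf 2824))) (.node (.node (.leaf 1428) (.leaf 3575)) (.node (.leaf 1320) (.leaf 3676)))))) (.node (.node (.node (.node (.node (.leaf 42) (.leaf 2728)) (.node (.leaf 703) (.leaf 3007))) (.node (.node (.leaf 940) (.leaf 3322)) (.node (.leaf 2317) (.leaf 3990)))) (.node (.node (.node (.leaf 569) (.leaf 3052)) (.node (.leaf 1943) (.leaf 3667))) (.node (.node (.leaf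 558) (.leaf 2198)) (.node (.leaf 2599) (.leaf 3514))))) (.node (.node (.node (.node (.leaf 113) (.leaf 2985)) (.node (.leaf 1844) (.leaf 3766))) (.node (.node (.leaf 603) (.leaf 2064)) (.node (.leaf 1560) (.leaf 3546)))) (.node (.node (.node (.leaf 763) (.leaf 3225)) (.node (.leaf 973) (.leaf 2936))) (.node (.node (.leaf 625) (.leaf 3623)) (.node (.leaf 2726) (.leaf 3831))))))) (.node (.node (.node (.node (.node (.node (.leaf 118) (.leaf 2830)) (.node (.leaf 1640) (.leaf 3697))) (.node (.node (.leaf 345) (.leaf 3309)) (.node (.leaf 1041) (.leaf 3925)))) (.node (.node (.node (.leaf 170) (.leaf 3055)) (.node (.leaf 1976) (.leaf 3872))) (.node (.node (.leaf 1293) (.leaf 2141)) (.node (.leaf 2558) (.leaf 4068))))) (.node (.node (.node (.node (.leaf 311) (.leaf 1543)) (.node (.leaf 1145) (.leaf 2557))) (.node (.node (.leaf 869) (.leaf 3387)) (.node (.leaf 1801) (.leaf 3431)))) (.node (.node (.node (.leaf 717) (.leaf 3191)) (.node (.leaf 996) (.leaf 2872))) (.node (.node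 (.leaf 630) (.leaf 3332)) (.node (.leaf 2697) (.leaf 3818)))))) (.node (.node (.node (.node (.node (.leaf 144) (.leaf 2901)) (.node (.leaf 1209) (.leaf 3065))) (.node (.node (.leaf 949) (.leaf 3359)) (.node (.leaf 1092) (.leaf 3139)))) (.node (.node (.node (.leaf 619) (.leaf 1742)) (.node (.leaf 2053) (.leaf 2792))) (.node (.node (.leaf 699) (.leaf 3563)) (.node (.leaf 2634) (.leaf 4043))))) (.node (.node (.node (.node (.leaf 431) (.leaf 2464)) (.node (.leaf 816) (.leaf 2893))) (.node (.node (.leaf 1196) (.leaf 2089)) (.node (.leaf 2482) (.leaf 3397)))) (.node (.node (.node (.leaf 297) (.leaf 3232)) (.node (.leaf 2216) (.leaf 3938))) (.node (.node (.leaf 1330) (.leaf 3193)) (.node (.leaf 1388) (.leaf 4023))))))))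

def twoNext103 : Janko.Tree (ℕ) :=
  (.node (.node (.node (.node (.node (.node (.node (.leaf 57) (.leaf 2791)) (.node (.leaf 1604) (.leaf 3663))) (.node (.node (.leaf 319) (.leaf 1866)) (.node (.leaf 1018) (.leaf 3970)))) (.node (.node (.node (.leaf 478) (.leaf 3036)) (.node (.leaf 833) (.leaf 2759))) (.node (.node (.leaf 1175) (.leaf 2114)) (.node (.leaf 1218) (.leaf 3369))))) (.node (.node (.node (.node (.leaf 76) (.leaf 2930)) (.node (.leaf 745) (.leaf 2593))) (.node (.node (.leaf 1057) (.leaf 2000)) (.node (.leaf 1115) (.leaf 3180)))) (.node (.node (.node (.leaf 672) (.leaf 3154)) (.node (.leaf 988) (.leaf 2823))) (.node (.node (.leaf 1429) (.leaf 3458)) (.node (.leaf 1311) (.leaf 4082)))))) (.node (.node (.node (.node (.node (.leaf 177) (.leaf 2734)) (.node (.leaf 1686) (.leaf 2463))) (.node (.node (.leaf 933) (.leaf 2094)) (.node (.leaf 2318) (.leaf 3108)))) (.node (.node (.node (.leaf 574) (.leaf 2497)) (.node (.leaf 1942) (.leaf 2761))) (.node (.node (.leaf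 532) (.leaf 2174)) (.node (.leaf 2602) (.leaf 3513))))) (.node (.node (.node (.node (.leaf 112) (.leaf 2971)) (.node (.leaf 791) (.leaf 2991))) (.node (.node (.leaf 448) (.leaf 2063)) (.node (.leaf 1570) (.leaf 3565)))) (.node (.node (.node (.leaf 277) (.leaf 3226)) (.node (.leaf 972) (.leaf 2911))) (.node (.node (.leaf 651) (.leaf 3616)) (.node (.leaf 1359) (.leaf 3877))))))) (.node (.node (.node (.node (.node (.node (.leaf 25) (.leaf 1442)) (.node (.leaf 1641) (.leaf 3698))) (.node (.node (.leaf 916) (.leaf 3310)) (.node (.leaf 1040) (.leaf 3782)))) (.node (.node (.node (.leaf 530) (.leaf 2668)) (.node (.leaf 1977) (.leaf 2712))) (.node (.node (.leaf 511) (.leaf 3506)) (.node (.leaf 2561) (.leaf 3441))))) (.node (.node (.node (.node (.leaf 310) (.leaf 1542)) (.node (.leaf 1801) (.leaf 2556))) (.node (.node (.leaf 428) (.leaf 3408)) (.node (.leaf 1145) (.leaf 3227)))) (.node (.node (.node (.leaf 255) (.leaf 1787)) (.node (.leaf 952) (.leaf 3929))) (.node (.node (.leaf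 596) (.leaf 3604)) (.node (.leaf 1337) (.leaf 3757)))))) (.node (.node (.node (.node (.node (.leaf 229) (.leaf 1489)) (.node (.leaf 1721) (.leaf 2598))) (.node (.node (.leaf 1004) (.leaf 1959)) (.node (.leaf 2350) (.leaf 3554)))) (.node (.node (.node (.leaf 626) (.leaf 2053)) (.node (.leaf 1742) (.leaf 3824))) (.node (.node (.leaf 1384) (.leaf 3564)) (.node (.leaf 1286) (.leaf 4075))))) (.node (.node (.node (.node (.leaf 432) (.leaf 1605)) (.node (.leaf 1893) (.leaf 3834))) (.node (.node (.leaf 480) (.leaf 2088)) (.node (.leaf 2485) (.leaf 3320)))) (.node (.node (.node (.leaf 344) (.leaf 1842)) (.node (.leaf 997) (.leaf 3919))) (.node (.node (.leaf 1559) (.leaf 3294)) (.node (.leaf 1387) (.leaf 4052))))))))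

def twoNext104 : Janko.Tree (ℕ) :=
  (.node (.node (.node (.node (.node (.node (.node (.leaf 11) (.leaf 2789)) (.node (.leaf 662) (.leaf 2414))) (.node (.node (.leaf 862) (.leaf 1868)) (.node (.leaf 1034) (.leaf 3011)))) (.node (.node (.node (.leaf 154) (.leaf 3036)) (.node (.leaf 852) (.leaf 3044))) (.node (.node (.leaf 489) (.leaf 3480)) (.node (.leaf 2527) (.leaf 3389))))) (.node (.node (.node (.node (.leaf 282) (.leaf 1522)) (.node (.leaf 752) (.leaf 3766))) (.node (.node (.leaf 406) (.leaf 1994)) (.node (.leaf 1876) (.leaf 3503)))) (.node (.node (.node (.leaf 539) (.leaf 1768)) (.node (.leaf 926) (.leaf 2937))) (.node (.node (.leaf 574) (.leaf 2248)) (.node (.leaf 2668) (.leaf 4082)))))) (.node (.node (.node (.node (.node (.leaf 175) (.leaf 2827)) (.node (.leaf 705) (.leaf 2992))) (.node (.node (.leaf 362) (.leaf 2115)) (.node (.leaf 2296) (.leaf 3982)))) (.node (.node (.node (.leaf 505) (.leaf 1708)) (.node (.leaf 1953) (.leaf 3887))) (.node (.node (.leaf 721)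 (.leaf 3335)) (.node (.leaf 2602) (.leaf 3577))))) (.node (.node (.node (.node (.leaf 358) (.leaf 2773)) (.node (.leaf 1846) (.leaf 2591))) (.node (.node (.leaf 1149) (.leaf 2065)) (.node (.leaf 1414) (.leaf 3565)))) (.node (.node (.node (.leaf 771) (.leaf 2270)) (.node (.leaf 974) (.leaf 3714))) (.node (.node (.leaf 1511) (.leaf 2327)) (.node (.leaf 2728) (.leaf 3833))))))) (.node (.node (.node (.node (.node (.node (.leaf 83) (.leaf 2476)) (.node (.leaf 1640) (.leaf 2803))) (.node (.node (.leaf 913) (.leaf 2213)) (.node (.leaf 1042) (.leaf 3070)))) (.node (.node (.node (.leaf 172) (.leaf 1672)) (.node (.leaf 1978) (.leaf 2910))) (.node (.node (.leaf 657) (.leaf 3175)) (.node (.leaf 2529) (.leaf 3435))))) (.node (.node (.node (.node (.leaf 96) (.leaf 2959)) (.node (.leaf 1802) (.leaf 2567))) (.node (.node (.leaf 1103) (.leaf 2047)) (.node (.leaf 2048) (.leaf 3535)))) (.node (.node (.node (.leaf 718) (.leaf 1870)) (.node (.leaf 2101) (.leaf 3749))) (.node (.node (.leaf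 1467) (.leaf 2289)) (.node (.leaf 1338) (.leaf 3895)))))) (.node (.node (.node (.node (.node (.leaf 61) (.leaf 2418)) (.node (.leaf 1699) (.leaf 3065))) (.node (.node (.leaf 385) (.leaf 3361)) (.node (.leaf 2347) (.leaf 3140)))) (.node (.node (.node (.leaf 623) (.leaf 3112)) (.node (.leaf 900) (.leaf 3824))) (.node (.node (.leaf 689) (.leaf 3292)) (.node (.leaf 2635) (.leaf 3990))))) (.node (.node (.node (.node (.leaf 325) (.leaf 3009)) (.node (.leaf 1890) (.leaf 2636))) (.node (.node (.leaf 468) (.leaf 3466)) (.node (.leaf 1258) (.leaf 3485)))) (.node (.node (.node (.leaf 809) (.leaf 3217)) (.node (.leaf 1840) (.leaf 2960))) (.node (.node (.leaf 1330) (.leaf 2400)) (.node (.leaf 1393) (.leaf 4076))))))))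

def twoNext105 : Janko.Tree (ℕ) :=
  (.node (.node (.node (.node (.node (.node (.node (.leaf 58) (.leaf 2787)) (.node (.leaf 1605) (.leaf 3664))) (.node (.node (.leaf 320) (.leaf 3266)) (.node (.leaf 1125) (.leaf 3906)))) (.node (.node (.node (.leaf 479) (.leaf 3037)) (.node (.leaf 834) (.leaf 2673))) (.node (.node (.leaf 1244) (.leaf 2115)) (.node (.leaf 1219) (.leaf 3998))))) (.node (.node (.node (.node (.leaf 284) (.leaf 2931)) (.node (.leaf 746) (.leaf 3043))) (.node (.node (.leaf 973) (.leaf 3387)) (.node (.leaf 1117) (.leaf 3182)))) (.node (.node (.node (.leaf 673) (.leaf 3155)) (.node (.leaf 2093) (.leaf 2825))) (.node (.node (.leaf 1430) (.leaf 3584)) (.node (.leaf 1313) (.leaf 3867)))))) (.node (.node (.node (.node (.node (.leaf 172) (.leaf 1465)) (.node (.leaf 1687) (.leaf 2465))) (.node (.node (.leaf 959) (.leaf 1929)) (.node (.leaf 2319) (.leaf 3109)))) (.node (.node (.node (.leaf 575) (.leaf 2803)) (.node (.leaf 879) (.leaf 2762))) (.node (.node (.leaf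 1338) (.leaf 2175)) (.node (.leaf 2603) (.leaf 3507))))) (.node (.node (.node (.node (.leaf 386) (.leaf 1574)) (.node (.leaf 792) (.leaf 3814))) (.node (.node (.leaf 449) (.leaf 2111)) (.node (.leaf 2439) (.leaf 3276)))) (.node (.node (.node (.leaf 278) (.leaf 1813)) (.node (.leaf 2178) (.leaf 2912))) (.node (.node (.leaf 620) (.leaf 2349)) (.node (.leaf 1360) (.leaf 4082))))))) (.node (.node (.node (.node (.node (.node (.leaf 26) (.leaf 1443)) (.node (.leaf 1642) (.leaf 2749))) (.node (.node (.leaf 357) (.leaf 3311)) (.node (.leaf 2285) (.leaf 3080)))) (.node (.node (.node (.leaf 531) (.leaf 3007)) (.node (.leaf 858) (.leaf 2713))) (.node (.node (.leaf 512) (.leaf 3514)) (.node (.leaf 2562) (.leaf 3449))))) (.node (.node (.node (.node (.leaf 336) (.leaf 1544)) (.node (.leaf 772) (.leaf 2557))) (.node (.node (.leaf 429) (.leaf 3409)) (.node (.leaf 1146) (.leaf 3228)))) (.node (.node (.node (.leaf 256) (.leaf 3192)) (.node (.leaf 953) (.leaf 2874))) (.node (.node (.leaf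 598) (.leaf 3605)) (.node (.leaf 2440) (.leaf 3801)))))) (.node (.node (.node (.node (.node (.leaf 230) (.leaf 1490)) (.node (.leaf 1722) (.leaf 3660))) (.node (.node (.leaf 1005) (.leaf 1960)) (.node (.leaf 1099) (.leaf 4009)))) (.node (.node (.node (.leaf 241) (.leaf 1743)) (.node (.leaf 2054) (.leaf 3032))) (.node (.node (.leaf 1385) (.leaf 2212)) (.node (.leaf 1287) (.leaf 3585))))) (.node (.node (.node (.node (.leaf 433) (.leaf 1606)) (.node (.leaf 1880) (.leaf 3677))) (.node (.node (.leaf 1197) (.leaf 2294)) (.node (.leaf 2486) (.leaf 3375)))) (.node (.node (.node (.leaf 298) (.leaf 1844)) (.node (.leaf 998) (.leaf 3960))) (.node (.node (.leaf 1560) (.leaf 3641)) (.node (.leaf 2623) (.leaf 4029))))))))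

def twoNext106 : Janko.Tree (ℕ) :=
  (.node (.node (.node (.node (.node (.node (.node (.leaf 59) (.leaf 2791)) (.node (.leaf 661) (.leaf 2904))) (.node (.node (.leaf 863) (.leaf 1867)) (.node (.leaf 1020) (.leaf 3970)))) (.node (.node (.node (.leaf 153) (.leaf 3035)) (.node (.leaf 851) (.leaf 2759))) (.node (.node (.leaf 1235) (.leaf 3477)) (.node (.leaf 1403) (.leaf 3374))))) (.node (.node (.node (.node (.leaf 78) (.leaf 2930)) (.node (.leaf 1762) (.leaf 2593))) (.node (.node (.leaf 1057) (.leaf 1995)) (.node (.leaf 2277) (.leaf 4018)))) (.node (.node (.node (.leaf 233) (.leaf 2299)) (.node (.leaf 925) (.leaf 3855))) (.node (.node (.leaf 1421) (.leaf 3265)) (.node (.leaf 1663) (.leaf 3678)))))) (.node (.node (.node (.node (.node (.leaf 177) (.leaf 2820)) (.node (.leaf 1686) (.leaf 2520))) (.node (.node (.leaf 846) (.leaf 2108)) (.node (.leaf 1069) (.leaf 3981)))) (.node (.node (.node (.leaf 192) (.leaf 3083)) (.node (.leaf 2019) (.leaf 3888))) (.node (.node (.leaf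 707) (.leaf 3540)) (.node (.leaf 2600) (.leaf 4063))))) (.node (.node (.node (.node (.leaf 114) (.leaf 2984)) (.node (.leaf 1847) (.leaf 2590))) (.node (.node (.leaf 1150) (.leaf 3433)) (.node (.leaf 1171) (.leaf 3272)))) (.node (.node (.node (.leaf 751) (.leaf 3215)) (.node (.leaf 978) (.leaf 3801))) (.node (.node (.leaf 1512) (.leaf 2329)) (.node (.leaf 1464) (.leaf 3877))))))) (.node (.node (.node (.node (.node (.node (.leaf 119) (.leaf 2831)) (.node (.leaf 685) (.leaf 2798))) (.node (.node (.leaf 342) (.leaf 1898)) (.node (.leaf 1046) (.leaf 3967)))) (.node (.node (.node (.leaf 530) (.leaf 1671)) (.node (.leaf 1979) (.leaf 3871))) (.node (.node (.leaf 1294) (.leaf 3506)) (.node (.leaf 1244) (.leaf 3437))))) (.node (.node (.node (.node (.leaf 281) (.leaf 2960)) (.node (.leaf 1803) (.leaf 3794))) (.node (.node (.leaf 1104) (.leaf 2031)) (.node (.leaf 2318) (.leaf 4032)))) (.node (.node (.node (.leaf 716) (.leaf 1897)) (.node (.leaf 2098) (.leaf 3929))) (.node (.node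 (.leaf 1373) (.leaf 3327)) (.node (.leaf 2698) (.leaf 3950)))))) (.node (.node (.node (.node (.node (.leaf 60) (.leaf 2417)) (.node (.leaf 728) (.leaf 2491))) (.node (.node (.leaf 395) (.leaf 1962)) (.node (.leaf 1091) (.leaf 3219)))) (.node (.node (.node (.leaf 212) (.leaf 3113)) (.node (.leaf 899) (.leaf 2793))) (.node (.node (.leaf 556) (.leaf 3297)) (.node (.leaf 1435) (.leaf 3587))))) (.node (.node (.node (.node (.leaf 134) (.leaf 3010)) (.node (.leaf 815) (.leaf 2649))) (.node (.node (.leaf 472) (.leaf 2090)) (.node (.leaf 1257) (.leaf 3530)))) (.node (.node (.node (.leaf 817) (.leaf 3143)) (.node (.leaf 2215) (.leaf 2959))) (.node (.node (.leaf 643) (.leaf 2372)) (.node (.leaf 1389) (.leaf 4069))))))))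

def twoNext107 : Janko.Tree (ℕ) :=
  (.node (.node (.node (.node (.node (.node (.node (.leaf 60) (.leaf 1418)) (.node (.leaf 1606) (.leaf 2621))) (.node (.node (.leaf 864) (.leaf 3278)) (.node (.leaf 2253) (.leaf 3009)))) (.node (.node (.node (.leaf 152) (.leaf 1636)) (.node (.leaf 1937) (.leaf 2671))) (.node (.node (.leaf 1245) (.leaf 3493)) (.node (.leaf 2528) (.leaf 3410))))) (.node (.node (.node (.node (.leaf 77) (.leaf 1520)) (.node (.leaf 798) (.leaf 2521))) (.node (.node (.leaf 404) (.leaf 1993)) (.node (.leaf 2276) (.leaf 4019)))) (.node (.node (.node (.leaf 232) (.leaf 3156)) (.node (.leaf 993) (.leaf 3856))) (.node (.node (.leaf 573) (.leaf 3127)) (.node (.leaf 1670) (.leaf 3677)))))) (.node (.node (.node (.node (.node (.leaf 42) (.leaf 2819)) (.node (.leaf 703) (.leaf 2519))) (.node (.node (.leaf 932) (.leaf 3334)) (.node (.leaf 1765) (.leaf 3991)))) (.node (.node (.node (.leaf 191) (.leaf 3047)) (.node (.leaf 2020) (.leaf 3889))) (.node (.node (.leaf 534)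 (.leaf 3541)) (.node (.leaf 1263) (.leaf 3533))))) (.node (.node (.node (.node (.leaf 387) (.leaf 2771)) (.node (.leaf 1848) (.leaf 3061))) (.node (.node (.leaf 1151) (.leaf 3434)) (.node (.leaf 2440) (.leaf 3269)))) (.node (.node (.node (.leaf 750) (.leaf 2052)) (.node (.leaf 2001) (.leaf 3803))) (.node (.node (.leaf 1513) (.leaf 3624)) (.node (.leaf 2729) (.leaf 3831))))))) (.node (.node (.node (.node (.node (.node (.leaf 120) (.leaf 2832)) (.node (.leaf 1643) (.leaf 2439))) (.node (.node (.leaf 341) (.leaf 3285)) (.node (.leaf 2286) (.leaf 3966)))) (.node (.node (.node (.leaf 170) (.leaf 3054)) (.node (.leaf 1980) (.leaf 2908))) (.node (.node (.leaf 681) (.leaf 2141)) (.node (.leaf 2563) (.leaf 4053))))) (.node (.node (.node (.node (.leaf 337) (.leaf 2961)) (.node (.leaf 1804) (.leaf 2565))) (.node (.node (.leaf 1105) (.leaf 2030)) (.node (.leaf 2317) (.leaf 4033)))) (.node (.node (.node (.leaf 719) (.leaf 1788)) (.node (.leaf 2097) (.leaf 2872))) (.node (.node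 (.leaf 1383) (.leaf 2287)) (.node (.leaf 2699) (.leaf 3758)))))) (.node (.node (.node (.node (.node (.leaf 59) (.leaf 2902)) (.node (.leaf 727) (.leaf 2624))) (.node (.node (.leaf 384) (.leaf 3362)) (.node (.leaf 1090) (.leaf 3622)))) (.node (.node (.node (.leaf 211) (.leaf 3114)) (.node (.leaf 1745) (.leaf 2790))) (.node (.node (.leaf 555) (.leaf 2209)) (.node (.leaf 2636) (.leaf 3989))))) (.node (.node (.node (.node (.leaf 133) (.leaf 3011)) (.node (.leaf 814) (.leaf 2635))) (.node (.node (.leaf 1198) (.leaf 3468)) (.node (.leaf 1197) (.leaf 3321)))) (.node (.node (.node (.leaf 818) (.leaf 3142)) (.node (.leaf 2217) (.leaf 3868))) (.node (.node (.leaf 1561) (.leaf 3391)) (.node (.leaf 2740) (.leaf 4072))))))))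

def twoNext108 : Janko.Tree (ℕ) :=
  (.node (.node (.node (.node (.node (.node (.node (.leaf 59) (.leaf 2792)) (.node (.leaf 663) (.leaf 2904))) (.node (.node (.leaf 410) (.leaf 2173)) (.node (.leaf 1035) (.leaf 3970)))) (.node (.node (.node (.leaf 480) (.leaf 1643)) (.node (.leaf 837) (.leaf 2919))) (.node (.node (.leaf 1245) (.leaf 3334)) (.node (.leaf 2526) (.leaf 3376))))) (.node (.node (.node (.node (.leaf 285) (.leaf 2932)) (.node (.leaf 747) (.leaf 2782))) (.node (.node (.leaf 1058) (.leaf 2147)) (.node (.leaf 1118) (.leaf 3191)))) (.node (.node (.node (.leaf 664) (.leaf 2299)) (.node (.leaf 2094) (.leaf 2875))) (.node (.node (.leaf 1431) (.leaf 2272)) (.node (.leaf 1317) (.leaf 3689)))))) (.node (.node (.node (.node (.node (.leaf 66) (.leaf 2826)) (.node (.leaf 1688) (.leaf 2467))) (.node (.node (.leaf 772) (.leaf 1952)) (.node (.leaf 1120) (.leaf 3534)))) (.node (.node (.node (.leaf 205) (.leaf 3083)) (.node (.leaf 880) (.leaf 2763))) (.node (.node (.leaf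 1339) (.leaf 3113)) (.node (.leaf 2546) (.leaf 3595))))) (.node (.node (.node (.node (.leaf 326) (.leaf 2679)) (.node (.leaf 1048) (.leaf 3744))) (.node (.node (.leaf 1152) (.leaf 3433)) (.node (.leaf 2436) (.leaf 3272)))) (.node (.node (.node (.leaf 363) (.leaf 2056)) (.node (.leaf 2001) (.leaf 2913))) (.node (.node (.leaf 1454) (.leaf 3624)) (.node (.leaf 2726) (.leaf 3954))))))) (.node (.node (.node (.node (.node (.node (.leaf 27) (.leaf 1515)) (.node (.leaf 1641) (.leaf 2441))) (.node (.node (.leaf 740) (.leaf 2214)) (.node (.leaf 2286) (.leaf 3727)))) (.node (.node (.node (.leaf 532) (.leaf 2542)) (.node (.leaf 859) (.leaf 3873))) (.node (.node (.leaf 513) (.leaf 3483)) (.node (.leaf 2553) (.leaf 4053))))) (.node (.node (.node (.node (.leaf 281) (.leaf 1545)) (.node (.leaf 773) (.leaf 2558))) (.node (.node (.leaf 868) (.leaf 2149)) (.node (.leaf 2380) (.leaf 3230)))) (.node (.node (.node (.leaf 534) (.leaf 3193)) (.node (.leaf 954) (.leaf 3840))) (.node (.node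 (.leaf 627) (.leaf 2293)) (.node (.leaf 2698) (.leaf 3905)))))) (.node (.node (.node (.node (.node (.leaf 231) (.leaf 1493)) (.node (.leaf 1694) (.leaf 2598))) (.node (.node (.leaf 386) (.leaf 3359)) (.node (.leaf 1092) (.leaf 3219)))) (.node (.node (.node (.leaf 588) (.leaf 1744)) (.node (.leaf 2055) (.leaf 3817))) (.node (.node (.leaf 1386) (.leaf 2211)) (.node (.leaf 2634) (.leaf 4062))))) (.node (.node (.node (.node (.leaf 294) (.leaf 2459)) (.node (.leaf 816) (.leaf 2853))) (.node (.node (.leaf 1198) (.leaf 3307)) (.node (.leaf 2487) (.leaf 3502)))) (.node (.node (.node (.leaf 299) (.leaf 2252)) (.node (.leaf 999) (.leaf 3694))) (.node (.node (.leaf 1559) (.leaf 2374)) (.node (.leaf 2731) (.leaf 4077))))))))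

def twoNext109 : Janko.Tree (ℕ) :=
  (.node (.node (.node (.node (.node (.node (.node (.leaf 52) (.leaf 1419)) (.node (.leaf 1491) (.leaf 2418))) (.node (.node (.leaf 865) (.leaf 1868)) (.node (.leaf 2254) (.leaf 3969)))) (.node (.node (.node (.leaf 153) (.leaf 3038)) (.node (.leaf 1938) (.leaf 2672))) (.node (.node (.leaf 533) (.leaf 3494)) (.node (.leaf 2510) (.leaf 3994))))) (.node (.node (.node (.node (.leaf 78) (.leaf 1521)) (.node (.leaf 1763) (.leaf 2523))) (.node (.node (.leaf 405) (.leaf 1995)) (.node (.leaf 2378) (.leaf 3345)))) (.node (.node (.node (.leaf 234) (.leaf 1772)) (.node (.leaf 926) (.leaf 2827))) (.node (.node (.leaf 574) (.leaf 2250)) (.node (.leaf 2669) (.leaf 3679)))))) (.node (.node (.node (.node (.node (.leaf 43) (.leaf 1467)) (.node (.leaf 704) (.leaf 2480))) (.node (.node (.leaf 960) (.leaf 3335)) (.node (.leaf 1070) (.leaf 3992)))) (.node (.node (.node (.leaf 576) (.leaf 3084)) (.node (.leaf 1773) (.leaf 3890))) (.node (.node (.leaf 535)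 (.leaf 2176)) (.node (.leaf 1264) (.leaf 3518))))) (.node (.node (.node (.node (.leaf 388) (.leaf 2986)) (.node (.leaf 1849) (.leaf 2594))) (.node (.node (.leaf 450) (.leaf 3435)) (.node (.leaf 2441) (.leaf 4047)))) (.node (.node (.node (.leaf 279) (.leaf 3227)) (.node (.leaf 2161) (.leaf 3713))) (.node (.node (.leaf 1514) (.leaf 2334)) (.node (.leaf 1374) (.leaf 3839))))))) (.node (.node (.node (.node (.node (.node (.leaf 121) (.leaf 2833)) (.node (.leaf 1639) (.leaf 3699))) (.node (.node (.leaf 917) (.leaf 3310)) (.node (.leaf 1059) (.leaf 3073)))) (.node (.node (.node (.leaf 171) (.leaf 1672)) (.node (.leaf 1741) (.leaf 2714))) (.node (.node (.leaf 1295) (.leaf 2142)) (.node (.leaf 2564) (.leaf 3624))))) (.node (.node (.node (.node (.leaf 100) (.leaf 2962)) (.node (.leaf 1805) (.leaf 2579))) (.node (.node (.leaf 430) (.leaf 2031)) (.node (.leaf 2404) (.leaf 4023)))) (.node (.node (.node (.leaf 720) (.leaf 1789)) (.node (.leaf 2139) (.leaf 3886))) (.node (.node (.leaf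 1468) (.leaf 3606)) (.node (.leaf 2700) (.leaf 3762)))))) (.node (.node (.node (.node (.node (.leaf 60) (.leaf 2903)) (.node (.leaf 728) (.leaf 3744))) (.node (.node (.leaf 1006) (.leaf 1969)) (.node (.leaf 2060) (.leaf 3142)))) (.node (.node (.node (.leaf 627) (.leaf 1782)) (.node (.leaf 900) (.leaf 2793))) (.node (.node (.leaf 556) (.leaf 2231)) (.node (.leaf 1303) (.leaf 3590))))) (.node (.node (.node (.node (.leaf 134) (.leaf 1607)) (.node (.leaf 1894) (.leaf 2638))) (.node (.node (.leaf 1166) (.leaf 3469)) (.node (.leaf 1198) (.leaf 3326)))) (.node (.node (.node (.leaf 819) (.leaf 1848)) (.node (.leaf 1093) (.leaf 2963))) (.node (.node (.leaf 646) (.leaf 3443)) (.node (.leaf 1392) (.leaf 4035))))))))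

def twoNext110 : Janko.Tree (ℕ) :=
  (.node (.node (.node (.node (.node (.node (.node (.leaf 11) (.leaf 2790)) (.node (.leaf 1606) (.leaf 2414))) (.node (.node (.leaf 321) (.leaf 1904)) (.node (.leaf 2253) (.leaf 3011)))) (.node (.node (.node (.leaf 481) (.leaf 1641)) (.node (.leaf 835) (.leaf 2674))) (.node (.node (.leaf 508) (.leaf 2116)) (.node (.leaf 1220) (.leaf 3380))))) (.node (.node (.node (.node (.leaf 286) (.leaf 1523)) (.node (.leaf 746) (.leaf 2775))) (.node (.node (.leaf 409) (.leaf 2032)) (.node (.leaf 2377) (.leaf 3183)))) (.node (.node (.node (.leaf 674) (.leaf 1768)) (.node (.leaf 1914) (.leaf 3840))) (.node (.node (.leaf 1413) (.leaf 3364)) (.node (.leaf 1314) (.leaf 3945)))))) (.node (.node (.node (.node (.node (.leaf 178) (.leaf 2870)) (.node (.leaf 706) (.leaf 2466))) (.node (.node (.leaf 729) (.leaf 1930)) (.node (.leaf 2320) (.leaf 3110)))) (.node (.node (.node (.leaf 510) (.leaf 1708)) (.node (.leaf 879) (.leaf 2770))) (.node (.node (.leaf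 1340) (.leaf 3112)) (.node (.leaf 2536) (.leaf 4073))))) (.node (.node (.node (.node (.leaf 387) (.leaf 1575)) (.node (.leaf 793) (.leaf 3815))) (.node (.node (.leaf 1153) (.leaf 2065)) (.node (.leaf 2440) (.leaf 3565)))) (.node (.node (.node (.leaf 336) (.leaf 1815)) (.node (.leaf 979) (.leaf 3838))) (.node (.node (.leaf 621) (.leaf 2330)) (.node (.leaf 1361) (.leaf 3923))))))) (.node (.node (.node (.node (.node (.node (.leaf 26) (.leaf 1444)) (.node (.leaf 1643) (.leaf 2549))) (.node (.node (.leaf 343) (.leaf 3285)) (.node (.leaf 1047) (.leaf 3075)))) (.node (.node (.node (.leaf 526) (.leaf 2541)) (.node (.leaf 1981) (.leaf 2745))) (.node (.node (.leaf 512) (.leaf 3515)) (.node (.leaf 2563) (.leaf 3438))))) (.node (.node (.node (.node (.leaf 96) (.leaf 2963)) (.node (.leaf 1806) (.leaf 2560))) (.node (.node (.leaf 889) (.leaf 3368)) (.node (.leaf 1147) (.leaf 4034)))) (.node (.node (.node (.leaf 257) (.leaf 3194)) (.node (.leaf 2023) (.leaf 2875))) (.node (.node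 (.leaf 599) (.leaf 2369)) (.node (.leaf 1338) (.leaf 3817)))))) (.node (.node (.node (.node (.node (.leaf 232) (.leaf 1491)) (.node (.leaf 1723) (.leaf 2624))) (.node (.node (.leaf 947) (.leaf 1961)) (.node (.leaf 2349) (.leaf 3140)))) (.node (.node (.node (.leaf 213) (.leaf 3115)) (.node (.leaf 1818) (.leaf 3905))) (.node (.node (.leaf 1387) (.leaf 2210)) (.node (.leaf 1288) (.leaf 3586))))) (.node (.node (.node (.node (.leaf 434) (.leaf 2458)) (.node (.leaf 1892) (.leaf 2916))) (.node (.node (.leaf 473) (.leaf 3468)) (.node (.leaf 2488) (.leaf 3396)))) (.node (.node (.node (.leaf 803) (.leaf 2261)) (.node (.leaf 2218) (.leaf 3693))) (.node (.node (.leaf 1561) (.leaf 2379)) (.node (.leaf 1680) (.leaf 4033))))))))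

def twoNext111 : Janko.Tree (ℕ) :=
  (.node (.node (.node (.node (.node (.node (.node (.leaf 61) (.leaf 2793)) (.node (.leaf 661) (.leaf 3665))) (.node (.node (.leaf 408) (.leaf 2172)) (.node (.leaf 1020) (.leaf 3010)))) (.node (.node (.node (.leaf 482) (.leaf 1640)) (.node (.leaf 834) (.leaf 2758))) (.node (.node (.leaf 489) (.leaf 2115)) (.node (.leaf 1219) (.leaf 3375))))) (.node (.node (.node (.node (.leaf 287) (.leaf 2933)) (.node (.leaf 801) (.leaf 3769))) (.node (.node (.leaf 1059) (.leaf 2146)) (.node (.leaf 1117) (.leaf 3190)))) (.node (.node (.node (.leaf 675) (.leaf 3157)) (.node (.leaf 1928) (.leaf 2881))) (.node (.node (.leaf 1406) (.leaf 2265)) (.node (.leaf 2670) (.leaf 3687)))))) (.node (.node (.node (.node (.node (.leaf 179) (.leaf 2871)) (.node (.leaf 1689) (.leaf 3724))) (.node (.node (.leaf 363) (.leaf 1929)) (.node (.leaf 1147) (.leaf 3109)))) (.node (.node (.node (.leaf 193) (.leaf 3062)) (.node (.leaf 2021) (.leaf 3854))) (.node (.node (.leaf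 1341) (.leaf 3542)) (.node (.leaf 2535) (.leaf 4059))))) (.node (.node (.node (.node (.leaf 114) (.leaf 1574)) (.node (.leaf 1760) (.leaf 3742))) (.node (.node (.leaf 1154) (.leaf 3436)) (.node (.leaf 1171) (.leaf 3546)))) (.node (.node (.node (.leaf 772) (.leaf 3228)) (.node (.leaf 974) (.leaf 3876))) (.node (.node (.leaf 620) (.leaf 2327)) (.node (.leaf 1360) (.leaf 3931))))))) (.node (.node (.node (.node (.node (.node (.leaf 122) (.leaf 1484)) (.node (.leaf 685) (.leaf 2981))) (.node (.node (.leaf 808) (.leaf 1898)) (.node (.leaf 1042) (.leaf 3726)))) (.node (.node (.node (.leaf 533) (.leaf 2540)) (.node (.leaf 1982) (.leaf 3874))) (.node (.node (.leaf 686) (.leaf 3512)) (.node (.leaf 1244) (.leaf 3435))))) (.node (.node (.node (.node (.leaf 338) (.leaf 2733)) (.node (.leaf 1807) (.leaf 3795))) (.node (.node (.leaf 1106) (.leaf 2145)) (.node (.leaf 2320) (.leaf 3573)))) (.node (.node (.node (.leaf 721) (.leaf 3195)) (.node (.leaf 2033) (.leaf 3860))) (.node (.node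 (.leaf 1469) (.leaf 2290)) (.node (.leaf 2701) (.leaf 3759)))))) (.node (.node (.node (.node (.node (.leaf 233) (.leaf 1490)) (.node (.leaf 1627) (.leaf 2491))) (.node (.node (.leaf 1007) (.leaf 1960)) (.node (.leaf 2351) (.leaf 3252)))) (.node (.node (.node (.leaf 628) (.leaf 3116)) (.node (.leaf 1831) (.leaf 3658))) (.node (.node (.leaf 1388) (.leaf 3559)) (.node (.leaf 1287) (.leaf 3585))))) (.node (.node (.node (.node (.leaf 275) (.leaf 3012)) (.node (.leaf 1895) (.leaf 3835))) (.node (.node (.leaf 468) (.leaf 2090)) (.node (.leaf 2489) (.leaf 3323)))) (.node (.node (.node (.leaf 298) (.leaf 1845)) (.node (.leaf 2219) (.leaf 3810))) (.node (.node (.leaf 643) (.leaf 2373)) (.node (.leaf 1679) (.leaf 4032))))))))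

def twoNext112 : Janko.Tree (ℕ) :=
  (.node (.node (.node (.node (.node (.node (.node (.leaf 60) (.leaf 1546)) (.node (.leaf 1607) (.leaf 2621))) (.node (.node (.leaf 431) (.leaf 3278)) (.node (.leaf 1024) (.leaf 3740)))) (.node (.node (.node (.leaf 483) (.leaf 1651)) (.node (.leaf 836) (.leaf 2920))) (.node (.node (.leaf 1205) (.leaf 2117)) (.node (.leaf 1231) (.leaf 3516))))) (.node (.node (.node (.node (.leaf 79) (.leaf 2930)) (.node (.leaf 1764) (.leaf 2544))) (.node (.node (.leaf 1057) (.leaf 1996)) (.node (.leaf 2379) (.leaf 3612)))) (.node (.node (.node (.leaf 235) (.leaf 3156)) (.node (.leaf 934) (.leaf 3875))) (.node (.node (.leaf 575) (.leaf 3409)) (.node (.leaf 2666) (.leaf 3936)))))) (.node (.node (.node (.node (.node (.leaf 44) (.leaf 1571)) (.node (.leaf 1686) (.leaf 2468))) (.node (.node (.leaf 961) (.leaf 2110)) (.node (.leaf 1119) (.leaf 3111)))) (.node (.node (.node (.leaf 577) (.leaf 3047)) (.node (.leaf 881) (.leaf 2770))) (.node (.node (.leaf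 680) (.leaf 2177)) (.node (.leaf 2545) (.leaf 3522))))) (.node (.node (.node (.node (.leaf 389) (.leaf 1580)) (.node (.leaf 1842) (.leaf 2938))) (.node (.node (.leaf 451) (.leaf 3434)) (.node (.leaf 2442) (.leaf 3284)))) (.node (.node (.node (.leaf 398) (.leaf 1834)) (.node (.leaf 2179) (.leaf 3660))) (.node (.node (.leaf 1444) (.leaf 2330)) (.node (.leaf 1366) (.leaf 3946))))))) (.node (.node (.node (.node (.node (.node (.leaf 28) (.leaf 1450)) (.node (.leaf 1644) (.leaf 2549))) (.node (.node (.leaf 918) (.leaf 3250)) (.node (.leaf 2287) (.leaf 3879)))) (.node (.node (.node (.leaf 530) (.leaf 3054)) (.node (.leaf 1981) (.leaf 2879))) (.node (.node (.leaf 1296) (.leaf 2143)) (.node (.leaf 2565) (.leaf 3594))))) (.node (.node (.node (.node (.leaf 337) (.leaf 2963)) (.node (.leaf 1806) (.leaf 3795))) (.node (.node (.leaf 432) (.leaf 2144)) (.node (.leaf 1148) (.leaf 4034)))) (.node (.node (.node (.leaf 707) (.leaf 1790)) (.node (.leaf 1027) (.leaf 3868))) (.node (.node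 (.leaf 1465) (.leaf 3143)) (.node (.leaf 2699) (.leaf 3761)))))) (.node (.node (.node (.node (.node (.leaf 234) (.leaf 1492)) (.node (.leaf 1724) (.leaf 3745))) (.node (.node (.leaf 947) (.leaf 1962)) (.node (.leaf 2351) (.leaf 3622)))) (.node (.node (.node (.leaf 589) (.leaf 3115)) (.node (.leaf 1815) (.leaf 2794))) (.node (.node (.leaf 557) (.leaf 3215)) (.node (.leaf 1590) (.leaf 3592))))) (.node (.node (.node (.node (.leaf 135) (.leaf 1608)) (.node (.leaf 1895) (.leaf 2639))) (.node (.node (.leaf 1199) (.leaf 3463)) (.node (.leaf 1256) (.leaf 3325)))) (.node (.node (.node (.leaf 820) (.leaf 1847)) (.node (.leaf 2218) (.leaf 2986))) (.node (.node (.leaf 652) (.leaf 2375)) (.node (.leaf 1487) (.leaf 4078))))))))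

def twoNext113 : Janko.Tree (ℕ) :=
  (.node (.node (.node (.node (.node (.node (.node (.leaf 62) (.leaf 2794)) (.node (.leaf 662) (.leaf 2876))) (.node (.node (.leaf 322) (.leaf 3285)) (.node (.leaf 2255) (.leaf 3015)))) (.node (.node (.node (.leaf 154) (.leaf 1641)) (.node (.leaf 1939) (.leaf 3856))) (.node (.node (.leaf 491) (.leaf 3441)) (.node (.leaf 2529) (.leaf 3380))))) (.node (.node (.node (.node (.leaf 288) (.leaf 2928)) (.node (.leaf 747) (.leaf 3770))) (.node (.node (.leaf 1043) (.leaf 3388)) (.node (.leaf 1118) (.leaf 4020)))) (.node (.node (.node (.leaf 676) (.leaf 2039)) (.node (.leaf 2095) (.leaf 3909))) (.node (.node (.leaf 1432) (.leaf 2253)) (.node (.leaf 2591) (.leaf 3858)))))) (.node (.node (.node (.node (.node (.leaf 180) (.leaf 2872)) (.node (.leaf 717) (.leaf 3725))) (.node (.node (.leaf 364) (.leaf 1987)) (.node (.leaf 2321) (.leaf 3171)))) (.node (.node (.node (.leaf 194) (.leaf 1711)) (.node (.leaf 2022) (.leaf 2765))) (.node (.node (.leaf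 1342) (.leaf 3525)) (.node (.leaf 1267) (.leaf 3536))))) (.node (.node (.node (.node (.leaf 115) (.leaf 1716)) (.node (.leaf 794) (.leaf 2607))) (.node (.node (.leaf 1155) (.leaf 2383)) (.node (.leaf 1172) (.leaf 4033)))) (.node (.node (.node (.leaf 773) (.leaf 1930)) (.node (.leaf 976) (.leaf 2914))) (.node (.node (.leaf 621) (.leaf 3625)) (.node (.leaf 2730) (.leaf 3846))))))) (.node (.node (.node (.node (.node (.node (.leaf 123) (.leaf 1445)) (.node (.leaf 686) (.leaf 2829))) (.node (.node (.leaf 344) (.leaf 1899)) (.node (.leaf 1044) (.leaf 3079)))) (.node (.node (.node (.leaf 490) (.leaf 3062)) (.node (.leaf 1983) (.leaf 2716))) (.node (.node (.leaf 513) (.leaf 3100)) (.node (.leaf 1245) (.leaf 4069))))) (.node (.node (.node (.node (.leaf 339) (.leaf 1622)) (.node (.leaf 1808) (.leaf 3791))) (.node (.node (.leaf 1107) (.leaf 2033)) (.node (.leaf 2405) (.leaf 3337)))) (.node (.node (.node (.leaf 722) (.leaf 3196)) (.node (.leaf 955) (.leaf 2877))) (.node (.node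 (.leaf 1470) (.leaf 2291)) (.node (.leaf 1341) (.leaf 4089)))))) (.node (.node (.node (.node (.node (.leaf 61) (.leaf 2904)) (.node (.leaf 729) (.leaf 2492))) (.node (.node (.leaf 390) (.leaf 3101)) (.node (.leaf 2352) (.leaf 4004)))) (.node (.node (.node (.leaf 629) (.leaf 3117)) (.node (.leaf 902) (.leaf 2860))) (.node (.node (.leaf 1389) (.leaf 2211)) (.node (.leaf 2637) (.leaf 3588))))) (.node (.node (.node (.node (.leaf 435) (.leaf 2796)) (.node (.leaf 1896) (.leaf 2659))) (.node (.node (.leaf 470) (.leaf 2091)) (.node (.leaf 1199) (.leaf 4057)))) (.node (.node (.node (.leaf 299) (.leaf 1860)) (.node (.leaf 2220) (.leaf 3853))) (.node (.node (.leaf 644) (.leaf 2386)) (.node (.leaf 1393) (.leaf 4050))))))))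

def twoNext114 : Janko.Tree (ℕ) :=
  (.node (.node (.node (.node (.node (.node (.node (.leaf 61) (.leaf 2434)) (.node (.leaf 1180) (.leaf 3665))) (.node (.node (.leaf 430) (.leaf 1869)) (.node (.leaf 1022) (.leaf 3736)))) (.node (.node (.node (.leaf 484) (.leaf 3039)) (.node (.leaf 840) (.leaf 2758))) (.node (.node (.leaf 1202) (.leaf 3495)) (.node (.leaf 1221) (.leaf 3398))))) (.node (.node (.node (.node (.leaf 289) (.leaf 1522)) (.node (.leaf 1052) (.leaf 2524))) (.node (.node (.leaf 406) (.leaf 3382)) (.node (.leaf 2374) (.leaf 3189)))) (.node (.node (.node (.leaf 234) (.leaf 3157)) (.node (.leaf 928) (.leaf 3883))) (.node (.node (.leaf 1234) (.leaf 3585)) (.node (.leaf 2670) (.leaf 3686)))))) (.node (.node (.node (.node (.node (.leaf 43) (.leaf 1544)) (.node (.leaf 705) (.leaf 3724))) (.node (.node (.leaf 962) (.leaf 2109)) (.node (.leaf 2309) (.leaf 3993)))) (.node (.node (.node (.leaf 578) (.leaf 3062)) (.node (.leaf 2021) (.leaf 2763))) (.node (.node (.leaf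 536) (.leaf 3543)) (.node (.leaf 2604) (.leaf 4075))))) (.node (.node (.node (.node (.leaf 390) (.leaf 1576)) (.node (.leaf 1850) (.leaf 2603))) (.node (.node (.leaf 1156) (.leaf 3436)) (.node (.leaf 2443) (.leaf 3274)))) (.node (.node (.node (.leaf 280) (.leaf 3228)) (.node (.leaf 2180) (.leaf 3661))) (.node (.node (.leaf 1515) (.leaf 3624)) (.node (.leaf 1364) (.leaf 3843))))))) (.node (.node (.node (.node (.node (.node (.leaf 122) (.leaf 2650)) (.node (.leaf 1642) (.leaf 2441))) (.node (.node (.leaf 919) (.leaf 3312)) (.node (.leaf 2288) (.leaf 3074)))) (.node (.node (.node (.leaf 172) (.leaf 1673)) (.node (.leaf 859) (.leaf 2733))) (.node (.node (.leaf 1292) (.leaf 2142)) (.node (.leaf 2566) (.leaf 4051))))) (.node (.node (.node (.node (.leaf 338) (.leaf 1545)) (.node (.leaf 773) (.leaf 2561))) (.node (.node (.leaf 866) (.leaf 3379)) (.node (.leaf 2406) (.leaf 3230)))) (.node (.node (.node (.leaf 721) (.leaf 2373)) (.node (.leaf 1006) (.leaf 2961))) (.node (.node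 (.leaf 1469) (.leaf 3217)) (.node (.leaf 2701) (.leaf 3760)))))) (.node (.node (.node (.node (.node (.leaf 235) (.leaf 2410)) (.node (.leaf 1725) (.leaf 3711))) (.node (.node (.leaf 386) (.leaf 3361)) (.node (.leaf 2350) (.leaf 3252)))) (.node (.node (.node (.leaf 628) (.leaf 1744)) (.node (.leaf 2056) (.leaf 3774))) (.node (.node (.leaf 1390) (.leaf 2270)) (.node (.leaf 1289) (.leaf 4042))))) (.node (.node (.node (.node (.leaf 319) (.leaf 1623)) (.node (.leaf 1893) (.leaf 3836))) (.node (.node (.leaf 1200) (.leaf 3470)) (.node (.leaf 1277) (.leaf 3324)))) (.node (.node (.node (.leaf 795) (.leaf 1846)) (.node (.leaf 999) (.leaf 2964))) (.node (.node (.leaf 1562) (.leaf 3602)) (.node (.leaf 2696) (.leaf 4056))))))))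

def twoNext115 : Janko.Tree (ℕ) :=
  (.node (.node (.node (.node (.node (.node (.node (.leaf 11) (.leaf 1420)) (.node (.leaf 1608) (.leaf 2414))) (.node (.node (.leaf 866) (.leaf 1868)) (.node (.leaf 1021) (.leaf 3013)))) (.node (.node (.node (.leaf 485) (.leaf 1649)) (.node (.leaf 1940) (.leaf 2674))) (.node (.node (.leaf 1246) (.leaf 3490)) (.node (.leaf 2530) (.leaf 3578))))) (.node (.node (.node (.node (.leaf 290) (.leaf 1521)) (.node (.leaf 1066) (.leaf 2523))) (.node (.node (.leaf 405) (.leaf 2313)) (.node (.leaf 1790) (.leaf 3188)))) (.node (.node (.node (.leaf 260) (.leaf 1768)) (.node (.leaf 998) (.leaf 2828))) (.node (.node (.leaf 1405) (.leaf 3586)) (.node (.leaf 1314) (.leaf 3680)))))) (.node (.node (.node (.node (.node (.leaf 181) (.leaf 1468)) (.node (.leaf 704) (.leaf 2466))) (.node (.node (.leaf 963) (.leaf 1931)) (.node (.leaf 1071) (.leaf 3988)))) (.node (.node (.node (.leaf 579) (.leaf 1708)) (.node (.leaf 879) (.leaf 2801))) (.node (.node (.leaf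 669) (.leaf 3386)) (.node (.leaf 2605) (.leaf 4043))))) (.node (.node (.node (.node (.leaf 391) (.leaf 2973)) (.node (.leaf 1851) (.leaf 2595))) (.node (.node (.leaf 1157) (.leaf 2065)) (.node (.leaf 2444) (.leaf 3282)))) (.node (.node (.node (.leaf 279) (.leaf 1815)) (.node (.leaf 2181) (.leaf 3657))) (.node (.node (.leaf 1433) (.leaf 2329)) (.node (.leaf 1363) (.leaf 3842))))))) (.node (.node (.node (.node (.node (.node (.leaf 26) (.leaf 2834)) (.node (.leaf 1645) (.leaf 3700))) (.node (.node (.leaf 920) (.leaf 3298)) (.node (.leaf 2289) (.leaf 3073)))) (.node (.node (.node (.leaf 171) (.leaf 1672)) (.node (.leaf 1984) (.leaf 2963))) (.node (.node (.leaf 1297) (.leaf 3379)) (.node (.leaf 2567) (.leaf 3439))))) (.node (.node (.node (.node (.leaf 96) (.leaf 2879)) (.node (.leaf 1809) (.leaf 2558))) (.node (.node (.leaf 430) (.leaf 2142)) (.node (.leaf 1411) (.leaf 4035)))) (.node (.node (.node (.leaf 257) (.leaf 2379)) (.node (.leaf 2140) (.leaf 2960))) (.node (.node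 (.leaf 599) (.leaf 3141)) (.node (.leaf 1338) (.leaf 3816)))))) (.node (.node (.node (.node (.node (.leaf 236) (.leaf 2587)) (.node (.leaf 1726) (.leaf 3710))) (.node (.node (.leaf 1008) (.leaf 3363)) (.node (.leaf 1092) (.leaf 3140)))) (.node (.node (.node (.leaf 213) (.leaf 3118)) (.node (.leaf 1834) (.leaf 3904))) (.node (.node (.leaf 1378) (.leaf 3214)) (.node (.leaf 1362) (.leaf 3591))))) (.node (.node (.node (.node (.leaf 436) (.leaf 1607)) (.node (.leaf 816) (.leaf 3837))) (.node (.node (.leaf 1201) (.leaf 3427)) (.node (.leaf 2490) (.leaf 3395)))) (.node (.node (.node (.leaf 788) (.leaf 3257)) (.node (.leaf 2221) (.leaf 3850))) (.node (.node (.leaf 1563) (.leaf 3601)) (.node (.leaf 1486) (.leaf 4044))))))))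

def twoNext116 : Janko.Tree (ℕ) :=
  (.node (.node (.node (.node (.node (.node (.node (.leaf 63) (.leaf 2795)) (.node (.leaf 1606) (.leaf 2774))) (.node (.node (.leaf 323) (.leaf 3286)) (.node (.leaf 1032) (.leaf 3848)))) (.node (.node (.node (.leaf 155) (.leaf 1642)) (.node (.leaf 1940) (.leaf 2870))) (.node (.node (.leaf 1192) (.leaf 3495)) (.node (.leaf 1232) (.leaf 3384))))) (.node (.node (.node (.node (.leaf 289) (.leaf 1523)) (.node (.leaf 1049) (.leaf 2777))) (.node (.node (.leaf 415) (.leaf 1998)) (.node (.leaf 2320) (.leaf 3498)))) (.node (.node (.node (.leaf 236) (.leaf 2121)) (.node (.leaf 2096) (.leaf 3834))) (.node (.node (.leaf 576) (.leaf 2271)) (.node (.leaf 1316) (.leaf 3691)))))) (.node (.node (.node (.node (.node (.leaf 45) (.leaf 2473)) (.node (.leaf 706) (.leaf 3726))) (.node (.node (.leaf 365) (.leaf 3336)) (.node (.leaf 2308) (.leaf 3993)))) (.node (.node (.node (.leaf 580) (.leaf 1710)) (.node (.leaf 2023) (.leaf 3854))) (.node (.node (.leaf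 1343) (.leaf 3543)) (.node (.leaf 1269) (.leaf 4075))))) (.node (.node (.node (.node (.leaf 118) (.leaf 2967)) (.node (.leaf 795) (.leaf 3816))) (.node (.node (.leaf 1156) (.leaf 3437)) (.node (.leaf 1173) (.leaf 3276)))) (.node (.node (.node (.leaf 774) (.leaf 2063)) (.node (.leaf 977) (.leaf 3658))) (.node (.node (.leaf 622) (.leaf 3315)) (.node (.leaf 1680) (.leaf 3846))))))) (.node (.node (.node (.node (.node (.node (.leaf 122) (.leaf 1447)) (.node (.leaf 1609) (.leaf 2981))) (.node (.node (.leaf 345) (.leaf 3100)) (.node (.leaf 1045) (.leaf 3079)))) (.node (.node (.node (.leaf 242) (.leaf 3050)) (.node (.leaf 1982) (.leaf 3866))) (.node (.node (.leaf 686) (.leaf 3379)) (.node (.leaf 1572) (.leaf 3983))))) (.node (.node (.node (.node (.leaf 340) (.leaf 2733)) (.node (.leaf 1807) (.leaf 2561))) (.node (.node (.leaf 866) (.leaf 2034)) (.node (.leaf 2406) (.leaf 3573)))) (.node (.node (.node (.leaf 723) (.leaf 3154)) (.node (.leaf 996) (.leaf 2990))) (.node (.node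 (.leaf 1471) (.leaf 3332)) (.node (.leaf 1340) (.leaf 3972)))))) (.node (.node (.node (.node (.node (.leaf 62) (.leaf 2587)) (.node (.leaf 730) (.leaf 3030))) (.node (.node (.leaf 1007) (.leaf 3363)) (.node (.leaf 1094) (.leaf 3144)))) (.node (.node (.node (.leaf 597) (.leaf 3116)) (.node (.leaf 903) (.leaf 3774))) (.node (.node (.leaf 1390) (.leaf 3559)) (.node (.leaf 1591) (.leaf 4056))))) (.node (.node (.node (.node (.leaf 319) (.leaf 1647)) (.node (.leaf 1794) (.leaf 3836))) (.node (.node (.leaf 471) (.leaf 3471)) (.node (.leaf 1201) (.leaf 3326)))) (.node (.node (.node (.leaf 300) (.leaf 1848)) (.node (.leaf 2219) (.leaf 2966))) (.node (.node (.leaf 645) (.leaf 3186)) (.node (.leaf 2740) (.leaf 4079))))))))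

def twoNext117 : Janko.Tree (ℕ) :=
  (.node (.node (.node (.node (.node (.node (.node (.leaf 12) (.leaf 1421)) (.node (.leaf 1589) (.leaf 2684))) (.node (.node (.leaf 867) (.leaf 1870)) (.node (.leaf 1022) (.leaf 3019)))) (.node (.node (.node (.leaf 486) (.leaf 1667)) (.node (.leaf 1921) (.leaf 2675))) (.node (.node (.leaf 1247) (.leaf 2286)) (.node (.leaf 1305) (.leaf 4061))))) (.node (.node (.node (.node (.leaf 291) (.leaf 1644)) (.node (.leaf 749) (.leaf 2573))) (.node (.node (.leaf 1060) (.leaf 3334)) (.node (.leaf 2165) (.leaf 3191)))) (.node (.node (.node (.leaf 677) (.leaf 1769)) (.node (.leaf 929) (.leaf 2830))) (.node (.node (.leaf 1433) (.leaf 3587)) (.node (.leaf 2443) (.leaf 3845)))))) (.node (.node (.node (.node (.node (.leaf 182) (.leaf 1469)) (.node (.leaf 1690) (.leaf 2467))) (.node (.node (.leaf 964) (.leaf 1932)) (.node (.leaf 1072) (.leaf 3322)))) (.node (.node (.node (.leaf 195) (.leaf 3085)) (.node (.leaf 880) (.leaf 3851))) (.node (.node (.leaf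 537) (.leaf 2305)) (.node (.leaf 2606) (.leaf 3597))))) (.node (.node (.node (.node (.leaf 392) (.leaf 1579)) (.node (.leaf 1852) (.leaf 2597))) (.node (.node (.leaf 1158) (.leaf 2066)) (.node (.leaf 2445) (.leaf 4025)))) (.node (.node (.node (.leaf 280) (.leaf 1816)) (.node (.leaf 2182) (.leaf 2916))) (.node (.node (.leaf 1516) (.leaf 2330)) (.node (.leaf 1364) (.leaf 3869))))))) (.node (.node (.node (.node (.node (.node (.leaf 124) (.leaf 2776)) (.node (.leaf 1646) (.leaf 2444))) (.node (.node (.leaf 921) (.leaf 1900)) (.node (.leaf 2290) (.leaf 3928)))) (.node (.node (.node (.leaf 534) (.leaf 1676)) (.node (.leaf 1980) (.leaf 2719))) (.node (.node (.leaf 1298) (.leaf 3516)) (.node (.leaf 1246) (.leaf 3440))))) (.node (.node (.node (.node (.leaf 97) (.leaf 2961)) (.node (.leaf 1804) (.leaf 3796))) (.node (.node (.leaf 1108) (.leaf 3130)) (.node (.leaf 2407) (.leaf 3273)))) (.node (.node (.node (.leaf 258) (.leaf 1791)) (.node (.leaf 2141) (.leaf 2880))) (.node (.node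 (.leaf 600) (.leaf 2292)) (.node (.leaf 2680) (.leaf 4090)))))) (.node (.node (.node (.node (.node (.leaf 237) (.leaf 2888)) (.node (.leaf 1727) (.leaf 3652))) (.node (.node (.leaf 1009) (.leaf 3364)) (.node (.leaf 2297) (.leaf 3141)))) (.node (.node (.node (.leaf 214) (.leaf 3114)) (.node (.leaf 2057) (.leaf 3716))) (.node (.node (.leaf 1391) (.leaf 3565)) (.node (.leaf 2512) (.leaf 3647))))) (.node (.node (.node (.node (.leaf 431) (.leaf 3013)) (.node (.leaf 817) (.leaf 3761))) (.node (.node (.leaf 1202) (.leaf 2092)) (.node (.leaf 2491) (.leaf 4013)))) (.node (.node (.node (.leaf 821) (.leaf 3258)) (.node (.leaf 1002) (.leaf 2974))) (.node (.node (.leaf 714) (.leaf 2376)) (.node (.leaf 2756) (.leaf 4045))))))))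

def twoNext118 : Janko.Tree (ℕ) :=
  (.node (.node (.node (.node (.node (.node (.node (.leaf 64) (.leaf 2796)) (.node (.leaf 663) (.leaf 2416))) (.node (.node (.leaf 333) (.leaf 3287)) (.node (.leaf 2256) (.leaf 3015)))) (.node (.node (.node (.leaf 487) (.leaf 1644)) (.node (.leaf 841) (.leaf 2826))) (.node (.node (.leaf 492) (.leaf 2117)) (.node (.leaf 2530) (.leaf 3383))))) (.node (.node (.node (.node (.leaf 79) (.leaf 2932)) (.node (.leaf 1765) (.leaf 2776))) (.node (.node (.leaf 407) (.leaf 1997)) (.node (.leaf 1120) (.leaf 3201)))) (.node (.node (.node (.leaf 260) (.leaf 3158)) (.node (.leaf 2097) (.leaf 2895))) (.node (.node (.leaf 1434) (.leaf 2254)) (.node (.leaf 2655) (.leaf 3683)))))) (.node (.node (.node (.node (.node (.leaf 181) (.leaf 2873)) (.node (.leaf 1688) (.leaf 2469))) (.node (.node (.leaf 965) (.leaf 3337)) (.node (.leaf 2314) (.leaf 3111)))) (.node (.node (.node (.leaf 581) (.leaf 1709)) (.node (.leaf 954) (.leaf 2801))) (.node (.node (.leaf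 1344) (.leaf 2177)) (.node (.leaf 1639) (.leaf 3522))))) (.node (.node (.node (.node (.leaf 116) (.leaf 2868)) (.node (.leaf 820) (.leaf 3762))) (.node (.node (.leaf 451) (.leaf 3435)) (.node (.leaf 2423) (.leaf 3281)))) (.node (.node (.node (.leaf 775) (.leaf 2062)) (.node (.leaf 983) (.leaf 3759))) (.node (.node (.leaf 1496) (.leaf 3298)) (.node (.leaf 2731) (.leaf 3845))))))) (.node (.node (.node (.node (.node (.node (.leaf 28) (.leaf 2652)) (.node (.leaf 687) (.leaf 3700))) (.node (.node (.leaf 915) (.leaf 3311)) (.node (.leaf 1918) (.leaf 3077)))) (.node (.node (.node (.leaf 173) (.leaf 1711)) (.node (.leaf 1984) (.leaf 2751))) (.node (.node (.leaf 514) (.leaf 2144)) (.node (.leaf 2568) (.leaf 4011))))) (.node (.node (.node (.node (.leaf 341) (.leaf 2879)) (.node (.leaf 1809) (.leaf 3795))) (.node (.node (.leaf 432) (.leaf 3410)) (.node (.leaf 1148) (.leaf 4035)))) (.node (.node (.node (.leaf 724) (.leaf 3147)) (.node (.leaf 956) (.leaf 3924))) (.node (.node (.leaf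 1472) (.leaf 3328)) (.node (.leaf 1339) (.leaf 3812)))))) (.node (.node (.node (.node (.node (.leaf 238) (.leaf 1505)) (.node (.leaf 1728) (.leaf 2494))) (.node (.node (.leaf 1008) (.leaf 3362)) (.node (.leaf 1093) (.leaf 3216)))) (.node (.node (.node (.leaf 596) (.leaf 3118)) (.node (.leaf 902) (.leaf 2794))) (.node (.node (.leaf 557) (.leaf 2212)) (.node (.leaf 1362) (.leaf 4078))))) (.node (.node (.node (.node (.leaf 135) (.leaf 1637)) (.node (.leaf 1788) (.leaf 2639))) (.node (.node (.leaf 493) (.leaf 3472)) (.node (.leaf 1254) (.leaf 3395)))) (.node (.node (.node (.leaf 787) (.leaf 3257)) (.node (.leaf 2221) (.leaf 3862))) (.node (.node (.leaf 644) (.leaf 3600)) (.node (.leaf 1394) (.leaf 4071))))))))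

def twoNext119 : Janko.Tree (ℕ) :=
  (.node (.node (.node (.node (.node (.node (.node (.leaf 65) (.leaf 2797)) (.node (.leaf 662) (.leaf 2760))) (.node (.node (.leaf 322) (.leaf 3288)) (.node (.leaf 1030) (.leaf 3014)))) (.node (.node (.node (.leaf 488) (.leaf 3040)) (.node (.leaf 836) (.leaf 2882))) (.node (.node (.leaf 491) (.leaf 3496)) (.node (.leaf 1221) (.leaf 4064))))) (.node (.node (.node (.node (.leaf 292) (.leaf 2934)) (.node (.leaf 1069) (.leaf 2525))) (.node (.node (.leaf 860) (.leaf 3381)) (.node (.leaf 2380) (.leaf 3200)))) (.node (.node (.node (.leaf 234) (.leaf 3159)) (.node (.leaf 2098) (.leaf 2894))) (.node (.node (.leaf 624) (.leaf 2268)) (.node (.leaf 1438) (.leaf 3690)))))) (.node (.node (.node (.node (.node (.leaf 43) (.leaf 2874)) (.node (.leaf 1691) (.leaf 3727))) (.node (.node (.leaf 938) (.leaf 3338)) (.node (.leaf 2322) (.leaf 3994)))) (.node (.node (.node (.leaf 582) (.leaf 3050)) (.node (.leaf 2024) (.leaf 2763))) (.node (.node (.leaf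 1345) (.leaf 3544)) (.node (.leaf 1267) (.leaf 3583))))) (.node (.node (.node (.node (.leaf 115) (.leaf 2867)) (.node (.leaf 794) (.leaf 3761))) (.node (.node (.leaf 1159) (.leaf 3438)) (.node (.leaf 2413) (.leaf 3275)))) (.node (.node (.node (.leaf 776) (.leaf 3229)) (.node (.leaf 2183) (.leaf 3817))) (.node (.node (.leaf 1517) (.leaf 3312)) (.node (.leaf 1678) (.leaf 3844))))))) (.node (.node (.node (.node (.node (.node (.leaf 27) (.leaf 1445)) (.node (.leaf 1647) (.leaf 2441))) (.node (.node (.leaf 922) (.leaf 3098)) (.node (.leaf 2291) (.leaf 3076)))) (.node (.node (.node (.leaf 535) (.leaf 1710)) (.node (.leaf 859) (.leaf 2750))) (.node (.node (.leaf 513) (.leaf 2143)) (.node (.leaf 2569) (.leaf 4070))))) (.node (.node (.node (.node (.leaf 342) (.leaf 1545)) (.node (.leaf 773) (.leaf 2560))) (.node (.node (.leaf 431) (.leaf 3374)) (.node (.leaf 1488) (.leaf 3230)))) (.node (.node (.node (.leaf 725) (.leaf 3146)) (.node (.leaf 955) (.leaf 3006))) (.node (.node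 (.leaf 1473) (.leaf 3390)) (.node (.leaf 2702) (.leaf 3764)))))) (.node (.node (.node (.node (.node (.leaf 239) (.leaf 1492)) (.node (.leaf 914) (.leaf 3746))) (.node (.node (.leaf 386) (.leaf 1962)) (.node (.leaf 2353) (.leaf 3606)))) (.node (.node (.node (.leaf 630) (.leaf 1744)) (.node (.leaf 924) (.leaf 3907))) (.node (.node (.leaf 1392) (.leaf 2211)) (.node (.leaf 1289) (.leaf 3593))))) (.node (.node (.node (.node (.leaf 437) (.leaf 1609)) (.node (.leaf 1897) (.leaf 2730))) (.node (.node (.leaf 1203) (.leaf 3473)) (.node (.leaf 1199) (.leaf 3324)))) (.node (.node (.node (.leaf 786) (.leaf 1846)) (.node (.leaf 999) (.leaf 3937))) (.node (.node (.leaf 1564) (.leaf 3243)) (.node (.leaf 1393) (.leaf 4066))))))))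

def twoNext120 : Janko.Tree (ℕ) :=
  (.node (.node (.node (.node (.node (.node (.node (.leaf 13) (.leaf 2433)) (.node (.leaf 674) (.leaf 2422))) (.node (.node (.leaf 324) (.leaf 1871)) (.node (.leaf 1023) (.leaf 3019)))) (.node (.node (.node (.leaf 487) (.leaf 3040)) (.node (.leaf 1941) (.leaf 2754))) (.node (.node (.leaf 1185) (.leaf 3490)) (.node (.leaf 1240) (.leaf 3385))))) (.node (.node (.node (.node (.leaf 290) (.leaf 2934)) (.node (.leaf 750) (.leaf 3771))) (.node (.node (.leaf 1061) (.leaf 2187)) (.node (.leaf 1147) (.leaf 3192)))) (.node (.node (.node (.leaf 678) (.leaf 1841)) (.node (.leaf 930) (.leaf 3721))) (.node (.node (.leaf 1434) (.leaf 2255)) (.node (.leaf 2670) (.leaf 3945)))))) (.node (.node (.node (.node (.node (.leaf 183) (.leaf 1470)) (.node (.leaf 1691) (.leaf 3724))) (.node (.node (.leaf 965) (.leaf 2104)) (.node (.leaf 1074) (.leaf 3988)))) (.node (.node (.node (.leaf 196) (.leaf 2548)) (.node (.leaf 2021) (.leaf 2767))) (.node (.node (.leaf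 538) (.leaf 3386)) (.node (.leaf 1519) (.leaf 4043))))) (.node (.node (.node (.node (.leaf 267) (.leaf 2522)) (.node (.leaf 1795) (.leaf 2624))) (.node (.node (.leaf 1157) (.leaf 3227)) (.node (.leaf 1568) (.leaf 3571)))) (.node (.node (.node (.leaf 338) (.leaf 1819)) (.node (.leaf 983) (.leaf 3006))) (.node (.node (.leaf 1496) (.leaf 3302)) (.node (.leaf 1365) (.leaf 3963))))))) (.node (.node (.node (.node (.node (.node (.leaf 125) (.leaf 2652)) (.node (.leaf 1637) (.leaf 2445))) (.node (.node (.leaf 922) (.leaf 2324)) (.node (.leaf 1918) (.leaf 3081)))) (.node (.node (.node (.leaf 243) (.leaf 1677)) (.node (.leaf 1985) (.leaf 3063))) (.node (.node (.leaf 515) (.leaf 2148)) (.node (.leaf 1528) (.leaf 3442))))) (.node (.node (.node (.node (.leaf 98) (.leaf 2962)) (.node (.leaf 1759) (.leaf 3705))) (.node (.node (.leaf 1109) (.leaf 3410)) (.node (.leaf 1411) (.leaf 3453)))) (.node (.node (.node (.leaf 259) (.leaf 3153)) (.node (.leaf 2142) (.leaf 3860))) (.node (.node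 (.leaf 601) (.leaf 3550)) (.node (.leaf 1341) (.leaf 3913)))))) (.node (.node (.node (.node (.node (.leaf 238) (.leaf 1524)) (.node (.leaf 1728) (.leaf 2505))) (.node (.node (.leaf 1010) (.leaf 1969)) (.node (.leaf 1095) (.leaf 3216)))) (.node (.node (.node (.leaf 217) (.leaf 3119)) (.node (.leaf 2058) (.leaf 3904))) (.node (.node (.leaf 1378) (.leaf 3566)) (.node (.leaf 1598) (.leaf 3597))))) (.node (.node (.node (.node (.leaf 436) (.leaf 2657)) (.node (.leaf 1778) (.leaf 3837))) (.node (.node (.leaf 493) (.leaf 2093)) (.node (.leaf 2492) (.leaf 3497)))) (.node (.node (.node (.leaf 364) (.leaf 3259)) (.node (.leaf 1001) (.leaf 3686))) (.node (.node (.leaf 646) (.leaf 3642)) (.node (.leaf 2736) (.leaf 4095))))))))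

def twoNext121 : Janko.Tree (ℕ) :=
  (.node (.node (.node (.node (.node (.node (.node (.leaf 66) (.leaf 1422)) (.node (.leaf 1609) (.leaf 2417))) (.node (.node (.leaf 868) (.leaf 3289)) (.node (.leaf 1129) (.leaf 3927)))) (.node (.node (.node (.leaf 489) (.leaf 3035)) (.node (.leaf 838) (.leaf 3857))) (.node (.node (.leaf 492) (.leaf 2371)) (.node (.leaf 1222) (.leaf 4065))))) (.node (.node (.node (.node (.leaf 287) (.leaf 2935)) (.node (.leaf 1766) (.leaf 2526))) (.node (.node (.leaf 408) (.leaf 1998)) (.node (.leaf 2381) (.leaf 4021)))) (.node (.node (.node (.leaf 235) (.leaf 3160)) (.node (.leaf 2099) (.leaf 2831))) (.node (.node (.leaf 1435) (.leaf 3581)) (.node (.leaf 2671) (.leaf 3866)))))) (.node (.node (.node (.node (.node (.leaf 44) (.leaf 2875)) (.node (.leaf 1692) (.leaf 3722))) (.node (.node (.leaf 966) (.leaf 1933)) (.node (.leaf 2143) (.leaf 3394)))) (.node (.node (.node (.leaf 583) (.leaf 1710)) (.node (.leaf 2011) (.leaf 2764))) (.node (.node (.leaf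 1250) (.leaf 3542)) (.node (.leaf 1268) (.leaf 3570))))) (.node (.node (.node (.node (.leaf 116) (.leaf 1580)) (.node (.leaf 1853) (.leaf 3817))) (.node (.node (.leaf 454) (.leaf 3439)) (.node (.leaf 1174) (.leaf 4048)))) (.node (.node (.node (.leaf 777) (.leaf 3230)) (.node (.leaf 2180) (.leaf 3948))) (.node (.node (.leaf 1512) (.leaf 2331)) (.node (.leaf 2599) (.leaf 3874))))))) (.node (.node (.node (.node (.node (.node (.leaf 28) (.leaf 2835)) (.node (.leaf 1648) (.leaf 2442))) (.node (.node (.leaf 923) (.leaf 3313)) (.node (.leaf 2288) (.leaf 3077)))) (.node (.node (.node (.leaf 536) (.leaf 3063)) (.node (.leaf 860) (.leaf 2721))) (.node (.node (.leaf 1299) (.leaf 3466)) (.node (.leaf 2570) (.leaf 3455))))) (.node (.node (.node (.node (.leaf 343) (.leaf 1547)) (.node (.leaf 774) (.leaf 2561))) (.node (.node (.leaf 432) (.leaf 3411)) (.node (.leaf 1151) (.leaf 3232)))) (.node (.node (.node (.leaf 726) (.leaf 1793)) (.node (.leaf 956) (.leaf 3931))) (.node (.node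 (.leaf 1474) (.leaf 2293)) (.node (.leaf 2703) (.leaf 3765)))))) (.node (.node (.node (.node (.node (.leaf 240) (.leaf 1494)) (.node (.leaf 1729) (.leaf 3747))) (.node (.node (.leaf 387) (.leaf 3365)) (.node (.leaf 2354) (.leaf 4010)))) (.node (.node (.node (.leaf 631) (.leaf 1745)) (.node (.leaf 903) (.leaf 2797))) (.node (.node (.leaf 1388) (.leaf 2213)) (.node (.leaf 1290) (.leaf 3601))))) (.node (.node (.node (.node (.leaf 438) (.leaf 1610)) (.node (.leaf 1898) (.leaf 3835))) (.node (.node (.leaf 1200) (.leaf 3474)) (.node (.leaf 1201) (.leaf 3327)))) (.node (.node (.node (.leaf 822) (.leaf 1847)) (.node (.leaf 2201) (.leaf 2967))) (.node (.node (.leaf 1565) (.leaf 2377)) (.node (.leaf 1394) (.leaf 4070))))))))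

def twoNext122 : Janko.Tree (ℕ) :=
  (.node (.node (.node (.node (.node (.node (.node (.leaf 67) (.leaf 2439)) (.node (.leaf 664) (.leaf 2900))) (.node (.node (.leaf 428) (.leaf 3290)) (.node (.leaf 1025) (.leaf 3018)))) (.node (.node (.node (.leaf 155) (.leaf 1645)) (.node (.leaf 1942) (.leaf 2676))) (.node (.node (.leaf 1248) (.leaf 3496)) (.node (.leaf 1239) (.leaf 4064))))) (.node (.node (.node (.node (.leaf 292) (.leaf 2933)) (.node (.leaf 749) (.leaf 3772))) (.node (.node (.leaf 1062) (.leaf 2186)) (.node (.leaf 2380) (.leaf 3615)))) (.node (.node (.node (.leaf 240) (.leaf 1770)) (.node (.leaf 1933) (.leaf 2833))) (.node (.node (.leaf 576) (.leaf 3365)) (.node (.leaf 2666) (.leaf 3689)))))) (.node (.node (.node (.node (.node (.leaf 176) (.leaf 2876)) (.node (.leaf 1689) (.leaf 2468))) (.node (.node (.leaf 365) (.leaf 2103)) (.node (.leaf 2307) (.leaf 3994)))) (.node (.node (.node (.leaf 584) (.leaf 1714)) (.node (.leaf 881) (.leaf 2768))) (.node (.node (.leaf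 1346) (.leaf 3544)) (.node (.leaf 1427) (.leaf 3583))))) (.node (.node (.node (.node (.leaf 393) (.leaf 2940)) (.node (.leaf 1791) (.leaf 2598))) (.node (.node (.leaf 1159) (.leaf 2067)) (.node (.leaf 1582) (.leaf 3277)))) (.node (.node (.node (.leaf 337) (.leaf 1817)) (.node (.leaf 977) (.leaf 2918))) (.node (.node (.leaf 622) (.leaf 3301)) (.node (.leaf 1367) (.leaf 3882))))))) (.node (.node (.node (.node (.node (.node (.leaf 126) (.leaf 1447)) (.node (.leaf 1647) (.leaf 3701))) (.node (.node (.leaf 916) (.leaf 1901)) (.node (.leaf 1045) (.leaf 3974)))) (.node (.node (.node (.leaf 535) (.leaf 3064)) (.node (.leaf 1983) (.leaf 3839))) (.node (.node (.leaf 1300) (.leaf 2145)) (.node (.leaf 1247) (.leaf 3441))))) (.node (.node (.node (.node (.leaf 344) (.leaf 2899)) (.node (.leaf 1810) (.leaf 3698))) (.node (.node (.leaf 1110) (.leaf 2034)) (.node (.leaf 1488) (.leaf 3452)))) (.node (.node (.node (.leaf 688) (.leaf 3197)) (.node (.leaf 2143) (.leaf 2881))) (.node (.node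 (.leaf 1451) (.leaf 3494)) (.node (.leaf 2702) (.leaf 3893)))))) (.node (.node (.node (.node (.node (.leaf 62) (.leaf 1516)) (.node (.leaf 730) (.leaf 3746))) (.node (.node (.leaf 1011) (.leaf 1967)) (.node (.leaf 2353) (.leaf 3144)))) (.node (.node (.node (.leaf 215) (.leaf 3117)) (.node (.leaf 908) (.leaf 3907))) (.node (.node (.leaf 1392) (.leaf 3479)) (.node (.leaf 1597) (.leaf 3596))))) (.node (.node (.node (.node (.leaf 437) (.leaf 3014)) (.node (.leaf 818) (.leaf 2730))) (.node (.node (.leaf 471) (.leaf 2158)) (.node (.leaf 1684) (.leaf 3547)))) (.node (.node (.node (.leaf 347) (.leaf 1849)) (.node (.leaf 1000) (.leaf 3936))) (.node (.node (.leaf 1564) (.leaf 3598)) (.node (.leaf 2757) (.leaf 4072))))))))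

def twoNext123 : Janko.Tree (ℕ) :=
  (.node (.node (.node (.node (.node (.node (.node (.leaf 68) (.leaf 2798)) (.node (.leaf 1610) (.leaf 3666))) (.node (.node (.leaf 869) (.leaf 2378)) (.node (.leaf 2257) (.leaf 3017)))) (.node (.node (.node (.leaf 490) (.leaf 1642)) (.node (.leaf 1943) (.leaf 2757))) (.node (.node (.leaf 1178) (.leaf 2117)) (.node (.leaf 2531) (.leaf 3383))))) (.node (.node (.node (.node (.leaf 79) (.leaf 1523)) (.node (.leaf 771) (.leaf 3773))) (.node (.node (.leaf 1063) (.leaf 2185)) (.node (.leaf 1120) (.leaf 3291)))) (.node (.node (.node (.leaf 259) (.leaf 1810)) (.node (.leaf 1949) (.leaf 3921))) (.node (.node (.leaf 1298) (.leaf 3588)) (.node (.leaf 1317) (.leaf 3688)))))) (.node (.node (.node (.node (.node (.leaf 184) (.leaf 2748)) (.node (.leaf 706) (.leaf 2467))) (.node (.node (.leaf 967) (.leaf 3339)) (.node (.leaf 1072) (.leaf 3111)))) (.node (.node (.node (.leaf 585) (.leaf 2533)) (.node (.leaf 880) (.leaf 3783))) (.node (.node (.leaf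 1347) (.leaf 2177)) (.node (.leaf 2607) (.leaf 3522))))) (.node (.node (.node (.node (.leaf 265) (.leaf 2762)) (.node (.leaf 796) (.leaf 3065))) (.node (.node (.leaf 451) (.leaf 3440)) (.node (.leaf 2446) (.leaf 4049)))) (.node (.node (.node (.leaf 281) (.leaf 1816)) (.node (.leaf 1015) (.leaf 2990))) (.node (.node (.leaf 1518) (.leaf 3626)) (.node (.leaf 2732) (.leaf 3863))))))) (.node (.node (.node (.node (.node (.node (.leaf 127) (.leaf 1446)) (.node (.leaf 687) (.leaf 2980))) (.node (.node (.leaf 345) (.leaf 1900)) (.node (.leaf 1964) (.leaf 3080)))) (.node (.node (.node (.leaf 173) (.leaf 2727)) (.node (.leaf 1986) (.leaf 3005))) (.node (.node (.leaf 1301) (.leaf 3368)) (.node (.leaf 2571) (.leaf 4068))))) (.node (.node (.node (.node (.leaf 297) (.leaf 2898)) (.node (.leaf 1770) (.leaf 3697))) (.node (.node (.leaf 1111) (.leaf 3389)) (.node (.leaf 1148) (.leaf 4036)))) (.node (.node (.node (.leaf 678) (.leaf 3198)) (.node (.leaf 2144) (.leaf 3840))) (.node (.node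 (.leaf 1441) (.leaf 3517)) (.node (.leaf 1339) (.leaf 3916)))))) (.node (.node (.node (.node (.node (.leaf 241) (.leaf 2905)) (.node (.leaf 980) (.leaf 2494))) (.node (.node (.leaf 1012) (.leaf 1966)) (.node (.leaf 1093) (.leaf 3196)))) (.node (.node (.node (.leaf 214) (.leaf 3120)) (.node (.leaf 923) (.leaf 2794))) (.node (.node (.leaf 557) (.leaf 3567)) (.node (.leaf 2638) (.leaf 3642))))) (.node (.node (.node (.node (.leaf 135) (.leaf 3015)) (.node (.leaf 817) (.leaf 2639))) (.node (.node (.leaf 709) (.leaf 3331)) (.node (.leaf 1692) (.leaf 4016)))) (.node (.node (.node (.leaf 301) (.leaf 3260)) (.node (.leaf 2222) (.leaf 3784))) (.node (.node (.leaf 644) (.leaf 3597)) (.node (.leaf 2676) (.leaf 4069))))))))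

def twoNext124 : Janko.Tree (ℕ) :=
  (.node (.node (.node (.node (.node (.node (.node (.leaf 67) (.leaf 1424)) (.node (.leaf 675) (.leaf 2419))) (.node (.node (.leaf 428) (.leaf 3290)) (.node (.leaf 2257) (.leaf 3743)))) (.node (.node (.node (.leaf 488) (.leaf 1645)) (.node (.leaf 839) (.leaf 2683))) (.node (.node (.leaf 709) (.leaf 3200)) (.node (.leaf 1225) (.leaf 3544))))) (.node (.node (.node (.node (.leaf 275) (.leaf 2917)) (.node (.leaf 1767) (.leaf 2772))) (.node (.node (.leaf 409) (.leaf 3381)) (.node (.leaf 1124) (.leaf 3615)))) (.node (.node (.node (.leaf 669) (.leaf 1776)) (.node (.leaf 1929) (.leaf 3734))) (.node (.node (.leaf 624) (.leaf 3365)) (.node (.leaf 1625) (.leaf 3692)))))) (.node (.node (.node (.node (.node (.leaf 181) (.leaf 2876)) (.node (.leaf 1628) (.leaf 2469))) (.node (.node (.leaf 938) (.leaf 1934)) (.node (.leaf 2307) (.leaf 3114)))) (.node (.node (.node (.leaf 584) (.leaf 3031)) (.node (.leaf 896) (.leaf 3784))) (.node (.node (.leaf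 1346) (.leaf 2192)) (.node (.leaf 1639) (.leaf 3986))))) (.node (.node (.node (.node (.leaf 117) (.leaf 2973)) (.node (.leaf 997) (.leaf 2600))) (.node (.node (.leaf 566) (.leaf 3431)) (.node (.leaf 1214) (.leaf 3572)))) (.node (.node (.node (.leaf 778) (.leaf 1818)) (.node (.leaf 2183) (.leaf 3924))) (.node (.node (.leaf 1517) (.leaf 2342)) (.node (.leaf 2732) (.leaf 3938))))))) (.node (.node (.node (.node (.node (.node (.leaf 29) (.leaf 1448)) (.node (.leaf 1649) (.leaf 2443))) (.node (.node (.leaf 924) (.leaf 1906)) (.node (.leaf 2291) (.leaf 3821)))) (.node (.node (.node (.leaf 253) (.leaf 3064)) (.node (.leaf 861) (.leaf 2722))) (.node (.node (.leaf 1300) (.leaf 3388)) (.node (.leaf 1529) (.leaf 4068))))) (.node (.node (.node (.node (.leaf 344) (.leaf 1549)) (.node (.leaf 775) (.leaf 3084))) (.node (.node (.leaf 433) (.leaf 3374)) (.node (.leaf 1155) (.leaf 3607)))) (.node (.node (.node (.leaf 713) (.leaf 1897)) (.node (.leaf 957) (.leaf 2987))) (.node (.node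 (.leaf 1381) (.leaf 3170)) (.node (.leaf 2704) (.leaf 3889)))))) (.node (.node (.node (.node (.node (.leaf 239) (.leaf 1507)) (.node (.leaf 914) (.leaf 2872))) (.node (.node (.leaf 808) (.leaf 1977)) (.node (.leaf 2355) (.leaf 3606)))) (.node (.node (.node (.leaf 579) (.leaf 1872)) (.node (.leaf 2053) (.leaf 2796))) (.node (.node (.leaf 1389) (.leaf 3285)) (.node (.leaf 1293) (.leaf 3598))))) (.node (.node (.node (.node (.leaf 439) (.leaf 2478)) (.node (.leaf 1899) (.leaf 2678))) (.node (.node (.leaf 1203) (.leaf 2158)) (.node (.leaf 1206) (.leaf 3604)))) (.node (.node (.node (.leaf 823) (.leaf 3257)) (.node (.leaf 1002) (.leaf 3961))) (.node (.node (.leaf 1566) (.leaf 3288)) (.node (.leaf 2746) (.leaf 4094))))))))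

def twoNext125 : Janko.Tree (ℕ) :=
  (.node (.node (.node (.node (.node (.node (.node (.leaf 69) (.leaf 2799)) (.node (.leaf 1495) (.leaf 2464))) (.node (.node (.leaf 328) (.leaf 1948)) (.node (.leaf 2245) (.leaf 3020)))) (.node (.node (.node (.leaf 158) (.leaf 3041)) (.node (.leaf 1944) (.leaf 3685))) (.node (.node (.leaf 1249) (.leaf 3497)) (.node (.leaf 2532) (.leaf 3384))))) (.node (.node (.node (.node (.leaf 80) (.leaf 1524)) (.node (.leaf 750) (.leaf 2527))) (.node (.node (.leaf 1064) (.leaf 3389)) (.node (.leaf 2113) (.leaf 3985)))) (.node (.node (.node (.leaf 679) (.leaf 1771)) (.node (.leaf 2100) (.leaf 2839))) (.node (.node (.leaf 579) (.leaf 3589)) (.node (.leaf 1318) (.leaf 4085)))))) (.node (.node (.node (.node (.node (.leaf 185) (.leaf 1630)) (.node (.leaf 707) (.leaf 3672))) (.node (.node (.leaf 370) (.leaf 3123)) (.node (.leaf 2323) (.leaf 3995)))) (.node (.node (.node (.leaf 586) (.leaf 2895)) (.node (.leaf 1888) (.leaf 2766))) (.node (.node (.leaf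 1348) (.leaf 2179)) (.node (.leaf 2596) (.leaf 3566))))) (.node (.node (.node (.node (.leaf 394) (.leaf 2987)) (.node (.leaf 797) (.leaf 3818))) (.node (.node (.leaf 452) (.leaf 2373)) (.node (.leaf 1175) (.leaf 4042)))) (.node (.node (.node (.leaf 282) (.leaf 3231)) (.node (.leaf 2184) (.leaf 2920))) (.node (.node (.leaf 1519) (.leaf 3627)) (.node (.leaf 1380) (.leaf 3864))))))) (.node (.node (.node (.node (.node (.node (.leaf 128) (.leaf 2778)) (.node (.leaf 688) (.leaf 2501))) (.node (.node (.leaf 346) (.leaf 2042)) (.node (.leaf 2249) (.leaf 3965)))) (.node (.node (.node (.leaf 174) (.leaf 2924)) (.node (.leaf 1857) (.leaf 3875))) (.node (.node (.leaf 1302) (.leaf 2147)) (.node (.leaf 2569) (.leaf 3632))))) (.node (.node (.node (.node (.leaf 345) (.leaf 2964)) (.node (.leaf 1811) (.leaf 3797))) (.node (.node (.leaf 1112) (.leaf 2037)) (.node (.leaf 1149) (.leaf 3341)))) (.node (.node (.node (.leaf 260) (.leaf 3199)) (.node (.leaf 2145) (.leaf 2882))) (.node (.node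 (.leaf 602) (.leaf 2362)) (.node (.leaf 1340) (.leaf 3766)))))) (.node (.node (.node (.node (.node (.leaf 65) (.leaf 2906)) (.node (.leaf 1726) (.leaf 2495))) (.node (.node (.leaf 1013) (.leaf 1967)) (.node (.leaf 1094) (.leaf 4011)))) (.node (.node (.node (.leaf 215) (.leaf 3121)) (.node (.leaf 2059) (.leaf 3902))) (.node (.node (.leaf 558) (.leaf 2221)) (.node (.leaf 2639) (.leaf 4068))))) (.node (.node (.node (.node (.leaf 136) (.leaf 1611)) (.node (.leaf 818) (.leaf 3838))) (.node (.node (.leaf 1204) (.leaf 3472)) (.node (.leaf 2493) (.leaf 4059)))) (.node (.node (.node (.leaf 302) (.leaf 3255)) (.node (.leaf 2223) (.leaf 2968))) (.node (.node (.leaf 645) (.leaf 2379)) (.node (.leaf 2758) (.leaf 4084))))))))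

def twoNext126 : Janko.Tree (ℕ) :=
  (.node (.node (.node (.node (.node (.node (.node (.leaf 13) (.leaf 2431)) (.node (.leaf 1610) (.leaf 2902))) (.node (.node (.leaf 324) (.leaf 1871)) (.node (.leaf 1026) (.leaf 3742)))) (.node (.node (.node (.leaf 490) (.leaf 3040)) (.node (.leaf 845) (.leaf 2681))) (.node (.node (.leaf 1203) (.leaf 2118)) (.node (.leaf 1223) (.leaf 3386))))) (.node (.node (.node (.node (.leaf 293) (.leaf 2911)) (.node (.leaf 755) (.leaf 2771))) (.node (.node (.leaf 1058) (.leaf 1999)) (.node (.leaf 1122) (.leaf 3192)))) (.node (.node (.node (.leaf 237) (.leaf 2295)) (.node (.leaf 931) (.leaf 2832))) (.node (.node (.leaf 1298) (.leaf 2255)) (.node (.leaf 2672) (.leaf 3947)))))) (.node (.node (.node (.node (.node (.leaf 45) (.leaf 1470)) (.node (.leaf 1617) (.leaf 3726))) (.node (.node (.leaf 967) (.leaf 1949)) (.node (.leaf 1074) (.leaf 3542)))) (.node (.node (.node (.leaf 196) (.leaf 1712)) (.node (.leaf 882) (.leaf 3680))) (.node (.node (.leaf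 538) (.leaf 2207)) (.node (.leaf 1269) (.leaf 4041))))) (.node (.node (.node (.node (.leaf 384) (.leaf 1581)) (.node (.leaf 1854) (.leaf 2602))) (.node (.node (.leaf 1160) (.leaf 3440)) (.node (.leaf 2447) (.leaf 4049)))) (.node (.node (.node (.leaf 779) (.leaf 2055)) (.node (.leaf 1015) (.leaf 2990))) (.node (.node (.leaf 1518) (.leaf 2332)) (.node (.leaf 1368) (.leaf 3930))))))) (.node (.node (.node (.node (.node (.node (.leaf 129) (.leaf 2836)) (.node (.leaf 1650) (.leaf 2442))) (.node (.node (.leaf 904) (.leaf 1902)) (.node (.leaf 1964) (.leaf 3971)))) (.node (.node (.node (.leaf 252) (.leaf 1677)) (.node (.leaf 1987) (.leaf 2721))) (.node (.node (.leaf 515) (.leaf 2237)) (.node (.leaf 2571) (.leaf 3443))))) (.node (.node (.node (.node (.leaf 98) (.leaf 2694)) (.node (.leaf 774) (.leaf 3780))) (.node (.node (.leaf 1113) (.leaf 3389)) (.node (.leaf 2408) (.leaf 3233)))) (.node (.node (.node (.leaf 727) (.leaf 1870)) (.node (.leaf 2146) (.leaf 3856))) (.node (.node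 (.leaf 1395) (.leaf 3161)) (.node (.leaf 1342) (.leaf 3911)))))) (.node (.node (.node (.node (.node (.leaf 241) (.leaf 1495)) (.node (.leaf 980) (.leaf 3748))) (.node (.node (.leaf 388) (.leaf 3366)) (.node (.leaf 1946) (.leaf 3196)))) (.node (.node (.node (.leaf 632) (.leaf 2079)) (.node (.leaf 905) (.leaf 2795))) (.node (.node (.leaf 1393) (.leaf 2214)) (.node (.leaf 1291) (.leaf 3642))))) (.node (.node (.node (.node (.leaf 440) (.leaf 2477)) (.node (.leaf 1900) (.leaf 3002))) (.node (.node (.leaf 709) (.leaf 2093)) (.node (.leaf 1246) (.leaf 3390)))) (.node (.node (.node (.leaf 824) (.leaf 1848)) (.node (.leaf 2222) (.leaf 3934))) (.node (.node (.leaf 647) (.leaf 3633)) (.node (.leaf 1475) (.leaf 4086))))))))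

def twoNext127 : Janko.Tree (ℕ) :=
  (.node (.node (.node (.node (.node (.node (.node (.leaf 70) (.leaf 1422)) (.node (.leaf 664) (.leaf 2417))) (.node (.node (.leaf 870) (.leaf 3206)) (.node (.leaf 1023) (.leaf 3815)))) (.node (.node (.node (.leaf 155) (.leaf 1644)) (.node (.leaf 1945) (.leaf 2680))) (.node (.node (.leaf 493) (.leaf 3498)) (.node (.leaf 1222) (.leaf 3543))))) (.node (.node (.node (.node (.leaf 294) (.leaf 2936)) (.node (.leaf 770) (.leaf 2984))) (.node (.node (.leaf 1065) (.leaf 1998)) (.node (.leaf 1121) (.leaf 3313)))) (.node (.node (.node (.leaf 680) (.leaf 3161)) (.node (.leaf 1952) (.leaf 2831))) (.node (.node (.leaf 576) (.leaf 3590)) (.node (.leaf 2673) (.leaf 3819)))))) (.node (.node (.node (.node (.node (.leaf 44) (.leaf 2877)) (.node (.leaf 1616) (.leaf 3075))) (.node (.node (.leaf 365) (.leaf 1933)) (.node (.leaf 1073) (.leaf 3112)))) (.node (.node (.node (.leaf 587) (.leaf 3072)) (.node (.leaf 2025) (.leaf 3686))) (.node (.node (.leaf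 1349) (.leaf 3545)) (.node (.leaf 1268) (.leaf 3523))))) (.node (.node (.node (.node (.leaf 395) (.leaf 1580)) (.node (.leaf 1855) (.leaf 2599))) (.node (.node (.leaf 1161) (.leaf 2067)) (.node (.leaf 1238) (.leaf 3277)))) (.node (.node (.node (.leaf 780) (.leaf 2232)) (.node (.leaf 977) (.leaf 2918))) (.node (.node (.leaf 622) (.leaf 2340)) (.node (.leaf 1365) (.leaf 3918))))))) (.node (.node (.node (.node (.node (.node (.leaf 130) (.leaf 2837)) (.node (.leaf 1651) (.leaf 2953))) (.node (.node (.leaf 903) (.leaf 3300)) (.node (.leaf 1045) (.leaf 3082)))) (.node (.node (.node (.leaf 537) (.leaf 2755)) (.node (.leaf 1988) (.leaf 3066))) (.node (.node (.leaf 1303) (.leaf 2236)) (.node (.leaf 1247) (.leaf 3442))))) (.node (.node (.node (.node (.leaf 346) (.leaf 1547)) (.node (.leaf 1775) (.leaf 2562))) (.node (.node (.leaf 1114) (.leaf 2034)) (.node (.leaf 1416) (.leaf 4037)))) (.node (.node (.node (.leaf 728) (.leaf 1794)) (.node (.leaf 2032) (.leaf 3855))) (.node (.node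 (.leaf 1475) (.leaf 2295)) (.node (.leaf 2705) (.leaf 3887)))))) (.node (.node (.node (.node (.node (.leaf 62) (.leaf 1494)) (.node (.leaf 730) (.leaf 3749))) (.node (.node (.leaf 740) (.leaf 1975)) (.node (.leaf 2356) (.leaf 3144)))) (.node (.node (.node (.leaf 577) (.leaf 1746)) (.node (.leaf 2060) (.leaf 3906))) (.node (.node (.leaf 1394) (.leaf 2213)) (.node (.leaf 1290) (.leaf 3596))))) (.node (.node (.node (.node (.leaf 441) (.leaf 3016)) (.node (.leaf 1901) (.leaf 2640))) (.node (.node (.leaf 471) (.leaf 2199)) (.node (.leaf 1202) (.leaf 3328)))) (.node (.node (.node (.leaf 825) (.leaf 1847)) (.node (.leaf 1000) (.leaf 3933))) (.node (.node (.leaf 1567) (.leaf 3286)) (.node (.leaf 1395) (.leaf 4083))))))))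

def twoNext : Janko.Tree (ℕ) := (.node (.node (.node (.node (.node (.node (.node twoNext0 twoNext64) (.node twoNext32 twoNext96)) (.node (.node twoNext16 twoNext80) (.node twoNext48 twoNext112))) (.node (.node (.node twoNext8 twoNext72) (.node twoNext40 twoNext104)) (.node (.node twoNext24 twoNext88) (.node twoNext56 twoNext120)))) (.node (.node (.node (.node twoNext4 twoNext68) (.node twoNext36 twoNext100)) (.node (.node twoNext20 twoNext84) (.node twoNext52 twoNext116))) (.node (.node (.node twoNext12 twoNext76) (.node twoNext44 twoNext108)) (.node (.node twoNext28 twoNext92) (.node twoNext60 twoNext124))))) (.node (.node (.node (.node (.node twoNext2 twoNext66) (.node twoNext34 twoNext98)) (.node (.node twoNext18 twoNext82) (.node twoNext50 twoNext114))) (.node (.node (.node twoNext10 twoNext74) (.node twoNext42 twoNext106)) (.node (.node twoNext26 twoNext90) (.node twoNext58 twoNext122)))) (.node (.node (.node (.node twoNext6 twoNext70) (.node twoNext38 twoNext102))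 (.node (.node twoNext22 twoNext86) (.node twoNext54 twoNext118))) (.node (.node (.node twoNext14 twoNext78) (.node twoNext46 twoNext110)) (.node (.node twoNext30 twoNext94) (.node twoNext62 twoNext126)))))) (.node (.node (.node (.node (.node (.node twoNext1 twoNext65) (.node twoNext33 twoNext97)) (.node (.node twoNext17 twoNext81) (.node twoNext49 twoNext113))) (.node (.node (.node twoNext9 twoNext73) (.node twoNext41 twoNext105)) (.node (.node twoNext25 twoNext89) (.node twoNext57 twoNext121)))) (.node (.node (.node (.node twoNext5 twoNext69) (.node twoNext37 twoNext101)) (.node (.node twoNext21 twoNext85) (.node twoNext53 twoNext117))) (.node (.node (.node twoNext13 twoNext77) (.node twoNext45 twoNext109)) (.node (.node twoNext29 twoNext93) (.node twoNext61 twoNext125))))) (.node (.node (.node (.node (.node twoNext3 twoNext67) (.node twoNext35 twoNext99)) (.node (.node twoNext19 twoNext83) (.node twoNext51 twoNext115))) (.node (.node (.node twoNext11 twoNext75) (.node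 twoNext43 twoNext107)) (.node (.node twoNext27 twoNext91) (.node twoNext59 twoNext123)))) (.node (.node (.node (.node twoNext7 twoNext71) (.node twoNext39 twoNext103)) (.node (.node twoNext23 twoNext87) (.node twoNext55 twoNext119))) (.node (.node (.node twoNext15 twoNext79) (.node twoNext47 twoNext111)) (.node (.node twoNext31 twoNext95) (.node twoNext63 twoNext127)))))))

def twoWord0 : Janko.Tree (ℕ) :=
  (.node (.node (.node (.node (.node (.node (.node (.leaf 1) (.leaf 17803227697713)) (.node (.leaf 73836671267) (.leaf 335359956226834))) (.node (.node (.leaf 4329575184) (.leaf 282717044544016)) (.node (.leaf 1177643266337) (.leaf 4838955793068289)))) (.node (.node (.node (.leaf 19989266) (.leaf 19860517036816)) (.node (.leaf 1104630842128) (.leaf 4539888628211969))) (.node (.node (.leaf 68991131905) (.leaf 299208916664851)) (.node (.leaf 17661727739953) (.leaf 72638218051391537))))) (.node (.node (.node (.node (.leaf 1192193) (.leaf 18833468359187)) (.node (.leaf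 1103825543952) (.leaf 4521402820535058))) (.node (.node (.leaf 4614791425) (.leaf 283755875078672)) (.node (.leaf 1250106093859) (.leaf 72341337579528449)))) (.node (.node (.node (.leaf 287511056) (.leaf 282579371692081)) (.node (.leaf 1168534343699) (.leaf 4786324742615331))) (.node (.node (.leaf 69543858194) (.leaf 301476658483731)) (.node (.leaf 17733939040784) (.leaf 81347578253345073)))))) (.node (.node (.node (.node (.node (.leaf 74514) (.leaf 18700607431442)) (.node (.leaf 78131568945) (.leaf 4521273720844579))) (.node (.node (.leaf 4565565745) (.leaf 282785495585329)) (.node (.leaf 1241265545473) (.leaf 5367884789518369)))) (.node (.node (.node (.leaf 270733347) (.leaf 20959743447827)) (.node (.leaf 1108923781906) (.leaf 4557480545947681))) (.node (.node (.leaf 69273260819) (.leaf 299278173012259)) (.node (.leaf 17670317617441) (.leaf 76581195362799665))))) (.node (.node (.node (.node (.leaf 17830675) (.leaf 18902170022177)) (.node (.leaf 1104360321313) (.leaf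 4523472744092209))) (.node (.node (.leaf 5117125394) (.leaf 284851090632962)) (.node (.leaf 17661208572162) (.leaf 72375362310447891)))) (.node (.node (.node (.leaf 4311818497) (.leaf 282587676283441)) (.node (.leaf 1169055351570) (.leaf 4821363339624737))) (.node (.node (.leaf 73568166193) (.leaf 317767770182193)) (.node (.leaf 17742779527459) (.leaf 1158005788929762066))))))) (.node (.node (.node (.node (.node (.node (.leaf 4883) (.leaf 18696814797105)) (.node (.leaf 77580144673) (.leaf 4521269442650403))) (.node (.node (.leaf 4346352147) (.leaf 282784960676627)) (.node (.leaf 1181387661569) (.leaf 5084352239174416)))) (.node (.node (.node (.leaf 269627649) (.leaf 19873085333809)) (.node (.leaf 1108373209618) (.leaf 4540093983559729))) (.node (.node (.leaf 69024678449) (.leaf 299217756230419)) (.node (.leaf 17669766189584) (.leaf 72674429473272099))))) (.node (.node (.node (.node (.leaf 16855298) (.leaf 18834255839523)) (.node (.leaf 1103841398802) (.leaf 4523460144402963)))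 (.node (.node (.leaf 4848816659) (.leaf 283885007213105)) (.node (.leaf 1309999829041) (.leaf 72342436572042003)))) (.node (.node (.node (.leaf 303239187) (.leaf 282583398097155)) (.node (.leaf 1168787050529) (.leaf 4787355501400595))) (.node (.node (.leaf 73049059585) (.leaf 302435005375251)) (.node (.leaf 17734508221202) (.leaf 1157446063977665298)))))) (.node (.node (.node (.node (.node (.leaf 1114401) (.leaf 18704885617427)) (.node (.leaf 81874989313) (.leaf 4521334369620499))) (.node (.node (.leaf 4598014257) (.leaf 283743307698707)) (.node (.leaf 1242067706161) (.leaf 72340319120732449)))) (.node (.node (.node (.leaf 285348627) (.leaf 20968300024369)) (.node (.leaf 1112667262995) (.leaf 4786315901145106))) (.node (.node (.leaf 69307736851) (.leaf 301335727644931)) (.node (.leaf 17674061156370) (.leaf 77141813936395027))))) (.node (.node (.node (.node (.leaf 18027027) (.leaf 18902707929393)) (.node (.leaf 1104394851090) (.leaf 4524559387725873))) (.node (.node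 (.leaf 68989104386) (.leaf 299144792117297)) (.node (.leaf 17661459247362) (.leaf 72377621229351201)))) (.node (.node (.node (.leaf 4313907984) (.leaf 282716257063443)) (.node (.leaf 1177092694273) (.leaf 4821509081280801))) (.node (.node (.leaf 73571303985) (.leaf 317969350598915)) (.node (.leaf 17802659438849) (.leaf 1162790871572353059))))))))

def twoWord1 : Janko.Tree (ℕ) :=
  (.node (.node (.node (.node (.node (.node (.node (.leaf 16) (.leaf 17803227697938)) (.node (.leaf 73836728848) (.leaf 335360458564370))) (.node (.node (.leaf 4329575186) (.leaf 282717044544019)) (.node (.leaf 1177643266339) (.leaf 4838960085934866)))) (.node (.node (.node (.leaf 19996929) (.leaf 19860517036818)) (.node (.leaf 1104630842130) (.leaf 4539888628211971))) (.node (.node (.leaf 68991131907) (.leaf 299208916672769)) (.node (.leaf 17661727740688) (.leaf 72638218052370737))))) (.node (.node (.node (.node (.leaf 1192194) (.leaf 18833468359217)) (.node (.leaf 1103825543954) (.leaf 4521402820535059)))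 (.node (.node (.leaf 4614791427) (.leaf 283755875078675)) (.node (.leaf 1250106216483) (.leaf 72341337579528451)))) (.node (.node (.node (.leaf 287511059) (.leaf 282579605463297)) (.node (.leaf 1168534343713) (.leaf 4786384588046641))) (.node (.node (.leaf 69543858195) (.leaf 301476659405105)) (.node (.leaf 17733939040787) (.leaf 81348549166641443)))))) (.node (.node (.node (.node (.node (.leaf 74515) (.leaf 18700607431443)) (.node (.leaf 78131569424) (.leaf 4521273721032722))) (.node (.node (.leaf 4565566224) (.leaf 282785498595617)) (.node (.leaf 1241265545475) (.leaf 72340310280175905)))) (.node (.node (.node (.leaf 270733361) (.leaf 20959743455489)) (.node (.leaf 1108923781907) (.leaf 4557480548958994))) (.node (.node (.leaf 69273268481) (.leaf 299278173012273)) (.node (.leaf 17670317675280) (.leaf 76581195362800147))))) (.node (.node (.node (.node (.leaf 17834241) (.leaf 18902170022179)) (.node (.leaf 1104360321315) (.leaf 4523472744092435))) (.node (.node (.leaf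 5117125395) (.leaf 284851090632993)) (.node (.leaf 17661208572193) (.leaf 72375362310509331)))) (.node (.node (.node (.leaf 4311818499) (.leaf 282587676283664)) (.node (.leaf 1169055351571) (.leaf 4821363339624979))) (.node (.node (.leaf 73568166672) (.leaf 317767770186512)) (.node (.leaf 17742779585040) (.leaf 1158005788929762067))))))) (.node (.node (.node (.node (.node (.node (.leaf 65793) (.leaf 18696814858259)) (.node (.leaf 77580144675) (.leaf 4521269442650896))) (.node (.node (.leaf 4346352177) (.leaf 282784960688385)) (.node (.leaf 1181387661571) (.leaf 5084352239174418)))) (.node (.node (.node (.leaf 269627650) (.leaf 19873116721683)) (.node (.leaf 1108373209619) (.leaf 4540093983560208))) (.node (.node (.leaf 69024678674) (.leaf 299217756238113)) (.node (.leaf 17669766189587) (.leaf 72674429475291920))))) (.node (.node (.node (.node (.leaf 16855299) (.leaf 18834255839537)) (.node (.leaf 1103841398803) (.leaf 4523460144402993))) (.node (.node (.leaf 4848816689)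 (.leaf 284842534114064)) (.node (.leaf 1309999829520) (.leaf 72342436572049665)))) (.node (.node (.node (.leaf 303239201) (.leaf 282583398097187)) (.node (.leaf 1168787051024) (.leaf 4787355502448675))) (.node (.node (.leaf 73049059586) (.leaf 302435005378849)) (.node (.leaf 17734508224817) (.leaf 1157446063977665299)))))) (.node (.node (.node (.node (.node (.leaf 1114403) (.leaf 18704885625089)) (.node (.leaf 81874989314) (.leaf 4521334371582241))) (.node (.node (.leaf 4598014736) (.leaf 283743307698737)) (.node (.leaf 1242067706640) (.leaf 72340319120732451)))) (.node (.node (.node (.leaf 285356289) (.leaf 20968350159409)) (.node (.leaf 1112667263011) (.leaf 4786315901145107))) (.node (.node (.leaf 69307740449) (.leaf 301335727644977)) (.node (.leaf 17674061156371) (.leaf 77141813936402690))))) (.node (.node (.node (.node (.leaf 18027057) (.leaf 18902739325459)) (.node (.leaf 1104394854705) (.leaf 4524559387726608))) (.node (.node (.leaf 68989104387) (.leaf 299145294385936))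 (.node (.leaf 17661459247393) (.leaf 72377621229473841)))) (.node (.node (.node (.leaf 4313907986) (.leaf 282716259025185)) (.node (.leaf 1177092694321) (.leaf 4821509081338387))) (.node (.node (.leaf 73571304210) (.leaf 317969365340209)) (.node (.leaf 17802659438851) (.leaf 1162790871572353073))))))))

def twoWord2 : Janko.Tree (ℕ) :=
  (.node (.node (.node (.node (.node (.node (.node (.leaf 17) (.leaf 18696546365697)) (.node (.leaf 73836728851) (.leaf 335360458564371))) (.node (.node (.leaf 4329575187) (.leaf 282717046505761)) (.node (.leaf 1177643323920) (.leaf 4838960085934867)))) (.node (.node (.node (.leaf 19996931) (.leaf 19860517036819)) (.node (.leaf 1104630842131) (.leaf 4539888628273171))) (.node (.node (.leaf 68991131953) (.leaf 299208948060688)) (.node (.leaf 17661729767713) (.leaf 72638278733472530))))) (.node (.node (.node (.node (.leaf 1192195) (.leaf 18833468367105)) (.node (.leaf 1103825543955) (.leaf 4521402820538625))) (.node (.node (.leaf 4614791459)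 (.leaf 283755876000003)) (.node (.leaf 1250106216497) (.leaf 72341337579528497)))) (.node (.node (.node (.leaf 288424225) (.leaf 282579605463299)) (.node (.leaf 1168534343715) (.leaf 4786384588047120))) (.node (.node (.leaf 73033384241) (.leaf 301476674211875)) (.node (.leaf 17733939953953) (.leaf 81348549167747107)))))) (.node (.node (.node (.node (.node (.leaf 78081) (.leaf 18700607435041)) (.node (.leaf 78131569426) (.leaf 4521273721032723))) (.node (.node (.leaf 4565566226) (.leaf 282785498595619)) (.node (.leaf 1241265545521) (.leaf 72340310280176144)))) (.node (.node (.node (.leaf 270733840) (.leaf 20959743455490)) (.node (.leaf 1108923789570) (.leaf 4557480548966659))) (.node (.node (.leaf 69273268482) (.leaf 299278204408594)) (.node (.leaf 17670317675282) (.leaf 76581195364762386))))) (.node (.node (.node (.node (.leaf 17834243) (.leaf 18902170144803)) (.node (.leaf 1104360379152) (.leaf 4523472744100098))) (.node (.node (.leaf 5117128993) (.leaf 284851090690066))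 (.node (.leaf 17661208703233) (.leaf 72375362310516994)))) (.node (.node (.node (.leaf 4311818531) (.leaf 282587676283666)) (.node (.leaf 1169055363329) (.leaf 4821363339625009))) (.node (.node (.leaf 73568166674) (.leaf 317767770186514)) (.node (.leaf 17742779585043) (.leaf 1158005788929831170))))))) (.node (.node (.node (.node (.node (.node (.leaf 65794) (.leaf 18696814858289)) (.node (.leaf 77580145168) (.leaf 4521269442650898))) (.node (.node (.leaf 4346352402) (.leaf 282784960688387)) (.node (.leaf 1181387661617) (.leaf 5084352239174419)))) (.node (.node (.node (.leaf 269627651) (.leaf 19873116721713)) (.node (.leaf 1108373217537) (.leaf 4540093983560211))) (.node (.node (.leaf 69024686337) (.leaf 299217756238115)) (.node (.leaf 17669767102753) (.leaf 72674429475291923))))) (.node (.node (.node (.node (.leaf 16855329) (.leaf 18834255840016)) (.node (.leaf 1103841398817) (.leaf 4523460144406833))) (.node (.node (.leaf 4850913298) (.leaf 284842534114066)) (.node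 (.leaf 1309999829523) (.leaf 72342436825858339)))) (.node (.node (.node (.leaf 303239203) (.leaf 282583398097680)) (.node (.leaf 1168787964193) (.leaf 4787355502448689))) (.node (.node (.leaf 73049059617) (.leaf 302435005501489)) (.node (.leaf 17734508351507) (.leaf 1157446063977672961)))))) (.node (.node (.node (.node (.node (.leaf 1114417) (.leaf 18704885625090)) (.node (.leaf 81874989315) (.leaf 4521334371582243))) (.node (.node (.leaf 4598014738) (.leaf 283743307702577)) (.node (.leaf 1242067706642) (.leaf 72340319120855075)))) (.node (.node (.node (.leaf 285356290) (.leaf 20968350159634)) (.node (.leaf 1112667263025) (.leaf 4786316437885459))) (.node (.node (.leaf 69307863059) (.leaf 301335727706131)) (.node (.leaf 17674061156387) (.leaf 77141817678762003))))) (.node (.node (.node (.node (.leaf 18940193) (.leaf 18902739325489)) (.node (.leaf 1104394855184) (.leaf 4524559624634673))) (.node (.node (.leaf 68989104417) (.leaf 299145294385938)) (.node (.leaf 17661459370002)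 (.leaf 72377621465346305)))) (.node (.node (.node (.leaf 4313907987) (.leaf 282716259025187)) (.node (.leaf 1177126240545) (.leaf 4821509082263841))) (.node (.node (.leaf 73571311873) (.leaf 317969867546929)) (.node (.leaf 17802659438897) (.leaf 1225296862622327041))))))))

def twoWord3 : Janko.Tree (ℕ) :=
  (.node (.node (.node (.node (.node (.node (.node (.leaf 18) (.leaf 18696546365698)) (.node (.leaf 73838690593) (.leaf 335360458567969))) (.node (.node (.leaf 4329578801) (.leaf 282717046505763)) (.node (.leaf 1177643323923) (.leaf 4838960085938465)))) (.node (.node (.node (.leaf 19996977) (.leaf 19860517163027)) (.node (.leaf 1104630853889) (.leaf 4539888628273201))) (.node (.node (.leaf 68991132432) (.leaf 299208948060690)) (.node (.leaf 17661729767715) (.leaf 72638278733472531))))) (.node (.node (.node (.node (.leaf 1192225) (.leaf 18833482977808)) (.node (.leaf 1103825547521) (.leaf 4521402820538626))) (.node (.node (.leaf 4614791473) (.leaf 283755876000049))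 (.node (.leaf 1250106216976) (.leaf 72341337581617441)))) (.node (.node (.node (.leaf 288424227) (.leaf 282579605463345)) (.node (.leaf 1168534343729) (.leaf 4786384588047122))) (.node (.node (.leaf 73033384720) (.leaf 301476674211889)) (.node (.leaf 17733939954192) (.leaf 81400153753322259)))))) (.node (.node (.node (.node (.node (.leaf 78082) (.leaf 18700607557650)) (.node (.leaf 78131569427) (.leaf 4521273722994993))) (.node (.node (.leaf 4565566227) (.leaf 282785498595633)) (.node (.leaf 1241280352274) (.leaf 72340310280176146)))) (.node (.node (.node (.leaf 270733843) (.leaf 20959743643683)) (.node (.leaf 1108923789571) (.leaf 4557480580358928))) (.node (.node (.leaf 69273268483) (.leaf 301335208726546)) (.node (.leaf 17670317675283) (.leaf 76581195881722147))))) (.node (.node (.node (.node (.leaf 17834275) (.leaf 18902170144817)) (.node (.leaf 1104360379154) (.leaf 4523472744100129))) (.node (.node (.leaf 5117186067) (.leaf 284851090690609)) (.node (.leaf 17661208703234)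 (.leaf 72375362310517027)))) (.node (.node (.node (.leaf 4311818545) (.leaf 282587676283667)) (.node (.leaf 1169055485971) (.leaf 4821363339632897))) (.node (.node (.leaf 73568166675) (.leaf 317767770186515)) (.node (.leaf 17742780510466) (.leaf 1158005788929831203))))))) (.node (.node (.node (.node (.node (.node (.leaf 65795) (.leaf 18696814859024)) (.node (.leaf 77580145171) (.leaf 4521269442650899))) (.node (.node (.leaf 4346355969) (.leaf 282784960688417)) (.node (.leaf 1181419049491) (.leaf 5084352239186177)))) (.node (.node (.node (.leaf 269627681) (.leaf 19873116721939)) (.node (.leaf 1108373217539) (.leaf 4540093984481539))) (.node (.node (.leaf 69024686339) (.leaf 299217756295699)) (.node (.leaf 17669767102992) (.leaf 72919688733200417))))) (.node (.node (.node (.node (.leaf 16855331) (.leaf 18834255840018)) (.node (.leaf 1103841398819) (.leaf 4523460144407312))) (.node (.node (.leaf 4850913299) (.leaf 284842534114067)) (.node (.leaf 1310001791267) (.leaf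 72342436825858353)))) (.node (.node (.node (.leaf 303239217) (.leaf 282583398097682)) (.node (.leaf 1168787964195) (.leaf 4787355502449168))) (.node (.node (.leaf 73049190657) (.leaf 302435241361699)) (.node (.leaf 17734742122753) (.leaf 1157446064231481649)))))) (.node (.node (.node (.node (.node (.leaf 1114640) (.leaf 18704885625123)) (.node (.leaf 81874989345) (.leaf 4521334371582736))) (.node (.node (.leaf 4598014739) (.leaf 283743307703056)) (.node (.leaf 1242067706643) (.leaf 72340319120855089)))) (.node (.node (.node (.leaf 285356291) (.leaf 20968852496689)) (.node (.leaf 1112667263504) (.leaf 4786316437889329))) (.node (.node (.leaf 69307863089) (.leaf 301335727706161)) (.node (.leaf 17674061156401) (.leaf 77141817678762033))))) (.node (.node (.node (.node (.leaf 18940195) (.leaf 18902739325714)) (.node (.leaf 1104394855186) (.leaf 4524559656030769))) (.node (.node (.leaf 68989104419) (.leaf 299145294385939)) (.node (.leaf 17661459370017) (.leaf 72377629500707377))))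 (.node (.node (.node (.leaf 4313916176) (.leaf 282716259025427)) (.node (.leaf 1177126240547) (.leaf 4821509114696466))) (.node (.node (.leaf 73571311875) (.leaf 317969867547410)) (.node (.leaf 17802674245650) (.leaf 1225296862624416033))))))))

def twoWord4 : Janko.Tree (ℕ) :=
  (.node (.node (.node (.node (.node (.node (.node (.leaf 19) (.leaf 18696546365729)) (.node (.leaf 73838690595) (.leaf 335360458633474))) (.node (.node (.leaf 4329579280) (.leaf 282717046505777)) (.node (.leaf 1177645285681) (.leaf 4838960086003971)))) (.node (.node (.node (.leaf 19997456) (.leaf 19860750934273)) (.node (.leaf 1104630976530) (.leaf 4539888630300961))) (.node (.node (.leaf 69022519827) (.leaf 299208948060691)) (.node (.leaf 17661729767729) (.leaf 72638278733541634))))) (.node (.node (.node (.node (.leaf 1192227) (.leaf 18833482977810)) (.node (.leaf 1103825547522) (.leaf 4521402820538659))) (.node (.node (.leaf 4614791952) (.leaf 283755907387923)) (.node (.leaf 1250106216979)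 (.leaf 72341337581617443)))) (.node (.node (.node (.leaf 288424241) (.leaf 282579605524499)) (.node (.leaf 1168534344208) (.leaf 4786384588047123))) (.node (.node (.leaf 73033384722) (.leaf 301476674212368)) (.node (.leaf 17733939954194) (.leaf 81400286092013857)))))) (.node (.node (.node (.node (.node (.leaf 78083) (.leaf 18700607557651)) (.node (.leaf 78131573025) (.leaf 4521333567324449))) (.node (.node (.leaf 4565574416) (.leaf 282785529991699)) (.node (.leaf 1241280352275) (.leaf 72340310280176147)))) (.node (.node (.node (.leaf 271647009) (.leaf 20959743643697)) (.node (.leaf 1108923789601) (.leaf 4557480580362529))) (.node (.node (.leaf 69273268513) (.leaf 301335208726547)) (.node (.leaf 17670317682946) (.leaf 76582153408746256))))) (.node (.node (.node (.node (.leaf 17834289) (.leaf 18902170145296)) (.node (.leaf 1104360379155) (.leaf 4523472744100131))) (.node (.node (.leaf 5117186097) (.leaf 284851140825649)) (.node (.leaf 17661208703265) (.leaf 72375366052876307))))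 (.node (.node (.node (.leaf 4311819024) (.leaf 282587676291329)) (.node (.leaf 1177090659088) (.leaf 4821363371024689))) (.node (.node (.leaf 73568170241) (.leaf 317767770312723)) (.node (.leaf 17742780510467) (.leaf 1158005796967158547))))))) (.node (.node (.node (.node (.node (.node (.leaf 65825) (.leaf 18696816886049)) (.node (.leaf 77581058337) (.leaf 4521269442654497))) (.node (.node (.leaf 4346355971) (.leaf 282784960688419)) (.node (.leaf 1181419049521) (.leaf 5086551262441761)))) (.node (.node (.node (.leaf 269627683) (.leaf 19873116729602)) (.node (.leaf 1108373217585) (.leaf 4540093984481585))) (.node (.node (.leaf 69039297040) (.leaf 299217757221123)) (.node (.leaf 17669767102994) (.leaf 72919688783343905))))) (.node (.node (.node (.node (.leaf 16912402) (.leaf 18834255840019)) (.node (.leaf 1103841398833) (.leaf 4523460144407314))) (.node (.node (.leaf 4850913313) (.leaf 284842534121729)) (.node (.leaf 1310001791281) (.leaf 72342445128553234)))) (.node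 (.node (.node (.leaf 303239696) (.leaf 282583398097683)) (.node (.leaf 1168787964209) (.leaf 4787355502449171))) (.node (.node (.leaf 73049190658) (.leaf 302435241361713)) (.node (.leaf 17734742122755) (.leaf 1157446072534241298)))))) (.node (.node (.node (.node (.node (.leaf 1114642) (.leaf 18704885813266)) (.node (.leaf 81874989347) (.leaf 4521334371582738))) (.node (.node (.leaf 4598018305) (.leaf 283743307703058)) (.node (.leaf 1242067710241) (.leaf 72340319120855568)))) (.node (.node (.node (.leaf 285356321) (.leaf 20968852500769)) (.node (.leaf 1112667263507) (.leaf 4786316438016019))) (.node (.node (.leaf 69541634305) (.leaf 301335727706896)) (.node (.leaf 17674061156880) (.leaf 77141817679741233))))) (.node (.node (.node (.node (.leaf 18940209) (.leaf 19860232015890)) (.node (.leaf 1104394855187) (.leaf 4524559656030994))) (.node (.node (.leaf 68989161490) (.leaf 299145294393602)) (.node (.leaf 17661459370512) (.leaf 72392949933093121)))) (.node (.node (.node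 (.leaf 4313916178) (.leaf 282716259025457)) (.node (.leaf 1177126240561) (.leaf 4821568960270867))) (.node (.node (.leaf 73602699795) (.leaf 317969867547411)) (.node (.leaf 17802674245651) (.leaf 1225297067995366162))))))))

def twoWord5 : Janko.Tree (ℕ) :=
  (.node (.node (.node (.node (.node (.node (.node (.leaf 257) (.leaf 18696546488338)) (.node (.leaf 73838690609) (.leaf 335360458633475))) (.node (.node (.leaf 4329579282) (.leaf 282717046506256)) (.node (.leaf 1177645286160) (.leaf 4838960086004001)))) (.node (.node (.node (.leaf 269488656) (.leaf 19860750934275)) (.node (.leaf 1104630976531) (.leaf 4539888630300977))) (.node (.node (.leaf 69022519857) (.leaf 299208948064513)) (.node (.leaf 17661729768208) (.leaf 72638278733541635))))) (.node (.node (.node (.node (.leaf 1249298) (.leaf 18833482977811)) (.node (.leaf 1103825547523) (.leaf 4521402820661266))) (.node (.node (.leaf 4614791954) (.leaf 283755907387953)) (.node (.leaf 1250107138307) (.leaf 72341346169463089))))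 (.node (.node (.node (.leaf 288424464) (.leaf 282579605524529)) (.node (.leaf 1168534344211) (.leaf 4786384588058881))) (.node (.node (.leaf 73033384723) (.leaf 301476674212371)) (.node (.leaf 17733939954195) (.leaf 81926961003434019)))))) (.node (.node (.node (.node (.node (.leaf 78113) (.leaf 18700607557681)) (.node (.leaf 78131630864) (.leaf 4521333567324688))) (.node (.node (.leaf 4565574418) (.leaf 282785529991729)) (.node (.leaf 1241280352289) (.leaf 72340310280184065)))) (.node (.node (.node (.leaf 271647011) (.leaf 20959743644176)) (.node (.leaf 1108923789603) (.leaf 4557480580485169))) (.node (.node (.leaf 69273268515) (.leaf 301335208726561)) (.node (.leaf 17670317682947) (.leaf 76582153408746258))))) (.node (.node (.node (.node (.leaf 17834768) (.leaf 18902170145299)) (.node (.leaf 1104360386817) (.leaf 4523601309020449))) (.node (.node (.leaf 5117186609) (.leaf 284851140825874)) (.node (.leaf 17661208760338) (.leaf 72375366052876337)))) (.node (.node (.node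 (.leaf 4311819026) (.leaf 282587676291330)) (.node (.leaf 1177090659090) (.leaf 4821363371025168))) (.node (.node (.leaf 73568170242) (.leaf 317768272519473)) (.node (.leaf 17742780510497) (.leaf 1158005796967166243))))))) (.node (.node (.node (.node (.node (.node (.leaf 65827) (.leaf 18696816886051)) (.node (.leaf 77581058576) (.leaf 4521269442777106))) (.node (.node (.leaf 4346356003) (.leaf 282784960811043)) (.node (.leaf 1181419049744) (.leaf 5086551263486257)))) (.node (.node (.node (.leaf 269684754) (.leaf 19873116729633)) (.node (.leaf 1108406763809) (.leaf 4540094001250865))) (.node (.node (.leaf 69039297042) (.leaf 299217757221153)) (.node (.leaf 17669767102995) (.leaf 72919689287762704))))) (.node (.node (.node (.node (.leaf 16912403) (.leaf 18842291147538)) (.node (.leaf 1103841399312) (.leaf 4523460144407315))) (.node (.node (.leaf 4850913329) (.leaf 284842534121730)) (.node (.leaf 1310001791537) (.leaf 72342445128553235)))) (.node (.node (.node (.leaf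 303239699) (.leaf 282583398101281)) (.node (.leaf 1168787964432) (.leaf 4787355534758419))) (.node (.node (.leaf 73049190689) (.leaf 302435241373953)) (.node (.leaf 17734742122787) (.leaf 1157446072534241841)))))) (.node (.node (.node (.node (.node (.leaf 1114643) (.leaf 18704885813267)) (.node (.leaf 81875111954) (.leaf 4521334371582739))) (.node (.node (.leaf 4598018306) (.leaf 283743307703059)) (.node (.leaf 1242067767315) (.leaf 72340319120855571)))) (.node (.node (.node (.leaf 285356323) (.leaf 282579337031937)) (.node (.leaf 1112668184833) (.leaf 4786316671787265))) (.node (.node (.leaf 69541634307) (.leaf 301335729733921)) (.node (.leaf 17674061156883) (.leaf 77141878360843026))))) (.node (.node (.node (.node (.leaf 18940435) (.leaf 19860232015891)) (.node (.leaf 1104394858785) (.leaf 4524559656035088))) (.node (.node (.leaf 68989161505) (.leaf 299145294393603)) (.node (.leaf 17661461467154) (.leaf 72392949933093122)))) (.node (.node (.node (.leaf 4313916179)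 (.leaf 282716259033345)) (.node (.leaf 1177126240787) (.leaf 4821568961192241))) (.node (.node (.leaf 73602699825) (.leaf 317969867674161)) (.node (.leaf 17802674245667) (.leaf 1225297068512321841))))))))

def twoWord6 : Janko.Tree (ℕ) :=
  (.node (.node (.node (.node (.node (.node (.node (.leaf 258) (.leaf 18696546488353)) (.node (.leaf 73838691088) (.leaf 335360458633505))) (.node (.node (.leaf 4329579283) (.leaf 282717046506258)) (.node (.leaf 1177645286162) (.leaf 4838960086004003)))) (.node (.node (.node (.leaf 269488658) (.leaf 19860750934321)) (.node (.leaf 1108371182352) (.leaf 4539892420842003))) (.node (.node (.leaf 69022520080) (.leaf 299208948064561)) (.node (.leaf 17661729768210) (.leaf 72638278733541667))))) (.node (.node (.node (.node (.leaf 1249299) (.leaf 18833482981633)) (.node (.leaf 1103825547553) (.leaf 4521402820661809))) (.node (.node (.leaf 4614791955) (.leaf 283755907388179)) (.node (.leaf 1250107138353) (.leaf 72341346171552049)))) (.node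 (.node (.node (.leaf 288424466) (.leaf 282579605525264)) (.node (.leaf 1168536305953) (.leaf 4786384603910162))) (.node (.node (.leaf 73033392912) (.leaf 301476676174385)) (.node (.leaf 17733939962113) (.leaf 81926961003434033)))))) (.node (.node (.node (.node (.node (.leaf 78115) (.leaf 18701109764401)) (.node (.leaf 78131630866) (.leaf 4521333567324690))) (.node (.node (.leaf 4565574419) (.leaf 282785529991954)) (.node (.leaf 1241280352291) (.leaf 72340310311571984)))) (.node (.node (.node (.leaf 271647025) (.leaf 20959743644179)) (.node (.leaf 1108923847184) (.leaf 4557480816357633))) (.node (.node (.leaf 69273325586) (.leaf 301335208726563)) (.node (.leaf 17670317682977) (.leaf 76582153408746259))))) (.node (.node (.node (.node (.leaf 17834770) (.leaf 18902171066625)) (.node (.leaf 1104360386818) (.leaf 4523601309020451))) (.node (.node (.leaf 5117186832) (.leaf 284851643162929)) (.node (.leaf 17661208760339) (.leaf 72375366052877072)))) (.node (.node (.node (.leaf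 4311819027) (.leaf 282587676291363)) (.node (.leaf 1177090659091) (.leaf 4821363371025170))) (.node (.node (.leaf 73568170273) (.leaf 317768272519954)) (.node (.leaf 17742780510499) (.leaf 1158005856846020913))))))) (.node (.node (.node (.node (.node (.node (.leaf 65841) (.leaf 18696816886065)) (.node (.leaf 77581058578) (.leaf 4521269442777107))) (.node (.node (.leaf 4346356017) (.leaf 282784960811057)) (.node (.leaf 1181419049746) (.leaf 5086551797215521)))) (.node (.node (.node (.leaf 269684755) (.leaf 19873116729635)) (.node (.leaf 1108406763811) (.leaf 4540094001251090))) (.node (.node (.leaf 69039297043) (.leaf 299217757221155)) (.node (.leaf 17669767110913) (.leaf 72919761747587361))))) (.node (.node (.node (.node (.leaf 16912417) (.leaf 18842291147539)) (.node (.leaf 1103841399315) (.leaf 4523460378304769))) (.node (.node (.leaf 4850913808) (.leaf 284842534309923)) (.node (.leaf 1310001791762) (.leaf 72342445128618002)))) (.node (.node (.node (.leaf 305201441)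 (.leaf 282583398223890)) (.node (.leaf 1168787964434) (.leaf 4787355534758449))) (.node (.node (.leaf 73049247762) (.leaf 302443276669714)) (.node (.leaf 17734742122801) (.leaf 1157446072584376881)))))) (.node (.node (.node (.node (.node (.leaf 1114673) (.leaf 18704887775537)) (.node (.leaf 81875111955) (.leaf 4521342406890258))) (.node (.node (.leaf 4598018337) (.leaf 283743307829267)) (.node (.leaf 1242067767857) (.leaf 72340319121776945)))) (.node (.node (.node (.leaf 285413394) (.leaf 282579337031938)) (.node (.leaf 1112668184835) (.leaf 4786316671787299))) (.node (.node (.leaf 69541634339) (.leaf 301344317579569)) (.node (.leaf 17674062078209) (.leaf 77141878360843027))))) (.node (.node (.node (.node (.leaf 18940465) (.leaf 19860232015905)) (.node (.leaf 1104394981395) (.leaf 4524559656035090))) (.node (.node (.leaf 68989162000) (.leaf 299145294393633)) (.node (.leaf 17661461467169) (.leaf 72392949933215777)))) (.node (.node (.node (.leaf 4313919745) (.leaf 282716273644048))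 (.node (.leaf 1177126248705) (.leaf 4821568977961521))) (.node (.node (.leaf 73602700050) (.leaf 320026906398755)) (.node (.leaf 17802674245681) (.leaf 1225297068512322323))))))))

def twoWord7 : Janko.Tree (ℕ) :=
  (.node (.node (.node (.node (.node (.node (.node (.leaf 259) (.leaf 18696546488848)) (.node (.leaf 73838691090) (.leaf 335360458633507))) (.node (.node (.leaf 4329582849) (.leaf 282717046506259)) (.node (.leaf 1177645286163) (.leaf 4838960088023824)))) (.node (.node (.node (.leaf 269488659) (.leaf 19860750995475)) (.node (.leaf 1108371182354) (.leaf 4539892420842033))) (.node (.node (.leaf 69022520082) (.leaf 299208948191250)) (.node (.leaf 17661729768211) (.leaf 72638286770869011))))) (.node (.node (.node (.node (.leaf 1249313) (.leaf 18833482981635)) (.node (.leaf 1103825547555) (.leaf 4521402823672099))) (.node (.node (.leaf 4614795553) (.leaf 283755907395842)) (.node (.leaf 1250138526480) (.leaf 72341349911891987)))) (.node (.node (.node (.leaf 288424467)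 (.leaf 282579607552289)) (.node (.leaf 1168536305955) (.leaf 4786384603910163))) (.node (.node (.leaf 73033392914) (.leaf 301476676174610)) (.node (.leaf 17733939962115) (.leaf 1157444964482814480)))))) (.node (.node (.node (.node (.node (.leaf 1052690) (.leaf 18701109764882)) (.node (.leaf 78131630867) (.leaf 4521333567324691))) (.node (.node (.leaf 4565577985) (.leaf 283743022682130)) (.node (.leaf 1241280352784) (.leaf 72340310311571986)))) (.node (.node (.node (.leaf 271647248) (.leaf 20959745606193)) (.node (.leaf 1108923847187) (.leaf 4557484606886674))) (.node (.node (.leaf 69273325601) (.leaf 301335208727056)) (.node (.leaf 17670317682979) (.leaf 76582153408753921))))) (.node (.node (.node (.node (.leaf 17834771) (.leaf 18902171066627)) (.node (.leaf 1104360386819) (.leaf 4523601309143571))) (.node (.node (.leaf 5117186834) (.leaf 284851643167009)) (.node (.leaf 17661208760353) (.leaf 72375366053855537)))) (.node (.node (.node (.leaf 4311822593) (.leaf 282587676479506))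 (.node (.leaf 1177090666753) (.leaf 4821363371025171))) (.node (.node (.leaf 73568170275) (.leaf 317768272519955)) (.node (.leaf 17742780633123) (.leaf 1158008055869288737))))))) (.node (.node (.node (.node (.node (.node (.leaf 66064) (.leaf 18696816886544)) (.node (.leaf 77581058579) (.leaf 4521269442777137))) (.node (.node (.leaf 4346356496) (.leaf 282784960811536)) (.node (.leaf 1181419049747) (.leaf 5087509326398226)))) (.node (.node (.node (.leaf 269684769) (.leaf 20001681649922)) (.node (.leaf 1108406763825) (.leaf 4540094001258755))) (.node (.node (.leaf 69039297073) (.leaf 299217757343779)) (.node (.leaf 17669767110961) (.leaf 72919761747587363))))) (.node (.node (.node (.node (.leaf 16912419) (.leaf 18842291155233)) (.node (.leaf 1103843361057) (.leaf 4523460378304771))) (.node (.node (.leaf 4851826977) (.leaf 284842534309937)) (.node (.leaf 1310001799427) (.leaf 72342445128618545)))) (.node (.node (.node (.leaf 305201443) (.leaf 282583398223891)) (.node (.leaf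 1168787964435) (.leaf 4787355534766338))) (.node (.node (.leaf 73049247763) (.leaf 302443276669715)) (.node (.leaf 17734742123280) (.leaf 1157446072584377106)))))) (.node (.node (.node (.node (.node (.leaf 1114896) (.leaf 18833450545409)) (.node (.leaf 81875111971) (.leaf 4521342406890259))) (.node (.node (.leaf 4598018339) (.leaf 283743541600513)) (.node (.leaf 1242067768083) (.leaf 72340319153165072)))) (.node (.node (.node (.leaf 285413409) (.leaf 282579337031969)) (.node (.leaf 1112668184881) (.leaf 4786316671848467))) (.node (.node (.leaf 69541634353) (.leaf 301344317580050)) (.node (.leaf 17674062078211) (.leaf 77141878360912130))))) (.node (.node (.node (.node (.leaf 18940688) (.leaf 19860232015907)) (.node (.leaf 1104394981425) (.leaf 4524559656035091))) (.node (.node (.leaf 68989162003) (.leaf 299145294393635)) (.node (.leaf 17661461467664) (.leaf 72392949936227090)))) (.node (.node (.node (.leaf 4313919746) (.leaf 282716273644050)) (.node (.leaf 1177140859408)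 (.leaf 4821568977961746))) (.node (.node (.leaf 73602703665) (.leaf 320026906398769)) (.node (.leaf 17802674246160) (.leaf 1225314454539940097))))))))

def twoWord8 : Janko.Tree (ℕ) :=
  (.node (.node (.node (.node (.node (.node (.node (.leaf 272) (.leaf 18696548585490)) (.node (.leaf 73838691091) (.leaf 335360460653328))) (.node (.node (.leaf 4329582850) (.leaf 282725081813778)) (.node (.leaf 1181385625619) (.leaf 4838960088023827)))) (.node (.node (.node (.leaf 269488689) (.leaf 19860750995505)) (.node (.leaf 1108371182355) (.leaf 4539892420846352))) (.node (.node (.leaf 69022520083) (.leaf 299208948191251)) (.node (.leaf 17661729779969) (.leaf 72638286770876707))))) (.node (.node (.node (.node (.leaf 1249315) (.leaf 18833482981681)) (.node (.leaf 1103825670162) (.leaf 4521402823672113))) (.node (.node (.leaf 4614918162) (.leaf 283755907395873)) (.node (.leaf 1250138526482) (.leaf 72341349911892529)))) (.node (.node (.node (.leaf 288424497) (.leaf 282579607552291))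 (.node (.leaf 1168536305969) (.leaf 4786385122832641))) (.node (.node (.leaf 73033392915) (.leaf 301476676182275)) (.node (.leaf 17733939962161) (.leaf 1157444964482814482)))))) (.node (.node (.node (.node (.node (.leaf 1052691) (.leaf 18701109764883)) (.node (.leaf 78131638530) (.leaf 4521333567332609))) (.node (.node (.leaf 4565577986) (.leaf 283743022682131)) (.node (.leaf 1241280352787) (.leaf 72340310311571987)))) (.node (.node (.node (.leaf 271647250) (.leaf 20959745606418)) (.node (.leaf 1108925808945) (.leaf 4557485109224210))) (.node (.node (.leaf 69273326096) (.leaf 301335208727059)) (.node (.leaf 17670317740560) (.leaf 76582153662562609))))) (.node (.node (.node (.node (.leaf 17838337) (.leaf 18902171066673)) (.node (.leaf 1104360386849) (.leaf 4523601310064945))) (.node (.node (.leaf 5117186835) (.leaf 299144741851154)) (.node (.leaf 17661208760355) (.leaf 72375366053867777)))) (.node (.node (.node (.leaf 4311822594) (.leaf 282587676479507)) (.node (.leaf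 1177090666754) (.leaf 4821363371151379))) (.node (.node (.leaf 73568228112) (.leaf 317768272581395)) (.node (.leaf 17742780633137) (.leaf 1158008055870333233))))))) (.node (.node (.node (.node (.node (.node (.leaf 66066) (.leaf 18696816886546)) (.node (.leaf 77581066497) (.leaf 4521269945045776))) (.node (.node (.leaf 4346356498) (.leaf 282784960811539)) (.node (.leaf 1181419057409) (.leaf 5087509326405891)))) (.node (.node (.node (.leaf 269684771) (.leaf 20001681649923)) (.node (.leaf 1108406764051) (.leaf 4540094016000049))) (.node (.node (.leaf 69039297298) (.leaf 299217757343793)) (.node (.leaf 17669800657185) (.leaf 72919761748693027))))) (.node (.node (.node (.node (.leaf 16912433) (.leaf 18842291155235)) (.node (.leaf 1103843361059) (.leaf 4523460378304817))) (.node (.node (.leaf 4851826979) (.leaf 284842534310416)) (.node (.leaf 1310016540690) (.leaf 72342445178753585)))) (.node (.node (.node (.leaf 305201457) (.leaf 282583398223921)) (.node (.leaf 1168787964465)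 (.leaf 4787355534766371))) (.node (.node (.leaf 73049247777) (.leaf 302443276677409)) (.node (.leaf 17734742123282) (.leaf 1157446073086718241)))))) (.node (.node (.node (.node (.node (.leaf 1114898) (.leaf 18833450545410)) (.node (.leaf 81875111985) (.leaf 4521342406897953))) (.node (.node (.leaf 4598149377) (.leaf 283743541600515)) (.node (.leaf 1242067775746) (.leaf 72340319153165074)))) (.node (.node (.node (.leaf 285413904) (.leaf 282579337154578)) (.node (.leaf 1112699572755) (.leaf 4786316671849009))) (.node (.node (.leaf 69541634832) (.leaf 301344317580051)) (.node (.leaf 17674062078257) (.leaf 77141878360912163))))) (.node (.node (.node (.node (.leaf 18940690) (.leaf 19860232016400)) (.node (.leaf 1104628752641) (.leaf 4524559656038689))) (.node (.node (.leaf 68989162033) (.leaf 299145294451216)) (.node (.leaf 17661462380833) (.leaf 72392949967627024)))) (.node (.node (.node (.leaf 4313919747) (.leaf 282716273644051)) (.node (.leaf 1177140859410) (.leaf 4821568977969411)))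 (.node (.node (.leaf 73602704144) (.leaf 320026906399248)) (.node (.leaf 17802674246163) (.leaf 1225314592247329057))))))))

def twoWord9 : Janko.Tree (ℕ) :=
  (.node (.node (.node (.node (.node (.node (.node (.leaf 274) (.leaf 18696548585505)) (.node (.leaf 73838702849) (.leaf 335360460653331))) (.node (.node (.leaf 4329582881) (.leaf 282725081813779)) (.node (.leaf 1181385625649) (.leaf 4838963861787185)))) (.node (.node (.node (.leaf 269488912) (.leaf 19860750996240)) (.node (.leaf 1108371190017) (.leaf 4539892420846354))) (.node (.node (.leaf 69022523697) (.leaf 299209484931603)) (.node (.leaf 17661729902611) (.leaf 72638286771982371))))) (.node (.node (.node (.node (.leaf 1249329) (.leaf 18833483108370)) (.node (.leaf 1103825670163) (.leaf 4521402855068434))) (.node (.node (.leaf 4614918163) (.leaf 283755907395875)) (.node (.leaf 1250138526483) (.leaf 72341349911900449)))) (.node (.node (.node (.leaf 288424722) (.leaf 282579607552305)) (.node (.leaf 1168536306195)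 (.leaf 4786385122832675))) (.node (.node (.leaf 73033396481) (.leaf 301476690923569)) (.node (.leaf 17733954768914) (.leaf 1157444964482814483)))))) (.node (.node (.node (.node (.node (.leaf 1052705) (.leaf 18701109768481)) (.node (.leaf 78131638531) (.leaf 4521333598720528))) (.node (.node (.leaf 4565577987) (.leaf 283743022682145)) (.node (.leaf 1241282314529) (.leaf 72340310311575809)))) (.node (.node (.node (.leaf 271647251) (.leaf 20959745614083)) (.node (.leaf 1108925809424) (.leaf 4557485109224211))) (.node (.node (.leaf 69273326099) (.leaf 301335210688801)) (.node (.leaf 17670317740563) (.leaf 76582161965322258))))) (.node (.node (.node (.node (.leaf 17838338) (.leaf 18902185873426)) (.node (.leaf 1104360386851) (.leaf 4523601324871715))) (.node (.node (.leaf 5117194497) (.leaf 299144741851169)) (.node (.leaf 17661208760369) (.leaf 72375503491830546)))) (.node (.node (.node (.leaf 4311822625) (.leaf 282587678441777)) (.node (.leaf 1177090666755) (.leaf 4821363604922625)))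 (.node (.node (.leaf 73568228114) (.leaf 317768272589058)) (.node (.leaf 17742780633616) (.leaf 1158008056404062497))))))) (.node (.node (.node (.node (.node (.node (.leaf 66067) (.leaf 18696816886547)) (.node (.leaf 77581066499) (.leaf 4521269945045778))) (.node (.node (.leaf 4346356499) (.leaf 282784961732865)) (.node (.leaf 1181419057410) (.leaf 5087509341147185)))) (.node (.node (.node (.leaf 269684785) (.leaf 20001681649953)) (.node (.leaf 1108406771969) (.leaf 4540094518206769))) (.node (.node (.leaf 69039300865) (.leaf 299217757344272)) (.node (.leaf 17669800657187) (.leaf 72919761748693041))))) (.node (.node (.node (.node (.leaf 16912945) (.leaf 18842291212819)) (.node (.leaf 1103843361073) (.leaf 4523460378365971))) (.node (.node (.leaf 4851826993) (.leaf 284842534310419)) (.node (.leaf 1310016540691) (.leaf 72342445178753810)))) (.node (.node (.node (.leaf 305201683) (.leaf 282583900430641)) (.node (.leaf 1168787964690) (.leaf 4787484099686689))) (.node (.node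 (.leaf 73049247779) (.leaf 302443276734482)) (.node (.leaf 17734742123283) (.leaf 1157461393235058945)))))) (.node (.node (.node (.node (.node (.leaf 1114899) (.leaf 18833450545411)) (.node (.leaf 81875112464) (.leaf 4521342406897955))) (.node (.node (.leaf 4598149378) (.leaf 283743541600561)) (.node (.leaf 1242067775747) (.leaf 72340319153165075)))) (.node (.node (.node (.leaf 285413907) (.leaf 282579337154593)) (.node (.leaf 1112699572785) (.leaf 4786316671856898))) (.node (.node (.leaf 69541634834) (.leaf 301344317583649)) (.node (.leaf 17674093466131) (.leaf 77141886398239507))))) (.node (.node (.node (.node (.leaf 18940691) (.leaf 19860232016403)) (.node (.leaf 1104628752643) (.leaf 4524559656161329))) (.node (.node (.leaf 68990075185) (.leaf 299145294451219)) (.node (.leaf 17661462380835) (.leaf 72392949967630625)))) (.node (.node (.node (.leaf 4313919777) (.leaf 282716273647873)) (.node (.leaf 1177140859411) (.leaf 4821568992710705))) (.node (.node (.leaf 73602704146)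 (.leaf 320026906399251)) (.node (.leaf 17802676207907) (.leaf 1225563016898155283))))))))

def twoWord10 : Janko.Tree (ℕ) :=
  (.node (.node (.node (.node (.node (.node (.node (.leaf 275) (.leaf 18696548586000)) (.node (.leaf 73838825490) (.leaf 335364234416689))) (.node (.node (.leaf 4329582883) (.leaf 282725081821473)) (.node (.leaf 1181385626161) (.leaf 4839092426715425)))) (.node (.node (.node (.leaf 269488914) (.leaf 19860753023265)) (.node (.leaf 1108371190018) (.leaf 4539892420846355))) (.node (.node (.leaf 69022524176) (.leaf 299209484935473)) (.node (.leaf 17669765075728) (.leaf 72638346649731377))))) (.node (.node (.node (.node (.leaf 1249808) (.leaf 18833483108371)) (.node (.leaf 1103825670177) (.leaf 4523459859386386))) (.node (.node (.leaf 4614918193) (.leaf 283884472316162)) (.node (.leaf 1250138534146) (.leaf 72341349911900451)))) (.node (.node (.node (.leaf 288432385) (.leaf 282579607552784)) (.node (.leaf 1168536306225) (.leaf 4786385122955282))) (.node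 (.node (.leaf 73033396482) (.leaf 301476690924304)) (.node (.leaf 17733954768915) (.leaf 1157444964482818305)))))) (.node (.node (.node (.node (.node (.leaf 1052707) (.leaf 18701109826320)) (.node (.leaf 78131638561) (.leaf 4521333598720530))) (.node (.node (.leaf 4565578017) (.leaf 283743022682147)) (.node (.leaf 1241282314531) (.leaf 72340310311575857)))) (.node (.node (.node (.leaf 271647281) (.leaf 20959760355377)) (.node (.leaf 1108925809426) (.leaf 4557485109227809))) (.node (.node (.leaf 69273326129) (.leaf 301335210689043)) (.node (.leaf 17670319702321) (.leaf 76582161965322801))))) (.node (.node (.node (.node (.leaf 17838369) (.leaf 18902185873427)) (.node (.leaf 1104360443922) (.leaf 4523601324871729))) (.node (.node (.leaf 5117194498) (.leaf 299144741851664)) (.node (.leaf 17661208760848) (.leaf 72375503491830547)))) (.node (.node (.node (.leaf 4311822627) (.leaf 282716241211649)) (.node (.leaf 1177090666785) (.leaf 4821363604922627))) (.node (.node (.leaf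 73568228115) (.leaf 317768272589059)) (.node (.leaf 17742780633619) (.leaf 1158009014216303379))))))) (.node (.node (.node (.node (.node (.node (.leaf 66097) (.leaf 18696816898305)) (.node (.leaf 77581066545) (.leaf 4521269945045779))) (.node (.node (.leaf 4346360097) (.leaf 282784961732867)) (.node (.leaf 1181419057441) (.leaf 5087509609456403)))) (.node (.node (.node (.leaf 269685264) (.leaf 20001681649955)) (.node (.leaf 1108421382672) (.leaf 4540094518207250))) (.node (.node (.leaf 69039300867) (.leaf 299217757344275)) (.node (.leaf 17669800657201) (.leaf 72919822161224467))))) (.node (.node (.node (.node (.leaf 16913168) (.leaf 18842292138242)) (.node (.leaf 1103843361299) (.leaf 4523460378366001))) (.node (.node (.leaf 4851827216) (.leaf 284842536272433)) (.node (.leaf 1310016540721) (.leaf 72342445681094945)))) (.node (.node (.node (.leaf 305201713) (.leaf 282583900431122)) (.node (.leaf 1168787972353) (.leaf 4787484099686691))) (.node (.node (.leaf 73049247793)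 (.leaf 302443276735025)) (.node (.leaf 17734742126881) (.leaf 1157461393237147937)))))) (.node (.node (.node (.node (.node (.leaf 1122561) (.leaf 18833450545441)) (.node (.leaf 81875112467) (.leaf 4521342406955539))) (.node (.node (.leaf 4598149379) (.leaf 283743541661715)) (.node (.leaf 1242067775777) (.leaf 72340319153172738)))) (.node (.node (.node (.leaf 285413937) (.leaf 282579337155088)) (.node (.leaf 1112699573008) (.leaf 4786316671856899))) (.node (.node (.leaf 69541634835) (.leaf 301344317641490)) (.node (.leaf 17674093466161) (.leaf 77141886398247203))))) (.node (.node (.node (.node (.leaf 18948880) (.leaf 19860233978145)) (.node (.leaf 1104628752675) (.leaf 4524559892021539))) (.node (.node (.leaf 68990075664) (.leaf 299145296412977)) (.node (.leaf 17661462380849) (.leaf 72392949967753265)))) (.node (.node (.node (.leaf 4313919779) (.leaf 282716273647875)) (.node (.leaf 1177140859441) (.leaf 4821569494917425))) (.node (.node (.leaf 73602704147) (.leaf 320026908361490))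 (.node (.leaf 17802676207921) (.leaf 1225595934080119075))))))))

def twoWord11 : Janko.Tree (ℕ) :=
  (.node (.node (.node (.node (.node (.node (.node (.leaf 289) (.leaf 18696549499169)) (.node (.leaf 73838825491) (.leaf 335492799344898))) (.node (.node (.leaf 4329713921) (.leaf 282725081821475)) (.node (.leaf 1181385626384) (.leaf 4839093229924641)))) (.node (.node (.node (.leaf 269488915) (.leaf 19860753023267)) (.node (.leaf 1108371190019) (.leaf 4539892420972563))) (.node (.node (.leaf 69022524178) (.leaf 299209485062163)) (.node (.leaf 17669765075730) (.leaf 72638346649731856))))) (.node (.node (.node (.node (.leaf 1249811) (.leaf 18834019848723)) (.node (.leaf 1103825670179) (.leaf 4523459859386387))) (.node (.node (.leaf 4614918928) (.leaf 283884472316163)) (.node (.leaf 1250138534177) (.leaf 72341349911958035)))) (.node (.node (.node (.leaf 288432387) (.leaf 282579607552786)) (.node (.leaf 1168536306450) (.leaf 4786385122955825))) (.node (.node (.leaf 73033396483)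 (.leaf 301477193134338)) (.node (.leaf 17733954768929) (.leaf 1157444964482945042)))))) (.node (.node (.node (.node (.node (.leaf 1052721) (.leaf 18701109826322)) (.node (.leaf 78131638563) (.leaf 4521333598720531))) (.node (.node (.leaf 4565578019) (.leaf 283743022682640)) (.node (.leaf 1241282314771) (.leaf 72340310311702546)))) (.node (.node (.node (.leaf 271647506) (.leaf 20959760356112)) (.node (.leaf 1108925809427) (.leaf 4557485109293314))) (.node (.node (.leaf 69275422738) (.leaf 301335210689073)) (.node (.leaf 17670319702800) (.leaf 76582162015457841))))) (.node (.node (.node (.node (.leaf 17838371) (.leaf 18902185873457)) (.node (.leaf 1104360443937) (.leaf 4523601324872208))) (.node (.node (.leaf 5117194499) (.leaf 299144743813409)) (.node (.leaf 17661208760851) (.leaf 72375503491838241)))) (.node (.node (.node (.leaf 4311879699) (.leaf 282716241211650)) (.node (.leaf 1177090666787) (.leaf 4821363604983827))) (.node (.node (.leaf 73568235777) (.leaf 317768272589091))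 (.node (.leaf 17742781554947) (.leaf 1158009014216306977))))))) (.node (.node (.node (.node (.node (.node (.leaf 66320) (.leaf 18696817020947)) (.node (.leaf 77614612769) (.leaf 4521269945053442))) (.node (.node (.leaf 4346482706) (.leaf 282784961732913)) (.node (.leaf 1181419057443) (.leaf 5087509609460001)))) (.node (.node (.node (.leaf 269685267) (.leaf 20001681772579)) (.node (.leaf 1108421382674) (.leaf 4540094518207251))) (.node (.node (.leaf 69039300899) (.leaf 299217758265649)) (.node (.leaf 17669800657427) (.leaf 72921879200075809))))) (.node (.node (.node (.node (.leaf 16913170) (.leaf 18842292138243)) (.node (.leaf 1103843361329) (.leaf 4523460378366736))) (.node (.node (.leaf 4851827218) (.leaf 284842536272658)) (.node (.leaf 1310016541456) (.leaf 72375357750182177)))) (.node (.node (.node (.leaf 305201938) (.leaf 282583900431123)) (.node (.leaf 1168787972355) (.leaf 4787484099809811))) (.node (.node (.leaf 73049248272) (.leaf 302443326870065)) (.node (.leaf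 17734742183955) (.leaf 1157461393237147953)))))) (.node (.node (.node (.node (.node (.leaf 1122562) (.leaf 18833450545443)) (.node (.leaf 81876033793) (.leaf 4521342407880963))) (.node (.node (.leaf 4598149409) (.leaf 283743541661745)) (.node (.leaf 1242067775779) (.leaf 72340319153172771)))) (.node (.node (.node (.leaf 287375649) (.leaf 282579339251730)) (.node (.leaf 1112699573010) (.leaf 4786316671856929))) (.node (.node (.leaf 69541638433) (.leaf 301344319668529)) (.node (.leaf 17674093466384) (.leaf 77141946277101873))))) (.node (.node (.node (.node (.leaf 18948882) (.leaf 19860233978387)) (.node (.leaf 1104628752689) (.leaf 4524559892021553))) (.node (.node (.leaf 68990075666) (.leaf 299145296413456)) (.node (.leaf 17661462381072) (.leaf 72392950203625729)))) (.node (.node (.node (.leaf 4314042386) (.leaf 282716273647921)) (.node (.leaf 1177140859666) (.leaf 4821569494917906))) (.node (.node (.leaf 73602707745) (.leaf 320026908369155)) (.node (.leaf 17802676208177)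 (.leaf 1234269014944002306))))))))

def twoWord12 : Janko.Tree (ℕ) :=
  (.node (.node (.node (.node (.node (.node (.node (.leaf 291) (.leaf 18696549499171)) (.node (.leaf 77579031312) (.leaf 335492799344929))) (.node (.node (.leaf 4329713922) (.leaf 282725081879059)) (.node (.leaf 1181385626386) (.leaf 5084219396072208)))) (.node (.node (.node (.leaf 269492481) (.leaf 19869340868913)) (.node (.leaf 1108371190049) (.leaf 4539892923179313))) (.node (.node (.leaf 69022524179) (.leaf 299209718833409)) (.node (.leaf 17669765075731) (.leaf 72638346649731858))))) (.node (.node (.node (.node (.leaf 1249841) (.leaf 18834019848753)) (.node (.leaf 1103825670193) (.leaf 4523459859386401))) (.node (.node (.leaf 4614926593) (.leaf 283884472316193)) (.node (.leaf 1250138534179) (.leaf 72341349913006115)))) (.node (.node (.node (.leaf 288432433) (.leaf 282579607552787)) (.node (.leaf 1168536314113) (.leaf 4786385125966115))) (.node (.node (.leaf 73033396513) (.leaf 301477193134369))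 (.node (.leaf 17733954768931) (.leaf 1157444964482945043)))))) (.node (.node (.node (.node (.node (.leaf 1053200) (.leaf 18701109826323)) (.node (.leaf 78131696144) (.leaf 4521333598724353))) (.node (.node (.leaf 4565700626) (.leaf 283743022682643)) (.node (.leaf 1241282314801) (.leaf 72340310311702547)))) (.node (.node (.node (.leaf 271655169) (.leaf 20959997264163)) (.node (.leaf 1112666148883) (.leaf 4557485109293315))) (.node (.node (.leaf 69275422739) (.leaf 301335210696961)) (.node (.leaf 17670319702802) (.leaf 76582162015458066))))) (.node (.node (.node (.node (.leaf 17960978) (.leaf 18902185873939)) (.node (.leaf 1104360444432) (.leaf 4523601324872211))) (.node (.node (.leaf 5117194529) (.leaf 299144743813648)) (.node (.leaf 17661210722593) (.leaf 72375503491895827)))) (.node (.node (.node (.leaf 4311879729) (.leaf 282716241211651)) (.node (.leaf 1177090723858) (.leaf 4821363604983857))) (.node (.node (.leaf 73568235778) (.leaf 317772014948371)) (.node (.leaf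 17742781554993) (.leaf 1158009014216429617))))))) (.node (.node (.node (.node (.node (.node (.leaf 66322) (.leaf 18700557291538)) (.node (.leaf 77614612771) (.leaf 4521269945053443))) (.node (.node (.leaf 4346482707) (.leaf 282784976539666)) (.node (.leaf 1181419245586) (.leaf 5087509609582641)))) (.node (.node (.node (.leaf 269685297) (.leaf 20001681772593)) (.node (.leaf 1108421382675) (.leaf 4540094518334001))) (.node (.node (.leaf 69039300913) (.leaf 299217789653776)) (.node (.leaf 17669800665345) (.leaf 76581053913895440))))) (.node (.node (.node (.node (.leaf 16913171) (.leaf 18842292138273)) (.node (.leaf 1103843361554) (.leaf 4523460380393761))) (.node (.node (.leaf 4851827219) (.leaf 284842536280323)) (.node (.leaf 1310518747441) (.leaf 72375357750182419)))) (.node (.node (.node (.leaf 305209601) (.leaf 282583900434721)) (.node (.leaf 1168819360275) (.leaf 4787484100731185))) (.node (.node (.leaf 73049248275) (.leaf 302443326870290)) (.node (.leaf 17734742184497)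 (.leaf 1157461598590407187)))))) (.node (.node (.node (.node (.node (.leaf 1122563) (.leaf 18833450668050)) (.node (.leaf 81876033795) (.leaf 4521342407880993))) (.node (.node (.leaf 4598206482) (.leaf 283743541662480)) (.node (.leaf 1242067833360) (.leaf 72340378998604081)))) (.node (.node (.node (.leaf 287375651) (.leaf 282579339251745)) (.node (.leaf 1112699573011) (.leaf 4786316671856931))) (.node (.node (.leaf 69541695507) (.leaf 301348060008467)) (.node (.leaf 17674093466386) (.leaf 77144145300369697))))) (.node (.node (.node (.node (.leaf 18948883) (.leaf 19860233978417)) (.node (.leaf 1104628753168) (.leaf 4524559892033793))) (.node (.node (.leaf 68990075667) (.leaf 299145296413458)) (.node (.leaf 17661462381074) (.leaf 72392954496492306)))) (.node (.node (.node (.leaf 4314042387) (.leaf 282716273774610)) (.node (.leaf 1177140863233) (.leaf 4821569494917907))) (.node (.node (.leaf 73602830355) (.leaf 320026923110449)) (.node (.leaf 17802676208402) (.leaf 1234269082860192049))))))))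

def twoWord13 : Janko.Tree (ℕ) :=
  (.node (.node (.node (.node (.node (.node (.node (.leaf 305) (.leaf 18696549499185)) (.node (.leaf 77579031314) (.leaf 335492799467553))) (.node (.node (.leaf 4329713923) (.leaf 282725082804482)) (.node (.leaf 1181385626387) (.leaf 5084219396072210)))) (.node (.node (.node (.leaf 269492483) (.leaf 19869340869394)) (.node (.leaf 1108371190051) (.leaf 4539892923179794))) (.node (.node (.leaf 69022527745) (.leaf 299209718833411)) (.node (.leaf 17669765083393) (.leaf 72638346649731859))))) (.node (.node (.node (.node (.leaf 16843041) (.leaf 18834019848978)) (.node (.leaf 1103825670672) (.leaf 4523459859386403))) (.node (.node (.leaf 4848689457) (.leaf 283884472316195)) (.node (.leaf 1309983965489) (.leaf 72341349913006129)))) (.node (.node (.node (.leaf 288432912) (.leaf 282579607564545)) (.node (.leaf 1168536314115) (.leaf 4786385125966129))) (.node (.node (.leaf 73033396515) (.leaf 301477193134371)) (.node (.leaf 17733954769424) (.leaf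 1157444964985151745)))))) (.node (.node (.node (.node (.node (.leaf 1053202) (.leaf 18701109833986)) (.node (.leaf 78131696147) (.leaf 4521333598724401))) (.node (.node (.leaf 4565700627) (.leaf 283743024644385)) (.node (.leaf 1241282322689) (.leaf 72340310848442899)))) (.node (.node (.node (.leaf 271655171) (.leaf 20959997264177)) (.node (.leaf 1112666148913) (.leaf 4557485109293345))) (.node (.node (.leaf 69275422753) (.leaf 301335225307664)) (.node (.leaf 17670319702803) (.leaf 76582162517799201))))) (.node (.node (.node (.node (.leaf 17960979) (.leaf 18902187835683)) (.node (.leaf 1104360444435) (.leaf 4523601326834225))) (.node (.node (.leaf 5117194531) (.leaf 299144743813650)) (.node (.leaf 17661210722595) (.leaf 72375503492821281)))) (.node (.node (.node (.leaf 4311880241) (.leaf 282716241211681)) (.node (.leaf 1177090723873) (.leaf 4821363607011617))) (.node (.node (.leaf 73568235779) (.leaf 317772014948401)) (.node (.leaf 17742812943120) (.leaf 1158009022487597842)))))))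 (.node (.node (.node (.node (.node (.node (.leaf 66323) (.leaf 18700557291553)) (.node (.leaf 77614612785) (.leaf 4521269945053473))) (.node (.node (.leaf 4346482737) (.leaf 282784976539667)) (.node (.leaf 1181419245587) (.leaf 5087517880750866)))) (.node (.node (.node (.leaf 270598433) (.leaf 20001681773072)) (.node (.leaf 1108421382705) (.leaf 4542151557058595))) (.node (.node (.leaf 69039301392) (.leaf 299217789653778)) (.node (.leaf 17669815276048) (.leaf 76581053913895442))))) (.node (.node (.node (.node (.leaf 16920833) (.leaf 18842292138275)) (.node (.leaf 1103843369217) (.leaf 4523468968239409))) (.node (.node (.leaf 4851827249) (.leaf 284842551021617)) (.node (.leaf 1310518747920) (.leaf 72375357750182449)))) (.node (.node (.node (.leaf 305209603) (.leaf 282583900492560)) (.node (.leaf 1168819360305) (.leaf 4787484115537969))) (.node (.node (.leaf 73051210017) (.leaf 302443829207345)) (.node (.leaf 17734742184723) (.leaf 1157461598608098066)))))) (.node (.node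 (.node (.node (.node (.leaf 1122595) (.leaf 18833450668051)) (.node (.leaf 81876033841) (.leaf 4521342407880995))) (.node (.node (.leaf 4598206483) (.leaf 283743543689505)) (.node (.leaf 1242067833363) (.leaf 72340378998604560)))) (.node (.node (.node (.leaf 287375665) (.leaf 282579339252240)) (.node (.leaf 1112699580673) (.leaf 4786316671914512))) (.node (.node (.leaf 69541695537) (.leaf 301348060009009)) (.node (.leaf 17674093466387) (.leaf 77144145301414193))))) (.node (.node (.node (.node (.leaf 18952449) (.leaf 19860233986305)) (.node (.leaf 1104628753170) (.leaf 4524567927329554))) (.node (.node (.leaf 68990083856) (.leaf 299145296413459)) (.node (.leaf 17661462381075) (.leaf 72392954496492307)))) (.node (.node (.node (.leaf 4314042401) (.leaf 282716273774611)) (.node (.leaf 1177140863235) (.leaf 4821569495044657))) (.node (.node (.leaf 73602830385) (.leaf 320026923111184)) (.node (.leaf 17802676216067) (.leaf 1234270053773488419))))))))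

def twoWord14 : Janko.Tree (ℕ) :=
  (.node (.node (.node (.node (.node (.node (.node (.leaf 4112) (.leaf 18696549499408)) (.node (.leaf 77579031315) (.leaf 335493602554145))) (.node (.node (.leaf 4329713953) (.leaf 282725082804483)) (.node (.leaf 1181385634049) (.leaf 5084219396072211)))) (.node (.node (.node (.leaf 269492515) (.leaf 19869340869395)) (.node (.leaf 1108371247122) (.leaf 4539892923179795))) (.node (.node (.leaf 69022527746) (.leaf 299209718833443)) (.node (.leaf 17669765083394) (.leaf 72638346649743617))))) (.node (.node (.node (.node (.leaf 16843043) (.leaf 18834019852593)) (.node (.leaf 1103825670675) (.leaf 4523459859386896))) (.node (.node (.leaf 4848689936) (.leaf 283884472438819)) (.node (.leaf 1309983965968) (.leaf 72341349913006608)))) (.node (.node (.node (.leaf 303043091) (.leaf 282579607687187)) (.node (.leaf 1168550924816) (.leaf 4786385157362450))) (.node (.node (.leaf 73033519122) (.leaf 301477193257521)) (.node (.leaf 17733954769427)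 (.leaf 1157444964987240737)))))) (.node (.node (.node (.node (.node (.leaf 1053203) (.leaf 18701109833987)) (.node (.leaf 78133657905) (.leaf 4521333598851090))) (.node (.node (.leaf 4565700641) (.leaf 283743024644627)) (.node (.leaf 1241282322691) (.leaf 72340310848446769)))) (.node (.node (.node (.leaf 271655217) (.leaf 20959997264658)) (.node (.leaf 1112666149425) (.leaf 4557485109293347))) (.node (.node (.leaf 69275422769) (.leaf 301335225307666)) (.node (.leaf 17674060042259) (.leaf 76597482666139905))))) (.node (.node (.node (.node (.leaf 17960993) (.leaf 18902187835697)) (.node (.leaf 1104360444465) (.leaf 4523601326834450))) (.node (.node (.leaf 5117252112) (.leaf 299144743813651)) (.node (.leaf 17661210722609) (.leaf 72375503525253906)))) (.node (.node (.node (.leaf 4311880464) (.leaf 282716241211683)) (.node (.leaf 1177090724368) (.leaf 4821367397552659))) (.node (.node (.leaf 73568235809) (.leaf 317772014949136)) (.node (.leaf 17742812943122) (.leaf 1158009022487597843)))))))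 (.node (.node (.node (.node (.node (.node (.leaf 69650) (.leaf 18700557292048)) (.node (.leaf 77614613011) (.leaf 4521269945053475))) (.node (.node (.leaf 4346483472) (.leaf 282784976539697)) (.node (.leaf 1181421207841) (.leaf 5087517880750867)))) (.node (.node (.node (.leaf 270598435) (.leaf 20001681773075)) (.node (.leaf 1108421382930) (.leaf 4542151557058609))) (.node (.node (.leaf 69039301394) (.leaf 299217789653779)) (.node (.leaf 17669815276050) (.leaf 76581053913895443))))) (.node (.node (.node (.node (.leaf 16920834) (.leaf 18842292260899)) (.node (.leaf 1103843369219) (.leaf 4523468968239890))) (.node (.node (.leaf 4851827474) (.leaf 284842551022352)) (.node (.leaf 1310518747922) (.leaf 72375357750190337)))) (.node (.node (.node (.leaf 319820304) (.leaf 282583900492562)) (.node (.leaf 1168819360530) (.leaf 4787484115538451))) (.node (.node (.leaf 73051210019) (.leaf 302443829211425)) (.node (.leaf 17734742192386) (.leaf 1157461599125053745)))))) (.node (.node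 (.node (.node (.node (.leaf 1122609) (.leaf 18833450668065)) (.node (.leaf 81907421715) (.leaf 4521342408003619))) (.node (.node (.leaf 4598206497) (.leaf 283743543689507)) (.node (.leaf 1242069795105) (.leaf 72340378998604562)))) (.node (.node (.node (.leaf 287375891) (.leaf 282579340165409)) (.node (.leaf 1112699580674) (.leaf 4786316671914515))) (.node (.node (.leaf 69541696049) (.leaf 301348060009235)) (.node (.leaf 17674093474049) (.leaf 77144145835143457))))) (.node (.node (.node (.node (.leaf 18952450) (.leaf 19860233986307)) (.node (.leaf 1104628753171) (.leaf 4524567927329555))) (.node (.node (.leaf 68990083858) (.leaf 299149036752915)) (.node (.leaf 17661462381105) (.leaf 72392954496495905)))) (.node (.node (.node (.leaf 4314042403) (.leaf 282716810514963)) (.node (.leaf 1177140863267) (.leaf 4823626533769744))) (.node (.node (.leaf 73836601601) (.leaf 320027160019730)) (.node (.leaf 17802690957330) (.leaf 1234321658360169235))))))))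

def twoWord15 : Janko.Tree (ℕ) :=
  (.node (.node (.node (.node (.node (.node (.node (.leaf 4114) (.leaf 18696549499410)) (.node (.leaf 77579038977) (.leaf 4521269392510994))) (.node (.node (.leaf 4329771026) (.leaf 282725082804513)) (.node (.leaf 1181385634050) (.leaf 5084219396198419)))) (.node (.node (.node (.leaf 269492529) (.leaf 19869340872993)) (.node (.leaf 1108371247137) (.leaf 4539892923241235))) (.node (.node (.leaf 69022527777) (.leaf 299209718833938)) (.node (.leaf 17669765083395) (.leaf 72640545672999201))))) (.node (.node (.node (.node (.leaf 16843057) (.leaf 18834019979283)) (.node (.leaf 1103826583841) (.leaf 4523459859386899))) (.node (.node (.leaf 4848689938) (.leaf 283884472438833)) (.node (.leaf 1309983965970) (.leaf 72341349913006611)))) (.node (.node (.node (.leaf 303043121) (.leaf 282583347957778)) (.node (.leaf 1168550924818) (.leaf 4787342666633744))) (.node (.node (.leaf 73033519123) (.leaf 302434720158480)) (.node (.leaf 17733956731169)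 (.leaf 1157444973575086385)))))) (.node (.node (.node (.node (.node (.leaf 1053233) (.leaf 18701109834017)) (.node (.leaf 78133658384) (.leaf 4521333598851091))) (.node (.node (.leaf 4565700643) (.leaf 283743024644657)) (.node (.leaf 1241296933392) (.leaf 72340310848573459)))) (.node (.node (.node (.leaf 271655696) (.leaf 20959997272323)) (.node (.leaf 1112666149648) (.leaf 4557485111313168))) (.node (.node (.leaf 69275423248) (.leaf 301335225307667)) (.node (.leaf 17674060042289) (.leaf 76597482668228897))))) (.node (.node (.node (.node (.leaf 17960995) (.leaf 18902187835953)) (.node (.leaf 1104362541074) (.leaf 4523601326842115))) (.node (.node (.leaf 5117252115) (.leaf 299144743821569)) (.node (.leaf 17661210722835) (.leaf 72375563370828307)))) (.node (.node (.node (.leaf 4311880466) (.leaf 282716241334290)) (.node (.leaf 1177090724371) (.leaf 4821367397552689))) (.node (.node (.leaf 73568235811) (.leaf 317772015927601)) (.node (.leaf 17742812943123) (.leaf 1158041935376625921)))))))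 (.node (.node (.node (.node (.node (.node (.leaf 69651) (.leaf 18700559253793)) (.node (.leaf 77614620929) (.leaf 4521269945111056))) (.node (.node (.leaf 4346491137) (.leaf 282784976540179)) (.node (.leaf 1181421207843) (.leaf 5120430502380306)))) (.node (.node (.node (.leaf 270598449) (.leaf 20001682694403)) (.node (.leaf 1108421386497) (.leaf 4542151557059088))) (.node (.node (.leaf 69039301395) (.leaf 299217789661442)) (.node (.leaf 17669815276051) (.leaf 76581053913899265))))) (.node (.node (.node (.node (.leaf 16920835) (.leaf 18842292260913)) (.node (.leaf 1103857979920) (.leaf 4523468968239891))) (.node (.node (.leaf 4851835137) (.leaf 284842787930403)) (.node (.leaf 1310518747923) (.leaf 72375357781582129)))) (.node (.node (.node (.leaf 319820306) (.leaf 282583900492563)) (.node (.leaf 1168819364145) (.leaf 4787484117500465))) (.node (.node (.leaf 73051210033) (.leaf 317763712254241)) (.node (.leaf 17734742192387) (.leaf 1157461599125054227)))))) (.node (.node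 (.node (.node (.node (.leaf 1123088) (.leaf 18833450668067)) (.node (.leaf 81907421745) (.leaf 4521342408003633))) (.node (.node (.leaf 4598206499) (.leaf 283752131535153)) (.node (.leaf 1242069795107) (.leaf 72340378998604563)))) (.node (.node (.node (.leaf 287375921) (.leaf 282579340165411)) (.node (.leaf 1112699580705) (.leaf 4786316673876257))) (.node (.node (.leaf 69541696272) (.leaf 301348060016929)) (.node (.leaf 17674093474050) (.leaf 77145103647384339))))) (.node (.node (.node (.node (.leaf 18952451) (.leaf 19860248597008)) (.node (.leaf 1104628756769) (.leaf 4524567927337249))) (.node (.node (.leaf 68990083859) (.leaf 299149036752945)) (.node (.leaf 17661462381330) (.leaf 72392954496561411)))) (.node (.node (.node (.leaf 4314042417) (.leaf 282716810514993)) (.node (.leaf 1177140863281) (.leaf 4823626533769747))) (.node (.node (.leaf 73836601603) (.leaf 320027160027395)) (.node (.leaf 17802690957331) (.leaf 1234321790698860833))))))))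

def twoWord16 : Janko.Tree (ℕ) :=
  (.node (.node (.node (.node (.node (.node (.node (.leaf 4115) (.leaf 18696549499411)) (.node (.leaf 77579038978) (.leaf 4521269392511009))) (.node (.node (.leaf 4329771027) (.leaf 282725082804515)) (.node (.leaf 1181385634051) (.leaf 5084219898467091)))) (.node (.node (.node (.leaf 269493008) (.leaf 19869340930834)) (.node (.leaf 1108371247632) (.leaf 4539892923248898))) (.node (.node (.leaf 69022527779) (.leaf 299209718833939)) (.node (.leaf 17669765083425) (.leaf 72640545674043697))))) (.node (.node (.node (.node (.leaf 16843280) (.leaf 18834253750529)) (.node (.leaf 1103826584080) (.leaf 4523459861348641))) (.node (.node (.leaf 4848689939) (.leaf 283884472439312)) (.node (.leaf 1309983965971) (.leaf 72341349945315859)))) (.node (.node (.node (.leaf 303043344) (.leaf 282583347957793)) (.node (.leaf 1168550924819) (.leaf 4787342666633746))) (.node (.node (.leaf 73033519137) (.leaf 302434720158482)) (.node (.leaf 17733956731171)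 (.leaf 1157444973577175345)))))) (.node (.node (.node (.node (.node (.leaf 1053456) (.leaf 18701109834019)) (.node (.leaf 78133658386) (.leaf 4521334135591443))) (.node (.node (.leaf 4565700657) (.leaf 283743024652545)) (.node (.leaf 1241296933394) (.leaf 72340311082344705)))) (.node (.node (.node (.leaf 285286657) (.leaf 20960028660273)) (.node (.leaf 1112666149650) (.leaf 4557485111313171))) (.node (.node (.leaf 69276336417) (.leaf 301335225311489)) (.node (.leaf 17674060042801) (.leaf 76597482668228913))))) (.node (.node (.node (.node (.leaf 17961009) (.leaf 18902187836178)) (.node (.leaf 1104362541075) (.leaf 4523601341583409))) (.node (.node (.leaf 5119213857) (.leaf 299144777367841)) (.node (.leaf 17661210722865) (.leaf 72375563371749681)))) (.node (.node (.node (.leaf 4311880467) (.leaf 282716241334291)) (.node (.leaf 1177090724401) (.leaf 4821367397557008))) (.node (.node (.leaf 73568292882) (.leaf 317772015939841)) (.node (.leaf 17742812950786) (.leaf 1158041939669561633)))))))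 (.node (.node (.node (.node (.node (.node (.leaf 69665) (.leaf 18700559254032)) (.node (.leaf 77629231632) (.leaf 4521269945111059))) (.node (.node (.leaf 4564586515) (.leaf 282784978501923)) (.node (.leaf 1181421207857) (.leaf 5120430502387971)))) (.node (.node (.node (.leaf 270598675) (.leaf 20001682694449)) (.node (.leaf 1108421386499) (.leaf 4542151557059091))) (.node (.node (.leaf 69039304993) (.leaf 299217789661475)) (.node (.leaf 17669815276081) (.leaf 76581053914026002))))) (.node (.node (.node (.node (.leaf 16920865) (.leaf 18842292261392)) (.node (.leaf 1103857979922) (.leaf 4523468968243489))) (.node (.node (.leaf 4851835139) (.leaf 284842787930417)) (.node (.leaf 1310518751489) (.leaf 72375357781582608)))) (.node (.node (.node (.leaf 319820307) (.leaf 282583900500226)) (.node (.leaf 1168819364624) (.leaf 4787484117500690))) (.node (.node (.leaf 73051210259) (.leaf 317763712254483)) (.node (.leaf 17734742192417) (.leaf 1157461599125180977)))))) (.node (.node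 (.node (.node (.node (.leaf 1123090) (.leaf 18833450668560)) (.node (.leaf 81907421968) (.leaf 4521342408004112))) (.node (.node (.leaf 4598206513) (.leaf 283752131535634)) (.node (.leaf 1242069795121) (.leaf 72340378998616321)))) (.node (.node (.node (.leaf 287376144) (.leaf 282579340165425)) (.node (.leaf 1112699580707) (.leaf 4786316673876259))) (.node (.node (.leaf 69541696274) (.leaf 301348060016931)) (.node (.leaf 17674093474081) (.leaf 77145103647387937))))) (.node (.node (.node (.node (.leaf 18952481) (.leaf 19860248597010)) (.node (.leaf 1104628813843) (.leaf 4524567927394322))) (.node (.node (.leaf 68990087425) (.leaf 299149036753680)) (.node (.leaf 17661462388993) (.leaf 72392954496561441)))) (.node (.node (.node (.leaf 4314042896) (.leaf 282716810515218)) (.node (.leaf 1177140863760) (.leaf 4823626550481680))) (.node (.node (.leaf 73836601635) (.leaf 320027191419664)) (.node (.leaf 17802690957361) (.leaf 18519119431725031681))))))))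

def twoWord17 : Janko.Tree (ℕ) :=
  (.node (.node (.node (.node (.node (.node (.node (.leaf 4129) (.leaf 18696549499441)) (.node (.leaf 77579038979) (.leaf 4521269392511504))) (.node (.node (.leaf 4329771041) (.leaf 282725082927139)) (.node (.leaf 1181385634081) (.leaf 5084219898474754)))) (.node (.node (.node (.leaf 269493010) (.leaf 19869342957873)) (.node (.leaf 1108371247635) (.leaf 4539892923248899))) (.node (.node (.leaf 69022658817) (.leaf 299209718837537)) (.node (.leaf 17669765083427) (.leaf 72640546207772961))))) (.node (.node (.node (.node (.leaf 16843282) (.leaf 18834253750563)) (.node (.leaf 1103826584082) (.leaf 4523459861348883))) (.node (.node (.leaf 4848693505) (.leaf 283884472439315)) (.node (.leaf 1309983977729) (.leaf 72341349945315889)))) (.node (.node (.node (.leaf 303043346) (.leaf 282583347958288)) (.node (.leaf 1168550928641) (.leaf 4787342666633747))) (.node (.node (.leaf 73033519139) (.leaf 302434720158483)) (.node (.leaf 17733956731411)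 (.leaf 1157444977317515283)))))) (.node (.node (.node (.node (.node (.leaf 1053458) (.leaf 18701109891600)) (.node (.leaf 78133658387) (.leaf 4521334135595313))) (.node (.node (.leaf 4565701136) (.leaf 283743024652547)) (.node (.leaf 1241296933395) (.leaf 72340311082344739)))) (.node (.node (.node (.leaf 285286659) (.leaf 20960028660498)) (.node (.leaf 1112666149651) (.leaf 4557488885076529))) (.node (.node (.leaf 69276336419) (.leaf 301335225311491)) (.node (.leaf 17674060043024) (.leaf 76597688021488147))))) (.node (.node (.node (.node (.leaf 17961521) (.leaf 18902187843843)) (.node (.leaf 1104362541089) (.leaf 4523601341584144))) (.node (.node (.leaf 5119213859) (.leaf 299144777368083)) (.node (.leaf 17661210723090) (.leaf 72375563388518961)))) (.node (.node (.node (.leaf 4311888129) (.leaf 282716241334305)) (.node (.leaf 1177091649793) (.leaf 4821367397557010))) (.node (.node (.leaf 73568292897) (.leaf 317772048372243)) (.node (.leaf 17742812950817) (.leaf 1158041939669561635)))))))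 (.node (.node (.node (.node (.node (.node (.leaf 69667) (.leaf 18700559254034)) (.node (.leaf 77629231634) (.leaf 4521269947072817))) (.node (.node (.leaf 4564586545) (.leaf 282784978501937)) (.node (.leaf 1241264500993) (.leaf 5120430769778945)))) (.node (.node (.node (.leaf 270598705) (.leaf 20001697501219)) (.node (.leaf 1108421386531) (.leaf 4542151559021330))) (.node (.node (.leaf 69039427602) (.leaf 299277635092785)) (.node (.leaf 17669815276306) (.leaf 76581053914026003))))) (.node (.node (.node (.node (.leaf 16920867) (.leaf 18842292261395)) (.node (.leaf 1103857979923) (.leaf 4523468968301330))) (.node (.node (.leaf 4883223059) (.leaf 284842787930898)) (.node (.leaf 1310518751490) (.leaf 72375357781582610)))) (.node (.node (.node (.leaf 319820337) (.leaf 282583900500227)) (.node (.leaf 1168819364626) (.leaf 4787484634460451))) (.node (.node (.leaf 73051210289) (.leaf 317763712254513)) (.node (.leaf 17734742192419) (.leaf 1157463656163906067)))))) (.node (.node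 (.node (.node (.node (.leaf 1123091) (.leaf 18833450668563)) (.node (.leaf 81907421970) (.leaf 4521342408004115))) (.node (.node (.leaf 4598206992) (.leaf 283752131535635)) (.node (.leaf 1242069795600) (.leaf 72340379014467602)))) (.node (.node (.node (.leaf 287376146) (.leaf 282579340165648)) (.node (.leaf 1112699768850) (.leaf 4786316673876752))) (.node (.node (.leaf 69541696275) (.leaf 301348060074515)) (.node (.leaf 17674093474083) (.leaf 77145103647510577))))) (.node (.node (.node (.node (.leaf 18952483) (.leaf 19860248597011)) (.node (.leaf 1104628813873) (.leaf 4524567927394865))) (.node (.node (.leaf 68990087426) (.leaf 299149037732145)) (.node (.leaf 17661462388995) (.leaf 72392954496561443)))) (.node (.node (.node (.leaf 4314042899) (.leaf 282716810518833)) (.node (.leaf 1177140863762) (.leaf 4823626787390226))) (.node (.node (.leaf 73836601649) (.leaf 320027191419666)) (.node (.leaf 17802690958096) (.leaf 18519119431727120673))))))))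

def twoWord18 : Janko.Tree (ℕ) :=
  (.node (.node (.node (.node (.node (.node (.node (.leaf 4131) (.leaf 18696549499666)) (.node (.leaf 77579039009) (.leaf 4521269394473249))) (.node (.node (.leaf 4329771043) (.leaf 282725082927153)) (.node (.leaf 1181385634083) (.leaf 5084219898474755)))) (.node (.node (.node (.leaf 269493011) (.leaf 19873083297811)) (.node (.leaf 1108371247665) (.leaf 4539892923248931))) (.node (.node (.leaf 69022658818) (.leaf 299209718894611)) (.node (.leaf 17669765140498) (.leaf 72641503736955666))))) (.node (.node (.node (.node (.leaf 16843283) (.leaf 18834253750577)) (.node (.leaf 1103826584083) (.leaf 4523459861348913))) (.node (.node (.leaf 4848693506) (.leaf 283884473360643)) (.node (.leaf 1309983977730) (.leaf 72341349945323778)))) (.node (.node (.node (.leaf 303043347) (.leaf 282583349920033)) (.node (.leaf 1168550928643) (.leaf 4787342666637569))) (.node (.node (.leaf 73033519153) (.leaf 302434720166145)) (.node (.leaf 17733956731441)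 (.leaf 1157444977317515825)))))) (.node (.node (.node (.node (.node (.leaf 1053459) (.leaf 18701109891603)) (.node (.leaf 81873997843) (.leaf 4521334135722003))) (.node (.node (.leaf 4565701139) (.leaf 283743039263248)) (.node (.leaf 1241296937217) (.leaf 72340311082405907)))) (.node (.node (.node (.leaf 285286691) (.leaf 20960028664592)) (.node (.leaf 1112666157313) (.leaf 4557617450004738))) (.node (.node (.leaf 69276336433) (.leaf 301335225438226)) (.node (.leaf 17674060043026) (.leaf 76597688039179026))))) (.node (.node (.node (.node (.leaf 17961744) (.leaf 18902202585106)) (.node (.leaf 1104362541105) (.leaf 4523601843794178))) (.node (.node (.leaf 5119213873) (.leaf 299144777376001)) (.node (.leaf 17661210730753) (.leaf 72375563388519186)))) (.node (.node (.node (.leaf 4311888130) (.leaf 282716241334307)) (.node (.leaf 1177091649794) (.leaf 4821367397557011))) (.node (.node (.leaf 73568293392) (.leaf 317909453902610)) (.node (.leaf 17742812950819) (.leaf 1158041939671581459)))))))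 (.node (.node (.node (.node (.node (.node (.leaf 69681) (.leaf 18700559254035)) (.node (.leaf 77629231635) (.leaf 4521269947073296))) (.node (.node (.leaf 4564587057) (.leaf 282784978502193)) (.node (.leaf 1241264500994) (.leaf 5120435062714626)))) (.node (.node (.node (.leaf 270598928) (.leaf 20001697501233)) (.node (.leaf 1108421386545) (.leaf 4542151559028995))) (.node (.node (.leaf 69039427603) (.leaf 299277635093264)) (.node (.leaf 17669815279873) (.leaf 76581054416232705))))) (.node (.node (.node (.node (.leaf 16977938) (.leaf 18842293182723)) (.node (.leaf 1103857983745) (.leaf 4523468970328369))) (.node (.node (.leaf 4883223089) (.leaf 284842787938563)) (.node (.leaf 1310518751521) (.leaf 72375357781582611)))) (.node (.node (.node (.leaf 319820562) (.leaf 282583900500257)) (.node (.leaf 1168819364627) (.leaf 4787484634583601))) (.node (.node (.leaf 73051210514) (.leaf 317763712262401)) (.node (.leaf 17734742250000) (.leaf 1157463656448926482)))))) (.node (.node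 (.node (.node (.node (.leaf 1126657) (.leaf 18833451581729)) (.node (.leaf 81907421971) (.leaf 4521342408925489))) (.node (.node (.leaf 4598206995) (.leaf 283752131539233)) (.node (.leaf 1242069795602) (.leaf 72340379014467603)))) (.node (.node (.node (.leaf 287376147) (.leaf 282579340165650)) (.node (.leaf 1112699768851) (.leaf 4786316673876754))) (.node (.node (.leaf 69541703937) (.leaf 301348061122595)) (.node (.leaf 17674093662226) (.leaf 77145111918678802))))) (.node (.node (.node (.node (.leaf 19075090) (.leaf 19860248600833)) (.node (.leaf 1104628814385) (.leaf 4524567977529905))) (.node (.node (.leaf 68990087427) (.leaf 299149037744385)) (.node (.leaf 17661493776915) (.leaf 72392954498581264)))) (.node (.node (.node (.leaf 4314956065) (.leaf 282716810645523)) (.node (.leaf 1177140863763) (.leaf 4823626787397891))) (.node (.node (.leaf 73836602128) (.leaf 320027191419667)) (.node (.leaf 17803193164081) (.leaf 18519119637098070802))))))))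

def twoWord19 : Janko.Tree (ℕ) :=
  (.node (.node (.node (.node (.node (.node (.node (.leaf 4145) (.leaf 18696549507329)) (.node (.leaf 77579039011) (.leaf 4521269394473488))) (.node (.node (.leaf 4329771057) (.leaf 282725082927632)) (.node (.leaf 1181385691664) (.leaf 5084219900494129)))) (.node (.node (.node (.leaf 269496577) (.leaf 19873083298353)) (.node (.leaf 1108372173057) (.leaf 4539896665608211))) (.node (.node (.leaf 69022658819) (.leaf 299209718895153)) (.node (.leaf 17669765140513) (.leaf 72641503736963331))))) (.node (.node (.node (.node (.leaf 16843313) (.leaf 18834253751058)) (.node (.leaf 1103826592001) (.leaf 4523459861356801))) (.node (.node (.leaf 4848693537) (.leaf 283884473360689)) (.node (.leaf 1309983977731) (.leaf 72341349945323811)))) (.node (.node (.node (.leaf 303046961) (.leaf 282583349920272)) (.node (.leaf 1168550928689) (.leaf 4787342666764306))) (.node (.node (.leaf 73033519632) (.leaf 302434720166146)) (.node (.leaf 17733956739329)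 (.leaf 1157444977318629411)))))) (.node (.node (.node (.node (.node (.leaf 1057025) (.leaf 18701111853361)) (.node (.leaf 81873997873) (.leaf 4521334369493249))) (.node (.node (.leaf 4566614305) (.leaf 283743039263250)) (.node (.leaf 1241296937219) (.leaf 72340311082406449)))) (.node (.node (.node (.leaf 285286705) (.leaf 20960028664594)) (.node (.leaf 1112666157314) (.leaf 4557617450004769))) (.node (.node (.leaf 69276336656) (.leaf 301335225438227)) (.node (.leaf 17674060043027) (.leaf 76597688556134705))))) (.node (.node (.node (.node (.leaf 17961746) (.leaf 18902202585107)) (.node (.leaf 1104362541584) (.leaf 4523601843794209))) (.node (.node (.leaf 5119214352) (.leaf 299144791986704)) (.node (.leaf 17661210730755) (.leaf 72375563388526851)))) (.node (.node (.node (.leaf 4311888131) (.leaf 282716241334800)) (.node (.leaf 1177091649795) (.leaf 4821367899889969))) (.node (.node (.leaf 73568293395) (.leaf 317909453902611)) (.node (.leaf 17802658382129) (.leaf 1158287198929489953)))))))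 (.node (.node (.node (.node (.node (.node (.leaf 70160) (.leaf 18700559261953)) (.node (.leaf 77629231665) (.leaf 4521269947073298))) (.node (.node (.leaf 4564587280) (.leaf 282784978502418)) (.node (.leaf 1241264500995) (.leaf 5120435062714627)))) (.node (.node (.node (.leaf 270598930) (.leaf 20001697501712)) (.node (.leaf 1108421387024) (.leaf 4542151573770289))) (.node (.node (.leaf 69039427633) (.leaf 299277635093266)) (.node (.leaf 17669815279875) (.leaf 76581054418321697))))) (.node (.node (.node (.node (.leaf 16977939) (.leaf 18842293182769)) (.node (.leaf 1103857983747) (.leaf 4523472710668307))) (.node (.node (.leaf 4883223314) (.leaf 284842819326513)) (.node (.leaf 1310518751523) (.leaf 72375357781708819)))) (.node (.node (.node (.leaf 319824129) (.leaf 282583900500259)) (.node (.leaf 1168819368225) (.leaf 4788442161484560))) (.node (.node (.leaf 73051218177) (.leaf 317763712262403)) (.node (.leaf 17734742250003) (.leaf 1157463656448926483)))))) (.node (.node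 (.node (.node (.node (.leaf 1126658) (.leaf 18833451581968)) (.node (.leaf 81907429633) (.leaf 4521342440313616))) (.node (.node (.leaf 4600168737) (.leaf 283752131597074)) (.node (.leaf 1242069795603) (.leaf 72340379533390081)))) (.node (.node (.node (.leaf 287384336) (.leaf 282579340165651)) (.node (.leaf 1112701731105) (.leaf 4786316673876755))) (.node (.node (.leaf 69541703938) (.leaf 301348061122609)) (.node (.leaf 17674093662227) (.leaf 77145111918678803))))) (.node (.node (.node (.node (.leaf 19075091) (.leaf 19860248600835)) (.node (.leaf 1104628814608) (.leaf 4524567977530130))) (.node (.node (.leaf 68990087457) (.leaf 299149070176787)) (.node (.leaf 17661493776945) (.leaf 72392954498581267)))) (.node (.node (.node (.leaf 4314956067) (.leaf 282717044416769)) (.node (.leaf 1177140867361) (.leaf 4823626818790162))) (.node (.node (.leaf 73836602130) (.leaf 320027191423265)) (.node (.leaf 17803193164560) (.leaf 18519119637615026481))))))))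

def twoWord20 : Janko.Tree (ℕ) :=
  (.node (.node (.node (.node (.node (.node (.node (.leaf 4353) (.leaf 18696549507331)) (.node (.leaf 77579096082) (.leaf 4521269394473490))) (.node (.node (.leaf 4329771536) (.leaf 282725082927635)) (.node (.leaf 1181385691667) (.leaf 5084223640834067)))) (.node (.node (.node (.leaf 269496578) (.leaf 19873083298579)) (.node (.leaf 1108372173058) (.leaf 4539896665608241))) (.node (.node (.leaf 69022658849) (.leaf 299209718903042)) (.node (.leaf 17669765141008) (.leaf 72641503751704625))))) (.node (.node (.node (.node (.leaf 16843536) (.leaf 18834253751059)) (.node (.leaf 1103826592003) (.leaf 4523459875967504))) (.node (.node (.leaf 4848693539) (.leaf 283884488167459)) (.node (.leaf 1309983977761) (.leaf 72341478510244129)))) (.node (.node (.node (.leaf 303047440) (.leaf 282583349920274)) (.node (.leaf 1168551055378) (.leaf 4787342666764307))) (.node (.node (.leaf 73033519635) (.leaf 302434720354353)) (.node (.leaf 17733956739331)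 (.leaf 1157444977318629425)))))) (.node (.node (.node (.node (.node (.leaf 1057026) (.leaf 18701111853840)) (.node (.leaf 81873998385) (.leaf 4521334369493251))) (.node (.node (.leaf 4566614544) (.leaf 283743039263251)) (.node (.leaf 1241296937265) (.leaf 72340311082414338)))) (.node (.node (.node (.leaf 285287184) (.leaf 20960028664595)) (.node (.leaf 1112666157315) (.leaf 4557617450127393))) (.node (.node (.leaf 69276336658) (.leaf 301335462347041)) (.node (.leaf 17674060050689) (.leaf 76597688556135187))))) (.node (.node (.node (.node (.leaf 17961747) (.leaf 18902202585137)) (.node (.leaf 1104363454753) (.leaf 4523601843794211))) (.node (.node (.leaf 5119214354) (.leaf 299144791986706)) (.node (.leaf 17661225341456) (.leaf 72375563403268145)))) (.node (.node (.node (.leaf 4311888161) (.leaf 282716241334803)) (.node (.leaf 1177091649825) (.leaf 4821367899890450))) (.node (.node (.leaf 73568293425) (.leaf 317909453910305)) (.node (.leaf 17802658382608) (.leaf 1158287199484052240)))))))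 (.node (.node (.node (.node (.node (.node (.leaf 70162) (.leaf 18700592808225)) (.node (.leaf 77629231890) (.leaf 4521269947073299))) (.node (.node (.leaf 4564587282) (.leaf 282784978510083)) (.node (.leaf 1241264501025) (.leaf 5120435062714657)))) (.node (.node (.node (.leaf 270598931) (.leaf 20001697501715)) (.node (.leaf 1108421387026) (.leaf 4542151573771024))) (.node (.node (.leaf 69039428368) (.leaf 299277635093267)) (.node (.leaf 17669815279907) (.leaf 76581063006167345))))) (.node (.node (.node (.node (.leaf 16977953) (.leaf 18842324570896)) (.node (.leaf 1103857983793) (.leaf 4523472710668849))) (.node (.node (.leaf 4883226929) (.leaf 284842819326738)) (.node (.leaf 1310518874130) (.leaf 72375358015480065)))) (.node (.node (.node (.leaf 319824131) (.leaf 282583900557840)) (.node (.leaf 1168819490835) (.leaf 4788442161484562))) (.node (.node (.leaf 73051218179) (.leaf 317763743654193)) (.node (.leaf 17734744211745) (.leaf 1157463664720286257)))))) (.node (.node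 (.node (.node (.node (.leaf 1126659) (.leaf 18833451581970)) (.node (.leaf 81907429634) (.leaf 4521342440313618))) (.node (.node (.leaf 4600168739) (.leaf 283752133624113)) (.node (.leaf 1250105103120) (.leaf 72340379533390115)))) (.node (.node (.node (.leaf 287384338) (.leaf 282579340165681)) (.node (.leaf 1112701731107) (.leaf 4786324710174979))) (.node (.node (.leaf 69541703939) (.leaf 301348061123088)) (.node (.leaf 17674095624481) (.leaf 77178024807706881))))) (.node (.node (.node (.node (.leaf 19075105) (.leaf 19860248727570)) (.node (.leaf 1104628814610) (.leaf 4524568479867185))) (.node (.node (.leaf 68990087459) (.leaf 299149070177040)) (.node (.leaf 17661493777170) (.leaf 72392958272344625)))) (.node (.node (.node (.leaf 4314956081) (.leaf 282717044416803)) (.node (.leaf 1177140989970) (.leaf 4823626818790163))) (.node (.node (.leaf 73836602131) (.leaf 320027191545905)) (.node (.leaf 17803193164562) (.leaf 18519119637615026963))))))))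

def twoWord21 : Janko.Tree (ℕ) :=
  (.node (.node (.node (.node (.node (.node (.node (.leaf 4354) (.leaf 18696580895251)) (.node (.leaf 77579096097) (.leaf 4521269394473491))) (.node (.node (.leaf 4329771539) (.leaf 282725083848963)) (.node (.leaf 1181386604849) (.leaf 5084223640834097)))) (.node (.node (.node (.leaf 269496609) (.leaf 19873083306242)) (.node (.leaf 1108372173059) (.leaf 4539896665608976))) (.node (.node (.leaf 69022715922) (.leaf 299209718903043)) (.node (.leaf 17669765141011) (.leaf 72641504020013843))))) (.node (.node (.node (.node (.leaf 16843538) (.leaf 18834253754657)) (.node (.leaf 1103826592049) (.leaf 4523459875967506))) (.node (.node (.leaf 4848751376) (.leaf 283884488167473)) (.node (.leaf 1309983977763) (.leaf 72341478510244131)))) (.node (.node (.node (.leaf 303047442) (.leaf 282583349920275)) (.node (.leaf 1168551055379) (.leaf 4787343168971009))) (.node (.node (.leaf 73034432801) (.leaf 302434720354835)) (.node (.leaf 17733971350032)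 (.leaf 1157444977318629904)))))) (.node (.node (.node (.node (.node (.leaf 1057027) (.leaf 18701111853842)) (.node (.leaf 81873998608) (.leaf 4521334369493283))) (.node (.node (.leaf 4566614546) (.leaf 283743039267073)) (.node (.leaf 1241297063954) (.leaf 72340311082414339)))) (.node (.node (.node (.leaf 285287186) (.leaf 20960028668193)) (.node (.leaf 1112666157345) (.leaf 4557618253213985))) (.node (.node (.leaf 69276336659) (.leaf 301335462347043)) (.node (.leaf 17674060050690) (.leaf 76597688556261937))))) (.node (.node (.node (.node (.leaf 17969409) (.leaf 18902202585872)) (.node (.leaf 1104363454755) (.leaf 4523601843917361))) (.node (.node (.leaf 5119214355) (.leaf 299144791986707)) (.node (.leaf 17661225341458) (.leaf 72375563905474865)))) (.node (.node (.node (.leaf 4311888163) (.leaf 282716242247969)) (.node (.leaf 1177091649827) (.leaf 4821367899890451))) (.node (.node (.leaf 73570390034) (.leaf 317909453967891)) (.node (.leaf 17802658382610) (.leaf 1158287271943876897)))))))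 (.node (.node (.node (.node (.node (.node (.leaf 70163) (.leaf 18700592808467)) (.node (.leaf 77629235457) (.leaf 4521273687412755))) (.node (.node (.leaf 4564587283) (.leaf 282784993251346)) (.node (.leaf 1241264501027) (.leaf 5120435062714659)))) (.node (.node (.node (.leaf 270607120) (.leaf 20001699463729)) (.node (.leaf 1108421387027) (.leaf 4542151810679570))) (.node (.node (.leaf 69039436033) (.leaf 299277635105025)) (.node (.leaf 17669815279921) (.leaf 76581063008256305))))) (.node (.node (.node (.node (.leaf 16977955) (.leaf 18842324570898)) (.node (.leaf 1103858110482) (.leaf 4523472710669075))) (.node (.node (.leaf 4883227408) (.leaf 284842819330832)) (.node (.leaf 1310518874673) (.leaf 72375358015480067)))) (.node (.node (.node (.leaf 319824163) (.leaf 282583900557843)) (.node (.leaf 1168819490865) (.leaf 4788442161484563))) (.node (.node (.leaf 73065828880) (.leaf 317763743654672)) (.node (.leaf 17734744211747) (.leaf 1157478985152672001)))))) (.node (.node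 (.node (.node (.node (.leaf 1126689) (.leaf 18833451581971)) (.node (.leaf 81907429665) (.leaf 4521342440313619))) (.node (.node (.leaf 4600168753) (.leaf 283755873964051)) (.node (.leaf 1250105103122) (.leaf 72340379533512722)))) (.node (.node (.node (.leaf 287384339) (.leaf 282579340165906)) (.node (.leaf 1112701731121) (.leaf 4786324710175009))) (.node (.node (.leaf 69541703969) (.leaf 301348061123091)) (.node (.leaf 17674095624483) (.leaf 77178029100642593))))) (.node (.node (.node (.node (.leaf 19075107) (.leaf 19860248727571)) (.node (.leaf 1104628814611) (.leaf 4524568479871265))) (.node (.node (.leaf 68990210066) (.leaf 299149070177042)) (.node (.leaf 17661493780785) (.leaf 72393086837272865)))) (.node (.node (.node (.leaf 4314956304) (.leaf 282717044416817)) (.node (.leaf 1177140989971) (.leaf 4823626818793761))) (.node (.node (.leaf 73836605729) (.leaf 320027427418369)) (.node (.leaf 17803193164563) (.leaf 18519137023642644737))))))))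

def twoWord22 : Janko.Tree (ℕ) :=
  (.node (.node (.node (.node (.node (.node (.node (.leaf 4355) (.leaf 18696580895506)) (.node (.leaf 77579096592) (.leaf 4521269394481409))) (.node (.node (.leaf 4331733281) (.leaf 282725083849009)) (.node (.leaf 1181386617089) (.leaf 5084223641813297)))) (.node (.node (.node (.leaf 269496611) (.leaf 19873083306243)) (.node (.leaf 1108372173089) (.leaf 4539896666587441))) (.node (.node (.leaf 69022715923) (.leaf 299209718903073)) (.node (.leaf 17669765141041) (.leaf 72641504020017441))))) (.node (.node (.node (.node (.leaf 16843539) (.leaf 18834253811731)) (.node (.leaf 1103826592528) (.leaf 4523459875967507))) (.node (.node (.leaf 4848751378) (.leaf 283884488167952)) (.node (.leaf 1309984100387) (.leaf 72341478510367251)))) (.node (.node (.node (.leaf 303047443) (.leaf 282583349928193)) (.node (.leaf 1168551055409) (.leaf 4787343168971011))) (.node (.node (.leaf 73034433040) (.leaf 302434722316849)) (.node (.leaf 17733971350034)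 (.leaf 1157444977318629907)))))) (.node (.node (.node (.node (.node (.leaf 1057059) (.leaf 18701111853843)) (.node (.leaf 81873998610) (.leaf 4521334369493778))) (.node (.node (.leaf 4566614547) (.leaf 283743039267075)) (.node (.leaf 1241297063955) (.leaf 72340311082414369)))) (.node (.node (.node (.leaf 285287187) (.leaf 20960028790833)) (.node (.leaf 1112666157347) (.leaf 4786315869618465))) (.node (.node (.leaf 69276336689) (.leaf 301335462347283)) (.node (.leaf 17674060050691) (.leaf 76599745594987027))))) (.node (.node (.node (.node (.leaf 17969410) (.leaf 18902704791857)) (.node (.leaf 1104363454769) (.leaf 4524559370818320))) (.node (.node (.leaf 5119226113) (.leaf 299144791986962)) (.node (.leaf 17661225341459) (.leaf 72375563905475346)))) (.node (.node (.node (.leaf 4311945234) (.leaf 282716242248208)) (.node (.leaf 1177091772434) (.leaf 4821367899951891))) (.node (.node (.leaf 73570390035) (.leaf 317909454893345)) (.node (.leaf 17802658382611) (.leaf 1158287271943876899)))))))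 (.node (.node (.node (.node (.node (.node (.leaf 70193) (.leaf 18700592816385)) (.node (.leaf 77629235459) (.leaf 4521273687412785))) (.node (.node (.leaf 4564594945) (.leaf 282784993251347)) (.node (.leaf 1241264623634) (.leaf 5120435064734480)))) (.node (.node (.node (.leaf 270607122) (.leaf 20001699463954)) (.node (.leaf 1108421390625) (.leaf 4542151810687235))) (.node (.node (.leaf 69273198897) (.leaf 299277650956306)) (.node (.leaf 17669815280400) (.leaf 76581066748596243))))) (.node (.node (.node (.node (.leaf 16977969) (.leaf 18842324570899)) (.node (.leaf 1103858110483) (.leaf 4523472710676769))) (.node (.node (.leaf 4883227410) (.leaf 284842819330834)) (.node (.leaf 1310521884961) (.leaf 72375358015541267)))) (.node (.node (.node (.leaf 319824177) (.leaf 282583902519601)) (.node (.leaf 1169053262081) (.leaf 4788442161492225))) (.node (.node (.leaf 73065828882) (.leaf 317763743654674)) (.node (.leaf 17734744211761) (.leaf 1157479122860060961)))))) (.node (.node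 (.node (.node (.node (.leaf 1126691) (.leaf 18833451589889)) (.node (.leaf 81907429667) (.leaf 4521342440321282))) (.node (.node (.leaf 4600168979) (.leaf 283755873964593)) (.node (.leaf 1250105103123) (.leaf 72340379533513265)))) (.node (.node (.node (.leaf 287387905) (.leaf 282579340173569)) (.node (.leaf 1168534147856) (.leaf 4786324710175011))) (.node (.node (.leaf 69541703971) (.leaf 301348062044419)) (.node (.leaf 17674095624497) (.leaf 77178029100642595))))) (.node (.node (.node (.node (.leaf 19075121) (.leaf 19860248728336)) (.node (.leaf 1104628822273) (.leaf 4539888362914081))) (.node (.node (.leaf 68990210067) (.leaf 299149070177043)) (.node (.leaf 17661493781264) (.leaf 72393087640482081)))) (.node (.node (.node (.leaf 4314956306) (.leaf 282717044417298)) (.node (.leaf 1177140990001) (.leaf 4823626818916401))) (.node (.node (.leaf 73836662803) (.leaf 320035462779441)) (.node (.leaf 17803193168129) (.leaf 18519137161350033697))))))))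

def twoWord23 : Janko.Tree (ℕ) :=
  (.node (.node (.node (.node (.node (.node (.node (.leaf 4385) (.leaf 18696580899121)) (.node (.leaf 77579096595) (.leaf 4521269428027681))) (.node (.node (.leaf 4331733283) (.leaf 282725115237136)) (.node (.leaf 1181386617091) (.leaf 5084284322915090)))) (.node (.node (.node (.leaf 269619218) (.leaf 19873083306273)) (.node (.leaf 1108372173091) (.leaf 4539896666599681))) (.node (.node (.leaf 69022715937) (.leaf 299209718903075)) (.node (.leaf 17669766066433) (.leaf 72641504020140081))))) (.node (.node (.node (.node (.leaf 16851201) (.leaf 18834253812273)) (.node (.leaf 1103841202960) (.leaf 4523459875971329))) (.node (.node (.leaf 4848751379) (.leaf 283884488167955)) (.node (.leaf 1309984100401) (.leaf 72341478511288625)))) (.node (.node (.node (.leaf 303051009) (.leaf 282583383474465)) (.node (.leaf 1168551056144) (.leaf 4787343168971057))) (.node (.node (.leaf 73034433042) (.leaf 302434722317074)) (.node (.leaf 17733971350035)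 (.leaf 1157444977350939155)))))) (.node (.node (.node (.node (.node (.leaf 1057073) (.leaf 18704852193299)) (.node (.leaf 81873998611) (.leaf 4521334369493779))) (.node (.node (.leaf 4566622465) (.leaf 283743039393810)) (.node (.leaf 1241297064720) (.leaf 72340311082414371)))) (.node (.node (.node (.leaf 285290753) (.leaf 20960264651043)) (.node (.leaf 1112666214928) (.leaf 4786315869618704))) (.node (.node (.leaf 69276336914) (.leaf 301335462347313)) (.node (.leaf 17674060050721) (.leaf 76599745880007442))))) (.node (.node (.node (.node (.leaf 17969411) (.leaf 18902704792338)) (.node (.leaf 1104363454992) (.leaf 4524559370818322))) (.node (.node (.leaf 5119348754) (.leaf 299144791990529)) (.node (.leaf 17661225345281) (.leaf 72375563905475347)))) (.node (.node (.node (.leaf 4311945249) (.leaf 282716242248210)) (.node (.leaf 1177091772435) (.leaf 4821367899959554))) (.node (.node (.leaf 73570390049) (.leaf 317909487325970)) (.node (.leaf 17802658394369) (.leaf 1158287271944982577)))))))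 (.node (.node (.node (.node (.node (.node (.leaf 70416) (.leaf 18700607427088)) (.node (.leaf 77629235491) (.leaf 4521273687413520))) (.node (.node (.leaf 4564594946) (.leaf 282784993251377)) (.node (.leaf 1241264623635) (.leaf 5120435064734483)))) (.node (.node (.node (.leaf 270607123) (.leaf 20001699471619)) (.node (.leaf 1108421513234) (.leaf 4542151842079504))) (.node (.node (.leaf 69273199376) (.leaf 299277650956307)) (.node (.leaf 17669815280402) (.leaf 76581066748596785))))) (.node (.node (.node (.node (.leaf 16978448) (.leaf 18842324578562)) (.node (.leaf 1103858110513) (.leaf 4523472710676771))) (.node (.node (.leaf 4883227411) (.leaf 284842819330835)) (.node (.leaf 1310521884963) (.leaf 72375358015541297)))) (.node (.node (.node (.leaf 319824656) (.leaf 282583902520080)) (.node (.leaf 1169053262083) (.leaf 4788442415300899))) (.node (.node (.leaf 73065828883) (.leaf 317763743654675)) (.node (.leaf 17734744212240) (.leaf 1158005724002919184)))))) (.node (.node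 (.node (.node (.node (.leaf 1183762) (.leaf 18833451589937)) (.node (.leaf 81907617810) (.leaf 4521342440321315))) (.node (.node (.leaf 4600169009) (.leaf 283755873964819)) (.node (.leaf 1250105110786) (.leaf 72340379536523555)))) (.node (.node (.node (.leaf 287387906) (.leaf 282579340173571)) (.node (.leaf 1168534147858) (.leaf 4786324710297635))) (.node (.node (.leaf 69541761552) (.leaf 301348062044465)) (.node (.leaf 17733938917633) (.leaf 77178029102662419))))) (.node (.node (.node (.node (.leaf 19075600) (.leaf 19860485636385)) (.node (.leaf 1104628822274) (.leaf 4539888362914323))) (.node (.node (.leaf 68990210081) (.leaf 299149070184705)) (.node (.leaf 17661493781266) (.leaf 72638213806629648)))) (.node (.node (.node (.leaf 4314956307) (.leaf 282717044417299)) (.node (.leaf 1177643196721) (.leaf 4823627054788865))) (.node (.node (.leaf 73836662833) (.leaf 335355895165185)) (.node (.leaf 17803193168130) (.leaf 18519385586000859923))))))))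

def twoWord24 : Janko.Tree (ℕ) :=
  (.node (.node (.node (.node (.node (.node (.node (.leaf 4387) (.leaf 18696580899600)) (.node (.leaf 77579096625) (.leaf 4521269428027923))) (.node (.node (.leaf 4331733297) (.leaf 282725115237138)) (.node (.leaf 1181386617121) (.leaf 5084284322915091)))) (.node (.node (.node (.leaf 269619219) (.leaf 19873083306275)) (.node (.leaf 1108372295698) (.leaf 4539896699032083))) (.node (.node (.leaf 69022715939) (.leaf 299209718960656)) (.node (.leaf 17669766066434) (.leaf 72641512291308306))))) (.node (.node (.node (.node (.leaf 16851202) (.leaf 18834253812499)) (.node (.leaf 1103841202962) (.leaf 4523459875971331))) (.node (.node (.leaf 4848759041) (.leaf 283884490129969)) (.node (.leaf 1309984100880) (.leaf 72341478526095409)))) (.node (.node (.node (.leaf 303051010) (.leaf 282583383474707)) (.node (.leaf 1168551063809) (.leaf 4787343171060001))) (.node (.node (.leaf 73034433043) (.leaf 302434722324739)) (.node (.leaf 17733971353857)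 (.leaf 1157444977350939185)))))) (.node (.node (.node (.node (.node (.leaf 1057552) (.leaf 18704852193329)) (.node (.leaf 81874006273) (.leaf 4521334369497377))) (.node (.node (.leaf 4566622467) (.leaf 283743039393811)) (.node (.leaf 1241833804307) (.leaf 72340311082471952)))) (.node (.node (.node (.leaf 285290754) (.leaf 20960264651057)) (.node (.leaf 1112666214931) (.leaf 4786315869618706))) (.node (.node (.leaf 69276344577) (.leaf 301335462355201)) (.node (.leaf 17674060050723) (.leaf 76599745880007443))))) (.node (.node (.node (.node (.leaf 17969441) (.leaf 18902704792339)) (.node (.leaf 1104363454994) (.leaf 4524559370818323))) (.node (.node (.leaf 5119348755) (.leaf 299144791990531)) (.node (.leaf 17661225345283) (.leaf 72375563905602097)))) (.node (.node (.node (.leaf 4311945744) (.leaf 282716242248211)) (.node (.leaf 1177091772449) (.leaf 4821367899959587))) (.node (.node (.leaf 73570390065) (.leaf 317969332899875)) (.node (.leaf 17802658394370) (.leaf 1158287332357514003)))))))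 (.node (.node (.node (.node (.node (.node (.leaf 70418) (.leaf 18700607427090)) (.node (.leaf 77629235505) (.leaf 4521273688391985))) (.node (.node (.leaf 4564594947) (.leaf 282784993252112)) (.node (.leaf 1241264623649) (.leaf 5365694322642977)))) (.node (.node (.node (.leaf 270610689) (.leaf 20001714212913)) (.node (.leaf 1108421513235) (.leaf 4542151842079506))) (.node (.node (.leaf 69273199378) (.leaf 299278169874737)) (.node (.leaf 17669815280403) (.leaf 76581066749710371))))) (.node (.node (.node (.node (.leaf 16978451) (.leaf 18842324578593)) (.node (.leaf 1103858111248) (.leaf 4523472710734355))) (.node (.node (.leaf 4883231009) (.leaf 284842819334433)) (.node (.leaf 1310521884977) (.leaf 72375358017569057)))) (.node (.node (.node (.leaf 319824658) (.leaf 282583902520082)) (.node (.leaf 1169053262129) (.leaf 4788442415300913))) (.node (.node (.leaf 73065832705) (.leaf 317763743780883)) (.node (.leaf 17734744212242) (.leaf 1158005724002919186)))))) (.node (.node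 (.node (.node (.node (.leaf 1183763) (.leaf 18833466396690)) (.node (.leaf 81907617811) (.leaf 4521402285752625))) (.node (.node (.leaf 4600169234) (.leaf 283755873972482)) (.node (.leaf 1250105110787) (.leaf 72340379536523569)))) (.node (.node (.node (.leaf 287387907) (.leaf 282579371561491)) (.node (.leaf 1168534147859) (.leaf 4786324710297649))) (.node (.node (.leaf 69541761555) (.leaf 301348093432339)) (.node (.leaf 17733938917634) (.leaf 77423288360570913))))) (.node (.node (.node (.node (.leaf 19075603) (.leaf 19860485636387)) (.node (.leaf 1104628822275) (.leaf 4539888362914353))) (.node (.node (.leaf 68990210083) (.leaf 299149070184706)) (.node (.leaf 17661493781267) (.leaf 72638213806629650)))) (.node (.node (.node (.leaf 4314956337) (.leaf 282717044420897)) (.node (.leaf 1177643197202) (.leaf 4823635090149937))) (.node (.node (.leaf 73836663345) (.leaf 335355895165186)) (.node (.leaf 17803193168161) (.leaf 18519418503182823715))))))))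

def twoWord25 : Janko.Tree (ℕ) :=
  (.node (.node (.node (.node (.node (.node (.node (.leaf 4401) (.leaf 18696580899602)) (.node (.leaf 77580022017) (.leaf 4521269428035841))) (.node (.node (.leaf 4331733523) (.leaf 282725115237139)) (.node (.leaf 1181386617123) (.leaf 5084284322984194)))) (.node (.node (.node (.leaf 269619233) (.leaf 19873083363856)) (.node (.leaf 1108372295699) (.leaf 4540034104562450))) (.node (.node (.leaf 69022715953) (.leaf 299209718960659)) (.node (.leaf 17669766066435) (.leaf 72641512291308307))))) (.node (.node (.node (.node (.leaf 16851203) (.leaf 18834253820162)) (.node (.leaf 1103841202963) (.leaf 4523459876098066))) (.node (.node (.leaf 4848759042) (.leaf 283884490130194)) (.node (.leaf 1309984100883) (.leaf 72341478526095891)))) (.node (.node (.node (.leaf 303051041) (.leaf 282583383482625)) (.node (.leaf 1168784830721) (.leaf 4787343171060003))) (.node (.node (.leaf 73034440961) (.leaf 302434737066033)) (.node (.leaf 17733971353859)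 (.leaf 1157444977350947074)))))) (.node (.node (.node (.node (.node (.leaf 1057554) (.leaf 18704852194064)) (.node (.leaf 81874006274) (.leaf 4521334369554451))) (.node (.node (.leaf 4566622513) (.leaf 283743039394576)) (.node (.leaf 1241833804337) (.leaf 72340311082471955)))) (.node (.node (.node (.leaf 285290785) (.leaf 20960264663297)) (.node (.leaf 1112667128113) (.leaf 4786315869618707))) (.node (.node (.leaf 69276344579) (.leaf 301335493743123)) (.node (.leaf 17674060108304) (.leaf 76599754151367217))))) (.node (.node (.node (.node (.leaf 17969443) (.leaf 18902704795905)) (.node (.leaf 1104363454995) (.leaf 4524559370825985))) (.node (.node (.leaf 68989095955) (.leaf 299144791990563)) (.node (.leaf 17661225345329) (.leaf 72377620944327184)))) (.node (.node (.node (.leaf 4311945747) (.leaf 282716242256129)) (.node (.leaf 1177091772451) (.leaf 4821371642318867))) (.node (.node (.leaf 73570390544) (.leaf 317969332899889)) (.node (.leaf 17802658394371) (.leaf 1162211420906074370)))))))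 (.node (.node (.node (.node (.node (.node (.leaf 70419) (.leaf 18700607427091)) (.node (.leaf 77629235984) (.leaf 4521273688404225))) (.node (.node (.leaf 4564594977) (.leaf 282785495458097)) (.node (.leaf 1241264623651) (.leaf 5365694372786465)))) (.node (.node (.node (.leaf 270610690) (.leaf 20001714213648)) (.node (.leaf 1108421513265) (.leaf 4542151842079507))) (.node (.node (.leaf 69273199379) (.leaf 299278169875218)) (.node (.leaf 17669815284001) (.leaf 76581066749710385))))) (.node (.node (.node (.node (.leaf 16978481) (.leaf 18842324578595)) (.node (.leaf 1103858118913) (.leaf 4523472711782435))) (.node (.node (.leaf 4883353619) (.leaf 284842819457073)) (.node (.leaf 1310553281043) (.leaf 72375361808110099)))) (.node (.node (.node (.leaf 319824659) (.leaf 282583902520083)) (.node (.leaf 1169053323283) (.leaf 4788450717995794))) (.node (.node (.leaf 73065832707) (.leaf 317763977552129)) (.node (.leaf 17734744212243) (.leaf 1158005724002919187)))))) (.node (.node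 (.node (.node (.node (.leaf 1183777) (.leaf 18833466396691)) (.node (.leaf 81909580065) (.leaf 4521402285753104))) (.node (.node (.leaf 4600176897) (.leaf 283755873972483)) (.node (.leaf 1250105110817) (.leaf 72340379567919890)))) (.node (.node (.node (.leaf 287387937) (.leaf 282579371561746)) (.node (.leaf 1168534155521) (.leaf 4786324710298128))) (.node (.node (.leaf 69543723297) (.leaf 301348093432369)) (.node (.leaf 17733938917635) (.leaf 77423288915133200))))) (.node (.node (.node (.node (.leaf 19988769) (.leaf 19860485636627)) (.node (.leaf 1104628822305) (.leaf 4539888362922241))) (.node (.node (.leaf 68990210097) (.leaf 299149070184739)) (.node (.leaf 17661493784865) (.leaf 72638213806629651)))) (.node (.node (.node (.leaf 4314956562) (.leaf 282717044477971)) (.node (.leaf 1177643197203) (.leaf 4838955522535681))) (.node (.node (.leaf 73836663568) (.leaf 335355895287841)) (.node (.leaf 17803193168163) (.leaf 18528091584046706946))))))))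

def twoWord26 : Janko.Tree (ℕ) :=
  (.node (.node (.node (.node (.node (.node (.node (.leaf 4624) (.leaf 18696580899603)) (.node (.leaf 77580022018) (.leaf 4521269442646544))) (.node (.node (.leaf 4331733553) (.leaf 282725115244802)) (.node (.leaf 1181386739730) (.leaf 5084284322984195)))) (.node (.node (.node (.leaf 269619235) (.leaf 19873083363859)) (.node (.leaf 1108372295713) (.leaf 4540034104562451))) (.node (.node (.leaf 69022716432) (.leaf 299209720922401)) (.node (.leaf 17669766066465) (.leaf 72674424912937746))))) (.node (.node (.node (.node (.leaf 16851235) (.leaf 18834253820163)) (.node (.leaf 1103841210625) (.leaf 4523459876098067))) (.node (.node (.leaf 4848759043) (.leaf 283884490137859)) (.node (.leaf 1309985022209) (.leaf 72341478528057905)))) (.node (.node (.node (.leaf 303051043) (.leaf 282583398093328)) (.node (.leaf 1168784830722) (.leaf 4787351758905649))) (.node (.node (.leaf 73034440963) (.leaf 302434737066768)) (.node (.leaf 17733971353905)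 (.leaf 1157444977350947107)))))) (.node (.node (.node (.node (.node (.leaf 1057555) (.leaf 18704853172529)) (.node (.leaf 81874006275) (.leaf 4521334369554993))) (.node (.node (.leaf 4566622992) (.leaf 283743276302625)) (.node (.leaf 1241833804562) (.leaf 72340311084433697)))) (.node (.node (.node (.leaf 285290787) (.leaf 20968299959056)) (.node (.leaf 1112667140353) (.leaf 4786315869626625))) (.node (.node (.leaf 69307732499) (.leaf 301335493743153)) (.node (.leaf 17674060108307) (.leaf 76615074583752961))))) (.node (.node (.node (.node (.leaf 18026514) (.leaf 18902704795937)) (.node (.leaf 1104363455025) (.leaf 4524559370825986))) (.node (.node (.leaf 68989095985) (.leaf 299144791991056)) (.node (.leaf 17661225472018) (.leaf 72377620944327187)))) (.node (.node (.node (.leaf 4311945777) (.leaf 282716242256177)) (.node (.leaf 1177091772944) (.leaf 4821371642318897))) (.node (.node (.leaf 73571303713) (.leaf 317969332900368)) (.node (.leaf 17802658394401) (.leaf 1162211420906074371)))))))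 (.node (.node (.node (.node (.node (.node (.leaf 73985) (.leaf 18700607427121)) (.node (.leaf 77629235986) (.leaf 4521273720836627))) (.node (.node (.leaf 4564594979) (.leaf 282785495458578)) (.node (.leaf 1241264624144) (.leaf 5365694877205264)))) (.node (.node (.node (.leaf 270610691) (.leaf 20002216423682)) (.node (.leaf 1108923719985) (.leaf 4542151842083105))) (.node (.node (.leaf 69273202945) (.leaf 299278169875219)) (.node (.leaf 17669815406610) (.leaf 76581066749710864))))) (.node (.node (.node (.node (.leaf 17830416) (.leaf 18902170009905)) (.node (.leaf 1104360317233) (.leaf 4523472711782449))) (.node (.node (.leaf 4883353649) (.leaf 284843055317283)) (.node (.leaf 1310553281073) (.leaf 72375361808110129)))) (.node (.node (.node (.leaf 319828257) (.leaf 282587642859539)) (.node (.leaf 1169053323313) (.leaf 4788450717995795))) (.node (.node (.leaf 73065832753) (.leaf 317763977552131)) (.node (.leaf 17742779519760) (.leaf 1158005724003045395)))))) (.node (.node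 (.node (.node (.node (.leaf 1183779) (.leaf 18833466396705)) (.node (.leaf 81909580067) (.leaf 4521402285753106))) (.node (.node (.leaf 4600176899) (.leaf 283755873972513)) (.node (.leaf 1250105110819) (.leaf 72341337077191184)))) (.node (.node (.node (.leaf 287387939) (.leaf 282579371565361)) (.node (.leaf 1168534155522) (.leaf 4786324710298131))) (.node (.node (.leaf 69543723299) (.leaf 301348093432595)) (.node (.leaf 17733938917665) (.leaf 77423361374957857))))) (.node (.node (.node (.node (.leaf 19988771) (.leaf 19860485636657)) (.node (.leaf 1104628822307) (.leaf 4539888362922243))) (.node (.node (.leaf 68990210576) (.leaf 299149070372882)) (.node (.leaf 17661493907475) (.leaf 72638213806755859)))) (.node (.node (.node (.leaf 4314964225) (.leaf 282717044478513)) (.node (.leaf 1177643200801) (.leaf 4838955522535682))) (.node (.node (.leaf 73836663570) (.leaf 335355898299154)) (.node (.leaf 17803193290770) (.leaf 18528091651962896689))))))))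

def twoWord27 : Janko.Tree (ℕ) :=
  (.node (.node (.node (.node (.node (.node (.node (.leaf 4626) (.leaf 18696580903201)) (.node (.leaf 77580022019) (.leaf 4521269442646546))) (.node (.node (.leaf 4331733778) (.leaf 282725115244833)) (.node (.leaf 1181386739731) (.leaf 5084284322984227)))) (.node (.node (.node (.leaf 269619249) (.leaf 19873084411939)) (.node (.leaf 1108372295715) (.leaf 4540034104570145))) (.node (.node (.leaf 69022716435) (.leaf 299209720922403)) (.node (.leaf 17669766066467) (.leaf 72674424912945411))))) (.node (.node (.node (.node (.leaf 16851249) (.leaf 18834253820193)) (.node (.leaf 1103841210626) (.leaf 4523460113006881))) (.node (.node (.leaf 4848759073) (.leaf 283884504879153)) (.node (.leaf 1309985022211) (.leaf 72341478528058130)))) (.node (.node (.node (.leaf 303182081) (.leaf 282583398093330)) (.node (.leaf 1168784830753) (.leaf 4787351760994609))) (.node (.node (.leaf 73034441009) (.leaf 302434973974833)) (.node (.leaf 17733971480594)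 (.leaf 1157445105931718705)))))) (.node (.node (.node (.node (.node (.leaf 1061121) (.leaf 18704853184769)) (.node (.leaf 81874006305) (.leaf 4521334369562882))) (.node (.node (.leaf 4598010387) (.leaf 283743276302627)) (.node (.leaf 1241833808177) (.leaf 72340311084433699)))) (.node (.node (.node (.leaf 285347859) (.leaf 20968299959058)) (.node (.leaf 1112667140354) (.leaf 4786315901014544))) (.node (.node (.leaf 69307732529) (.leaf 301335493746993)) (.node (.leaf 17674061021489) (.leaf 76615212291141921))))) (.node (.node (.node (.node (.leaf 18026515) (.leaf 18902704795939)) (.node (.leaf 1104363455250) (.leaf 4524559371014193))) (.node (.node (.leaf 68989096497) (.leaf 299144791991058)) (.node (.leaf 17661225472019) (.leaf 72377620961039120)))) (.node (.node (.node (.leaf 4313907489) (.leaf 282716257062930)) (.node (.leaf 1177091772947) (.leaf 4821371642319632))) (.node (.node (.leaf 73571303715) (.leaf 317969332900371)) (.node (.leaf 17802658394403) (.leaf 1162211488822264113)))))))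 (.node (.node (.node (.node (.node (.node (.leaf 73986) (.leaf 18700607427346)) (.node (.leaf 77629235987) (.leaf 4521273720836880))) (.node (.node (.leaf 4564652050) (.leaf 282785495458579)) (.node (.leaf 1241264624147) (.leaf 5365767337029921)))) (.node (.node (.node (.leaf 270610721) (.leaf 20002216423713)) (.node (.leaf 1108923720464) (.leaf 4542151842205745))) (.node (.node (.leaf 69273202946) (.leaf 299278169878785)) (.node (.leaf 17669815406611) (.leaf 76581066749710867))))) (.node (.node (.node (.node (.leaf 17830418) (.leaf 18902170010384)) (.node (.leaf 1104360317712) (.leaf 4523472711782928))) (.node (.node (.leaf 5117124865) (.leaf 284843055317297)) (.node (.leaf 1310553281298) (.leaf 72375361808114448)))) (.node (.node (.node (.leaf 319950866) (.leaf 282587642859569)) (.node (.leaf 1169053324048) (.leaf 4788450718060562))) (.node (.node (.leaf 73065959442) (.leaf 317763977613331)) (.node (.leaf 17742779519762) (.leaf 1158005724505314067)))))) (.node (.node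 (.node (.node (.node (.leaf 1183793) (.leaf 18833466396707)) (.node (.leaf 81909580081) (.leaf 4521402285753107))) (.node (.node (.leaf 4614787600) (.leaf 283755873972515)) (.node (.leaf 1250105168400) (.leaf 72341337077191186)))) (.node (.node (.node (.leaf 287510546) (.leaf 282579371565840)) (.node (.leaf 1168534155553) (.leaf 4786324711219505))) (.node (.node (.leaf 69543723313) (.leaf 301348093440258)) (.node (.leaf 17733938917667) (.leaf 77423361374957859))))) (.node (.node (.node (.node (.leaf 19988785) (.leaf 19860485644545)) (.node (.leaf 1104628879888) (.leaf 4539888394314033))) (.node (.node (.leaf 68990210579) (.leaf 299149070372883)) (.node (.leaf 17661493907505) (.leaf 72638214309024531)))) (.node (.node (.node (.leaf 4314964227) (.leaf 282717044478739)) (.node (.leaf 1177643258640) (.leaf 4838955522658337))) (.node (.node (.leaf 73836663571) (.leaf 335355898306819)) (.node (.leaf 17803193291313) (.leaf 18528092622876193059))))))))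

def twoWord28 : Janko.Tree (ℕ) :=
  (.node (.node (.node (.node (.node (.node (.node (.leaf 4627) (.leaf 18696581025811)) (.node (.leaf 77580022049) (.leaf 4521269442646547))) (.node (.node (.leaf 4331741441) (.leaf 282725115244835)) (.node (.leaf 1181386739747) (.leaf 5084292360311571)))) (.node (.node (.node (.leaf 269619761) (.leaf 19873084411953)) (.node (.leaf 1108372296208) (.leaf 4540034104627731))) (.node (.node (.leaf 69024678177) (.leaf 299209720922896)) (.node (.leaf 17669766189074) (.leaf 72674425180336385))))) (.node (.node (.node (.node (.leaf 16851728) (.leaf 18834253820195)) (.node (.leaf 1103841210657) (.leaf 4523460113006883))) (.node (.node (.leaf 4848759075) (.leaf 283884504879888)) (.node (.leaf 1309985022257) (.leaf 72341479045017891)))) (.node (.node (.node (.leaf 303182082) (.leaf 282583398093331)) (.node (.leaf 1168784953362) (.leaf 4787355501334547))) (.node (.node (.leaf 73034441488) (.leaf 302435005370929)) (.node (.leaf 17733971480595)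 (.leaf 1157445105931719187)))))) (.node (.node (.node (.node (.node (.leaf 1061122) (.leaf 18704885617171)) (.node (.leaf 81874006307) (.leaf 4521334369562883))) (.node (.node (.leaf 4598010417) (.leaf 283743276302867)) (.node (.leaf 1241833934867) (.leaf 72340311084434192)))) (.node (.node (.node (.leaf 285347889) (.leaf 20968299959059)) (.node (.leaf 1112667140355) (.leaf 4786315901014546))) (.node (.node (.leaf 69307732754) (.leaf 301335493747472)) (.node (.leaf 17674061033729) (.leaf 77141813434000144))))) (.node (.node (.node (.node (.leaf 18026529) (.leaf 18902704918546)) (.node (.leaf 1104363462913) (.leaf 4524559371014675))) (.node (.node (.leaf 68989096720) (.leaf 299144791991059)) (.node (.leaf 17661225472049) (.leaf 72377621197947666)))) (.node (.node (.node (.leaf 4313907491) (.leaf 282716257062931)) (.node (.leaf 1177092686113) (.leaf 4821371643298097))) (.node (.node (.leaf 73571303729) (.leaf 317969333821699)) (.node (.leaf 17802658517027) (.leaf 1162212459735560483)))))))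 (.node (.node (.node (.node (.node (.node (.leaf 73987) (.leaf 18700607430913)) (.node (.leaf 77629239585) (.leaf 4521273720836882))) (.node (.node (.leaf 4564652065) (.leaf 282785495462145)) (.node (.leaf 1241265537313) (.leaf 5365767337029923)))) (.node (.node (.node (.leaf 270610723) (.leaf 20002216423715)) (.node (.leaf 1108923720466) (.leaf 4542152078078209))) (.node (.node (.leaf 69273202977) (.leaf 299278169878786)) (.node (.leaf 17669815406641) (.leaf 76581066782020115))))) (.node (.node (.node (.node (.leaf 17830419) (.leaf 18902170010386)) (.node (.leaf 1104360317714) (.leaf 4523472711782931))) (.node (.node (.leaf 5117124867) (.leaf 284843055329537)) (.node (.leaf 17661208564496) (.leaf 72375361808114450)))) (.node (.node (.node (.leaf 319950867) (.leaf 282587642860304)) (.node (.leaf 1169055351073) (.leaf 4788450718061105))) (.node (.node (.leaf 73065959443) (.leaf 317763977613361)) (.node (.leaf 17742779519763) (.leaf 1158005724505321730)))))) (.node (.node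 (.node (.node (.node (.leaf 1184305) (.leaf 18833466397200)) (.node (.leaf 1103825535281) (.leaf 4521402285764865))) (.node (.node (.leaf 4614787602) (.leaf 283755874030096)) (.node (.leaf 1250105168403) (.leaf 72341337077191187)))) (.node (.node (.node (.leaf 287510547) (.leaf 282579371565842)) (.node (.leaf 1168534286593) (.leaf 4786324742607632))) (.node (.node (.leaf 69543723792) (.leaf 301348093440289)) (.node (.leaf 17733939040274) (.leaf 77423361376063537))))) (.node (.node (.node (.node (.leaf 19989008) (.leaf 19860485644547)) (.node (.leaf 1104628879891) (.leaf 4539888394314512))) (.node (.node (.leaf 68991123745) (.leaf 299149072335153)) (.node (.leaf 17661727678721) (.leaf 72638214309032194)))) (.node (.node (.node (.leaf 4314964273) (.leaf 282717044486402)) (.node (.leaf 1177643258642) (.leaf 4838955525669650))) (.node (.node (.leaf 73836671233) (.leaf 335355929699088)) (.node (.leaf 17803196301601) (.leaf 18528144227462873875))))))))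

def twoWord29 : Janko.Tree (ℕ) :=
  (.node (.node (.node (.node (.node (.node (.node (.leaf 4657) (.leaf 18696581025841)) (.node (.leaf 77580022051) (.leaf 4521269442646802))) (.node (.node (.leaf 4331741443) (.leaf 282784960676145)) (.node (.leaf 1181386739761) (.leaf 5084292360319267)))) (.node (.node (.node (.leaf 269619984) (.leaf 19873084412432)) (.node (.leaf 1108372296211) (.leaf 4540034105553185))) (.node (.node (.leaf 69024678179) (.leaf 299209720922898)) (.node (.leaf 17669766189075) (.leaf 72674429473272066))))) (.node (.node (.node (.node (.leaf 16851730) (.leaf 18834253877776)) (.node (.leaf 1103841341697) (.leaf 4523460113007123))) (.node (.node (.leaf 4848816146) (.leaf 283885007089922)) (.node (.leaf 1309999829010) (.leaf 72341479045141041)))) (.node (.node (.node (.leaf 303182083) (.leaf 282583398093361)) (.node (.leaf 1168784953377) (.leaf 4787355501335089))) (.node (.node (.leaf 73049051920) (.leaf 302435005371154)) (.node (.leaf 17733971481360)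 (.leaf 1157445105933681426)))))) (.node (.node (.node (.node (.node (.leaf 1061123) (.leaf 18704885617201)) (.node (.leaf 81874063888) (.leaf 4521334369562913))) (.node (.node (.leaf 4598010640) (.leaf 283743276302897)) (.node (.leaf 1242067706113) (.leaf 72340311084434194)))) (.node (.node (.node (.leaf 285348401) (.leaf 20968299966722)) (.node (.leaf 1112667140385) (.leaf 4786315901014547))) (.node (.node (.leaf 69307736369) (.leaf 301335493747474)) (.node (.leaf 17674061033731) (.leaf 77141813434000146))))) (.node (.node (.node (.node (.leaf 18026531) (.leaf 18902704919089)) (.node (.leaf 1104363462915) (.leaf 4524559372976689))) (.node (.node (.leaf 68989096722) (.leaf 299144791994657)) (.node (.leaf 17661225472784) (.leaf 72377621197955331)))) (.node (.node (.node (.leaf 4313907505) (.leaf 282716257062945)) (.node (.leaf 1177092686352) (.leaf 4821371643310337))) (.node (.node (.leaf 73571303952) (.leaf 317969333821745)) (.node (.leaf 17802658517041) (.leaf 1162212459736666147)))))))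 (.node (.node (.node (.node (.node (.node (.leaf 74019) (.leaf 18700607430915)) (.node (.leaf 77629362194) (.leaf 4521273720836883))) (.node (.node (.leaf 4564652560) (.leaf 282785495462177)) (.node (.leaf 1241265537552) (.leaf 5365767338135587)))) (.node (.node (.node (.leaf 270733330) (.leaf 20002216546865)) (.node (.leaf 1108923720467) (.leaf 4542160113439281))) (.node (.node (.leaf 69273202979) (.leaf 299278169878819)) (.node (.leaf 17670317613361) (.leaf 76581066782020145))))) (.node (.node (.node (.node (.leaf 17830449) (.leaf 18902170010387)) (.node (.leaf 1104360317715) (.leaf 4523472712704259))) (.node (.node (.leaf 5117124899) (.leaf 284851090625296)) (.node (.leaf 17661208564498) (.leaf 72375361808114451)))) (.node (.node (.node (.leaf 319950897) (.leaf 282587643838769)) (.node (.leaf 1169055351075) (.leaf 4788450768196145))) (.node (.node (.leaf 73065959473) (.leaf 317763979641121)) (.node (.leaf 17742779527426) (.leaf 1158005728247681043)))))) (.node (.node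 (.node (.node (.node (.leaf 1184528) (.leaf 18833466397203)) (.node (.leaf 1103825535760) (.leaf 4521402301616146))) (.node (.node (.leaf 4614787603) (.leaf 283755874030099)) (.node (.leaf 1250106093826) (.leaf 72341337077195009)))) (.node (.node (.node (.leaf 287510561) (.leaf 282579371565843)) (.node (.leaf 1168534286594) (.leaf 4786324742607634))) (.node (.node (.leaf 69543723794) (.leaf 301348093440291)) (.node (.leaf 17733939040275) (.leaf 77423421788594963))))) (.node (.node (.node (.node (.leaf 19989010) (.leaf 19860517032467)) (.node (.leaf 1104630841633) (.leaf 4539888394314514))) (.node (.node (.leaf 68991123984) (.leaf 299208916664609)) (.node (.leaf 17661727678723) (.leaf 72638214309032195)))) (.node (.node (.node (.leaf 4314964752) (.leaf 282717044486403)) (.node (.leaf 1177643258643) (.leaf 4838955557069584))) (.node (.node (.leaf 73836671234) (.leaf 335355929702689)) (.node (.leaf 17803196301603) (.leaf 18528144359801565473))))))))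

def twoWord30 : Janko.Tree (ℕ) :=
  (.node (.node (.node (.node (.node (.node (.node (.leaf 4880) (.leaf 18696814797057)) (.node (.leaf 77580144658) (.leaf 4521269442650369))) (.node (.node (.leaf 4346352144) (.leaf 282784960676624)) (.node (.leaf 1181386740240) (.leaf 5084292361424931)))) (.node (.node (.node (.leaf 269619986) (.leaf 19873084412435)) (.node (.leaf 1108373209377) (.leaf 4540034137985810))) (.node (.node (.leaf 69024678193) (.leaf 299209720922899)) (.node (.leaf 17669766189089) (.leaf 72674429473272067))))) (.node (.node (.node (.node (.leaf 16851731) (.leaf 18834253877779)) (.node (.leaf 1103841341698) (.leaf 4523460113007153))) (.node (.node (.leaf 4848816161) (.leaf 283885007089953)) (.node (.leaf 1309999829011) (.leaf 72342436572042000)))) (.node (.node (.node (.leaf 303182113) (.leaf 282583398093586)) (.node (.leaf 1168784953872) (.leaf 4787355501343009))) (.node (.node (.leaf 73049051922) (.leaf 302435005375248)) (.node (.leaf 17734508220947)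 (.leaf 1157445106450641187)))))) (.node (.node (.node (.node (.node (.leaf 1061153) (.leaf 18704885617424)) (.node (.leaf 81874063891) (.leaf 4521334369562915))) (.node (.node (.leaf 4598010642) (.leaf 283743276310785)) (.node (.leaf 1242067706115) (.leaf 72340311084434195)))) (.node (.node (.node (.leaf 285348624) (.leaf 20968299966753)) (.node (.leaf 1112667140387) (.leaf 4786315901018369))) (.node (.node (.leaf 69307736848) (.leaf 301335493747475)) (.node (.leaf 17674061033761) (.leaf 77141813434000147))))) (.node (.node (.node (.node (.leaf 18026545) (.leaf 18902707929377)) (.node (.leaf 1104394850835) (.leaf 4524559372976914))) (.node (.node (.leaf 68989096723) (.leaf 299144792117266)) (.node (.leaf 17661225480449) (.leaf 72377621229347602)))) (.node (.node (.node (.leaf 4313907731) (.leaf 282716257062947)) (.node (.leaf 1177092686354) (.leaf 4821509081273106))) (.node (.node (.leaf 73571303954) (.leaf 317969350591025)) (.node (.leaf 17802658517520) (.leaf 1162264064322241299)))))))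 (.node (.node (.node (.node (.node (.node (.leaf 74033) (.leaf 18700607430947)) (.node (.leaf 77629362195) (.leaf 4521273720844545))) (.node (.node (.leaf 4564652563) (.leaf 282785495462179)) (.node (.leaf 1241265537554) (.leaf 5365767338135601)))) (.node (.node (.node (.leaf 270733331) (.leaf 20959743447824)) (.node (.leaf 1108923724065) (.leaf 4557480545825025))) (.node (.node (.leaf 69273260816) (.leaf 299278170001426)) (.node (.leaf 17670317613842) (.leaf 76581066782028034))))) (.node (.node (.node (.node (.leaf 17830672) (.leaf 18902170022145)) (.node (.leaf 1104360321281) (.leaf 4523472712704305))) (.node (.node (.leaf 5117124913) (.leaf 284851090625298)) (.node (.leaf 17661208564499) (.leaf 72375362310447409)))) (.node (.node (.node (.leaf 319951632) (.leaf 282587643851009)) (.node (.leaf 1169055351089) (.leaf 4788450768196370))) (.node (.node (.leaf 73065960208) (.leaf 317763979641137)) (.node (.leaf 17742779527427) (.leaf 1158005728247681073)))))) (.node (.node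 (.node (.node (.node (.leaf 1184530) (.leaf 18833468358945)) (.node (.leaf 1103825535762) (.leaf 4521402301616147))) (.node (.node (.leaf 4614787633) (.leaf 283755875078179)) (.node (.leaf 1250106093827) (.leaf 72341337077321746)))) (.node (.node (.node (.leaf 287510563) (.leaf 282579371569441)) (.node (.leaf 1168534286625) (.leaf 4786324742607635))) (.node (.node (.leaf 69543723795) (.leaf 301476658360609)) (.node (.leaf 17733939040289) (.leaf 81347510337155330))))) (.node (.node (.node (.node (.leaf 19989011) (.leaf 19860517032497)) (.node (.leaf 1104630841635) (.leaf 4539888394314515))) (.node (.node (.leaf 68991123986) (.leaf 299208916664848)) (.node (.leaf 17661727678769) (.leaf 72638214311051569)))) (.node (.node (.node (.leaf 4329574931) (.leaf 282717044486433)) (.node (.leaf 1177643266306) (.leaf 4838955557073185))) (.node (.node (.leaf 73836671235) (.leaf 335355929825329)) (.node (.leaf 17803196301617) (.leaf 19604753096197149459))))))))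

def twoWord31 : Janko.Tree (ℕ) :=
  (.node (.node (.node (.node (.node (.node (.node (.leaf 4882) (.leaf 18696814797059)) (.node (.leaf 77580144659) (.leaf 4521269442650371))) (.node (.node (.leaf 4346352146) (.leaf 282784960676626)) (.node (.leaf 1181386740243) (.leaf 5084352239173937)))) (.node (.node (.node (.leaf 269619987) (.leaf 19873085333763)) (.node (.leaf 1108373209616) (.leaf 4540093983559715))) (.node (.node (.leaf 69024678419) (.leaf 299217756230418)) (.node (.leaf 17669766189091) (.leaf 72674429473272097))))) (.node (.node (.node (.node (.leaf 16855297) (.leaf 18834255839521)) (.node (.leaf 1103841341729) (.leaf 4523460113015041))) (.node (.node (.leaf 4848816656) (.leaf 283885007089955)) (.node (.leaf 1309999829027) (.leaf 72342436572042002)))) (.node (.node (.node (.leaf 303239186) (.leaf 282583398097153)) (.node (.leaf 1168787050514) (.leaf 4787355501343011))) (.node (.node (.leaf 73049051923) (.leaf 302435005375250)) (.node (.leaf 17734508220977)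 (.leaf 1157446063977665296)))))) (.node (.node (.node (.node (.node (.leaf 1061155) (.leaf 18704885617426)) (.node (.leaf 81874977073) (.leaf 4521334369620496))) (.node (.node (.leaf 4598010643) (.leaf 283743276310787)) (.node (.leaf 1242067706147) (.leaf 72340319120732419)))) (.node (.node (.node (.leaf 285348626) (.leaf 20968300023826)) (.node (.leaf 1112667262994) (.leaf 4786315901018417))) (.node (.node (.leaf 69307736850) (.leaf 301335727644929)) (.node (.leaf 17674061033763) (.leaf 77141813434126355))))) (.node (.node (.node (.node (.leaf 18027024) (.leaf 18902707929379)) (.node (.leaf 1104394850865) (.leaf 4524559372984579))) (.node (.node (.leaf 68989104385) (.leaf 299144792117267)) (.node (.leaf 17661459247361) (.leaf 72377621229347603)))) (.node (.node (.node (.leaf 4313907761) (.leaf 282716257063440)) (.node (.leaf 1177092686355) (.leaf 4821509081273107))) (.node (.node (.leaf 73571303955) (.leaf 317969350591250)) (.node (.leaf 17802658517523) (.leaf 1162264196660932897)))))))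 (.node (.node (.node (.node (.node (.node (.leaf 74512) (.leaf 18700607431440)) (.node (.leaf 77629362225) (.leaf 4521273720844546))) (.node (.node (.leaf 4564652593) (.leaf 282785495584786)) (.node (.leaf 1241265537555) (.leaf 5365827750667027)))) (.node (.node (.node (.leaf 270733345) (.leaf 20959743447826)) (.node (.leaf 1108923781904) (.leaf 4557480545825026))) (.node (.node (.leaf 69273260818) (.leaf 299278170001969)) (.node (.leaf 17670317613843) (.leaf 76581066782028067))))) (.node (.node (.node (.node (.leaf 17830674) (.leaf 18902170022147)) (.node (.leaf 1104360321282) (.leaf 4523472744092179))) (.node (.node (.leaf 5117125392) (.leaf 284851090625299)) (.node (.leaf 17661208572161) (.leaf 72375362310447890)))) (.node (.node (.node (.leaf 319959297) (.leaf 282587676283411)) (.node (.leaf 1169055351568) (.leaf 4788451270537505))) (.node (.node (.leaf 73065967873) (.leaf 317767770182163)) (.node (.leaf 17742779527457) (.leaf 1158005728248660273)))))) (.node (.node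 (.node (.node (.node (.leaf 1184531) (.leaf 18833468358947)) (.node (.leaf 1103825535763) (.leaf 4521402820534577))) (.node (.node (.leaf 4614787858) (.leaf 283755875078193)) (.node (.leaf 1250106093857) (.leaf 72341337077321747)))) (.node (.node (.node (.leaf 287510577) (.leaf 282579371692051)) (.node (.leaf 1168534343698) (.leaf 4786324742615298))) (.node (.node (.leaf 69543735553) (.leaf 301476658360611)) (.node (.leaf 17733939040291) (.leaf 81347510337155331))))) (.node (.node (.node (.node (.leaf 19989041) (.leaf 19860517036337)) (.node (.leaf 1104630841649) (.leaf 4539888394440723))) (.node (.node (.leaf 68991123987) (.leaf 299208916664850)) (.node (.leaf 17661727739923) (.leaf 72638218051391507)))) (.node (.node (.node (.leaf 4329574961) (.leaf 282717044486435)) (.node (.leaf 1177643266307) (.leaf 4838955557195825))) (.node (.node (.leaf 73836671265) (.leaf 335356165697793)) (.node (.leaf 17803227697683) (.leaf 296305914201840423699))))))))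

def twoWord : Janko.Tree (ℕ) := (.node (.node (.node (.node (.node twoWord0 twoWord16) (.node twoWord8 twoWord24)) (.node (.node twoWord4 twoWord20) (.node twoWord12 twoWord28))) (.node (.node (.node twoWord2 twoWord18) (.node twoWord10 twoWord26)) (.node (.node twoWord6 twoWord22) (.node twoWord14 twoWord30)))) (.node (.node (.node (.node twoWord1 twoWord17) (.node twoWord9 twoWord25)) (.node (.node twoWord5 twoWord21) (.node twoWord13 twoWord29))) (.node (.node (.node twoWord3 twoWord19) (.node twoWord11 twoWord27)) (.node (.node twoWord7 twoWord23) (.node twoWord15 twoWord31)))))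

def twoPar0 : Janko.Tree (ℕ) :=
  (.node (.node (.node (.node (.node (.node (.node (.leaf 0) (.leaf 22337)) (.node (.leaf 10323) (.leaf 38098))) (.node (.node (.leaf 4848) (.leaf 29584)) (.node (.leaf 16017) (.leaf 47521)))) (.node (.node (.node (.leaf 2194) (.leaf 25792)) (.node (.leaf 13104) (.leaf 42273))) (.node (.node (.leaf 7553) (.leaf 33491)) (.node (.leaf 19249) (.leaf 53265))))) (.node (.node (.node (.node (.leaf 1009) (.leaf 23939)) (.node (.leaf 11696) (.leaf 39938))) (.node (.node (.leaf 6225) (.leaf 31488)) (.node (.leaf 17507) (.leaf 50321)))) (.node (.node (.node (.leaf 3456) (.leaf 27953)) (.node (.leaf 14483) (.leaf 44739))) (.node (.node (.leaf 8946) (.leaf 35443)) (.node (.leaf 20672) (.leaf 57665)))))) (.node (.node (.node (.node (.node (.leaf 466) (.leaf 23170)) (.node (.leaf 11025) (.leaf 39091))) (.node (.node (.leaf 5553) (.leaf 30481)) (.node (.leaf 16737) (.leaf 49329)))) (.node (.node (.node (.leaf 2787) (.leaf 26835)) (.node (.leaf 13778)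 (.leaf 43601))) (.node (.node (.leaf 8243) (.leaf 34371)) (.node (.leaf 19969) (.leaf 55105))))) (.node (.node (.node (.node (.leaf 1571) (.leaf 24769)) (.node (.leaf 12401) (.leaf 41009))) (.node (.node (.leaf 6930) (.leaf 32562)) (.node (.leaf 18386) (.leaf 51731)))) (.node (.node (.node (.leaf 4177) (.leaf 28721)) (.node (.leaf 15314) (.leaf 46129))) (.node (.node (.leaf 9649) (.leaf 36737)) (.node (.leaf 21443) (.leaf 60322))))))) (.node (.node (.node (.node (.node (.node (.leaf 211) (.leaf 22785)) (.node (.leaf 10641) (.leaf 38691))) (.node (.node (.leaf 5187) (.leaf 29939)) (.node (.leaf 16401) (.leaf 48336)))) (.node (.node (.node (.leaf 2497) (.leaf 26321)) (.node (.leaf 13426) (.leaf 42897))) (.node (.node (.leaf 7905) (.leaf 33891)) (.node (.leaf 19584) (.leaf 54147))))) (.node (.node (.node (.node (.leaf 1282) (.leaf 24387)) (.node (.leaf 12034) (.leaf 40467))) (.node (.node (.leaf 6547) (.leaf 32033)) (.node (.leaf 17953) (.leaf 51075)))) (.node (.node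 (.node (.leaf 3795) (.leaf 28339)) (.node (.leaf 14913) (.leaf 45331))) (.node (.node (.leaf 9233) (.leaf 36083)) (.node (.leaf 21106) (.leaf 59074)))))) (.node (.node (.node (.node (.node (.leaf 737) (.leaf 23523)) (.node (.leaf 11361) (.leaf 39507))) (.node (.node (.leaf 5857) (.leaf 30963)) (.node (.leaf 17185) (.leaf 49809)))) (.node (.node (.node (.leaf 3139) (.leaf 27441)) (.node (.leaf 14115) (.leaf 44274))) (.node (.node (.leaf 8611) (.leaf 34867)) (.node (.leaf 20322) (.leaf 56387))))) (.node (.node (.node (.node (.leaf 1875) (.leaf 25297)) (.node (.leaf 12770) (.leaf 41633))) (.node (.node (.leaf 7234) (.leaf 33089)) (.node (.leaf 18802) (.leaf 52449)))) (.node (.node (.node (.leaf 4528) (.leaf 29091)) (.node (.leaf 15649) (.leaf 46705))) (.node (.node (.leaf 9969) (.leaf 37331)) (.node (.leaf 21873) (.leaf 61907))))))))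

def twoPar1 : Janko.Tree (ℕ) :=
  (.node (.node (.node (.node (.node (.node (.node (.leaf 0) (.leaf 22354)) (.node (.leaf 10352) (.leaf 38146))) (.node (.node (.leaf 4850) (.leaf 29587)) (.node (.leaf 16019) (.leaf 47554)))) (.node (.node (.node (.leaf 2209) (.leaf 25794)) (.node (.leaf 13106) (.leaf 42275))) (.node (.node (.leaf 7555) (.leaf 33505)) (.node (.leaf 19264) (.leaf 53281))))) (.node (.node (.node (.node (.leaf 1010) (.leaf 23953)) (.node (.leaf 11698) (.leaf 39939))) (.node (.node (.leaf 6227) (.leaf 31491)) (.node (.leaf 17539) (.leaf 50323)))) (.node (.node (.node (.leaf 3459) (.leaf 27969)) (.node (.leaf 14497) (.leaf 44769))) (.node (.node (.leaf 8947) (.leaf 35473)) (.node (.leaf 20675) (.leaf 57715)))))) (.node (.node (.node (.node (.node (.leaf 467) (.leaf 23171)) (.node (.leaf 11040) (.leaf 39122))) (.node (.node (.leaf 5568) (.leaf 30497)) (.node (.leaf 16739) (.leaf 49393)))) (.node (.node (.node (.leaf 2801) (.leaf 26849)) (.node (.leaf 13779)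 (.leaf 43634))) (.node (.node (.leaf 8257) (.leaf 34385)) (.node (.leaf 19984) (.leaf 55123))))) (.node (.node (.node (.node (.leaf 1585) (.leaf 24771)) (.node (.leaf 12403) (.leaf 41027))) (.node (.node (.leaf 6931) (.leaf 32577)) (.node (.leaf 18401) (.leaf 51747)))) (.node (.node (.node (.leaf 4179) (.leaf 28736)) (.node (.leaf 15315) (.leaf 46163))) (.node (.node (.leaf 9664) (.leaf 36768)) (.node (.leaf 21472) (.leaf 60323))))))) (.node (.node (.node (.node (.node (.node (.leaf 225) (.leaf 22803)) (.node (.leaf 10643) (.leaf 38720))) (.node (.node (.leaf 5201) (.leaf 29969)) (.node (.leaf 16403) (.leaf 48338)))) (.node (.node (.node (.leaf 2498) (.leaf 26339)) (.node (.leaf 13427) (.leaf 42912))) (.node (.node (.leaf 7922) (.leaf 33905)) (.node (.leaf 19587) (.leaf 54192))))) (.node (.node (.node (.node (.leaf 1283) (.leaf 24401)) (.node (.leaf 12035) (.leaf 40481))) (.node (.node (.leaf 6561) (.leaf 32048)) (.node (.leaf 17968) (.leaf 51089)))) (.node (.node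 (.node (.leaf 3809) (.leaf 28355)) (.node (.leaf 14928) (.leaf 45379))) (.node (.node (.leaf 9234) (.leaf 36097)) (.node (.leaf 21121) (.leaf 59075)))))) (.node (.node (.node (.node (.node (.leaf 739) (.leaf 23537)) (.node (.leaf 11362) (.leaf 39521))) (.node (.node (.leaf 5872) (.leaf 30977)) (.node (.leaf 17200) (.leaf 49811)))) (.node (.node (.node (.leaf 3153) (.leaf 27505)) (.node (.leaf 14131) (.leaf 44275))) (.node (.node (.leaf 8625) (.leaf 34897)) (.node (.leaf 20323) (.leaf 56402))))) (.node (.node (.node (.node (.leaf 1889) (.leaf 25315)) (.node (.leaf 12785) (.leaf 41648))) (.node (.node (.leaf 7235) (.leaf 33136)) (.node (.leaf 18817) (.leaf 52465)))) (.node (.node (.node (.leaf 4530) (.leaf 29121)) (.node (.leaf 15665) (.leaf 46739))) (.node (.node (.leaf 9986) (.leaf 37361)) (.node (.leaf 21875) (.leaf 61921))))))))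

def twoPar2 : Janko.Tree (ℕ) :=
  (.node (.node (.node (.node (.node (.node (.node (.leaf 1) (.leaf 22369)) (.node (.leaf 10355) (.leaf 38147))) (.node (.node (.leaf 4851) (.leaf 29601)) (.node (.leaf 16048) (.leaf 47555)))) (.node (.node (.node (.leaf 2211) (.leaf 25795)) (.node (.leaf 13107) (.leaf 42323))) (.node (.node (.leaf 7569) (.leaf 33520)) (.node (.leaf 19281) (.leaf 53362))))) (.node (.node (.node (.node (.leaf 1011) (.leaf 23969)) (.node (.leaf 11699) (.leaf 39953))) (.node (.node (.leaf 6243) (.leaf 31523)) (.node (.leaf 17553) (.leaf 50353)))) (.node (.node (.node (.leaf 3489) (.leaf 27971)) (.node (.leaf 14499) (.leaf 44784))) (.node (.node (.leaf 8961) (.leaf 35491)) (.node (.leaf 20705) (.leaf 57747)))))) (.node (.node (.node (.node (.node (.leaf 481) (.leaf 23185)) (.node (.leaf 11042) (.leaf 39123))) (.node (.node (.leaf 5570) (.leaf 30499)) (.node (.leaf 16753) (.leaf 49408)))) (.node (.node (.node (.leaf 2816) (.leaf 26850)) (.node (.leaf 13794)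 (.leaf 43651))) (.node (.node (.leaf 8258) (.leaf 34402)) (.node (.leaf 19986) (.leaf 55170))))) (.node (.node (.node (.node (.leaf 1587) (.leaf 24819)) (.node (.leaf 12432) (.leaf 41042))) (.node (.node (.leaf 6945) (.leaf 32610)) (.node (.leaf 18433) (.leaf 51762)))) (.node (.node (.node (.leaf 4195) (.leaf 28738)) (.node (.leaf 15329) (.leaf 46177))) (.node (.node (.leaf 9666) (.leaf 36770)) (.node (.leaf 21475) (.leaf 60338))))))) (.node (.node (.node (.node (.node (.node (.leaf 226) (.leaf 22817)) (.node (.leaf 10672) (.leaf 38722))) (.node (.node (.leaf 5218) (.leaf 29971)) (.node (.leaf 16417) (.leaf 48339)))) (.node (.node (.node (.leaf 2499) (.leaf 26353)) (.node (.leaf 13441) (.leaf 42915))) (.node (.node (.leaf 7937) (.leaf 33907)) (.node (.leaf 19617) (.leaf 54195))))) (.node (.node (.node (.node (.leaf 1297) (.leaf 24416)) (.node (.leaf 12049) (.leaf 40497))) (.node (.node (.leaf 6578) (.leaf 32050)) (.node (.leaf 17971) (.leaf 51155)))) (.node (.node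 (.node (.leaf 3811) (.leaf 28384)) (.node (.leaf 14945) (.leaf 45393))) (.node (.node (.leaf 9249) (.leaf 36113)) (.node (.leaf 21139) (.leaf 59089)))))) (.node (.node (.node (.node (.node (.leaf 753) (.leaf 23538)) (.node (.leaf 11363) (.leaf 39523))) (.node (.node (.leaf 5874) (.leaf 30993)) (.node (.leaf 17202) (.leaf 49843)))) (.node (.node (.node (.leaf 3154) (.leaf 27522)) (.node (.leaf 14145) (.leaf 44291))) (.node (.node (.leaf 8643) (.leaf 34915)) (.node (.leaf 20339) (.leaf 56467))))) (.node (.node (.node (.node (.leaf 1905) (.leaf 25329)) (.node (.leaf 12800) (.leaf 41681))) (.node (.node (.leaf 7249) (.leaf 33138)) (.node (.leaf 18850) (.leaf 52497)))) (.node (.node (.node (.leaf 4531) (.leaf 29123)) (.node (.leaf 15697) (.leaf 46753))) (.node (.node (.leaf 10001) (.leaf 37393)) (.node (.leaf 21889) (.leaf 62145))))))))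

def twoPar3 : Janko.Tree (ℕ) :=
  (.node (.node (.node (.node (.node (.node (.node (.leaf 2) (.leaf 22370)) (.node (.leaf 10369) (.leaf 38161))) (.node (.node (.leaf 4865) (.leaf 29603)) (.node (.leaf 16051) (.leaf 47569)))) (.node (.node (.node (.leaf 2225) (.leaf 25811)) (.node (.leaf 13121) (.leaf 42337))) (.node (.node (.leaf 7584) (.leaf 33522)) (.node (.leaf 19283) (.leaf 53363))))) (.node (.node (.node (.node (.leaf 1025) (.leaf 24000)) (.node (.leaf 11713) (.leaf 39954))) (.node (.node (.leaf 6257) (.leaf 31537)) (.node (.leaf 17568) (.leaf 50401)))) (.node (.node (.node (.leaf 3491) (.leaf 28001)) (.node (.leaf 14513) (.leaf 44786))) (.node (.node (.leaf 8976) (.leaf 35505)) (.node (.leaf 20720) (.leaf 58051)))))) (.node (.node (.node (.node (.node (.leaf 482) (.leaf 23202)) (.node (.leaf 11043) (.leaf 39137))) (.node (.node (.leaf 5571) (.leaf 30513)) (.node (.leaf 16786) (.leaf 49410)))) (.node (.node (.node (.leaf 2819) (.leaf 26915)) (.node (.leaf 13795)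 (.leaf 43680))) (.node (.node (.leaf 8259) (.leaf 34418)) (.node (.leaf 19987) (.leaf 55251))))) (.node (.node (.node (.node (.leaf 1603) (.leaf 24833)) (.node (.leaf 12434) (.leaf 41057))) (.node (.node (.leaf 6963) (.leaf 32657)) (.node (.leaf 18434) (.leaf 51779)))) (.node (.node (.node (.leaf 4209) (.leaf 28739)) (.node (.leaf 15347) (.leaf 46193))) (.node (.node (.leaf 9667) (.leaf 36771)) (.node (.leaf 21490) (.leaf 60355))))))) (.node (.node (.node (.node (.node (.node (.leaf 227) (.leaf 22832)) (.node (.leaf 10675) (.leaf 38723))) (.node (.node (.leaf 5233) (.leaf 29985)) (.node (.leaf 16435) (.leaf 48353)))) (.node (.node (.node (.leaf 2513) (.leaf 26371)) (.node (.leaf 13443) (.leaf 42947))) (.node (.node (.leaf 7939) (.leaf 33939)) (.node (.leaf 19632) (.leaf 54257))))) (.node (.node (.node (.node (.leaf 1299) (.leaf 24418)) (.node (.leaf 12051) (.leaf 40512))) (.node (.node (.leaf 6579) (.leaf 32051)) (.node (.leaf 18003) (.leaf 51169)))) (.node (.node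 (.node (.leaf 3825) (.leaf 28386)) (.node (.leaf 14947) (.leaf 45408))) (.node (.node (.leaf 9281) (.leaf 36131)) (.node (.leaf 21153) (.leaf 59169)))))) (.node (.node (.node (.node (.node (.leaf 768) (.leaf 23555)) (.node (.leaf 11377) (.leaf 39552))) (.node (.node (.leaf 5875) (.leaf 31008)) (.node (.leaf 17203) (.leaf 49857)))) (.node (.node (.node (.leaf 3155) (.leaf 27537)) (.node (.leaf 14160) (.leaf 44305))) (.node (.node (.leaf 8657) (.leaf 34929)) (.node (.leaf 20353) (.leaf 56481))))) (.node (.node (.node (.node (.leaf 1907) (.leaf 25346)) (.node (.leaf 12802) (.leaf 41729))) (.node (.node (.leaf 7251) (.leaf 33139)) (.node (.leaf 18865) (.leaf 52545)))) (.node (.node (.node (.leaf 4544) (.leaf 29155)) (.node (.leaf 15699) (.leaf 46770))) (.node (.node (.leaf 10003) (.leaf 37410)) (.node (.leaf 21922) (.leaf 62209))))))))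

def twoPar4 : Janko.Tree (ℕ) :=
  (.node (.node (.node (.node (.node (.node (.node (.leaf 3) (.leaf 22385)) (.node (.leaf 10371) (.leaf 38178))) (.node (.node (.leaf 4880) (.leaf 29617)) (.node (.leaf 16065) (.leaf 47587)))) (.node (.node (.node (.leaf 2240) (.leaf 25841)) (.node (.leaf 13138) (.leaf 42353))) (.node (.node (.leaf 7603) (.leaf 33523)) (.node (.leaf 19297) (.leaf 53378))))) (.node (.node (.node (.node (.leaf 1027) (.leaf 24002)) (.node (.leaf 11714) (.leaf 39971))) (.node (.node (.leaf 6272) (.leaf 31555)) (.node (.leaf 17571) (.leaf 50403)))) (.node (.node (.node (.leaf 3505) (.leaf 28019)) (.node (.leaf 14528) (.leaf 44787))) (.node (.node (.leaf 8978) (.leaf 35520)) (.node (.leaf 20722) (.leaf 58065)))))) (.node (.node (.node (.node (.node (.leaf 483) (.leaf 23203)) (.node (.leaf 11057) (.leaf 39153))) (.node (.node (.leaf 5584) (.leaf 30531)) (.node (.leaf 16787) (.leaf 49411)))) (.node (.node (.node (.leaf 2849) (.leaf 26929)) (.node (.leaf 13809)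 (.leaf 43697))) (.node (.node (.leaf 8273) (.leaf 34419)) (.node (.leaf 20002) (.leaf 55312))))) (.node (.node (.node (.node (.leaf 1617) (.leaf 24848)) (.node (.leaf 12435) (.leaf 41059))) (.node (.node (.leaf 6977) (.leaf 32721)) (.node (.leaf 18449) (.leaf 51811)))) (.node (.node (.node (.leaf 4224) (.leaf 28753)) (.node (.leaf 15360) (.leaf 46241))) (.node (.node (.leaf 9681) (.leaf 36787)) (.node (.leaf 21491) (.leaf 60387))))))) (.node (.node (.node (.node (.node (.node (.leaf 241) (.leaf 22849)) (.node (.leaf 10705) (.leaf 38737))) (.node (.node (.leaf 5235) (.leaf 29987)) (.node (.leaf 16449) (.leaf 48417)))) (.node (.node (.node (.leaf 2515) (.leaf 26386)) (.node (.leaf 13457) (.leaf 42961))) (.node (.node (.leaf 7968) (.leaf 33955)) (.node (.leaf 19634) (.leaf 54289))))) (.node (.node (.node (.node (.leaf 1330) (.leaf 24419)) (.node (.leaf 12065) (.leaf 40514))) (.node (.node (.leaf 6593) (.leaf 32065)) (.node (.leaf 18017) (.leaf 51186)))) (.node (.node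 (.node (.leaf 3840) (.leaf 28387)) (.node (.leaf 14961) (.leaf 45411))) (.node (.node (.leaf 9282) (.leaf 36145)) (.node (.leaf 21155) (.leaf 59186)))))) (.node (.node (.node (.node (.node (.leaf 770) (.leaf 23586)) (.node (.leaf 11379) (.leaf 39554))) (.node (.node (.leaf 5889) (.leaf 31010)) (.node (.leaf 17217) (.leaf 49872)))) (.node (.node (.node (.leaf 3169) (.leaf 27569)) (.node (.leaf 14163) (.leaf 44323))) (.node (.node (.leaf 8673) (.leaf 34944)) (.node (.leaf 20368) (.leaf 56497))))) (.node (.node (.node (.node (.leaf 1921) (.leaf 25362)) (.node (.leaf 12803) (.leaf 41746))) (.node (.node (.leaf 7282) (.leaf 33154)) (.node (.leaf 18880) (.leaf 52577)))) (.node (.node (.node (.leaf 4546) (.leaf 29169)) (.node (.leaf 15713) (.leaf 46835))) (.node (.node (.leaf 10035) (.leaf 37411)) (.node (.leaf 21923) (.leaf 62354))))))))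

def twoPar5 : Janko.Tree (ℕ) :=
  (.node (.node (.node (.node (.node (.node (.node (.leaf 17) (.leaf 22418)) (.node (.leaf 10385) (.leaf 38179))) (.node (.node (.leaf 4882) (.leaf 29632)) (.node (.leaf 16080) (.leaf 47601)))) (.node (.node (.node (.leaf 2256) (.leaf 25843)) (.node (.leaf 13139) (.leaf 42369))) (.node (.node (.leaf 7617) (.leaf 33537)) (.node (.leaf 19312) (.leaf 53379))))) (.node (.node (.node (.node (.leaf 1058) (.leaf 24003)) (.node (.leaf 11715) (.leaf 40002))) (.node (.node (.leaf 6274) (.leaf 31569)) (.node (.leaf 17603) (.leaf 50433)))) (.node (.node (.node (.leaf 3520) (.leaf 28033)) (.node (.leaf 14531) (.leaf 44801))) (.node (.node (.leaf 8979) (.leaf 35523)) (.node (.leaf 20723) (.leaf 58147)))))) (.node (.node (.node (.node (.node (.leaf 497) (.leaf 23217)) (.node (.leaf 11072) (.leaf 39168))) (.node (.node (.leaf 5586) (.leaf 30545)) (.node (.leaf 16801) (.leaf 49425)))) (.node (.node (.node (.leaf 2851) (.leaf 26944)) (.node (.leaf 13811)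 (.leaf 43713))) (.node (.node (.leaf 8275) (.leaf 34433)) (.node (.leaf 20003) (.leaf 55314))))) (.node (.node (.node (.node (.leaf 1632) (.leaf 24851)) (.node (.leaf 12449) (.leaf 41089))) (.node (.node (.leaf 6993) (.leaf 32738)) (.node (.leaf 18482) (.leaf 51825)))) (.node (.node (.node (.leaf 4226) (.leaf 28754)) (.node (.leaf 15362) (.leaf 46256))) (.node (.node (.leaf 9682) (.leaf 36817)) (.node (.leaf 21505) (.leaf 60403))))))) (.node (.node (.node (.node (.node (.node (.leaf 243) (.leaf 22851)) (.node (.leaf 10720) (.leaf 38754))) (.node (.node (.leaf 5251) (.leaf 30035)) (.node (.leaf 16464) (.leaf 48465)))) (.node (.node (.node (.leaf 2546) (.leaf 26401)) (.node (.leaf 13489) (.leaf 42977))) (.node (.node (.leaf 7970) (.leaf 33969)) (.node (.leaf 19635) (.leaf 54352))))) (.node (.node (.node (.node (.leaf 1331) (.leaf 24434)) (.node (.leaf 12080) (.leaf 40515))) (.node (.node (.leaf 6609) (.leaf 32066)) (.node (.leaf 18033) (.leaf 51187)))) (.node (.node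 (.node (.leaf 3843) (.leaf 28401)) (.node (.leaf 14976) (.leaf 45475))) (.node (.node (.leaf 9297) (.leaf 36177)) (.node (.leaf 21171) (.leaf 59201)))))) (.node (.node (.node (.node (.node (.leaf 771) (.leaf 23587)) (.node (.leaf 11410) (.leaf 39555))) (.node (.node (.leaf 5890) (.leaf 31011)) (.node (.leaf 17235) (.leaf 49875)))) (.node (.node (.node (.leaf 3171) (.leaf 27585)) (.node (.leaf 14193) (.leaf 44337))) (.node (.node (.leaf 8675) (.leaf 34961)) (.node (.leaf 20371) (.leaf 56562))))) (.node (.node (.node (.node (.leaf 1939) (.leaf 25363)) (.node (.leaf 12817) (.leaf 41760))) (.node (.node (.leaf 7297) (.leaf 33155)) (.node (.leaf 18898) (.leaf 52578)))) (.node (.node (.node (.leaf 4547) (.leaf 29185)) (.node (.leaf 15731) (.leaf 46865))) (.node (.node (.leaf 10049) (.leaf 37473)) (.node (.leaf 21939) (.leaf 62401))))))))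

def twoPar6 : Janko.Tree (ℕ) :=
  (.node (.node (.node (.node (.node (.node (.node (.leaf 18) (.leaf 22433)) (.node (.leaf 10400) (.leaf 38193))) (.node (.node (.leaf 4883) (.leaf 29634)) (.node (.leaf 16082) (.leaf 47603)))) (.node (.node (.node (.leaf 2258) (.leaf 25873)) (.node (.leaf 13152) (.leaf 42403))) (.node (.node (.leaf 7632) (.leaf 33569)) (.node (.leaf 19314) (.leaf 53395))))) (.node (.node (.node (.node (.leaf 1059) (.leaf 24017)) (.node (.leaf 11729) (.leaf 40033))) (.node (.node (.leaf 6275) (.leaf 31587)) (.node (.leaf 17617) (.leaf 50465)))) (.node (.node (.node (.leaf 3522) (.leaf 28048)) (.node (.leaf 14561) (.leaf 44834))) (.node (.node (.leaf 8992) (.leaf 35553)) (.node (.leaf 20737) (.leaf 58161)))))) (.node (.node (.node (.node (.node (.leaf 499) (.leaf 23233)) (.node (.leaf 11074) (.leaf 39170))) (.node (.node (.leaf 5587) (.leaf 30562)) (.node (.leaf 16803) (.leaf 49440)))) (.node (.node (.node (.leaf 2865) (.leaf 26947)) (.node (.leaf 13840)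 (.leaf 43745))) (.node (.node (.leaf 8306) (.leaf 34435)) (.node (.leaf 20017) (.leaf 55315))))) (.node (.node (.node (.node (.leaf 1634) (.leaf 24881)) (.node (.leaf 12450) (.leaf 41091))) (.node (.node (.leaf 7008) (.leaf 32753)) (.node (.leaf 18483) (.leaf 51840)))) (.node (.node (.node (.leaf 4227) (.leaf 28771)) (.node (.leaf 15363) (.leaf 46258))) (.node (.node (.leaf 9697) (.leaf 36834)) (.node (.leaf 21507) (.leaf 60481))))))) (.node (.node (.node (.node (.node (.node (.leaf 257) (.leaf 22865)) (.node (.leaf 10722) (.leaf 38755))) (.node (.node (.leaf 5265) (.leaf 30049)) (.node (.leaf 16466) (.leaf 48497)))) (.node (.node (.node (.leaf 2547) (.leaf 26403)) (.node (.leaf 13491) (.leaf 42994))) (.node (.node (.leaf 7971) (.leaf 33971)) (.node (.leaf 19649) (.leaf 54401))))) (.node (.node (.node (.node (.leaf 1345) (.leaf 24435)) (.node (.leaf 12083) (.leaf 40545))) (.node (.node (.leaf 6624) (.leaf 32131)) (.node (.leaf 18050) (.leaf 51234)))) (.node (.node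 (.node (.leaf 3873) (.leaf 28418)) (.node (.leaf 14978) (.leaf 45489))) (.node (.node (.leaf 9330) (.leaf 36194)) (.node (.leaf 21185) (.leaf 59249)))))) (.node (.node (.node (.node (.node (.leaf 785) (.leaf 23601)) (.node (.leaf 11411) (.leaf 39570))) (.node (.node (.leaf 5905) (.leaf 31027)) (.node (.leaf 17265) (.leaf 49921)))) (.node (.node (.node (.leaf 3202) (.leaf 27586)) (.node (.leaf 14195) (.leaf 44355))) (.node (.node (.leaf 8691) (.leaf 34993)) (.node (.leaf 20401) (.leaf 56563))))) (.node (.node (.node (.node (.leaf 1953) (.leaf 25377)) (.node (.leaf 12835) (.leaf 41762))) (.node (.node (.leaf 7312) (.leaf 33169)) (.node (.leaf 18913) (.leaf 52641)))) (.node (.node (.node (.leaf 4561) (.leaf 29216)) (.node (.leaf 15761) (.leaf 46881))) (.node (.node (.leaf 10066) (.leaf 37491)) (.node (.leaf 21953) (.leaf 62419))))))))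

def twoPar7 : Janko.Tree (ℕ) :=
  (.node (.node (.node (.node (.node (.node (.node (.leaf 19) (.leaf 22448)) (.node (.leaf 10402) (.leaf 38195))) (.node (.node (.leaf 4897) (.leaf 29635)) (.node (.leaf 16083) (.leaf 47648)))) (.node (.node (.node (.leaf 2259) (.leaf 25891)) (.node (.leaf 13154) (.leaf 42417))) (.node (.node (.leaf 7634) (.leaf 33586)) (.node (.leaf 19315) (.leaf 53443))))) (.node (.node (.node (.node (.leaf 1073) (.leaf 24019)) (.node (.leaf 11731) (.leaf 40051))) (.node (.node (.leaf 6289) (.leaf 31602)) (.node (.leaf 17632) (.leaf 50483)))) (.node (.node (.node (.leaf 3523) (.leaf 28065)) (.node (.leaf 14563) (.leaf 44835))) (.node (.node (.leaf 8994) (.leaf 35570)) (.node (.leaf 20739) (.leaf 58384)))))) (.node (.node (.node (.node (.node (.leaf 530) (.leaf 23250)) (.node (.leaf 11075) (.leaf 39171))) (.node (.node (.leaf 5601) (.leaf 30578)) (.node (.leaf 16832) (.leaf 49442)))) (.node (.node (.node (.leaf 2880) (.leaf 26977)) (.node (.leaf 13843)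 (.leaf 43778))) (.node (.node (.leaf 8321) (.leaf 34464)) (.node (.leaf 20019) (.leaf 55329))))) (.node (.node (.node (.node (.leaf 1635) (.leaf 24883)) (.node (.leaf 12451) (.leaf 41123))) (.node (.node (.leaf 7010) (.leaf 32785)) (.node (.leaf 18497) (.leaf 51857)))) (.node (.node (.node (.leaf 4241) (.leaf 28802)) (.node (.leaf 15377) (.leaf 46259))) (.node (.node (.leaf 9699) (.leaf 36835)) (.node (.leaf 21539) (.leaf 60561))))))) (.node (.node (.node (.node (.node (.node (.leaf 272) (.leaf 22880)) (.node (.leaf 10723) (.leaf 38769))) (.node (.node (.leaf 5280) (.leaf 30064)) (.node (.leaf 16467) (.leaf 48530)))) (.node (.node (.node (.leaf 2561) (.leaf 26434)) (.node (.leaf 13505) (.leaf 43011))) (.node (.node (.leaf 7985) (.leaf 34003)) (.node (.leaf 19665) (.leaf 54403))))) (.node (.node (.node (.node (.leaf 1347) (.leaf 24449)) (.node (.leaf 12113) (.leaf 40547))) (.node (.node (.leaf 6641) (.leaf 32145)) (.node (.leaf 18067) (.leaf 51265)))) (.node (.node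 (.node (.leaf 3875) (.leaf 28419)) (.node (.leaf 14979) (.leaf 45506))) (.node (.node (.leaf 9331) (.leaf 36195)) (.node (.leaf 21200) (.leaf 59266)))))) (.node (.node (.node (.node (.node (.leaf 800) (.leaf 23617)) (.node (.leaf 11427) (.leaf 39571))) (.node (.node (.leaf 5907) (.leaf 31057)) (.node (.leaf 17283) (.leaf 49936)))) (.node (.node (.node (.leaf 3217) (.leaf 27601)) (.node (.leaf 14209) (.leaf 44403))) (.node (.node (.leaf 8705) (.leaf 35010)) (.node (.leaf 20403) (.leaf 56578))))) (.node (.node (.node (.node (.leaf 1968) (.leaf 25379)) (.node (.leaf 12849) (.leaf 41763))) (.node (.node (.leaf 7315) (.leaf 33171)) (.node (.leaf 18928) (.leaf 52658)))) (.node (.node (.node (.leaf 4562) (.leaf 29218)) (.node (.leaf 15776) (.leaf 46898))) (.node (.node (.leaf 10081) (.leaf 37505)) (.node (.leaf 21968) (.leaf 62529))))))))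

def twoPar8 : Janko.Tree (ℕ) :=
  (.node (.node (.node (.node (.node (.node (.node (.leaf 32) (.leaf 22466)) (.node (.leaf 10403) (.leaf 38240))) (.node (.node (.leaf 4898) (.leaf 29650)) (.node (.leaf 16099) (.leaf 47651)))) (.node (.node (.node (.leaf 2273) (.leaf 25905)) (.node (.leaf 13155) (.leaf 42448))) (.node (.node (.leaf 7635) (.leaf 33587)) (.node (.leaf 19329) (.leaf 53459))))) (.node (.node (.node (.node (.leaf 1075) (.leaf 24049)) (.node (.leaf 11762) (.leaf 40065))) (.node (.node (.leaf 6306) (.leaf 31617)) (.node (.leaf 17634) (.leaf 50513)))) (.node (.node (.node (.leaf 3537) (.leaf 28067)) (.node (.leaf 14577) (.leaf 44865))) (.node (.node (.leaf 8995) (.leaf 35587)) (.node (.leaf 20753) (.leaf 58386)))))) (.node (.node (.node (.node (.node (.leaf 531) (.leaf 23251)) (.node (.leaf 11090) (.leaf 39185))) (.node (.node (.leaf 5602) (.leaf 30579)) (.node (.leaf 16835) (.leaf 49443)))) (.node (.node (.node (.leaf 2882) (.leaf 26994)) (.node (.leaf 13857)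 (.leaf 43826))) (.node (.node (.leaf 8336) (.leaf 34467)) (.node (.leaf 20048) (.leaf 55409))))) (.node (.node (.node (.node (.leaf 1649) (.leaf 24897)) (.node (.leaf 12465) (.leaf 41153))) (.node (.node (.leaf 7011) (.leaf 32802)) (.node (.leaf 18499) (.leaf 51889)))) (.node (.node (.node (.leaf 4242) (.leaf 28803)) (.node (.leaf 15378) (.leaf 46275))) (.node (.node (.leaf 9728) (.leaf 36851)) (.node (.leaf 21553) (.leaf 60609))))))) (.node (.node (.node (.node (.node (.node (.leaf 274) (.leaf 22882)) (.node (.leaf 10737) (.leaf 38816))) (.node (.node (.leaf 5282) (.leaf 30067)) (.node (.leaf 16481) (.leaf 48547)))) (.node (.node (.node (.leaf 2563) (.leaf 26435)) (.node (.leaf 13523) (.leaf 43041))) (.node (.node (.leaf 8002) (.leaf 34017)) (.node (.leaf 19697) (.leaf 54451))))) (.node (.node (.node (.node (.leaf 1361) (.leaf 24451)) (.node (.leaf 12115) (.leaf 40577))) (.node (.node (.leaf 6643) (.leaf 32160)) (.node (.leaf 18098) (.leaf 51313)))) (.node (.node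 (.node (.leaf 3889) (.leaf 28433)) (.node (.leaf 14993) (.leaf 45523))) (.node (.node (.leaf 9345) (.leaf 36209)) (.node (.leaf 21202) (.leaf 59281)))))) (.node (.node (.node (.node (.node (.leaf 802) (.leaf 23618)) (.node (.leaf 11441) (.leaf 39585))) (.node (.node (.leaf 5937) (.leaf 31059)) (.node (.leaf 17298) (.leaf 49938)))) (.node (.node (.node (.leaf 3232) (.leaf 27634)) (.node (.leaf 14227) (.leaf 44433))) (.node (.node (.leaf 8720) (.leaf 35011)) (.node (.leaf 20417) (.leaf 56595))))) (.node (.node (.node (.node (.leaf 1970) (.leaf 25408)) (.node (.leaf 12865) (.leaf 41777))) (.node (.node (.leaf 7329) (.leaf 33200)) (.node (.leaf 18945) (.leaf 52688)))) (.node (.node (.node (.leaf 4563) (.leaf 29219)) (.node (.leaf 15778) (.leaf 46915))) (.node (.node (.leaf 10096) (.leaf 37520)) (.node (.leaf 21971) (.leaf 62657))))))))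

def twoPar9 : Janko.Tree (ℕ) :=
  (.node (.node (.node (.node (.node (.node (.node (.leaf 34) (.leaf 22481)) (.node (.leaf 10417) (.leaf 38243))) (.node (.node (.leaf 4913) (.leaf 29651)) (.node (.leaf 16113) (.leaf 47665)))) (.node (.node (.node (.leaf 2288) (.leaf 25920)) (.node (.leaf 13169) (.leaf 42450))) (.node (.node (.leaf 7649) (.leaf 33603)) (.node (.leaf 19347) (.leaf 53507))))) (.node (.node (.node (.node (.leaf 1089) (.leaf 24066)) (.node (.leaf 11763) (.leaf 40082))) (.node (.node (.leaf 6307) (.leaf 31619)) (.node (.leaf 17635) (.leaf 50529)))) (.node (.node (.node (.leaf 3554) (.leaf 28081)) (.node (.leaf 14595) (.leaf 44883))) (.node (.node (.leaf 9009) (.leaf 35617)) (.node (.leaf 20786) (.leaf 58387)))))) (.node (.node (.node (.node (.node (.leaf 545) (.leaf 23265)) (.node (.leaf 11091) (.leaf 39200))) (.node (.node (.leaf 5603) (.leaf 30593)) (.node (.leaf 16865) (.leaf 49457)))) (.node (.node (.node (.leaf 2883) (.leaf 27011)) (.node (.leaf 13872)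 (.leaf 43827))) (.node (.node (.leaf 8339) (.leaf 34497)) (.node (.leaf 20051) (.leaf 55426))))) (.node (.node (.node (.node (.leaf 1650) (.leaf 24930)) (.node (.leaf 12467) (.leaf 41171))) (.node (.node (.leaf 7025) (.leaf 32817)) (.node (.leaf 18513) (.leaf 51922)))) (.node (.node (.node (.leaf 4257) (.leaf 28817)) (.node (.leaf 15379) (.leaf 46289))) (.node (.node (.leaf 9730) (.leaf 36866)) (.node (.leaf 21568) (.leaf 60641))))))) (.node (.node (.node (.node (.node (.node (.leaf 275) (.leaf 22883)) (.node (.leaf 10739) (.leaf 38818))) (.node (.node (.leaf 5283) (.leaf 30097)) (.node (.leaf 16482) (.leaf 48577)))) (.node (.node (.node (.leaf 2577) (.leaf 26449)) (.node (.leaf 13553) (.leaf 43073))) (.node (.node (.leaf 8017) (.leaf 34032)) (.node (.leaf 19699) (.leaf 54465))))) (.node (.node (.node (.node (.leaf 1377) (.leaf 24483)) (.node (.leaf 12129) (.leaf 40595))) (.node (.node (.leaf 6657) (.leaf 32163)) (.node (.leaf 18099) (.leaf 51330)))) (.node (.node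 (.node (.leaf 3907) (.leaf 28449)) (.node (.leaf 15010) (.leaf 45553))) (.node (.node (.leaf 9347) (.leaf 36242)) (.node (.leaf 21203) (.leaf 59297)))))) (.node (.node (.node (.node (.node (.leaf 803) (.leaf 23619)) (.node (.leaf 11456) (.leaf 39587))) (.node (.node (.leaf 5938) (.leaf 31089)) (.node (.leaf 17299) (.leaf 49939)))) (.node (.node (.node (.leaf 3235) (.leaf 27649)) (.node (.leaf 14241) (.leaf 44450))) (.node (.node (.leaf 8722) (.leaf 35025)) (.node (.leaf 20435) (.leaf 56627))))) (.node (.node (.node (.node (.leaf 1971) (.leaf 25411)) (.node (.leaf 12867) (.leaf 41793))) (.node (.node (.leaf 7345) (.leaf 33203)) (.node (.leaf 18947) (.leaf 52705)))) (.node (.node (.node (.leaf 4577) (.leaf 29233)) (.node (.leaf 15779) (.leaf 46945))) (.node (.node (.leaf 10098) (.leaf 37523)) (.node (.leaf 22003) (.leaf 62771))))))))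

def twoPar10 : Janko.Tree (ℕ) :=
  (.node (.node (.node (.node (.node (.node (.node (.leaf 35) (.leaf 22496)) (.node (.leaf 10434) (.leaf 38257))) (.node (.node (.leaf 4915) (.leaf 29665)) (.node (.leaf 16129) (.leaf 47713)))) (.node (.node (.node (.leaf 2290) (.leaf 25937)) (.node (.leaf 13170) (.leaf 42451))) (.node (.node (.leaf 7664) (.leaf 33617)) (.node (.leaf 19360) (.leaf 53553))))) (.node (.node (.node (.node (.leaf 1104) (.leaf 24067)) (.node (.leaf 11777) (.leaf 40098))) (.node (.node (.leaf 6321) (.leaf 31650)) (.node (.leaf 17650) (.leaf 50531)))) (.node (.node (.node (.leaf 3569) (.leaf 28096)) (.node (.leaf 14609) (.leaf 44914))) (.node (.node (.leaf 9010) (.leaf 35632)) (.node (.leaf 20787) (.leaf 58401)))))) (.node (.node (.node (.node (.node (.leaf 547) (.leaf 23280)) (.node (.leaf 11105) (.leaf 39202))) (.node (.node (.leaf 5617) (.leaf 30595)) (.node (.leaf 16867) (.leaf 49489)))) (.node (.node (.node (.leaf 2897) (.leaf 27057)) (.node (.leaf 13874)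 (.leaf 43841))) (.node (.node (.leaf 8353) (.leaf 34531)) (.node (.leaf 20065) (.leaf 55441))))) (.node (.node (.node (.node (.leaf 1665) (.leaf 24931)) (.node (.leaf 12498) (.leaf 41185))) (.node (.node (.leaf 7026) (.leaf 32832)) (.node (.leaf 18528) (.leaf 51923)))) (.node (.node (.node (.leaf 4259) (.leaf 28833)) (.node (.leaf 15393) (.leaf 46291))) (.node (.node (.leaf 9731) (.leaf 36867)) (.node (.leaf 21571) (.leaf 60691))))))) (.node (.node (.node (.node (.node (.node (.leaf 289) (.leaf 22897)) (.node (.leaf 10753) (.leaf 38819))) (.node (.node (.leaf 5297) (.leaf 30099)) (.node (.leaf 16497) (.leaf 48611)))) (.node (.node (.node (.leaf 2592) (.leaf 26451)) (.node (.leaf 13568) (.leaf 43090))) (.node (.node (.leaf 8019) (.leaf 34035)) (.node (.leaf 19713) (.leaf 54547))))) (.node (.node (.node (.node (.leaf 1392) (.leaf 24498)) (.node (.leaf 12147) (.leaf 40609))) (.node (.node (.leaf 6672) (.leaf 32193)) (.node (.leaf 18113) (.leaf 51345)))) (.node (.node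 (.node (.leaf 3921) (.leaf 28466)) (.node (.leaf 15025) (.leaf 45555))) (.node (.node (.leaf 9361) (.leaf 36273)) (.node (.leaf 21217) (.leaf 59361)))))) (.node (.node (.node (.node (.node (.leaf 817) (.leaf 23633)) (.node (.leaf 11459) (.leaf 39619))) (.node (.node (.leaf 5939) (.leaf 31107)) (.node (.leaf 17313) (.leaf 49954)))) (.node (.node (.node (.leaf 3249) (.leaf 27664)) (.node (.leaf 14256) (.leaf 44451))) (.node (.node (.leaf 8723) (.leaf 35042)) (.node (.leaf 20449) (.leaf 56643))))) (.node (.node (.node (.node (.leaf 1984) (.leaf 25441)) (.node (.leaf 12883) (.leaf 41811))) (.node (.node (.leaf 7360) (.leaf 33217)) (.node (.leaf 18961) (.leaf 52721)))) (.node (.node (.node (.leaf 4579) (.leaf 29235)) (.node (.leaf 15793) (.leaf 46977))) (.node (.node (.leaf 10099) (.leaf 37570)) (.node (.leaf 22017) (.leaf 62835))))))))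

def twoPar11 : Janko.Tree (ℕ) :=
  (.node (.node (.node (.node (.node (.node (.node (.leaf 49) (.leaf 22513)) (.node (.leaf 10435) (.leaf 38306))) (.node (.node (.leaf 4945) (.leaf 29667)) (.node (.leaf 16144) (.leaf 47809)))) (.node (.node (.node (.leaf 2291) (.leaf 25939)) (.node (.leaf 13171) (.leaf 42467))) (.node (.node (.leaf 7666) (.leaf 33635)) (.node (.leaf 19362) (.leaf 53568))))) (.node (.node (.node (.node (.leaf 1107) (.leaf 24099)) (.node (.leaf 11779) (.leaf 40099))) (.node (.node (.leaf 6336) (.leaf 31651)) (.node (.leaf 17665) (.leaf 50563)))) (.node (.node (.node (.leaf 3571) (.leaf 28098)) (.node (.leaf 14626) (.leaf 44945))) (.node (.node (.leaf 9011) (.leaf 35650)) (.node (.leaf 20801) (.leaf 58450)))))) (.node (.node (.node (.node (.node (.leaf 561) (.leaf 23282)) (.node (.leaf 11107) (.leaf 39203))) (.node (.node (.leaf 5619) (.leaf 30624)) (.node (.leaf 16899) (.leaf 49506)))) (.node (.node (.node (.leaf 2914) (.leaf 27072)) (.node (.leaf 13875)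 (.leaf 43858))) (.node (.node (.leaf 8370) (.leaf 34545)) (.node (.leaf 20080) (.leaf 55489))))) (.node (.node (.node (.node (.leaf 1667) (.leaf 24945)) (.node (.leaf 12513) (.leaf 41200))) (.node (.node (.leaf 7027) (.leaf 32849)) (.node (.leaf 18531) (.leaf 51937)))) (.node (.node (.node (.leaf 4291) (.leaf 28834)) (.node (.leaf 15395) (.leaf 46339))) (.node (.node (.leaf 9745) (.leaf 36883)) (.node (.leaf 21603) (.leaf 60705))))))) (.node (.node (.node (.node (.node (.node (.leaf 304) (.leaf 22915)) (.node (.leaf 10785) (.leaf 38834))) (.node (.node (.leaf 5314) (.leaf 30113)) (.node (.leaf 16499) (.leaf 48625)))) (.node (.node (.node (.leaf 2595) (.leaf 26483)) (.node (.leaf 13570) (.leaf 43091))) (.node (.node (.leaf 8035) (.leaf 34081)) (.node (.leaf 19731) (.leaf 54561))))) (.node (.node (.node (.node (.leaf 1394) (.leaf 24499)) (.node (.leaf 12161) (.leaf 40624))) (.node (.node (.leaf 6674) (.leaf 32210)) (.node (.leaf 18128) (.leaf 51361)))) (.node (.node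 (.node (.leaf 3938) (.leaf 28467)) (.node (.leaf 15027) (.leaf 45587))) (.node (.node (.leaf 9376) (.leaf 36337)) (.node (.leaf 21235) (.leaf 59377)))))) (.node (.node (.node (.node (.node (.leaf 818) (.leaf 23635)) (.node (.leaf 11489) (.leaf 39635))) (.node (.node (.leaf 5953) (.leaf 31121)) (.node (.leaf 17315) (.leaf 49971)))) (.node (.node (.node (.leaf 3265) (.leaf 27682)) (.node (.leaf 14258) (.leaf 44465))) (.node (.node (.leaf 8737) (.leaf 35057)) (.node (.leaf 20464) (.leaf 56721))))) (.node (.node (.node (.node (.leaf 1986) (.leaf 25475)) (.node (.leaf 12897) (.leaf 41825))) (.node (.node (.leaf 7362) (.leaf 33232)) (.node (.leaf 18976) (.leaf 52753)))) (.node (.node (.node (.leaf 4610) (.leaf 29265)) (.node (.leaf 15810) (.leaf 46994))) (.node (.node (.leaf 10113) (.leaf 37587)) (.node (.leaf 22033) (.leaf 62914))))))))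

def twoPar12 : Janko.Tree (ℕ) :=
  (.node (.node (.node (.node (.node (.node (.node (.leaf 51) (.leaf 22515)) (.node (.leaf 10448) (.leaf 38321))) (.node (.node (.leaf 4946) (.leaf 29699)) (.node (.leaf 16146) (.leaf 47888)))) (.node (.node (.node (.leaf 2305) (.leaf 25985)) (.node (.leaf 13185) (.leaf 42497))) (.node (.node (.leaf 7667) (.leaf 33649)) (.node (.leaf 19363) (.leaf 53570))))) (.node (.node (.node (.node (.leaf 1121) (.leaf 24113)) (.node (.leaf 11793) (.leaf 40113))) (.node (.node (.leaf 6353) (.leaf 31665)) (.node (.leaf 17667) (.leaf 50611)))) (.node (.node (.node (.leaf 3585) (.leaf 28099)) (.node (.leaf 14641) (.leaf 44963))) (.node (.node (.leaf 9025) (.leaf 35665)) (.node (.leaf 20803) (.leaf 58451)))))) (.node (.node (.node (.node (.node (.leaf 576) (.leaf 23283)) (.node (.leaf 11136) (.leaf 39217))) (.node (.node (.leaf 5650) (.leaf 30627)) (.node (.leaf 16913) (.leaf 49507)))) (.node (.node (.node (.leaf 2929) (.leaf 27091)) (.node (.leaf 13891)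 (.leaf 43859))) (.node (.node (.leaf 8371) (.leaf 34561)) (.node (.leaf 20082) (.leaf 55506))))) (.node (.node (.node (.node (.leaf 1698) (.leaf 24963)) (.node (.leaf 12528) (.leaf 41203))) (.node (.node (.leaf 7041) (.leaf 32864)) (.node (.leaf 18561) (.leaf 51971)))) (.node (.node (.node (.leaf 4305) (.leaf 28835)) (.node (.leaf 15426) (.leaf 46353))) (.node (.node (.leaf 9746) (.leaf 36931)) (.node (.leaf 21617) (.leaf 60721))))))) (.node (.node (.node (.node (.node (.node (.leaf 306) (.leaf 22930)) (.node (.leaf 10787) (.leaf 38835))) (.node (.node (.leaf 5315) (.leaf 30146)) (.node (.leaf 16530) (.leaf 48641)))) (.node (.node (.node (.leaf 2609) (.leaf 26497)) (.node (.leaf 13571) (.leaf 43153))) (.node (.node (.leaf 8049) (.leaf 34096)) (.node (.leaf 19761) (.leaf 54624))))) (.node (.node (.node (.node (.leaf 1395) (.leaf 24513)) (.node (.leaf 12178) (.leaf 40641))) (.node (.node (.leaf 6675) (.leaf 32227)) (.node (.leaf 18145) (.leaf 51395)))) (.node (.node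 (.node (.leaf 3953) (.leaf 28481)) (.node (.leaf 15059) (.leaf 45617))) (.node (.node (.leaf 9379) (.leaf 36354)) (.node (.leaf 21265) (.leaf 59539)))))) (.node (.node (.node (.node (.node (.leaf 819) (.leaf 23666)) (.node (.leaf 11491) (.leaf 39649))) (.node (.node (.leaf 5986) (.leaf 31136)) (.node (.leaf 17344) (.leaf 50001)))) (.node (.node (.node (.leaf 3267) (.leaf 27697)) (.node (.leaf 14259) (.leaf 44467))) (.node (.node (.leaf 8755) (.leaf 35075)) (.node (.leaf 20466) (.leaf 56801))))) (.node (.node (.node (.node (.leaf 1987) (.leaf 25489)) (.node (.leaf 12912) (.leaf 41857))) (.node (.node (.leaf 7363) (.leaf 33234)) (.node (.leaf 18978) (.leaf 52786)))) (.node (.node (.node (.leaf 4611) (.leaf 29282)) (.node (.leaf 15825) (.leaf 46995))) (.node (.node (.leaf 10131) (.leaf 37617)) (.node (.leaf 22050) (.leaf 63009))))))))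

def twoPar13 : Janko.Tree (ℕ) :=
  (.node (.node (.node (.node (.node (.node (.node (.leaf 65) (.leaf 22529)) (.node (.leaf 10450) (.leaf 38353))) (.node (.node (.leaf 4947) (.leaf 29714)) (.node (.leaf 16147) (.leaf 47890)))) (.node (.node (.node (.leaf 2307) (.leaf 26002)) (.node (.leaf 13187) (.leaf 42514))) (.node (.node (.leaf 7681) (.leaf 33651)) (.node (.leaf 19377) (.leaf 53571))))) (.node (.node (.node (.node (.leaf 1137) (.leaf 24130)) (.node (.leaf 11808) (.leaf 40115))) (.node (.node (.leaf 6369) (.leaf 31667)) (.node (.leaf 17697) (.leaf 50625)))) (.node (.node (.node (.leaf 3600) (.leaf 28113)) (.node (.leaf 14643) (.leaf 44977))) (.node (.node (.leaf 9027) (.leaf 35667)) (.node (.leaf 20832) (.leaf 58465)))))) (.node (.node (.node (.node (.node (.leaf 578) (.leaf 23298)) (.node (.leaf 11139) (.leaf 39249))) (.node (.node (.leaf 5651) (.leaf 30657)) (.node (.leaf 16929) (.leaf 49523)))) (.node (.node (.node (.leaf 2931) (.leaf 27105)) (.node (.leaf 13905)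 (.leaf 43873))) (.node (.node (.leaf 8385) (.leaf 34592)) (.node (.leaf 20083) (.leaf 55521))))) (.node (.node (.node (.node (.leaf 1699) (.leaf 24995)) (.node (.leaf 12531) (.leaf 41233))) (.node (.node (.leaf 7043) (.leaf 32866)) (.node (.leaf 18563) (.leaf 51985)))) (.node (.node (.node (.leaf 4321) (.leaf 28849)) (.node (.leaf 15441) (.leaf 46369))) (.node (.node (.leaf 9747) (.leaf 36945)) (.node (.leaf 21632) (.leaf 60754))))))) (.node (.node (.node (.node (.node (.node (.leaf 307) (.leaf 22945)) (.node (.leaf 10801) (.leaf 38849))) (.node (.node (.leaf 5329) (.leaf 30147)) (.node (.leaf 16531) (.leaf 48674)))) (.node (.node (.node (.leaf 2625) (.leaf 26512)) (.node (.leaf 13585) (.leaf 43171))) (.node (.node (.leaf 8064) (.leaf 34098)) (.node (.leaf 19776) (.leaf 54626))))) (.node (.node (.node (.node (.leaf 1409) (.leaf 24515)) (.node (.leaf 12193) (.leaf 40673))) (.node (.node (.leaf 6689) (.leaf 32273)) (.node (.leaf 18160) (.leaf 51409)))) (.node (.node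 (.node (.leaf 3955) (.leaf 28496)) (.node (.leaf 15073) (.leaf 45633))) (.node (.node (.leaf 9409) (.leaf 36369)) (.node (.leaf 21283) (.leaf 59602)))))) (.node (.node (.node (.node (.node (.leaf 835) (.leaf 23667)) (.node (.leaf 11505) (.leaf 39651))) (.node (.node (.leaf 5987) (.leaf 31153)) (.node (.leaf 17347) (.leaf 50016)))) (.node (.node (.node (.leaf 3281) (.leaf 27712)) (.node (.leaf 14273) (.leaf 44496))) (.node (.node (.leaf 8769) (.leaf 35089)) (.node (.leaf 20467) (.leaf 56849))))) (.node (.node (.node (.node (.leaf 2001) (.leaf 25505)) (.node (.leaf 12914) (.leaf 41874))) (.node (.node (.leaf 7376) (.leaf 33235)) (.node (.leaf 18979) (.leaf 52787)))) (.node (.node (.node (.leaf 4625) (.leaf 29283)) (.node (.leaf 15827) (.leaf 47057))) (.node (.node (.leaf 10145) (.leaf 37632)) (.node (.leaf 22067) (.leaf 63059))))))))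

def twoPar14 : Janko.Tree (ℕ) :=
  (.node (.node (.node (.node (.node (.node (.node (.leaf 80) (.leaf 22544)) (.node (.leaf 10451) (.leaf 38433))) (.node (.node (.leaf 4961) (.leaf 29715)) (.node (.leaf 16161) (.leaf 47891)))) (.node (.node (.node (.leaf 2323) (.leaf 26003)) (.node (.leaf 13218) (.leaf 42515))) (.node (.node (.leaf 7682) (.leaf 33667)) (.node (.leaf 19378) (.leaf 53585))))) (.node (.node (.node (.node (.leaf 1139) (.leaf 24145)) (.node (.leaf 11811) (.leaf 40144))) (.node (.node (.leaf 6384) (.leaf 31699)) (.node (.leaf 17712) (.leaf 50640)))) (.node (.node (.node (.leaf 3619) (.leaf 28131)) (.node (.leaf 14672) (.leaf 44994))) (.node (.node (.leaf 9058) (.leaf 35729)) (.node (.leaf 20835) (.leaf 58545)))))) (.node (.node (.node (.node (.node (.leaf 579) (.leaf 23299)) (.node (.leaf 11153) (.leaf 39266))) (.node (.node (.leaf 5665) (.leaf 30691)) (.node (.leaf 16931) (.leaf 49537)))) (.node (.node (.node (.leaf 2945) (.leaf 27138)) (.node (.leaf 13921)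 (.leaf 43875))) (.node (.node (.leaf 8401) (.leaf 34594)) (.node (.leaf 20099) (.leaf 55537))))) (.node (.node (.node (.node (.leaf 1713) (.leaf 25009)) (.node (.leaf 12545) (.leaf 41250))) (.node (.node (.leaf 7072) (.leaf 32867)) (.node (.leaf 18577) (.leaf 52002)))) (.node (.node (.node (.leaf 4336) (.leaf 28851)) (.node (.leaf 15456) (.leaf 46403))) (.node (.node (.leaf 9761) (.leaf 36960)) (.node (.leaf 21634) (.leaf 60755))))))) (.node (.node (.node (.node (.node (.node (.leaf 322) (.leaf 22960)) (.node (.leaf 10819) (.leaf 38851))) (.node (.node (.leaf 5344) (.leaf 30161)) (.node (.leaf 16545) (.leaf 48675)))) (.node (.node (.node (.leaf 2627) (.leaf 26515)) (.node (.leaf 13602) (.leaf 43185))) (.node (.node (.leaf 8066) (.leaf 34099)) (.node (.leaf 19778) (.leaf 54627))))) (.node (.node (.node (.node (.leaf 1410) (.leaf 24547)) (.node (.leaf 12195) (.leaf 40690))) (.node (.node (.leaf 6706) (.leaf 32288)) (.node (.leaf 18162) (.leaf 51425)))) (.node (.node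 (.node (.leaf 3984) (.leaf 28498)) (.node (.leaf 15090) (.leaf 45651))) (.node (.node (.leaf 9411) (.leaf 36401)) (.node (.leaf 21298) (.leaf 59649)))))) (.node (.node (.node (.node (.node (.leaf 849) (.leaf 23681)) (.node (.leaf 11523) (.leaf 39683))) (.node (.node (.leaf 6001) (.leaf 31155)) (.node (.leaf 17361) (.leaf 50018)))) (.node (.node (.node (.leaf 3299) (.leaf 27729)) (.node (.leaf 14274) (.leaf 44499))) (.node (.node (.leaf 8785) (.leaf 35107)) (.node (.leaf 20481) (.leaf 56881))))) (.node (.node (.node (.node (.leaf 2002) (.leaf 25507)) (.node (.leaf 12915) (.leaf 41875))) (.node (.node (.leaf 7378) (.leaf 33251)) (.node (.leaf 18993) (.leaf 52801)))) (.node (.node (.node (.leaf 4627) (.leaf 29315)) (.node (.leaf 15843) (.leaf 47072))) (.node (.node (.leaf 10161) (.leaf 37666)) (.node (.leaf 22098) (.leaf 63251))))))))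

def twoPar15 : Janko.Tree (ℕ) :=
  (.node (.node (.node (.node (.node (.node (.node (.leaf 82) (.leaf 22546)) (.node (.leaf 10465) (.leaf 38482))) (.node (.node (.leaf 4994) (.leaf 29729)) (.node (.leaf 16162) (.leaf 47907)))) (.node (.node (.node (.leaf 2337) (.leaf 26017)) (.node (.leaf 13233) (.leaf 42531))) (.node (.node (.leaf 7697) (.leaf 33698)) (.node (.leaf 19379) (.leaf 53649))))) (.node (.node (.node (.node (.leaf 1153) (.leaf 24163)) (.node (.leaf 11841) (.leaf 40147))) (.node (.node (.leaf 6386) (.leaf 31713)) (.node (.leaf 17714) (.leaf 50643)))) (.node (.node (.node (.leaf 3633) (.leaf 28146)) (.node (.leaf 14674) (.leaf 45008))) (.node (.node (.leaf 9059) (.leaf 35744)) (.node (.leaf 20865) (.leaf 58577)))))) (.node (.node (.node (.node (.node (.leaf 593) (.leaf 23313)) (.node (.leaf 11168) (.leaf 39267))) (.node (.node (.leaf 5667) (.leaf 30705)) (.node (.leaf 16960) (.leaf 49555)))) (.node (.node (.node (.leaf 2960) (.leaf 27155)) (.node (.leaf 13936)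 (.leaf 43920))) (.node (.node (.leaf 8416) (.leaf 34595)) (.node (.leaf 20113) (.leaf 55601))))) (.node (.node (.node (.node (.leaf 1715) (.leaf 25025)) (.node (.leaf 12562) (.leaf 41267))) (.node (.node (.leaf 7075) (.leaf 32881)) (.node (.leaf 18595) (.leaf 52067)))) (.node (.node (.node (.leaf 4338) (.leaf 28882)) (.node (.leaf 15459) (.leaf 46417))) (.node (.node (.leaf 9763) (.leaf 36977)) (.node (.leaf 21635) (.leaf 60849))))))) (.node (.node (.node (.node (.node (.node (.leaf 323) (.leaf 22977)) (.node (.leaf 10849) (.leaf 38880))) (.node (.node (.leaf 5361) (.leaf 30179)) (.node (.leaf 16547) (.leaf 48754)))) (.node (.node (.node (.leaf 2641) (.leaf 26547)) (.node (.leaf 13617) (.leaf 43200))) (.node (.node (.leaf 8067) (.leaf 34114)) (.node (.leaf 19779) (.leaf 54641))))) (.node (.node (.node (.node (.leaf 1411) (.leaf 24561)) (.node (.leaf 12224) (.leaf 40691))) (.node (.node (.leaf 6721) (.leaf 32307)) (.node (.leaf 18163) (.leaf 51473)))) (.node (.node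 (.node (.leaf 3986) (.leaf 28499)) (.node (.leaf 15105) (.leaf 45681))) (.node (.node (.leaf 9425) (.leaf 36417)) (.node (.leaf 21299) (.leaf 59667)))))) (.node (.node (.node (.node (.node (.leaf 864) (.leaf 23683)) (.node (.leaf 11537) (.leaf 39697))) (.node (.node (.leaf 6003) (.leaf 31201)) (.node (.leaf 17363) (.leaf 50019)))) (.node (.node (.node (.leaf 3313) (.leaf 27731)) (.node (.leaf 14289) (.leaf 44513))) (.node (.node (.leaf 8800) (.leaf 35121)) (.node (.leaf 20482) (.leaf 56931))))) (.node (.node (.node (.node (.leaf 2003) (.leaf 25536)) (.node (.leaf 12929) (.leaf 41889))) (.node (.node (.leaf 7379) (.leaf 33265)) (.node (.leaf 19010) (.leaf 52819)))) (.node (.node (.node (.leaf 4641) (.leaf 29329)) (.node (.leaf 15857) (.leaf 47075))) (.node (.node (.leaf 10163) (.leaf 37683)) (.node (.leaf 22099) (.leaf 63265))))))))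

def twoPar16 : Janko.Tree (ℕ) :=
  (.node (.node (.node (.node (.node (.node (.node (.leaf 83) (.leaf 22547)) (.node (.leaf 10466) (.leaf 38497))) (.node (.node (.leaf 4995) (.leaf 29731)) (.node (.leaf 16163) (.leaf 47939)))) (.node (.node (.node (.leaf 2352) (.leaf 26034)) (.node (.leaf 13248) (.leaf 42546))) (.node (.node (.leaf 7699) (.leaf 33699)) (.node (.leaf 19393) (.leaf 53697))))) (.node (.node (.node (.node (.leaf 1168) (.leaf 24177)) (.node (.leaf 11856) (.leaf 40177))) (.node (.node (.leaf 6387) (.leaf 31728)) (.node (.leaf 17715) (.leaf 50707)))) (.node (.node (.node (.leaf 3648) (.leaf 28161)) (.node (.leaf 14675) (.leaf 45010))) (.node (.node (.leaf 9073) (.leaf 35746)) (.node (.leaf 20867) (.leaf 58609)))))) (.node (.node (.node (.node (.node (.leaf 608) (.leaf 23315)) (.node (.leaf 11170) (.leaf 39283))) (.node (.node (.leaf 5681) (.leaf 30721)) (.node (.leaf 16962) (.leaf 49569)))) (.node (.node (.node (.leaf 2977) (.leaf 27185)) (.node (.leaf 13938)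 (.leaf 43923))) (.node (.node (.leaf 8433) (.leaf 34609)) (.node (.leaf 20129) (.leaf 55617))))) (.node (.node (.node (.node (.leaf 1729) (.leaf 25042)) (.node (.leaf 12563) (.leaf 41297))) (.node (.node (.leaf 7089) (.leaf 32897)) (.node (.leaf 18609) (.leaf 52097)))) (.node (.node (.node (.leaf 4339) (.leaf 28883)) (.node (.leaf 15473) (.leaf 46448))) (.node (.node (.leaf 9794) (.leaf 37009)) (.node (.leaf 21650) (.leaf 60897))))))) (.node (.node (.node (.node (.node (.node (.leaf 337) (.leaf 22992)) (.node (.leaf 10864) (.leaf 38883))) (.node (.node (.leaf 5379) (.leaf 30211)) (.node (.leaf 16561) (.leaf 48771)))) (.node (.node (.node (.leaf 2659) (.leaf 26561)) (.node (.leaf 13619) (.leaf 43203))) (.node (.node (.leaf 8081) (.leaf 34131)) (.node (.leaf 19793) (.leaf 54690))))) (.node (.node (.node (.node (.leaf 1425) (.leaf 24576)) (.node (.leaf 12226) (.leaf 40705))) (.node (.node (.leaf 6723) (.leaf 32321)) (.node (.leaf 18177) (.leaf 51488)))) (.node (.node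 (.node (.leaf 3987) (.leaf 28514)) (.node (.leaf 15120) (.leaf 45698))) (.node (.node (.leaf 9443) (.leaf 36451)) (.node (.leaf 21313) (.leaf 59697)))))) (.node (.node (.node (.node (.node (.leaf 866) (.leaf 23712)) (.node (.leaf 11552) (.leaf 39712))) (.node (.node (.leaf 6017) (.leaf 31218)) (.node (.leaf 17377) (.leaf 50033)))) (.node (.node (.node (.leaf 3328) (.leaf 27745)) (.node (.leaf 14291) (.leaf 44515))) (.node (.node (.leaf 8802) (.leaf 35123)) (.node (.leaf 20497) (.leaf 56945))))) (.node (.node (.node (.node (.leaf 2017) (.leaf 25538)) (.node (.leaf 12947) (.leaf 41922))) (.node (.node (.leaf 7393) (.leaf 33280)) (.node (.leaf 19025) (.leaf 52833)))) (.node (.node (.node (.leaf 4656) (.leaf 29346)) (.node (.leaf 15872) (.leaf 47120))) (.node (.node (.leaf 10179) (.leaf 37712)) (.node (.leaf 22113) (.leaf 63601))))))))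

def twoPar17 : Janko.Tree (ℕ) :=
  (.node (.node (.node (.node (.node (.node (.node (.leaf 97) (.leaf 22561)) (.node (.leaf 10467) (.leaf 38512))) (.node (.node (.leaf 5009) (.leaf 29763)) (.node (.leaf 16177) (.leaf 47954)))) (.node (.node (.node (.leaf 2354) (.leaf 26049)) (.node (.leaf 13251) (.leaf 42547))) (.node (.node (.leaf 7729) (.leaf 33713)) (.node (.leaf 19395) (.leaf 53729))))) (.node (.node (.node (.node (.leaf 1170) (.leaf 24195)) (.node (.leaf 11858) (.leaf 40211))) (.node (.node (.leaf 6401) (.leaf 31731)) (.node (.leaf 17745) (.leaf 50721)))) (.node (.node (.node (.leaf 3650) (.leaf 28176)) (.node (.leaf 14689) (.leaf 45011))) (.node (.node (.leaf 9075) (.leaf 35747)) (.node (.leaf 20899) (.leaf 58627)))))) (.node (.node (.node (.node (.node (.leaf 610) (.leaf 23344)) (.node (.leaf 11171) (.leaf 39297))) (.node (.node (.leaf 5696) (.leaf 30723)) (.node (.leaf 16963) (.leaf 49587)))) (.node (.node (.node (.leaf 2979) (.leaf 27202)) (.node (.leaf 13939)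 (.leaf 43937))) (.node (.node (.leaf 8435) (.leaf 34611)) (.node (.leaf 20144) (.leaf 55779))))) (.node (.node (.node (.node (.leaf 1745) (.leaf 25059)) (.node (.leaf 12577) (.leaf 41312))) (.node (.node (.leaf 7091) (.leaf 32915)) (.node (.leaf 18626) (.leaf 52113)))) (.node (.node (.node (.leaf 4353) (.leaf 28897)) (.node (.leaf 15489) (.leaf 46450))) (.node (.node (.leaf 9809) (.leaf 37027)) (.node (.leaf 21665) (.leaf 60899))))))) (.node (.node (.node (.node (.node (.node (.leaf 339) (.leaf 22994)) (.node (.leaf 10866) (.leaf 38897))) (.node (.node (.leaf 5393) (.leaf 30225)) (.node (.leaf 16577) (.leaf 48849)))) (.node (.node (.node (.leaf 2673) (.leaf 26579)) (.node (.leaf 13635) (.leaf 43250))) (.node (.node (.leaf 8098) (.leaf 34161)) (.node (.leaf 19810) (.leaf 54691))))) (.node (.node (.node (.node (.leaf 1427) (.leaf 24579)) (.node (.leaf 12227) (.leaf 40722))) (.node (.node (.leaf 6755) (.leaf 32354)) (.node (.leaf 18178) (.leaf 51490)))) (.node (.node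 (.node (.leaf 4001) (.leaf 28515)) (.node (.leaf 15122) (.leaf 45779))) (.node (.node (.leaf 9457) (.leaf 36465)) (.node (.leaf 21315) (.leaf 59715)))))) (.node (.node (.node (.node (.node (.leaf 867) (.leaf 23715)) (.node (.leaf 11554) (.leaf 39715))) (.node (.node (.leaf 6032) (.leaf 31219)) (.node (.leaf 17392) (.leaf 50066)))) (.node (.node (.node (.leaf 3330) (.leaf 27760)) (.node (.leaf 14322) (.leaf 44544))) (.node (.node (.leaf 8803) (.leaf 35155)) (.node (.leaf 20499) (.leaf 56961))))) (.node (.node (.node (.node (.leaf 2019) (.leaf 25539)) (.node (.leaf 12961) (.leaf 41953))) (.node (.node (.leaf 7394) (.leaf 33297)) (.node (.leaf 19027) (.leaf 52835)))) (.node (.node (.node (.leaf 4659) (.leaf 29361)) (.node (.leaf 15874) (.leaf 47154))) (.node (.node (.leaf 10193) (.leaf 37714)) (.node (.leaf 22128) (.leaf 63665))))))))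

def twoPar18 : Janko.Tree (ℕ) :=
  (.node (.node (.node (.node (.node (.node (.node (.leaf 99) (.leaf 22578)) (.node (.leaf 10481) (.leaf 38529))) (.node (.node (.leaf 5011) (.leaf 29777)) (.node (.leaf 16179) (.leaf 47955)))) (.node (.node (.node (.leaf 2355) (.leaf 26067)) (.node (.leaf 13265) (.leaf 42563))) (.node (.node (.leaf 7730) (.leaf 33731)) (.node (.leaf 19426) (.leaf 53762))))) (.node (.node (.node (.node (.leaf 1171) (.leaf 24209)) (.node (.leaf 11859) (.leaf 40225))) (.node (.node (.leaf 6402) (.leaf 31763)) (.node (.leaf 17746) (.leaf 50738)))) (.node (.node (.node (.leaf 3651) (.leaf 28193)) (.node (.leaf 14691) (.leaf 45025))) (.node (.node (.leaf 9089) (.leaf 35761)) (.node (.leaf 20913) (.leaf 58641)))))) (.node (.node (.node (.node (.node (.leaf 611) (.leaf 23347)) (.node (.leaf 11187) (.leaf 39315))) (.node (.node (.leaf 5699) (.leaf 30752)) (.node (.leaf 16977) (.leaf 49635)))) (.node (.node (.node (.leaf 2995) (.leaf 27216)) (.node (.leaf 13953)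 (.leaf 43986))) (.node (.node (.leaf 8449) (.leaf 34658)) (.node (.leaf 20146) (.leaf 55842))))) (.node (.node (.node (.node (.leaf 1760) (.leaf 25090)) (.node (.leaf 12593) (.leaf 41330))) (.node (.node (.leaf 7105) (.leaf 32929)) (.node (.leaf 18641) (.leaf 52130)))) (.node (.node (.node (.leaf 4354) (.leaf 28899)) (.node (.leaf 15490) (.leaf 46451))) (.node (.node (.leaf 9824) (.leaf 37058)) (.node (.leaf 21667) (.leaf 60947))))))) (.node (.node (.node (.node (.node (.node (.leaf 353) (.leaf 22995)) (.node (.leaf 10867) (.leaf 38912))) (.node (.node (.leaf 5409) (.leaf 30241)) (.node (.leaf 16578) (.leaf 48898)))) (.node (.node (.node (.leaf 2688) (.leaf 26593)) (.node (.leaf 13649) (.leaf 43267))) (.node (.node (.leaf 8099) (.leaf 34176)) (.node (.leaf 19825) (.leaf 54705))))) (.node (.node (.node (.node (.leaf 1458) (.leaf 24611)) (.node (.leaf 12241) (.leaf 40737))) (.node (.node (.leaf 6769) (.leaf 32371)) (.node (.leaf 18193) (.leaf 51491)))) (.node (.node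 (.node (.leaf 4018) (.leaf 28529)) (.node (.leaf 15123) (.leaf 45825))) (.node (.node (.leaf 9474) (.leaf 36481)) (.node (.leaf 21344) (.leaf 59810)))))) (.node (.node (.node (.node (.node (.leaf 881) (.leaf 23745)) (.node (.leaf 11555) (.leaf 39761))) (.node (.node (.leaf 6035) (.leaf 31233)) (.node (.leaf 17394) (.leaf 50067)))) (.node (.node (.node (.leaf 3331) (.leaf 27762)) (.node (.leaf 14323) (.leaf 44546))) (.node (.node (.leaf 8817) (.leaf 35219)) (.node (.leaf 20530) (.leaf 56994))))) (.node (.node (.node (.node (.leaf 2050) (.leaf 25553)) (.node (.leaf 12977) (.leaf 42017))) (.node (.node (.leaf 7395) (.leaf 33329)) (.node (.leaf 19059) (.leaf 52880)))) (.node (.node (.node (.leaf 4689) (.leaf 29379)) (.node (.leaf 15875) (.leaf 47171))) (.node (.node (.leaf 10208) (.leaf 37715)) (.node (.leaf 22145) (.leaf 63810))))))))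

def twoPar19 : Janko.Tree (ℕ) :=
  (.node (.node (.node (.node (.node (.node (.node (.leaf 113) (.leaf 22593)) (.node (.leaf 10483) (.leaf 38544))) (.node (.node (.leaf 5025) (.leaf 29792)) (.node (.leaf 16208) (.leaf 48001)))) (.node (.node (.node (.leaf 2369) (.leaf 26097)) (.node (.leaf 13281) (.leaf 42611))) (.node (.node (.leaf 7731) (.leaf 33761)) (.node (.leaf 19441) (.leaf 53779))))) (.node (.node (.node (.node (.leaf 1185) (.leaf 24226)) (.node (.leaf 11873) (.leaf 40241))) (.node (.node (.leaf 6417) (.leaf 31777)) (.node (.leaf 17747) (.leaf 50755)))) (.node (.node (.node (.leaf 3665) (.leaf 28208)) (.node (.leaf 14721) (.leaf 45074))) (.node (.node (.leaf 9104) (.leaf 35762)) (.node (.leaf 20929) (.leaf 58691)))))) (.node (.node (.node (.node (.node (.leaf 625) (.leaf 23361)) (.node (.leaf 11201) (.leaf 39329))) (.node (.node (.leaf 5729) (.leaf 30754)) (.node (.leaf 16979) (.leaf 49665)))) (.node (.node (.node (.leaf 3009) (.leaf 27218)) (.node (.leaf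 13954) (.leaf 44001))) (.node (.node (.leaf 8464) (.leaf 34659)) (.node (.leaf 20147) (.leaf 55889))))) (.node (.node (.node (.node (.leaf 1762) (.leaf 25091)) (.node (.leaf 12608) (.leaf 41345))) (.node (.node (.leaf 7120) (.leaf 32944)) (.node (.leaf 18643) (.leaf 52147)))) (.node (.node (.node (.leaf 4355) (.leaf 28928)) (.node (.leaf 15491) (.leaf 46481))) (.node (.node (.leaf 9827) (.leaf 37059)) (.node (.leaf 21697) (.leaf 61009))))))) (.node (.node (.node (.node (.node (.node (.leaf 368) (.leaf 23009)) (.node (.leaf 10881) (.leaf 38914))) (.node (.node (.leaf 5424) (.leaf 30258)) (.node (.leaf 16579) (.leaf 48899)))) (.node (.node (.node (.leaf 2690) (.leaf 26608)) (.node (.leaf 13664) (.leaf 43297))) (.node (.node (.leaf 8113) (.leaf 34178)) (.node (.leaf 19827) (.leaf 54785))))) (.node (.node (.node (.node (.leaf 1459) (.leaf 24625)) (.node (.leaf 12243) (.leaf 40755))) (.node (.node (.leaf 6786) (.leaf 32401)) (.node (.leaf 18195) (.leaf 51507)))) (.node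 (.node (.node (.leaf 4033) (.leaf 28531)) (.node (.leaf 15137) (.leaf 45840))) (.node (.node (.leaf 9489) (.leaf 36483)) (.node (.leaf 21347) (.leaf 59811)))))) (.node (.node (.node (.node (.node (.leaf 882) (.leaf 23760)) (.node (.leaf 11569) (.leaf 39776))) (.node (.node (.leaf 6065) (.leaf 31250)) (.node (.leaf 17395) (.leaf 50097)))) (.node (.node (.node (.leaf 3344) (.leaf 27763)) (.node (.leaf 14337) (.leaf 44547))) (.node (.node (.leaf 8818) (.leaf 35233)) (.node (.leaf 20531) (.leaf 56995))))) (.node (.node (.node (.node (.leaf 2051) (.leaf 25555)) (.node (.leaf 12992) (.leaf 42034))) (.node (.node (.leaf 7409) (.leaf 33347)) (.node (.leaf 19073) (.leaf 52883)))) (.node (.node (.node (.leaf 4691) (.leaf 29393)) (.node (.leaf 15889) (.leaf 47202))) (.node (.node (.leaf 10210) (.leaf 37729)) (.node (.leaf 22160) (.leaf 63857))))))))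

def twoPar20 : Janko.Tree (ℕ) :=
  (.node (.node (.node (.node (.node (.node (.node (.leaf 129) (.leaf 22595)) (.node (.leaf 10514) (.leaf 38546))) (.node (.node (.leaf 5040) (.leaf 29795)) (.node (.leaf 16211) (.leaf 48019)))) (.node (.node (.node (.leaf 2370) (.leaf 26115)) (.node (.leaf 13282) (.leaf 42625))) (.node (.node (.leaf 7745) (.leaf 33778)) (.node (.leaf 19456) (.leaf 53809))))) (.node (.node (.node (.node (.leaf 1200) (.leaf 24227)) (.node (.leaf 11875) (.leaf 40272))) (.node (.node (.leaf 6419) (.leaf 31795)) (.node (.leaf 17761) (.leaf 50785)))) (.node (.node (.node (.leaf 3680) (.leaf 28210)) (.node (.leaf 14738) (.leaf 45075))) (.node (.node (.leaf 9107) (.leaf 35825)) (.node (.leaf 20931) (.leaf 58705)))))) (.node (.node (.node (.node (.node (.leaf 626) (.leaf 23376)) (.node (.leaf 11217) (.leaf 39331))) (.node (.node (.leaf 5744) (.leaf 30755)) (.node (.leaf 17009) (.leaf 49682)))) (.node (.node (.node (.leaf 3024) (.leaf 27219)) (.node (.leaf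 13955) (.leaf 44033))) (.node (.node (.leaf 8466) (.leaf 34689)) (.node (.leaf 20161) (.leaf 55907))))) (.node (.node (.node (.node (.leaf 1763) (.leaf 25105)) (.node (.leaf 12625) (.leaf 41347))) (.node (.node (.leaf 7122) (.leaf 32946)) (.node (.leaf 18672) (.leaf 52177)))) (.node (.node (.node (.leaf 4369) (.leaf 28931)) (.node (.leaf 15505) (.leaf 46498))) (.node (.node (.leaf 9841) (.leaf 37073)) (.node (.leaf 21712) (.leaf 61088))))))) (.node (.node (.node (.node (.node (.node (.leaf 370) (.leaf 23025)) (.node (.leaf 10898) (.leaf 38915))) (.node (.node (.leaf 5426) (.leaf 30275)) (.node (.leaf 16593) (.leaf 48913)))) (.node (.node (.node (.leaf 2691) (.leaf 26611)) (.node (.leaf 13666) (.leaf 43312))) (.node (.node (.leaf 8128) (.leaf 34179)) (.node (.leaf 19843) (.leaf 54817))))) (.node (.node (.node (.node (.leaf 1473) (.leaf 24640)) (.node (.leaf 12273) (.leaf 40769))) (.node (.node (.leaf 6801) (.leaf 32418)) (.node (.leaf 18226) (.leaf 51521)))) (.node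 (.node (.node (.leaf 4035) (.leaf 28560)) (.node (.leaf 15155) (.leaf 45842))) (.node (.node (.leaf 9491) (.leaf 36529)) (.node (.leaf 21361) (.leaf 59841)))))) (.node (.node (.node (.node (.node (.leaf 883) (.leaf 23762)) (.node (.leaf 11570) (.leaf 39778))) (.node (.node (.leaf 6067) (.leaf 31265)) (.node (.leaf 17408) (.leaf 50115)))) (.node (.node (.node (.leaf 3346) (.leaf 27777)) (.node (.leaf 14339) (.leaf 44563))) (.node (.node (.leaf 8819) (.leaf 35248)) (.node (.leaf 20545) (.leaf 57089))))) (.node (.node (.node (.node (.leaf 2065) (.leaf 25602)) (.node (.leaf 12994) (.leaf 42049))) (.node (.node (.leaf 7411) (.leaf 33376)) (.node (.leaf 19090) (.leaf 52897)))) (.node (.node (.node (.leaf 4705) (.leaf 29411)) (.node (.leaf 15906) (.leaf 47203))) (.node (.node (.leaf 10211) (.leaf 37745)) (.node (.leaf 22162) (.leaf 63875))))))))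

def twoPar21 : Janko.Tree (ℕ) :=
  (.node (.node (.node (.node (.node (.node (.node (.leaf 130) (.leaf 22627)) (.node (.leaf 10529) (.leaf 38547))) (.node (.node (.leaf 5043) (.leaf 29827)) (.node (.leaf 16225) (.leaf 48033)))) (.node (.node (.node (.leaf 2385) (.leaf 26130)) (.node (.leaf 13283) (.leaf 42640))) (.node (.node (.leaf 7778) (.leaf 33779)) (.node (.leaf 19459) (.leaf 53843))))) (.node (.node (.node (.node (.leaf 1202) (.leaf 24241)) (.node (.leaf 11889) (.leaf 40274))) (.node (.node (.leaf 6448) (.leaf 31809)) (.node (.leaf 17763) (.leaf 50787)))) (.node (.node (.node (.leaf 3682) (.leaf 28211)) (.node (.leaf 14739) (.leaf 45089))) (.node (.node (.leaf 9137) (.leaf 35843)) (.node (.leaf 20960) (.leaf 58720)))))) (.node (.node (.node (.node (.node (.leaf 627) (.leaf 23378)) (.node (.leaf 11232) (.leaf 39347))) (.node (.node (.leaf 5746) (.leaf 30769)) (.node (.leaf 17026) (.leaf 49683)))) (.node (.node (.node (.leaf 3026) (.leaf 27233)) (.node (.leaf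 13969) (.leaf 44113))) (.node (.node (.leaf 8467) (.leaf 34691)) (.node (.leaf 20162) (.leaf 55937))))) (.node (.node (.node (.node (.leaf 1777) (.leaf 25120)) (.node (.leaf 12627) (.leaf 41409))) (.node (.node (.leaf 7123) (.leaf 32947)) (.node (.leaf 18674) (.leaf 52209)))) (.node (.node (.node (.leaf 4371) (.leaf 28961)) (.node (.leaf 15507) (.leaf 46499))) (.node (.node (.leaf 9858) (.leaf 37107)) (.node (.leaf 21714) (.leaf 61121))))))) (.node (.node (.node (.node (.node (.node (.leaf 371) (.leaf 23043)) (.node (.leaf 10913) (.leaf 38931))) (.node (.node (.leaf 5427) (.leaf 30306)) (.node (.leaf 16595) (.leaf 48915)))) (.node (.node (.node (.leaf 2704) (.leaf 26641)) (.node (.leaf 13667) (.leaf 43346))) (.node (.node (.leaf 8145) (.leaf 34193)) (.node (.leaf 19857) (.leaf 54849))))) (.node (.node (.node (.node (.leaf 1475) (.leaf 24642)) (.node (.leaf 12290) (.leaf 40787))) (.node (.node (.leaf 6816) (.leaf 32432)) (.node (.leaf 18273) (.leaf 51523)))) (.node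 (.node (.node (.leaf 4051) (.leaf 28563)) (.node (.leaf 15169) (.leaf 45843))) (.node (.node (.leaf 9520) (.leaf 36544)) (.node (.leaf 21363) (.leaf 59873)))))) (.node (.node (.node (.node (.node (.leaf 897) (.leaf 23763)) (.node (.leaf 11585) (.leaf 39779))) (.node (.node (.leaf 6081) (.leaf 31283)) (.node (.leaf 17410) (.leaf 50146)))) (.node (.node (.node (.leaf 3347) (.leaf 27794)) (.node (.leaf 14353) (.leaf 44577))) (.node (.node (.leaf 8833) (.leaf 35251)) (.node (.leaf 20547) (.leaf 57137))))) (.node (.node (.node (.node (.leaf 2067) (.leaf 25603)) (.node (.leaf 12995) (.leaf 42081))) (.node (.node (.leaf 7442) (.leaf 33378)) (.node (.leaf 19105) (.leaf 52945)))) (.node (.node (.node (.leaf 4720) (.leaf 29425)) (.node (.leaf 15907) (.leaf 47217))) (.node (.node (.leaf 10225) (.leaf 37777)) (.node (.leaf 22163) (.leaf 63985))))))))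

def twoPar22 : Janko.Tree (ℕ) :=
  (.node (.node (.node (.node (.node (.node (.node (.leaf 131) (.leaf 22658)) (.node (.leaf 10544) (.leaf 38561))) (.node (.node (.leaf 5073) (.leaf 29841)) (.node (.leaf 16273) (.leaf 48049)))) (.node (.node (.node (.leaf 2387) (.leaf 26131)) (.node (.leaf 13297) (.leaf 42657))) (.node (.node (.leaf 7779) (.leaf 33793)) (.node (.leaf 19473) (.leaf 53857))))) (.node (.node (.node (.node (.leaf 1203) (.leaf 24259)) (.node (.leaf 11904) (.leaf 40275))) (.node (.node (.leaf 6450) (.leaf 31824)) (.node (.leaf 17811) (.leaf 50819)))) (.node (.node (.node (.leaf 3683) (.leaf 28225)) (.node (.leaf 14753) (.leaf 45091))) (.node (.node (.leaf 9152) (.leaf 35873)) (.node (.leaf 20962) (.leaf 58723)))))) (.node (.node (.node (.node (.node (.leaf 643) (.leaf 23379)) (.node (.leaf 11234) (.leaf 39378))) (.node (.node (.leaf 5747) (.leaf 30771)) (.node (.leaf 17027) (.leaf 49697)))) (.node (.node (.node (.leaf 3027) (.leaf 27249)) (.node (.leaf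 13971) (.leaf 44161))) (.node (.node (.leaf 8481) (.leaf 34723)) (.node (.leaf 20163) (.leaf 55955))))) (.node (.node (.node (.node (.leaf 1778) (.leaf 25137)) (.node (.leaf 12641) (.leaf 41424))) (.node (.node (.leaf 7137) (.leaf 32978)) (.node (.leaf 18675) (.leaf 52226)))) (.node (.node (.node (.leaf 4402) (.leaf 28976)) (.node (.leaf 15538) (.leaf 46515))) (.node (.node (.leaf 9859) (.leaf 37121)) (.node (.leaf 21715) (.leaf 61123))))))) (.node (.node (.node (.node (.node (.node (.leaf 385) (.leaf 23057)) (.node (.leaf 10915) (.leaf 38945))) (.node (.node (.leaf 5441) (.leaf 30307)) (.node (.leaf 16626) (.leaf 48960)))) (.node (.node (.node (.leaf 2706) (.leaf 26658)) (.node (.leaf 13681) (.leaf 43363))) (.node (.node (.leaf 8161) (.leaf 34226)) (.node (.leaf 19872) (.leaf 54867))))) (.node (.node (.node (.node (.leaf 1489) (.leaf 24643)) (.node (.leaf 12291) (.leaf 40801))) (.node (.node (.leaf 6818) (.leaf 32434)) (.node (.leaf 18289) (.leaf 51571)))) (.node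 (.node (.node (.leaf 4065) (.leaf 28577)) (.node (.leaf 15185) (.leaf 45857))) (.node (.node (.leaf 9522) (.leaf 36546)) (.node (.leaf 21377) (.leaf 60049)))))) (.node (.node (.node (.node (.node (.leaf 899) (.leaf 23777)) (.node (.leaf 11587) (.leaf 39794))) (.node (.node (.leaf 6099) (.leaf 31313)) (.node (.leaf 17411) (.leaf 50177)))) (.node (.node (.node (.leaf 3361) (.leaf 27809)) (.node (.leaf 14368) (.leaf 44579))) (.node (.node (.leaf 8835) (.leaf 35283)) (.node (.leaf 20561) (.leaf 57139))))) (.node (.node (.node (.node (.leaf 2081) (.leaf 25632)) (.node (.leaf 13009) (.leaf 42097))) (.node (.node (.leaf 7443) (.leaf 33379)) (.node (.leaf 19120) (.leaf 53041)))) (.node (.node (.node (.leaf 4722) (.leaf 29442)) (.node (.leaf 15921) (.leaf 47233))) (.node (.node (.leaf 10243) (.leaf 37825)) (.node (.leaf 22177) (.leaf 64113))))))))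

def twoPar23 : Janko.Tree (ℕ) :=
  (.node (.node (.node (.node (.node (.node (.node (.leaf 145) (.leaf 22673)) (.node (.leaf 10547) (.leaf 38577))) (.node (.node (.leaf 5075) (.leaf 29856)) (.node (.leaf 16275) (.leaf 48130)))) (.node (.node (.node (.leaf 2418) (.leaf 26145)) (.node (.leaf 13299) (.leaf 42689))) (.node (.node (.leaf 7793) (.leaf 33795)) (.node (.leaf 19489) (.leaf 53873))))) (.node (.node (.node (.node (.leaf 1217) (.leaf 24289)) (.node (.leaf 11920) (.leaf 40289))) (.node (.node (.leaf 6451) (.leaf 31827)) (.node (.leaf 17825) (.leaf 50849)))) (.node (.node (.node (.leaf 3697) (.leaf 28241)) (.node (.leaf 14768) (.leaf 45121))) (.node (.node (.leaf 9154) (.leaf 35890)) (.node (.leaf 20963) (.leaf 58787)))))) (.node (.node (.node (.node (.node (.leaf 657) (.leaf 23395)) (.node (.leaf 11235) (.leaf 39379))) (.node (.node (.leaf 5761) (.leaf 30818)) (.node (.leaf 17056) (.leaf 49699)))) (.node (.node (.node (.leaf 3041) (.leaf 27267)) (.node (.leaf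 14000) (.leaf 44176))) (.node (.node (.leaf 8498) (.leaf 34737)) (.node (.leaf 20177) (.leaf 56050))))) (.node (.node (.node (.node (.leaf 1779) (.leaf 25154)) (.node (.leaf 12656) (.leaf 41426))) (.node (.node (.leaf 7154) (.leaf 32993)) (.node (.leaf 18689) (.leaf 52227)))) (.node (.node (.node (.leaf 4417) (.leaf 28978)) (.node (.leaf 15539) (.leaf 46530))) (.node (.node (.leaf 9873) (.leaf 37138)) (.node (.leaf 21745) (.leaf 61169))))))) (.node (.node (.node (.node (.node (.node (.leaf 400) (.leaf 23072)) (.node (.leaf 10931) (.leaf 38960))) (.node (.node (.leaf 5442) (.leaf 30321)) (.node (.leaf 16627) (.leaf 48963)))) (.node (.node (.node (.leaf 2707) (.leaf 26675)) (.node (.leaf 13698) (.leaf 43392))) (.node (.node (.leaf 8176) (.leaf 34227)) (.node (.leaf 19874) (.leaf 54881))))) (.node (.node (.node (.node (.leaf 1504) (.leaf 24658)) (.node (.leaf 12305) (.leaf 40803))) (.node (.node (.leaf 6819) (.leaf 32435)) (.node (.leaf 18291) (.leaf 51585)))) (.node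 (.node (.node (.leaf 4080) (.leaf 28592)) (.node (.leaf 15187) (.leaf 45923))) (.node (.node (.leaf 9523) (.leaf 36547)) (.node (.leaf 21392) (.leaf 60112)))))) (.node (.node (.node (.node (.node (.leaf 930) (.leaf 23793)) (.node (.leaf 11618) (.leaf 39811))) (.node (.node (.leaf 6113) (.leaf 31331)) (.node (.leaf 17426) (.leaf 50195)))) (.node (.node (.node (.leaf 3362) (.leaf 27811)) (.node (.leaf 14370) (.leaf 44611))) (.node (.node (.leaf 8864) (.leaf 35297)) (.node (.leaf 20577) (.leaf 57187))))) (.node (.node (.node (.node (.leaf 2096) (.leaf 25649)) (.node (.leaf 13010) (.leaf 42131))) (.node (.node (.leaf 7457) (.leaf 33393)) (.node (.leaf 19122) (.leaf 53120)))) (.node (.node (.node (.leaf 4723) (.leaf 29443)) (.node (.leaf 15937) (.leaf 47265))) (.node (.node (.leaf 10257) (.leaf 37857)) (.node (.leaf 22178) (.leaf 64227))))))))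

def twoPar24 : Janko.Tree (ℕ) :=
  (.node (.node (.node (.node (.node (.node (.node (.leaf 147) (.leaf 22688)) (.node (.leaf 10561) (.leaf 38595))) (.node (.node (.leaf 5089) (.leaf 29858)) (.node (.leaf 16289) (.leaf 48131)))) (.node (.node (.node (.leaf 2419) (.leaf 26147)) (.node (.leaf 13330) (.leaf 42707))) (.node (.node (.leaf 7795) (.leaf 33824)) (.node (.leaf 19490) (.leaf 53906))))) (.node (.node (.node (.node (.leaf 1218) (.leaf 24307)) (.node (.leaf 11922) (.leaf 40291))) (.node (.node (.leaf 6465) (.leaf 31857)) (.node (.leaf 17840) (.leaf 50865)))) (.node (.node (.node (.leaf 3698) (.leaf 28259)) (.node (.leaf 14785) (.leaf 45169))) (.node (.node (.leaf 9155) (.leaf 35907)) (.node (.leaf 20977) (.leaf 58801)))))) (.node (.node (.node (.node (.node (.leaf 672) (.leaf 23409)) (.node (.leaf 11249) (.leaf 39393))) (.node (.node (.leaf 5763) (.leaf 30819)) (.node (.leaf 17075) (.leaf 49728)))) (.node (.node (.node (.leaf 3042) (.leaf 27281)) (.node (.leaf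 14003) (.leaf 44178))) (.node (.node (.leaf 8513) (.leaf 34753)) (.node (.leaf 20179) (.leaf 56051))))) (.node (.node (.node (.node (.leaf 1793) (.leaf 25155)) (.node (.leaf 12658) (.leaf 41427))) (.node (.node (.leaf 7155) (.leaf 32995)) (.node (.leaf 18691) (.leaf 52289)))) (.node (.node (.node (.leaf 4432) (.leaf 28979)) (.node (.leaf 15553) (.leaf 46547))) (.node (.node (.leaf 9889) (.leaf 37203)) (.node (.leaf 21746) (.leaf 61251))))))) (.node (.node (.node (.node (.node (.node (.leaf 402) (.leaf 23074)) (.node (.leaf 10945) (.leaf 38977))) (.node (.node (.leaf 5443) (.leaf 30336)) (.node (.leaf 16641) (.leaf 49025)))) (.node (.node (.node (.leaf 2721) (.leaf 26705)) (.node (.leaf 13699) (.leaf 43394))) (.node (.node (.leaf 8178) (.leaf 34241)) (.node (.leaf 19875) (.leaf 54931))))) (.node (.node (.node (.node (.leaf 1507) (.leaf 24673)) (.node (.leaf 12320) (.leaf 40835))) (.node (.node (.leaf 6833) (.leaf 32449)) (.node (.leaf 18305) (.leaf 51601)))) (.node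 (.node (.node (.leaf 4082) (.leaf 28594)) (.node (.leaf 15217) (.leaf 45937))) (.node (.node (.leaf 9537) (.leaf 36563)) (.node (.leaf 21394) (.leaf 60114)))))) (.node (.node (.node (.node (.node (.leaf 931) (.leaf 23826)) (.node (.leaf 11619) (.leaf 39841))) (.node (.node (.leaf 6130) (.leaf 31346)) (.node (.leaf 17427) (.leaf 50209)))) (.node (.node (.node (.leaf 3363) (.leaf 27843)) (.node (.leaf 14371) (.leaf 44625))) (.node (.node (.leaf 8867) (.leaf 35315)) (.node (.leaf 20578) (.leaf 57249))))) (.node (.node (.node (.node (.leaf 2099) (.leaf 25651)) (.node (.leaf 13011) (.leaf 42145))) (.node (.node (.leaf 7459) (.leaf 33394)) (.node (.leaf 19123) (.leaf 53122)))) (.node (.node (.node (.leaf 4737) (.leaf 29457)) (.node (.leaf 15954) (.leaf 47313))) (.node (.node (.leaf 10273) (.leaf 37858)) (.node (.leaf 22193) (.leaf 64291))))))))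

def twoPar25 : Janko.Tree (ℕ) :=
  (.node (.node (.node (.node (.node (.node (.node (.leaf 161) (.leaf 22690)) (.node (.leaf 10577) (.leaf 38609))) (.node (.node (.leaf 5107) (.leaf 29859)) (.node (.leaf 16291) (.leaf 48146)))) (.node (.node (.node (.leaf 2433) (.leaf 26176)) (.node (.leaf 13331) (.leaf 42738))) (.node (.node (.leaf 7809) (.leaf 33827)) (.node (.leaf 19491) (.leaf 53907))))) (.node (.node (.node (.node (.leaf 1219) (.leaf 24322)) (.node (.leaf 11923) (.leaf 40338))) (.node (.node (.leaf 6466) (.leaf 31874)) (.node (.leaf 17843) (.leaf 50883)))) (.node (.node (.node (.leaf 3713) (.leaf 28273)) (.node (.leaf 14801) (.leaf 45171))) (.node (.node (.leaf 9169) (.leaf 35953)) (.node (.leaf 20979) (.leaf 58818)))))) (.node (.node (.node (.node (.node (.leaf 674) (.leaf 23424)) (.node (.leaf 11250) (.leaf 39411))) (.node (.node (.leaf 5777) (.leaf 30848)) (.node (.leaf 17089) (.leaf 49731)))) (.node (.node (.node (.leaf 3057) (.leaf 27313)) (.node (.leaf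 14017) (.leaf 44179))) (.node (.node (.leaf 8515) (.leaf 34787)) (.node (.leaf 20208) (.leaf 56081))))) (.node (.node (.node (.node (.leaf 1795) (.leaf 25169)) (.node (.leaf 12659) (.leaf 41441))) (.node (.node (.leaf 7171) (.leaf 33011)) (.node (.leaf 18721) (.leaf 52304)))) (.node (.node (.node (.leaf 4435) (.leaf 28993)) (.node (.leaf 15555) (.leaf 46579))) (.node (.node (.leaf 9904) (.leaf 37217)) (.node (.leaf 21747) (.leaf 61298))))))) (.node (.node (.node (.node (.node (.node (.leaf 403) (.leaf 23075)) (.node (.leaf 10960) (.leaf 39009))) (.node (.node (.leaf 5457) (.leaf 30353)) (.node (.leaf 16643) (.leaf 49057)))) (.node (.node (.node (.leaf 2722) (.leaf 26720)) (.node (.leaf 13713) (.leaf 43395))) (.node (.node (.leaf 8179) (.leaf 34258)) (.node (.leaf 19889) (.leaf 54945))))) (.node (.node (.node (.node (.leaf 1521) (.leaf 24675)) (.node (.leaf 12337) (.leaf 40899))) (.node (.node (.leaf 6851) (.leaf 32465)) (.node (.leaf 18323) (.leaf 51635)))) (.node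 (.node (.node (.leaf 4083) (.leaf 28595)) (.node (.leaf 15235) (.leaf 45954))) (.node (.node (.leaf 9539) (.leaf 36593)) (.node (.leaf 21395) (.leaf 60115)))))) (.node (.node (.node (.node (.node (.leaf 945) (.leaf 23827)) (.node (.leaf 11633) (.leaf 39856))) (.node (.node (.leaf 6145) (.leaf 31347)) (.node (.leaf 17441) (.leaf 50226)))) (.node (.node (.node (.leaf 3377) (.leaf 27874)) (.node (.leaf 14385) (.leaf 44640))) (.node (.node (.leaf 8881) (.leaf 35329)) (.node (.leaf 20579) (.leaf 57328))))) (.node (.node (.node (.node (.leaf 2129) (.leaf 25683)) (.node (.leaf 13025) (.leaf 42161))) (.node (.node (.leaf 7473) (.leaf 33411)) (.node (.leaf 19137) (.leaf 53123)))) (.node (.node (.node (.leaf 4754) (.leaf 29475)) (.node (.leaf 15955) (.leaf 47345))) (.node (.node (.leaf 10288) (.leaf 37921)) (.node (.leaf 22195) (.leaf 64370))))))))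

def twoPar26 : Janko.Tree (ℕ) :=
  (.node (.node (.node (.node (.node (.node (.node (.leaf 176) (.leaf 22691)) (.node (.leaf 10578) (.leaf 38624))) (.node (.node (.leaf 5121) (.leaf 29874)) (.node (.leaf 16322) (.leaf 48147)))) (.node (.node (.node (.leaf 2435) (.leaf 26179)) (.node (.leaf 13345) (.leaf 42739))) (.node (.node (.leaf 7824) (.leaf 33841)) (.node (.leaf 19505) (.leaf 53986))))) (.node (.node (.node (.node (.leaf 1235) (.leaf 24323)) (.node (.leaf 11937) (.leaf 40339))) (.node (.node (.leaf 6467) (.leaf 31891)) (.node (.leaf 17873) (.leaf 50913)))) (.node (.node (.node (.leaf 3715) (.leaf 28288)) (.node (.leaf 14802) (.leaf 45201))) (.node (.node (.leaf 9171) (.leaf 35968)) (.node (.leaf 21009) (.leaf 58835)))))) (.node (.node (.node (.node (.node (.leaf 675) (.leaf 23441)) (.node (.leaf 11251) (.leaf 39441))) (.node (.node (.leaf 5792) (.leaf 30865)) (.node (.leaf 17106) (.leaf 49745)))) (.node (.node (.node (.leaf 3059) (.leaf 27328)) (.node (.leaf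 14065) (.leaf 44193))) (.node (.node (.leaf 8547) (.leaf 34801)) (.node (.leaf 20211) (.leaf 56113))))) (.node (.node (.node (.node (.leaf 1826) (.leaf 25185)) (.node (.leaf 12673) (.leaf 41442))) (.node (.node (.leaf 7185) (.leaf 33040)) (.node (.leaf 18738) (.leaf 52307)))) (.node (.node (.node (.leaf 4449) (.leaf 29009)) (.node (.leaf 15584) (.leaf 46593))) (.node (.node (.leaf 9921) (.leaf 37232)) (.node (.leaf 21761) (.leaf 61299))))))) (.node (.node (.node (.node (.node (.node (.leaf 417) (.leaf 23089)) (.node (.leaf 10962) (.leaf 39027))) (.node (.node (.leaf 5459) (.leaf 30370)) (.node (.leaf 16672) (.leaf 49120)))) (.node (.node (.node (.leaf 2723) (.leaf 26738)) (.node (.leaf 13729) (.leaf 43409))) (.node (.node (.leaf 8193) (.leaf 34259)) (.node (.leaf 19906) (.leaf 54960))))) (.node (.node (.node (.node (.leaf 1536) (.leaf 24705)) (.node (.leaf 12353) (.leaf 40913))) (.node (.node (.leaf 6865) (.leaf 32483)) (.node (.leaf 18337) (.leaf 51649)))) (.node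 (.node (.node (.leaf 4097) (.leaf 28611)) (.node (.leaf 15249) (.leaf 45955))) (.node (.node (.leaf 9569) (.leaf 36595)) (.node (.leaf 21408) (.leaf 60131)))))) (.node (.node (.node (.node (.node (.leaf 947) (.leaf 23841)) (.node (.leaf 11635) (.leaf 39858))) (.node (.node (.leaf 6147) (.leaf 31361)) (.node (.leaf 17443) (.leaf 50240)))) (.node (.node (.node (.leaf 3379) (.leaf 27889)) (.node (.leaf 14386) (.leaf 44643))) (.node (.node (.leaf 8883) (.leaf 35347)) (.node (.leaf 20593) (.leaf 57361))))) (.node (.node (.node (.node (.leaf 2131) (.leaf 25697)) (.node (.leaf 13027) (.leaf 42163))) (.node (.node (.leaf 7488) (.leaf 33442)) (.node (.leaf 19155) (.leaf 53139)))) (.node (.node (.node (.leaf 4769) (.leaf 29505)) (.node (.leaf 15969) (.leaf 47346))) (.node (.node (.leaf 10290) (.leaf 37954)) (.node (.leaf 22226) (.leaf 64465))))))))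

def twoPar27 : Janko.Tree (ℕ) :=
  (.node (.node (.node (.node (.node (.node (.node (.leaf 178) (.leaf 22705)) (.node (.leaf 10579) (.leaf 38626))) (.node (.node (.leaf 5138) (.leaf 29889)) (.node (.leaf 16323) (.leaf 48163)))) (.node (.node (.node (.leaf 2449) (.leaf 26243)) (.node (.leaf 13347) (.leaf 42753))) (.node (.node (.leaf 7827) (.leaf 33843)) (.node (.leaf 19507) (.leaf 54003))))) (.node (.node (.node (.node (.leaf 1249) (.leaf 24337)) (.node (.leaf 11938) (.leaf 40369))) (.node (.node (.leaf 6481) (.leaf 31921)) (.node (.leaf 17875) (.leaf 50930)))) (.node (.node (.node (.leaf 3745) (.leaf 28290)) (.node (.leaf 14817) (.leaf 45233))) (.node (.node (.leaf 9185) (.leaf 36001)) (.node (.leaf 21026) (.leaf 58865)))))) (.node (.node (.node (.node (.node (.leaf 689) (.leaf 23473)) (.node (.leaf 11265) (.leaf 39458))) (.node (.node (.leaf 5811) (.leaf 30867)) (.node (.leaf 17121) (.leaf 49747)))) (.node (.node (.node (.leaf 3091) (.leaf 27330)) (.node (.leaf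 14066) (.leaf 44208))) (.node (.node (.leaf 8561) (.leaf 34817)) (.node (.leaf 20225) (.leaf 56289))))) (.node (.node (.node (.node (.leaf 1827) (.leaf 25187)) (.node (.leaf 12690) (.leaf 41505))) (.node (.node (.leaf 7201) (.leaf 33042)) (.node (.leaf 18739) (.leaf 52352)))) (.node (.node (.node (.leaf 4465) (.leaf 29042)) (.node (.leaf 15587) (.leaf 46608))) (.node (.node (.leaf 9923) (.leaf 37235)) (.node (.leaf 21763) (.leaf 61425))))))) (.node (.node (.node (.node (.node (.node (.leaf 418) (.leaf 23106)) (.node (.leaf 10963) (.leaf 39056))) (.node (.node (.leaf 5490) (.leaf 30371)) (.node (.leaf 16675) (.leaf 49169)))) (.node (.node (.node (.leaf 2737) (.leaf 26753)) (.node (.leaf 13744) (.leaf 43425))) (.node (.node (.leaf 8194) (.leaf 34273)) (.node (.leaf 19907) (.leaf 54963))))) (.node (.node (.node (.node (.leaf 1538) (.leaf 24720)) (.node (.leaf 12368) (.leaf 40928))) (.node (.node (.leaf 6881) (.leaf 32497)) (.node (.leaf 18354) (.leaf 51680)))) (.node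 (.node (.node (.leaf 4114) (.leaf 28625)) (.node (.leaf 15264) (.leaf 46002))) (.node (.node (.leaf 9586) (.leaf 36643)) (.node (.leaf 21410) (.leaf 60147)))))) (.node (.node (.node (.node (.node (.leaf 961) (.leaf 23843)) (.node (.leaf 11649) (.leaf 39859))) (.node (.node (.leaf 6176) (.leaf 31363)) (.node (.leaf 17472) (.leaf 50242)))) (.node (.node (.node (.leaf 3410) (.leaf 27904)) (.node (.leaf 14401) (.leaf 44689))) (.node (.node (.leaf 8897) (.leaf 35362)) (.node (.leaf 20595) (.leaf 57363))))) (.node (.node (.node (.node (.leaf 2145) (.leaf 25713)) (.node (.leaf 13056) (.leaf 42209))) (.node (.node (.leaf 7491) (.leaf 33443)) (.node (.leaf 19169) (.leaf 53171)))) (.node (.node (.node (.leaf 4771) (.leaf 29523)) (.node (.leaf 15984) (.leaf 47409))) (.node (.node (.leaf 10291) (.leaf 37971)) (.node (.leaf 22273) (.leaf 64515))))))))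

def twoPar28 : Janko.Tree (ℕ) :=
  (.node (.node (.node (.node (.node (.node (.node (.leaf 179) (.leaf 22723)) (.node (.leaf 10593) (.leaf 38627))) (.node (.node (.leaf 5153) (.leaf 29891)) (.node (.leaf 16339) (.leaf 48211)))) (.node (.node (.node (.leaf 2465) (.leaf 26257)) (.node (.leaf 13376) (.leaf 42787))) (.node (.node (.leaf 7857) (.leaf 33872)) (.node (.leaf 19538) (.leaf 54081))))) (.node (.node (.node (.node (.leaf 1264) (.leaf 24339)) (.node (.leaf 11953) (.leaf 40371))) (.node (.node (.leaf 6483) (.leaf 31936)) (.node (.leaf 17889) (.leaf 51011)))) (.node (.node (.node (.leaf 3746) (.leaf 28291)) (.node (.leaf 14850) (.leaf 45251))) (.node (.node (.leaf 9200) (.leaf 36049)) (.node (.leaf 21027) (.leaf 58883)))))) (.node (.node (.node (.node (.node (.leaf 690) (.leaf 23491)) (.node (.leaf 11267) (.leaf 39459))) (.node (.node (.leaf 5825) (.leaf 30899)) (.node (.leaf 17139) (.leaf 49776)))) (.node (.node (.node (.leaf 3105) (.leaf 27331)) (.node (.leaf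 14067) (.leaf 44210))) (.node (.node (.leaf 8578) (.leaf 34832)) (.node (.leaf 20273) (.leaf 56352))))) (.node (.node (.node (.node (.leaf 1841) (.leaf 25218)) (.node (.leaf 12705) (.leaf 41523))) (.node (.node (.leaf 7216) (.leaf 33043)) (.node (.leaf 18753) (.leaf 52386)))) (.node (.node (.node (.leaf 4467) (.leaf 29043)) (.node (.leaf 15617) (.leaf 46625))) (.node (.node (.leaf 9937) (.leaf 37267)) (.node (.leaf 21811) (.leaf 61475))))))) (.node (.node (.node (.node (.node (.node (.leaf 419) (.leaf 23121)) (.node (.leaf 10977) (.leaf 39058))) (.node (.node (.leaf 5505) (.leaf 30385)) (.node (.leaf 16705) (.leaf 49171)))) (.node (.node (.node (.leaf 2739) (.leaf 26755)) (.node (.leaf 13746) (.leaf 43457))) (.node (.node (.leaf 8209) (.leaf 34274)) (.node (.leaf 19921) (.leaf 55027))))) (.node (.node (.node (.node (.leaf 1539) (.leaf 24722)) (.node (.leaf 12370) (.leaf 40931))) (.node (.node (.leaf 6883) (.leaf 32529)) (.node (.leaf 18368) (.leaf 51682)))) (.node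 (.node (.node (.leaf 4115) (.leaf 28640)) (.node (.leaf 15281) (.leaf 46033))) (.node (.node (.leaf 9587) (.leaf 36657)) (.node (.leaf 21411) (.leaf 60162)))))) (.node (.node (.node (.node (.node (.leaf 977) (.leaf 23872)) (.node (.leaf 11665) (.leaf 39873))) (.node (.node (.leaf 6178) (.leaf 31392)) (.node (.leaf 17475) (.leaf 50243)))) (.node (.node (.node (.leaf 3411) (.leaf 27906)) (.node (.leaf 14433) (.leaf 44704))) (.node (.node (.leaf 8912) (.leaf 35377)) (.node (.leaf 20626) (.leaf 57409))))) (.node (.node (.node (.node (.leaf 2160) (.leaf 25715)) (.node (.leaf 13059) (.leaf 42224))) (.node (.node (.leaf 7521) (.leaf 33457)) (.node (.leaf 19185) (.leaf 53186)))) (.node (.node (.node (.leaf 4785) (.leaf 29538)) (.node (.leaf 15986) (.leaf 47426))) (.node (.node (.leaf 10305) (.leaf 38000)) (.node (.leaf 22289) (.leaf 64707))))))))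

def twoPar29 : Janko.Tree (ℕ) :=
  (.node (.node (.node (.node (.node (.node (.node (.leaf 193) (.leaf 22737)) (.node (.leaf 10595) (.leaf 38658))) (.node (.node (.leaf 5155) (.leaf 29921)) (.node (.leaf 16353) (.leaf 48227)))) (.node (.node (.node (.leaf 2480) (.leaf 26272)) (.node (.leaf 13379) (.leaf 42801))) (.node (.node (.leaf 7859) (.leaf 33874)) (.node (.leaf 19539) (.leaf 54130))))) (.node (.node (.node (.node (.leaf 1266) (.leaf 24368)) (.node (.leaf 11985) (.leaf 40403))) (.node (.node (.leaf 6514) (.leaf 31954)) (.node (.leaf 17922) (.leaf 51057)))) (.node (.node (.node (.leaf 3747) (.leaf 28305)) (.node (.leaf 14865) (.leaf 45281))) (.node (.node (.leaf 9216) (.leaf 36066)) (.node (.leaf 21056) (.leaf 58930)))))) (.node (.node (.node (.node (.node (.leaf 691) (.leaf 23505)) (.node (.leaf 11296) (.leaf 39473))) (.node (.node (.leaf 5840) (.leaf 30913)) (.node (.leaf 17153) (.leaf 49778)))) (.node (.node (.node (.leaf 3121) (.leaf 27346)) (.node (.leaf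 14081) (.leaf 44211))) (.node (.node (.leaf 8593) (.leaf 34834)) (.node (.leaf 20275) (.leaf 56354))))) (.node (.node (.node (.node (.leaf 1843) (.leaf 25265)) (.node (.leaf 12707) (.leaf 41553))) (.node (.node (.leaf 7218) (.leaf 33057)) (.node (.leaf 18768) (.leaf 52403)))) (.node (.node (.node (.leaf 4481) (.leaf 29057)) (.node (.leaf 15632) (.leaf 46657))) (.node (.node (.leaf 9952) (.leaf 37281)) (.node (.leaf 21825) (.leaf 61507))))))) (.node (.node (.node (.node (.node (.node (.leaf 435) (.leaf 23123)) (.node (.leaf 10994) (.leaf 39059))) (.node (.node (.leaf 5520) (.leaf 30401)) (.node (.leaf 16720) (.leaf 49219)))) (.node (.node (.node (.leaf 2770) (.leaf 26817)) (.node (.leaf 13747) (.leaf 43505))) (.node (.node (.leaf 8211) (.leaf 34291)) (.node (.leaf 19937) (.leaf 55041))))) (.node (.node (.node (.node (.leaf 1553) (.leaf 24723)) (.node (.leaf 12371) (.leaf 40963))) (.node (.node (.leaf 6899) (.leaf 32544)) (.node (.leaf 18370) (.leaf 51683)))) (.node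 (.node (.node (.leaf 4129) (.leaf 28657)) (.node (.leaf 15283) (.leaf 46081))) (.node (.node (.leaf 9601) (.leaf 36673)) (.node (.leaf 21426) (.leaf 60227)))))) (.node (.node (.node (.node (.node (.leaf 992) (.leaf 23875)) (.node (.leaf 11680) (.leaf 39906))) (.node (.node (.leaf 6179) (.leaf 31395)) (.node (.leaf 17490) (.leaf 50257)))) (.node (.node (.node (.leaf 3425) (.leaf 27907)) (.node (.leaf 14434) (.leaf 44706))) (.node (.node (.leaf 8914) (.leaf 35379)) (.node (.leaf 20627) (.leaf 57491))))) (.node (.node (.node (.node (.leaf 2162) (.leaf 25747)) (.node (.leaf 13073) (.leaf 42226))) (.node (.node (.leaf 7536) (.leaf 33473)) (.node (.leaf 19187) (.leaf 53187)))) (.node (.node (.node (.leaf 4800) (.leaf 29539)) (.node (.leaf 15987) (.leaf 47456))) (.node (.node (.leaf 10306) (.leaf 38017)) (.node (.leaf 22291) (.leaf 64721))))))))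

def twoPar30 : Janko.Tree (ℕ) :=
  (.node (.node (.node (.node (.node (.node (.node (.leaf 208) (.leaf 22753)) (.node (.leaf 10626) (.leaf 38673))) (.node (.node (.leaf 5184) (.leaf 29936)) (.node (.leaf 16368) (.leaf 48275)))) (.node (.node (.node (.leaf 2482) (.leaf 26275)) (.node (.leaf 13409) (.leaf 42818))) (.node (.node (.leaf 7873) (.leaf 33875)) (.node (.leaf 19553) (.leaf 54131))))) (.node (.node (.node (.node (.leaf 1267) (.leaf 24371)) (.node (.leaf 11986) (.leaf 40417))) (.node (.node (.leaf 6529) (.leaf 31969)) (.node (.leaf 17923) (.leaf 51072)))) (.node (.node (.node (.leaf 3761) (.leaf 28322)) (.node (.leaf 14880) (.leaf 45297))) (.node (.node (.leaf 9218) (.leaf 36080)) (.node (.leaf 21075) (.leaf 59011)))))) (.node (.node (.node (.node (.node (.leaf 705) (.leaf 23520)) (.node (.leaf 11299) (.leaf 39475))) (.node (.node (.leaf 5842) (.leaf 30929)) (.node (.leaf 17155) (.leaf 49779)))) (.node (.node (.node (.leaf 3136) (.leaf 27361)) (.node (.leaf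 14083) (.leaf 44225))) (.node (.node (.leaf 8608) (.leaf 34835)) (.node (.leaf 20289) (.leaf 56355))))) (.node (.node (.node (.node (.leaf 1857) (.leaf 25281)) (.node (.leaf 12739) (.leaf 41570))) (.node (.node (.leaf 7219) (.leaf 33074)) (.node (.leaf 18785) (.leaf 52434)))) (.node (.node (.node (.leaf 4499) (.leaf 29059)) (.node (.leaf 15634) (.leaf 46690))) (.node (.node (.leaf 9954) (.leaf 37297)) (.node (.leaf 21840) (.leaf 61811))))))) (.node (.node (.node (.node (.node (.node (.leaf 449) (.leaf 23139)) (.node (.leaf 10995) (.leaf 39073))) (.node (.node (.leaf 5523) (.leaf 30403)) (.node (.leaf 16722) (.leaf 49233)))) (.node (.node (.node (.leaf 2771) (.leaf 26832)) (.node (.leaf 13761) (.leaf 43537))) (.node (.node (.leaf 8240) (.leaf 34322)) (.node (.leaf 19954) (.leaf 55058))))) (.node (.node (.node (.node (.leaf 1568) (.leaf 24753)) (.node (.leaf 12385) (.leaf 40977))) (.node (.node (.leaf 6913) (.leaf 32546)) (.node (.leaf 18371) (.leaf 51713)))) (.node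 (.node (.node (.leaf 4144) (.leaf 28689)) (.node (.leaf 15297) (.leaf 46098))) (.node (.node (.leaf 9616) (.leaf 36689)) (.node (.leaf 21427) (.leaf 60241)))))) (.node (.node (.node (.node (.node (.leaf 994) (.leaf 23905)) (.node (.leaf 11682) (.leaf 39907))) (.node (.node (.leaf 6193) (.leaf 31459)) (.node (.leaf 17491) (.leaf 50306)))) (.node (.node (.node (.leaf 3427) (.leaf 27921)) (.node (.leaf 14449) (.leaf 44707))) (.node (.node (.leaf 8915) (.leaf 35409)) (.node (.leaf 20641) (.leaf 57538))))) (.node (.node (.node (.node (.leaf 2163) (.leaf 25761)) (.node (.leaf 13075) (.leaf 42227))) (.node (.node (.leaf 7538) (.leaf 33488)) (.node (.leaf 19217) (.leaf 53233)))) (.node (.node (.node (.leaf 4819) (.leaf 29553)) (.node (.leaf 16002) (.leaf 47473))) (.node (.node (.leaf 10307) (.leaf 38033)) (.node (.leaf 22305) (.leaf 65107))))))))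

def twoPar31 : Janko.Tree (ℕ) :=
  (.node (.node (.node (.node (.node (.node (.node (.leaf 210) (.leaf 22755)) (.node (.leaf 10627) (.leaf 38675))) (.node (.node (.leaf 5186) (.leaf 29938)) (.node (.leaf 16371) (.leaf 48321)))) (.node (.node (.node (.leaf 2483) (.leaf 26307)) (.node (.leaf 13424) (.leaf 42883))) (.node (.node (.leaf 7891) (.leaf 33890)) (.node (.leaf 19555) (.leaf 54145))))) (.node (.node (.node (.node (.leaf 1281) (.leaf 24385)) (.node (.leaf 12001) (.leaf 40433))) (.node (.node (.leaf 6544) (.leaf 31971)) (.node (.leaf 17939) (.leaf 51074)))) (.node (.node (.node (.leaf 3794) (.leaf 28337)) (.node (.leaf 14898) (.leaf 45299))) (.node (.node (.leaf 9219) (.leaf 36082)) (.node (.leaf 21089) (.leaf 59072)))))) (.node (.node (.node (.node (.node (.leaf 707) (.leaf 23522)) (.node (.leaf 11313) (.leaf 39504))) (.node (.node (.leaf 5843) (.leaf 30931)) (.node (.leaf 17171) (.leaf 49795)))) (.node (.node (.node (.leaf 3138) (.leaf 27394)) (.node (.leaf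 14114) (.leaf 44257))) (.node (.node (.leaf 8610) (.leaf 34865)) (.node (.leaf 20291) (.leaf 56371))))) (.node (.node (.node (.node (.leaf 1872) (.leaf 25283)) (.node (.leaf 12753) (.leaf 41587))) (.node (.node (.leaf 7233) (.leaf 33075)) (.node (.leaf 18801) (.leaf 52435)))) (.node (.node (.node (.leaf 4513) (.leaf 29088)) (.node (.leaf 15635) (.leaf 46691))) (.node (.node (.leaf 9955) (.leaf 37314)) (.node (.leaf 21843) (.leaf 61825))))))) (.node (.node (.node (.node (.node (.node (.leaf 464) (.leaf 23168)) (.node (.leaf 11009) (.leaf 39074))) (.node (.node (.leaf 5537) (.leaf 30434)) (.node (.leaf 16723) (.leaf 49315)))) (.node (.node (.node (.leaf 2785) (.leaf 26834)) (.node (.leaf 13776) (.leaf 43538))) (.node (.node (.leaf 8242) (.leaf 34353)) (.node (.leaf 19955) (.leaf 55075))))) (.node (.node (.node (.node (.leaf 1570) (.leaf 24755)) (.node (.leaf 12386) (.leaf 40995))) (.node (.node (.leaf 6928) (.leaf 32547)) (.node (.leaf 18385) (.leaf 51730)))) (.node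 (.node (.node (.leaf 4161) (.leaf 28707)) (.node (.leaf 15312) (.leaf 46113))) (.node (.node (.leaf 9633) (.leaf 36723)) (.node (.leaf 21441) (.leaf 60257)))))) (.node (.node (.node (.node (.node (.leaf 995) (.leaf 23907)) (.node (.leaf 11683) (.leaf 39921))) (.node (.node (.leaf 6210) (.leaf 31473)) (.node (.leaf 17505) (.leaf 50307)))) (.node (.node (.node (.leaf 3441) (.leaf 27939)) (.node (.leaf 14482) (.leaf 44722))) (.node (.node (.leaf 8929) (.leaf 35411)) (.node (.leaf 20643) (.leaf 57539))))) (.node (.node (.node (.node (.leaf 2177) (.leaf 25777)) (.node (.leaf 13089) (.leaf 42243))) (.node (.node (.leaf 7539) (.leaf 33490)) (.node (.leaf 19235) (.leaf 53251)))) (.node (.node (.node (.leaf 4833) (.leaf 29555)) (.node (.leaf 16003) (.leaf 47489))) (.node (.node (.leaf 10321) (.leaf 38065)) (.node (.leaf 22323) (.leaf 65331))))))))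

def twoPar : Janko.Tree (ℕ) := (.node (.node (.node (.node (.node twoPar0 twoPar16) (.node twoPar8 twoPar24)) (.node (.node twoPar4 twoPar20) (.node twoPar12 twoPar28))) (.node (.node (.node twoPar2 twoPar18) (.node twoPar10 twoPar26)) (.node (.node twoPar6 twoPar22) (.node twoPar14 twoPar30)))) (.node (.node (.node (.node twoPar1 twoPar17) (.node twoPar9 twoPar25)) (.node (.node twoPar5 twoPar21) (.node twoPar13 twoPar29))) (.node (.node (.node twoPar3 twoPar19) (.node twoPar11 twoPar27)) (.node (.node twoPar7 twoPar23) (.node twoPar15 twoPar31)))))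

def twoL0 : Janko.Tree (List ℤ) :=
  (.node (.node (.node (.node (.node (.node (.node (.leaf []) (.leaf [1, 0, 0, 0, 0, 0, 0, 0, 0, 0, 0, 0, 0, 0, 0, 0, 0])) (.leaf [-216838, 276300, 41746, 80751, 221548, 170239, -172734, -57874, -11628, -34916, -29520, -80, -4132, 0, 0, -1, -1])) (.node (.leaf [-2, 0, -1, -1, 1, 1]) (.leaf [89, -28, -34, 34, -30, -62, 28, -4, 10, 2, 8, -2]))) (.node (.node (.leaf [1]) (.leaf [1])) (.node (.leaf []) (.leaf [390, -140, -48, 92, -219, -199, 111, -6, 52, 4, 26, -6])))) (.node (.node (.node (.leaf [91, -34, -80, 53, -25, -76, 37, -10, 18, -6, 16, -1]) (.leaf [1])) (.node (.leaf [1]) (.leaf [2, -6, 6, 1, -6, -1, 0, 3]))) (.node (.node (.leaf [-7, -2, -1, -4, 1, 4, 0, 1]) (.leaf [-39, -96, -78, -121, -21, 16, 65, 12, 7, 18, 9, 1, 1])) (.node (.leaf [1899, -96, 874, 253, -1044, -1096, 491, 76, -278, 162, 74, -29, 43]) (.leaf [55913, 34946, 32198, 8630, -10610, -28112, 8244, -5922, -15620, 4488, -1550, -1123, 2254, 0, 0, 0, 1]))))) (.node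 (.node (.node (.node (.leaf [0, 2, -1, -1, 1, 1, 0, -1]) (.leaf [23, 6, -41, 9, 12, -28, 19, -8, 0, 0, 5])) (.node (.leaf [1]) (.leaf [3046, 4098, -403, 3032, 1782, -1885, -475, -1277, -253, -309, -183, -11, -16, 0, -1]))) (.node (.node (.leaf [-2, -6, 3, 0, -3, 0, 0, 3]) (.leaf [1])) (.node (.leaf [-2, 0, -1, -1, 1, 1]) (.leaf [-3, -4, 3, -3, -3, 3, 0, 2])))) (.node (.node (.node (.leaf [1]) (.leaf [])) (.node (.leaf [1306, -104, -91, 479, -459, -809, 318, -70, 64, 7, 52, -1]) (.leaf [-66, 14, 33, -37, 22, 50, -23, 4, -8, 4, -8, 1]))) (.node (.node (.leaf [-5, 2, -4, -3, 4, 3, 0, -1]) (.leaf [21568, -35274, -520, -5298, -28100, -12992, 12542, 6720, 4964, 2915, 3079, -37, -4, 0, 1])) (.node (.leaf [1]) (.leaf [-23448, 278100, 47570, 91394, 158996, 41849, -96739, -65016, -34482, -16738, -21300, -2382, 868, 0, 1, 0, 1])))))) (.node (.node (.node (.node (.node (.leaf [1, 0, 1, 0, -1]) (.leaf [1, 0, 1, 0, -1])) (.node (.leaf []) (.leaf [-65540, 62262, -2337, -1180, 60084,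 40891, -29087, -11669, -8146, -5088, -6004, -44, -180, 0, -1, 1]))) (.node (.node (.leaf []) (.leaf [-281, 214, -587, 46, 519, -130, 104, -76, -6, -50, -15, 37, 3])) (.node (.leaf [-3, 2, -3, -2, 3, 2, 0, -1]) (.leaf [26568, -16120, 1200, 3284, -18684, -15576, 8832, 2106, 2278, 1834, 1946, -206, 102, -1, 1])))) (.node (.node (.node (.leaf [3, 0, 1, 1, -1, -1]) (.leaf [110, -22, -41, 39, -27, -73, 28, -12, 12, 4, 8, -1])) (.node (.leaf [1, 0, 1, 0, -1]) (.leaf [648, -176, -287, 218, -182, -445, 209, -52, 82, 17, 49, -7, -1]))) (.node (.node (.leaf [-1, 0, 0, -1, 0, 1]) (.leaf [-80579, -91162, -58167, -29590, -2463, 34296, 1902, 16724, 25600, -1595, 6561, 1088, -2797, 0, 0, 0, -1])) (.node (.leaf [-237, 120, 262, -70, -5, 207, -97, 40, -59, -19, -21, -1, 0, 0, -1]) (.leaf [60, -16, -35, 32, -21, -46, 24, -3, 8, -4, 8, -1]))))) (.node (.node (.node (.node (.leaf [-426, 92, 134, -122, 144, 246, -118, 37, -54, -10, -26, 7]) (.leaf [52522, -62106, -3586, -4750, -53384, -35306,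 29166, 11894, 7700, 5081, 6014, 176, 188, 0, 0, 1])) (.node (.leaf []) (.leaf [-248539, 310284, 34447, 85816, 255364, 188011, -187111, -64996, -14121, -39041, -32667, 245, -4562, 0, 0, -1, -1]))) (.node (.node (.leaf [1, 0, 1, 0, -1]) (.leaf [0, 0, -1, 0, 1])) (.node (.leaf [0, 0, -1, 0, 1]) (.leaf [-182820, 158612, -62178, 18387, 181026, 107287, -79690, -40107, -3282, -19906, -12925, 286, -3372, 0, 0, -1, -1])))) (.node (.node (.node (.leaf [-14, -4, -5, -6, 5, 6, 0, 2]) (.leaf [-3163, 3798, 864, 2548, 3573, 1745, -2985, -587, -97, -657, -561, 71, -68, 0, -1])) (.node (.leaf [1, 0, 1, 0, -1]) (.leaf [-148, 140, 110, -32, 69, 135, -79, -8, -30, -12, -20]))) (.node (.node (.leaf []) (.leaf [121006, -22692, 45170, 1234, -71072, -67154, 37488, 6237, -13048, 12470, 3941, -1568, 3314, 0, 0, 1, 1])) (.node (.leaf [-2, 0, -1, -1, 1, 1]) (.leaf [-173359, 149760, -42904, 21928, 164370, 106274, -82266, -35586, -2636, -20328, -13690, 634, -3274, 0, 0, -1, -1])))))))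

def twoL1 : Janko.Tree (List ℤ) :=
  (.node (.node (.node (.node (.node (.node (.node (.leaf []) (.leaf [0, 1, 0, 0, 0, 0, 0, 0, 0, 0, 0, 0, 0, 0, 0, 0, 0])) (.leaf [0, 1])) (.node (.leaf [-1162, 14, -111, -373, 474, 536, -165, 92, -74, -10, -26, 10, 1]) (.leaf [218496, -279364, -42138, -80566, -223288, -171828, 173502, 58414, 11960, 35272, 29862, 34, 4140, -1, 0, 1, 1]))) (.node (.node (.leaf []) (.leaf [-19, 133, -86, -7, 89, 18, 15, -45, -9, -12, 1, 0, -1])) (.node (.leaf [0, 1]) (.leaf [0, 1])))) (.node (.node (.node (.leaf []) (.leaf [312, -12, -117, 217, -22, -248, 45, -33, 34, -8, 12, 0, 1])) (.node (.leaf []) (.leaf [0, 1]))) (.node (.node (.leaf [0, 1]) (.leaf [249302, -307540, 34996, -72228, -278731, -162755, 150271, 69559, 13839, 38962, 28016, -1483, 4877, 0, 1, 0, 1])) (.node (.leaf [0, 1]) (.leaf [0, 1]))))) (.node (.node (.node (.node (.leaf [0, 1]) (.leaf [])) (.node (.leaf []) (.leaf [7543, 18481, 7575, 11126, 5073, -968, -6410, -4278, -1486, -1899,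 -1602, 56, -31, 0, -1, 1]))) (.node (.node (.leaf [0, 1]) (.leaf [-71, 51, 31, -14, 33, 50, -26, -1, -14, -5, -5])) (.node (.leaf [-30, 32, 23, -9, 24, 22, -15, -2, -9, 2, -6, 0, -1]) (.leaf [0, 1])))) (.node (.node (.node (.leaf []) (.leaf [0, 1])) (.node (.leaf []) (.leaf [-146503, 110217, -63481, 12494, 140094, 81729, -56829, -29688, 1892, -16171, -8615, 643, -3169, 1, -1, 0, -1]))) (.node (.node (.leaf []) (.leaf [1166, -763, -711, 97, -520, -826, 569, -28, 210, 81, 120, -2, 1])) (.node (.leaf []) (.leaf [0, 1])))))) (.node (.node (.node (.node (.node (.leaf []) (.leaf [])) (.node (.leaf [0, 1]) (.leaf []))) (.node (.node (.leaf [0, 1]) (.leaf [0, 1])) (.node (.leaf [0, 1]) (.leaf [0, 1])))) (.node (.node (.node (.leaf []) (.leaf [0, -1, 0, -2, 0, 0, 0, 0, 0, 1])) (.node (.leaf []) (.leaf [0, 1]))) (.node (.node (.leaf [-2, -5, 4, -4, -4, 2, 0, 2, 0, 1]) (.leaf [])) (.node (.leaf [0, 1]) (.leaf [0, 1]))))) (.node (.node (.node (.node (.leaf [-2, 3, 8, -4, -6, 4,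 2, 2, -2, -1]) (.leaf [0, 1])) (.node (.leaf [0, 1]) (.leaf [0, 1]))) (.node (.node (.leaf []) (.leaf [])) (.node (.leaf []) (.leaf [0, 2, 0, 2, 0, 0, 0, 0, 0, -1])))) (.node (.node (.node (.leaf [0, 1]) (.leaf [0, 1])) (.node (.leaf [-110, 817, -314, 0, 536, 162, -50, -268, -62, -50, -22, -4, -2, 0, 0, 0, -1]) (.leaf [0, 1]))) (.node (.node (.leaf [0, 1]) (.leaf [0, 1])) (.node (.leaf [982, -449, -185, 293, -532, -618, 327, 32, 140, 0, 54, -2, 1]) (.leaf [-531, 287, 310, -77, 202, 381, -244, 21, -86, -31, -48, 1])))))))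

def twoL2 : Janko.Tree (List ℤ) :=
  (.node (.node (.node (.node (.node (.node (.node (.leaf []) (.leaf [0, 0, 1, 0, 0, 0, 0, 0, 0, 0, 0, 0, 0, 0, 0, 0, 0])) (.leaf [674, -340, -136, 200, -375, -423, 219, 24, 104, 2, 40, -2, 2])) (.node (.leaf [0, 0, 0, -1, 0, 0, 1]) (.leaf [0, 0, 1]))) (.node (.node (.leaf []) (.leaf [-5, 2, 0, -1, 3, 2, -1, 0, -1])) (.node (.leaf [2, -2, 0, -1, -2, 0, 1, 0, 1]) (.leaf [-46314, 55942, 18817, 5157, 40656, 34950, -30247, -8470, -8443, -4840, -6128, -48, -42, 0, -1, 1])))) (.node (.node (.node (.leaf [0, 0, 1]) (.leaf [])) (.node (.leaf []) (.leaf [-92, 32, 16, -23, 44, 55, -28, 2, -11, -2, -5]))) (.node (.node (.leaf []) (.leaf [913, -814, -591, 21, -479, -669, 468, 15, 198, 92, 104, -1, -1])) (.node (.leaf [1090, 422, 1283, 193, -656, -526, 97, 76, -404, 104, -1, -29, 43]) (.leaf [1901, 25858, 82416, -14422, -22351, 14953, -10787, 8849, -20630, 2685, -6276, 176, 2267, 0, 0, 0, 1]))))) (.node (.node (.node (.node (.leaf []) (.leaf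 [-18, -6, -16, -9, 9, 3, 6, 2, 0, 0, 1])) (.node (.leaf []) (.leaf [0, 0, 1]))) (.node (.node (.leaf [0, -8, -30, -2, 7, -13, 15, 0, 1, 0, 3]) (.leaf [-3, -2, -1, -1, 1, 2, -1, 0, 1])) (.node (.leaf [0, 0, 0, -1, 0, 0, 1]) (.leaf [1, -2, 11, -3, -7, 7, -4, 1, 1, 0, -1])))) (.node (.node (.node (.leaf [11, 2, -1, 5, -1, -6, 1, -2, 1]) (.leaf [])) (.node (.leaf [0, 0, 1, 1, 0, 0, -1]) (.leaf [0, 0, 0, -1, 0, 0, 1]))) (.node (.node (.leaf [0, 0, 1]) (.leaf [-4, 2, 1, -2, 2, 2, 0, 0, -1])) (.node (.leaf [-3, -10, 3, 3, -3, -2, -1, 4, 1]) (.leaf [-16493, -36266, -12919, -18502, -9490, 4565, 7945, 7879, 4254, 3196, 3004, -174, -26, 0, 1, -1])))))) (.node (.node (.node (.node (.node (.leaf [0, 0, 1]) (.leaf [0, 0, 1])) (.node (.leaf []) (.leaf [0, 0, 0, -1, 0, 0, 1]))) (.node (.node (.leaf []) (.leaf [-269, 214, -580, 51, 511, -135, 106, -75, -6, -50, -15, 36, 3])) (.node (.leaf []) (.leaf [28773, -16106, -649, 4170, -18767, -17243, 9777, 1663, 2553, 1804, 2189, -234, 78,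 -1, 1])))) (.node (.node (.node (.leaf [0, 0, 0, -1, 0, 0, 1]) (.leaf [-326, 40, 179, -173, 19, 247, -64, 51, -33, -16, -33, 12, -1])) (.node (.leaf [0, 0, 1]) (.leaf [256, -92, -201, 74, -47, -201, 117, -26, 42, 9, 25, -3, -1]))) (.node (.node (.leaf [0, 0, 1, 1, 0, 0, -1]) (.leaf [0, 0, 0, -1, 0, 0, 1])) (.node (.leaf [4, -2, -1, 1, -2, -2, 1, 0, 1]) (.leaf [34699, -2952, 6205, 9874, -15875, -18692, 6664, -849, 369, 918, 879, -96, 255, 0, 0, 1]))))) (.node (.node (.node (.node (.leaf [0, 0, 1, 1, 0, 0, -1]) (.leaf [1422, -30, 182, 514, -598, -681, 189, -87, 83, 3, 30, -15, 1])) (.node (.leaf [-2, 2, -1, -1, 2, 0, 1, 0, -1]) (.leaf []))) (.node (.node (.leaf [0, 0, 1]) (.leaf [0, 0, 1])) (.node (.leaf [0, 0, 1]) (.leaf [0, 0, 1, 1, 0, 0, -1])))) (.node (.node (.node (.leaf [128, -134, -105, 28, -63, -120, 72, 9, 29, 10, 19]) (.leaf [])) (.node (.leaf [0, 0, 1]) (.leaf [203, -166, -103, -24, -131, -139, 127, 11, 32, 18, 22]))) (.node (.node (.leaf []) (.leaf [])) (.node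 (.leaf [0, 0, 0, -1, 0, 0, 1]) (.leaf [0, 0, 1])))))))

def twoL3 : Janko.Tree (List ℤ) :=
  (.node (.node (.node (.node (.node (.node (.node (.leaf []) (.leaf [0, 0, 0, 1, 0, 0, 0, 0, 0, 0, 0, 0, 0, 0, 0, 0, 0])) (.leaf [1190, -776, -564, 334, -489, -873, 404, -6, 238, 66, 88, 4, -2])) (.node (.leaf [0, 0, 0, 1]) (.leaf [12, 14, 0, 3, 1, 3, -5, -9, 2, -1, 0, 1]))) (.node (.node (.leaf [-545, 268, 125, -169, 285, 357, -182, -17, -82, -4, -32, 1]) (.leaf [])) (.node (.leaf []) (.leaf [388, -140, -48, 92, -219, -198, 111, -6, 52, 4, 26, -6])))) (.node (.node (.node (.leaf [-70, 50, 33, 33, 26, 81, -79, -18, 6, -12, 4, -5]) (.leaf [])) (.node (.leaf [26, -38, 1, 1, -13, -23, 4, 6, 4, 10, 0, -1]) (.leaf []))) (.node (.node (.leaf []) (.leaf [0, 0, 0, 1])) (.node (.leaf [-1236, -590, 201, -461, 2, 566, -124, 326, -28, -12, -13, 21, 1]) (.leaf [545408, 2813748, 1478612, 1293953, 814381, 316782, -1116513, -571639, -330886, -237587, -257238, -9408, -116, 0, 0, 0, 1]))))) (.node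 (.node (.node (.node (.leaf []) (.leaf [0, 0, 0, 1])) (.node (.leaf [-165, 70, 17, -69, 89, 103, -40, -5, -24, 2, -9, 1]) (.leaf [735, 124, 39, 302, -209, -394, 118, -76, 17, -12, 10, 0, -1]))) (.node (.node (.leaf []) (.leaf [])) (.node (.leaf [0, 0, 0, 1]) (.leaf [-26480, 16086, -1227, -3270, 18643, 15524, -8798, -2108, -2266, -1832, -1941, 206, -102, 1, -1])))) (.node (.node (.node (.leaf []) (.leaf [])) (.node (.leaf [0, 0, 0, 1]) (.leaf [0, 0, 0, 1]))) (.node (.node (.leaf []) (.leaf [0, 0, 0, 1])) (.node (.leaf []) (.leaf [24007, -39426, -11404, -9577, -26273, -19360, 20241, 6857, 4396, 4294, 4112, -156, 210, 0, 1, -1])))))) (.node (.node (.node (.node (.node (.leaf []) (.leaf [])) (.node (.leaf []) (.leaf [0, 0, 0, 1]))) (.node (.node (.leaf []) (.leaf [-269, 214, -582, 51, 511, -135, 107, -75, -6, -50, -15, 36, 3])) (.node (.leaf []) (.leaf [28773, -16100, -664, 4175, -18756, -17250, 9780, 1660, 2552, 1804, 2190, -234, 78, -1, 1])))) (.node (.node (.node (.leaf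 [0, 0, 0, 1]) (.leaf [0, 0, 0, 1])) (.node (.leaf []) (.leaf [194, -76, -170, 39, -24, -153, 94, -23, 34, 13, 17, -2, -1]))) (.node (.node (.leaf [0, 0, 0, 1]) (.leaf [0, 0, 0, 1])) (.node (.leaf []) (.leaf [66, -12, -35, 36, -21, -49, 24, -5, 8, -4, 8, -1]))))) (.node (.node (.node (.node (.leaf [0, 0, 0, 1]) (.leaf [])) (.node (.leaf []) (.leaf []))) (.node (.node (.leaf []) (.leaf [-98, 62, 73, -37, 41, 77, -46, 0, -23, 2, -11, 1])) (.node (.leaf [-955, 20, 58, -350, 335, 577, -241, 59, -38, 6, -38, 1]) (.leaf [0, 0, 0, 1])))) (.node (.node (.node (.leaf []) (.leaf [])) (.node (.leaf []) (.leaf [32951, -20366, -12665, 2756, -17916, -23762, 16926, 1357, 3719, 2059, 3067, -61, 42, 1, 0, -1]))) (.node (.node (.leaf []) (.leaf [])) (.node (.leaf [0, 0, 0, 1]) (.leaf [])))))))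

def twoL4 : Janko.Tree (List ℤ) :=
  (.node (.node (.node (.node (.node (.node (.node (.leaf [1]) (.leaf [0, 0, 0, 0, 1, 0, 0, 0, 0, 0, 0, 0, 0, 0, 0, 0, 0])) (.leaf [61, -6, -39, 34, -16, -45, 23, -7, 8, -5, 8, -1])) (.node (.leaf [1]) (.leaf [236892, -288534, -39213, -79205, -236641, -181657, 179710, 59863, 12962, 36358, 30866, -26, 4244, 0, 0, 1, 1]))) (.node (.node (.leaf [1, 0, 1, 0, -1]) (.leaf [1, 0, 0, 1, 0, -1])) (.node (.leaf [-2, 0, -1, -1, 1, 1]) (.leaf [-5151, 11498, -11581, 4506, 13091, -448, -470, -3736, 104, -1806, -323, 313, -301, 0, 0, 1])))) (.node (.node (.node (.leaf [-5, -6, 3, -2, -3, 2, 0, 3]) (.leaf [1, 0, 1, 0, -1])) (.node (.leaf [1, 0, 1, 0, -1]) (.leaf [0, 0, 0, -1, 0, 1]))) (.node (.node (.leaf [0, 0, 0, -1, 0, 1]) (.leaf [1, -2, 3, 0, -3, 0, 0, 1])) (.node (.leaf [1]) (.leaf [1027, -44, 215, 419, -434, -514, 77, -55, 39, 19, 29, -13, 3]))))) (.node (.node (.node (.node (.leaf [0, 0, -1, 0, 1]) (.leaf [])) (.node (.leaf [1, 0, 1, 0, -1])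 (.leaf [3054, 4106, -404, 3029, 1781, -1888, -469, -1279, -255, -309, -183, -11, -16, 0, -1]))) (.node (.node (.leaf [0, 0, 0, -1, 0, 1]) (.leaf [1, 0, 0, 1, 0, -1])) (.node (.leaf [3, 0, 1, 1, -1, -1]) (.leaf [0, 0, 0, -1, 0, 1])))) (.node (.node (.node (.leaf [1, 0, 0, 1, 0, -1]) (.leaf [-7, -6, 3, -5, -3, 5, 0, 3])) (.node (.leaf []) (.leaf []))) (.node (.node (.leaf [-3, 2, -3, -2, 3, 2, 0, -1]) (.leaf [])) (.node (.leaf [1, 0, 0, 1, 0, -1]) (.leaf [121014, -22692, 45175, 1237, -71077, -67157, 37488, 6237, -13048, 12470, 3941, -1568, 3314, 0, 0, 1, 1])))))) (.node (.node (.node (.node (.node (.leaf [-1, 0, 0, -1, 0, 1]) (.leaf [-1, 0, 0, -1, 0, 1])) (.node (.leaf [1]) (.leaf [-8, -2, -3, -3, 3, 3, 0, 1]))) (.node (.node (.leaf [1]) (.leaf [25, 1934, 848, 990, 916, 36, -762, -328, -315, -170, -192, 32, 6, -1])) (.node (.leaf [0, 0, 0, -1, 0, 1]) (.leaf [])))) (.node (.node (.node (.leaf [144, -102, -189, 32, -9, -144, 86, -18, 34, 12, 22, 1]) (.leaf [-2, -2, 0,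 -1, 0, 1, 0, 1])) (.node (.leaf [-1, 0, 0, -1, 0, 1]) (.leaf [118, -86, -25, 10, -99, -80, 78, 23, 17, -4, 7, 1, -1]))) (.node (.node (.leaf [-3, -6, 3, -1, -3, 1, 0, 3]) (.leaf [151, -12, 125, 58, -109, -30, -28, 0, 8, 4, -2, -4])) (.node (.leaf [1]) (.leaf [-35550, 25750, 12975, -2083, 21568, 25330, -18227, -2236, -4520, -2652, -3609, 171, -29, 0, 0, 1]))))) (.node (.node (.node (.node (.leaf [-18, -6, -5, -8, 5, 8, 0, 3]) (.leaf [15622, 19000, 12743, 12457, 442, -4516, -5465, -4235, -2609, -1284, -1418, -121, 167, 0, 0, 1])) (.node (.leaf [102, 24, 97, 33, -80, -22, -1, 1, -8, -4, 0, -1]) (.leaf [3154, 758, 4040, 2435, -2142, -1015, -946, 346, -102, -291, -386, 42, 12, 0, 0, -1]))) (.node (.node (.leaf [-1, 0, 0, -1, 0, 1]) (.leaf [2179, -3258, 63, 199, -2352, -1570, 779, 583, 405, 347, 345, -56, 5, -1])) (.node (.leaf []) (.leaf [-23788, -5444, 13180, -5635, -1084, 16909, -9074, 5173, 284, -1384, -1635, 444, -160, 0, 0, -1])))) (.node (.node (.node (.leaf [0, 0,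 0, -1, 0, 1]) (.leaf [1])) (.node (.leaf [-332, 96, 136, -78, 119, 189, -107, 28, -52, -8, -22, 6]) (.leaf [-972, -8, 71, -391, 313, 603, -236, 65, -35, 12, -38, 1, -1]))) (.node (.node (.leaf [1]) (.leaf [1])) (.node (.leaf [1]) (.leaf [-189705, 241340, -47631, 32949, 214651, 106579, -77272, -47836, -20068, -31672, -21638, 3712, -3168, 0, 0, -1, -1])))))))

def twoL5 : Janko.Tree (List ℤ) :=
  (.node (.node (.node (.node (.node (.node (.node (.leaf []) (.leaf [0, 0, 0, 0, 0, 1, 0, 0, 0, 0, 0, 0, 0, 0, 0, 0, 0])) (.leaf [])) (.node (.leaf []) (.leaf []))) (.node (.node (.leaf []) (.leaf [])) (.node (.leaf [-1164, 762, 711, -97, 520, 824, -569, 28, -210, -80, -120, 2, -1]) (.leaf [])))) (.node (.node (.node (.leaf [0, 1]) (.leaf [-393, 154, 84, -141, 152, 283, -108, 4, -40, -16, -24, -1])) (.node (.leaf []) (.leaf []))) (.node (.node (.leaf []) (.leaf [0, 1])) (.node (.leaf []) (.leaf [0, 1]))))) (.node (.node (.node (.node (.leaf []) (.leaf [0, 1])) (.node (.leaf [])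 (.leaf [0, 2, 0, 2, 0, 0, 0, 0, 0, -1]))) (.node (.node (.leaf []) (.leaf [278, -124, -53, 75, -142, -164, 81, 2, 44, 3, 12, 0, 1])) (.node (.leaf []) (.leaf [-5940, 8772, 3561, 1630, 5763, 4722, -4728, -1272, -1305, -813, -997, -3, 4, 0, -1])))) (.node (.node (.node (.leaf [-1656, 249, 75, -539, 646, 898, -319, 98, -144, -37, -58, 16, 1]) (.leaf [0, 1])) (.node (.leaf [0, 1]) (.leaf [0, 1]))) (.node (.node (.leaf []) (.leaf [0, 1])) (.node (.leaf [910, -1399, -611, -143, -838, -736, 627, 168, 242, 121, 164, 0, 5]) (.leaf [746, 123, 37, 303, -210, -400, 119, -78, 18, -10, 10, 0, -1])))))) (.node (.node (.node (.node (.node (.leaf [-4, -14, 2, -4, -6, 2, 0, 4, 2, 1]) (.leaf [-219234, 279231, 42102, 80262, 223494, 172224, -173624, -58336, -11976, -35259, -29872, -34, -4138, 1, 0, -1, -1])) (.node (.leaf [49910, 69692, -30060, 23010, 39730, -40512, 14094, -23036, -13108, 1194, -406, -1122, 1632, -1, 1, 0, 1]) (.leaf [-24066, 35107, 8612, 7080, 24568, 18826, -17926, -6154,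 -3699, -3972, -3710, 200, -218, 0, -1, 1]))) (.node (.node (.leaf []) (.leaf [0, 1])) (.node (.leaf [-1744, 2696, 1594, 156, 1241, 1763, -1387, -359, -484, -233, -239, -32, -1, 0, 0, 0, 1]) (.leaf [0, 1])))) (.node (.node (.node (.leaf [0, 1]) (.leaf [0, 1])) (.node (.leaf [2, -1, 0, 0, 0, -2, 0, 0, 0, 1]) (.leaf []))) (.node (.node (.leaf [0, 1]) (.leaf [0, 1])) (.node (.leaf [-3659, 47, -449, -1294, 1318, 1857, -387, 285, -122, -122, -98, 55, -21]) (.leaf [-13758, -24427, -78576, 10400, 25351, -6481, 6701, -7988, 19833, -2813, 5679, -247, -2250, 1, -1, 0, -1]))))) (.node (.node (.node (.node (.leaf [0, 1]) (.leaf [1252, -43, 53, 399, -498, -606, 209, -96, 83, 14, 36, -14, -1])) (.node (.leaf []) (.leaf [0, -1, 0, -2, 0, 0, 0, 0, 0, 1]))) (.node (.node (.leaf [2, 2, 2, 2, -2, 0, 0, 0, 0, -1]) (.leaf [0, 1])) (.node (.leaf [0, 1]) (.leaf [0, -1, 0, -2, 0, 0, 0, 0, 0, 1])))) (.node (.node (.node (.leaf []) (.leaf [])) (.node (.leaf [0, 2, 0, 2, 0, 0, 0, 0, 0, -1]) (.leaf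 [-9260, 16021, -654, 1900, 12583, 5841, -5057, -3241, -2063, -1356, -1364, 23, -9, 1, -1]))) (.node (.node (.leaf []) (.leaf [-108, 222, 51, 107, 178, 68, -133, -41, -21, -22, -28, 0, 1])) (.node (.leaf [49384, 69372, -30124, 22754, 39767, -40231, 14033, -22938, -13071, 1213, -399, -1123, 1632, -1, 1, 0, 1]) (.leaf [-194492, 226875, -44790, 26338, 206576, 108824, -75050, -43158, -18899, -30939, -21324, 4028, -3145, 1, 0, -1, -1])))))))

def twoL6 : Janko.Tree (List ℤ) :=
  (.node (.node (.node (.node (.node (.node (.node (.leaf []) (.leaf [0, 0, 0, 0, 0, 0, 1, 0, 0, 0, 0, 0, 0, 0, 0, 0, 0])) (.leaf [0, 0, 1])) (.node (.leaf [-5, 2, 0, -1, 3, 2, -1, 0, -1]) (.leaf [0, 0, 1]))) (.node (.node (.leaf [0, 0, 1]) (.leaf [-2, 2, 0, 0, 2, 0, 0, 0, -1])) (.node (.leaf [0, 0, 0, -1, 0, 0, 1]) (.leaf [0, 0, 1])))) (.node (.node (.node (.leaf []) (.leaf [0, 0, 1])) (.node (.leaf [0, 0, 1]) (.leaf [27, -8, 17, 11, -21, -15, 4, 4, -1, 0, 1]))) (.node (.node (.leaf [-11, -2, 1, -6,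 1, 6, 0, 2, -1]) (.leaf [])) (.node (.leaf [-1431, 106, 214, -594, 433, 929, -367, 74, -107, 16, -36, -3, 3]) (.leaf [8574, -30686, 6568, -7491, -24326, -4544, 7829, 8296, 3316, 1858, 1628, 224, 21, 1, 0, -1]))))) (.node (.node (.node (.node (.leaf [0, 0, 1]) (.leaf [])) (.node (.leaf [0, 0, 1]) (.leaf [735, 120, 38, 297, -209, -394, 119, -76, 17, -10, 10, 0, -1]))) (.node (.node (.leaf [408, -170, -147, 131, -163, -295, 144, -8, 50, 10, 33]) (.leaf [0, -2, -1, 0, 0, 0, 0, 0, 1])) (.node (.leaf [0, 0, 0, -1, 0, 0, 1]) (.leaf [-4, 2, 12, -5, -4, 9, -4, 1, -1, 0, -1])))) (.node (.node (.node (.leaf [2, 2, -5, -2, 2, 0, 2, -2, 1]) (.leaf [-79, 32, 23, -17, 37, 49, -28, 2, -11, -2, -5])) (.node (.leaf []) (.leaf []))) (.node (.node (.leaf [0, 0, 1, 1, 0, 0, -1]) (.leaf [-866, -250, -457, -699, 290, 308, 279, 126, -43, 33, -14, 22, 1])) (.node (.leaf [-2, -10, 3, 2, -4, -2, 0, 4, 1]) (.leaf [0, 0, 0, -1, 0, 0, 1])))))) (.node (.node (.node (.node (.node (.leaf [0, 0, 1,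 1, 0, 0, -1]) (.leaf [0, 0, 1, 1, 0, 0, -1])) (.node (.leaf []) (.leaf [0, 0, 1]))) (.node (.node (.leaf []) (.leaf [190, -172, -6, 20, -143, -147, 87, 38, 18, 15, 10, 2, 3])) (.node (.leaf [-1, 6, -1, -2, 3, 2, 0, -2, -1]) (.leaf [])))) (.node (.node (.node (.leaf []) (.leaf [1934, 50064, 22657, 14889, 18767, 5935, -15304, -8874, -9145, -2907, -4253, -191, 338, -1, 0, 1])) (.node (.leaf [0, 0, 1, 1, 0, 0, -1]) (.leaf [0, 0, 1]))) (.node (.node (.leaf []) (.leaf [])) (.node (.leaf []) (.leaf [138, 194, 66, 115, 20, -66, -9, -38, -31, -21, -8, 0, 1]))))) (.node (.node (.node (.node (.leaf [65, -44, -65, 20, -11, -60, 32, -4, 15, 4, 7]) (.leaf [0, 0, 0, -1, 0, 0, 1])) (.node (.leaf [0, 0, 0, -1, 0, 0, 1]) (.leaf [-51738, 62388, 4233, 5198, 53073, 35009, -29301, -11922, -7751, -5088, -6068, -182, -183, 0, 0, -1]))) (.node (.node (.leaf [0, 0, 1, 1, 0, 0, -1]) (.leaf [-4, 2, 2, -1, 2, 2, -1, 0, -1])) (.node (.leaf [-158, -150, 2, -67, -7, 62, -27, 43, 7, 16, 9]) (.leaf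 [-34655, 2944, -6263, -9851, 15879, 18636, -6629, 845, -368, -920, -871, 96, -254, 0, 0, -1])))) (.node (.node (.node (.leaf [-98, -184, -36, -51, -35, 14, 5, 43, 16, 16, 17]) (.leaf [])) (.node (.leaf [0, 0, 1, 1, 0, 0, -1]) (.leaf [-43, 254, 68, 13, 110, 52, -33, -38, -50, -18, -23, 1, 1]))) (.node (.node (.leaf []) (.leaf [])) (.node (.leaf [-5, 2, 0, -1, 3, 2, -1, 0, -1]) (.leaf [0, 0, 1, 1, 0, 0, -1])))))))

def twoL7 : Janko.Tree (List ℤ) :=
  (.node (.node (.node (.node (.node (.node (.node (.leaf []) (.leaf [-1, 0, 0, 0, 1, 1])) (.leaf [528, -176, -122, 156, -259, -305, 162, -12, 74, -7, 32, -2, 3])) (.node (.leaf []) (.leaf []))) (.node (.node (.leaf []) (.leaf [0, 0, 0, 1])) (.node (.leaf [0, 0, 0, 1]) (.leaf [])))) (.node (.node (.node (.leaf []) (.leaf [])) (.node (.leaf []) (.leaf [0, 0, 0, 1]))) (.node (.node (.leaf [0, 0, 0, 1]) (.leaf [])) (.node (.leaf [147, -80, -77, -13, -48, -136, 109, 12, 6, 15, 2, 5]) (.leaf [908, -2, 262, 385, -391, -437, 39,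 -48, 21, 17, 21, -13, 3]))))) (.node (.node (.node (.node (.leaf []) (.leaf [])) (.node (.leaf [-1168, 498, 18, -467, 646, 722, -269, -60, -156, 8, -40, 0, -1]) (.leaf [0, 0, 0, 1]))) (.node (.node (.leaf [0, 0, 0, 1]) (.leaf [0, 0, 0, 1])) (.node (.leaf [0, 0, 0, 1]) (.leaf [0, 0, 0, 1])))) (.node (.node (.node (.leaf [0, 0, 0, 1]) (.leaf [])) (.node (.leaf []) (.leaf []))) (.node (.node (.leaf [0, 0, 0, 1]) (.leaf [21, -10, -20, 41, -1, -31, 1, 0, 4, -4, 6, -1])) (.node (.leaf [0, 0, 0, 1]) (.leaf [0, 0, 0, 1])))))) (.node (.node (.node (.node (.node (.leaf [0, 0, 0, 1]) (.leaf [0, 0, 0, 1])) (.node (.leaf []) (.leaf []))) (.node (.node (.leaf [961, -758, -651, 35, -457, -709, 508, -4, 192, 84, 108, -1]) (.leaf [5191, -4072, -424, 1255, -3581, -3363, 1465, 443, 754, 407, 517, -84, -1, -1])) (.node (.leaf [0, 0, 0, 1]) (.leaf [])))) (.node (.node (.node (.leaf [58, -62, -167, 10, 33, -85, 54, -20, 24, 10, 16, 1]) (.leaf [2861, 50062, 22348, 15933, 18819, 5376, -15564,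 -9039, -8806, -3015, -4314, -175, 318, -1, 0, 1])) (.node (.leaf [0, 0, 0, 1]) (.leaf [-115, 18, 42, -38, 27, 74, -29, 14, -12, -4, -8, 1]))) (.node (.node (.leaf []) (.leaf [-1359, -42, 1152, -281, -72, 1063, -691, 264, -112, -54, -86, 6, 3])) (.node (.leaf []) (.leaf [0, 0, 0, 1]))))) (.node (.node (.node (.node (.leaf []) (.leaf [0, 0, 0, 1])) (.node (.leaf [0, 0, 0, 1]) (.leaf [0, 0, 0, 1]))) (.node (.node (.leaf [0, 0, 0, 1]) (.leaf [3957, -1708, 307, 1321, -2323, -2090, 554, 16, 418, 207, 312, -100, 1, -1])) (.node (.leaf [-838, -660, -206, -927, -149, 516, 247, 193, 12, 83, 43, 0, -1]) (.leaf [0, 0, 0, 1])))) (.node (.node (.node (.leaf [0, 0, 0, 1]) (.leaf [53, -56, -4, -42, -33, -57, 61, 21, -4, 13, -8, 6])) (.node (.leaf [0, 0, 0, 1]) (.leaf [0, 0, 0, 1]))) (.node (.node (.leaf []) (.leaf [])) (.node (.leaf []) (.leaf [0, 0, 0, 1])))))))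

def twoL8 : Janko.Tree (List ℤ) :=
  (.node (.node (.node (.node (.node (.node (.node (.leaf []) (.leaf [0, 0, 0, 0, 0, 0, 0, 1, 0, 0, 0, 0, 0, 0, 0, 0, 0])) (.leaf [-6, 2, -5, -3, 5, 3, 0, -1])) (.node (.leaf [1, 0, 0, 1, 0, -1]) (.leaf [-46928, 63818, 5484, -10082, 52340, 24642, -15192, -9477, -17386, -928, -5362, -188, 1432, 0, 0, 1, 1]))) (.node (.node (.leaf [-456, 232, 101, -144, 245, 296, -150, -17, -72, -2, -26, 1]) (.leaf [63, -28, -50, 13, -16, -47, 30, -6, 12, 2, 6])) (.node (.leaf [1]) (.leaf [86709, -203056, -132101, -80906, -85296, -111953, 131057, 30345, 13930, 29440, 26352, -1427, 2888, 0, 0, 1, 1])))) (.node (.node (.node (.leaf [0, 0, 0, -1, 0, 1]) (.leaf [-1, 0, 0, -1, 0, 1])) (.node (.leaf [25, -34, -3, 0, -9, -22, 4, 4, 4, 10, 0, -1]) (.leaf [-1, 2, -3, -1, 3, 1, 0, -1]))) (.node (.node (.leaf []) (.leaf [1])) (.node (.leaf [-68, 28, 46, -11, 22, 47, -32, 6, -12, -2, -6]) (.leaf [-79666, -46416, -23817, -2992, 11593, 51218, -31170, 6821, 23288,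 -5290, 1627, -20, -3218, 0, 0, -1, -1]))))) (.node (.node (.node (.node (.leaf [2, 0, 0, 1, 0, -1]) (.leaf [39, -26, -26, 14, -17, -41, 27, 5, 3, 0, 5])) (.node (.leaf [-318, -194, -31, -214, 5, 168, 4, 65, 4, 20, 7, 1]) (.leaf [-5622, -1924, -572, -1634, 1006, 3157, -1145, 741, 492, -205, -82, 71, -55]))) (.node (.node (.leaf [-22, -2, -15, -13, 10, 10, 3, 0, 0, 0, 1]) (.leaf [0, 0, 0, -1, 0, 1])) (.node (.leaf [102, 2, -27, 56, -29, -70, 24, -12, 4, -4, 12, -1]) (.leaf [4326, 3838, 347, 3544, 927, -2470, -402, -1163, -213, -299, -207, -21, -16, 0, -1])))) (.node (.node (.node (.leaf []) (.leaf [0, 0, 0, -1, 0, 1])) (.node (.leaf [3, 0, 1, 1, -1, -1]) (.leaf [1]))) (.node (.node (.leaf []) (.leaf [3, 0, 1, 1, -1, -1])) (.node (.leaf []) (.leaf [3, 0, 1, 1, -1, -1])))))) (.node (.node (.node (.node (.node (.leaf [1, 2, 0, -1, 0, 1, 0, -1]) (.leaf [])) (.node (.leaf [1, 0, 1, 0, -1]) (.leaf [214, -86, -60, 17, -89, -136, 89, -2, 22, 15, 8]))) (.node (.node (.leaf [1,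 0, 1, 0, -1]) (.leaf [-45, -2, 53, -24, 6, 35, -27, 9, -8, 7, -8, 1])) (.node (.leaf []) (.leaf [1])))) (.node (.node (.node (.leaf [1]) (.leaf [0, 0, -1, 0, 1])) (.node (.leaf [0, 0, -1, 0, 1]) (.leaf [0, 0, 0, -1, 0, 1]))) (.node (.node (.leaf [0, 0, -1, 0, 1]) (.leaf [135, 6, 181, 56, -132, 13, -53, 3, 6, -1, -4, -7])) (.node (.leaf [1, 0, 1, 0, -1]) (.leaf [65, -14, -33, 35, -22, -48, 23, -4, 8, -4, 8, -1]))))) (.node (.node (.node (.node (.leaf [0, 0, 0, -1, 0, 1]) (.leaf [3, 0, 1, 1, -1, -1])) (.node (.leaf [1]) (.leaf [0, 0, -1, 0, 1]))) (.node (.node (.leaf []) (.leaf [561, 1624, 639, 742, 427, 121, -577, -417, -136, -129, -116, -21, 7])) (.node (.leaf [-10, -114, -14, 27, -24, -35, -12, 22, 12, 10, 13]) (.leaf [0, 0, -1, 0, 1])))) (.node (.node (.node (.leaf [-152, -156, 2, -57, -8, 57, -32, 43, 10, 16, 9]) (.leaf [1, 0, 1, 0, -1])) (.node (.leaf [-3, 2, -2, -3, 2, 3, 0, -1]) (.leaf []))) (.node (.node (.leaf [1, 0, 1, 0, -1]) (.leaf [1, 0, 1, 0, -1])) (.node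 (.leaf [1, 0, 0, 1, 0, -1]) (.leaf [0, 0, -1, 0, 1])))))))

def twoL9 : Janko.Tree (List ℤ) :=
  (.node (.node (.node (.node (.node (.node (.node (.leaf [0, 1]) (.leaf [0, 0, 0, 0, 0, 0, 0, 0, 1, 0, 0, 0, 0, 0, 0, 0, 0])) (.leaf [0, 1])) (.node (.leaf []) (.leaf [139, -56, -69, 14, -53, -84, 58, -10, 23, 6, 9]))) (.node (.node (.leaf [2, 15, -2, -2, 4, 2, 2, -4, -2, -1]) (.leaf [0, 1])) (.node (.leaf [-1781, -225, -20, -825, 415, 954, -171, 205, -98, 4, -15, 16, 1]) (.leaf [-69, 25, 39, -10, 23, 44, -30, 6, -11, -2, -5])))) (.node (.node (.node (.leaf []) (.leaf [0, 2, 0, 2, 0, 0, 0, 0, 0, -1])) (.node (.leaf [0, -2, 2, 0, 0, 0, -2, 0, 0, 1]) (.leaf []))) (.node (.node (.leaf [0, 1]) (.leaf [])) (.node (.leaf [0, 1]) (.leaf [531, -286, -310, 77, -202, -381, 244, -21, 86, 31, 48, -1]))))) (.node (.node (.node (.node (.leaf []) (.leaf [0, 1])) (.node (.leaf [8, 13, 2, 6, 2, -2, -2, -4, -1, -1]) (.leaf [0, 1]))) (.node (.node (.leaf []) (.leaf [])) (.node (.leaf [0, 1])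 (.leaf [0, 1])))) (.node (.node (.node (.leaf [0, 1]) (.leaf [])) (.node (.leaf []) (.leaf []))) (.node (.node (.leaf [0, 1]) (.leaf [14460, -13054, -2848, 482, -11284, -9048, 6296, 1464, 2302, 1299, 1626, -154, -10, -1, 1])) (.node (.leaf [0, 1]) (.leaf [-16966, 14519, 3184, -1116, 12731, 10633, -7041, -1570, -2664, -1410, -1787, 158, 14, 1, -1])))))) (.node (.node (.node (.node (.node (.leaf [0, 1]) (.leaf [0, 1])) (.node (.leaf []) (.leaf []))) (.node (.node (.leaf []) (.leaf [])) (.node (.leaf [0, 1]) (.leaf [])))) (.node (.node (.node (.leaf []) (.leaf [])) (.node (.leaf [69, -52, -29, 12, -35, -48, 26, 2, 14, 5, 5]) (.leaf [24952, -18884, -2296, 1240, -18610, -15450, 10426, 2386, 2810, 2002, 2354, -186, 76, -1, 1]))) (.node (.node (.leaf []) (.leaf [])) (.node (.leaf []) (.leaf [-129430, 95647, -66721, 13657, 127310, 71016, -49745, -28119, 4573, -14766, -6813, 484, -3182, 0, 0, 0, -1]))))) (.node (.node (.node (.node (.leaf []) (.leaf [])) (.node (.leaf []) (.leaf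 [-121, 151, -38, 13, 125, 86, -55, -40, -12, -15, -1, -4, -3]))) (.node (.node (.leaf [0, 1]) (.leaf [24674, -16506, 1280, 2396, -18224, -14730, 8708, 2422, 2140, 1873, 1878, -160, 100, -1, 1])) (.node (.leaf [0, 1]) (.leaf [-3, 4, -15, -2, 7, -2, 6, -2, 0, -1, 1])))) (.node (.node (.node (.leaf []) (.leaf [-11856, 21649, 5966, 6900, 14855, 9041, -11281, -3813, -2250, -2465, -2431, 224, -89, 0, -1, 1])) (.node (.leaf [0, 1]) (.leaf [0, 1]))) (.node (.node (.leaf []) (.leaf [-311, 124, 48, -121, 116, 219, -64, 5, -34, -16, -16, -1])) (.node (.leaf []) (.leaf [11, -7, 3, 2, -9, -8, 4, 2, 0, 1, 1])))))))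

def twoL10 : Janko.Tree (List ℤ) :=
  (.node (.node (.node (.node (.node (.node (.node (.leaf []) (.leaf [0, 0, 0, 0, 0, 0, 0, 0, 0, 1, 0, 0, 0, 0, 0, 0, 0])) (.leaf [])) (.node (.leaf [-2, 2, 0, 0, 2, 0, 0, 0, -1]) (.leaf [0, 0, 1, 1, 0, 0, -1]))) (.node (.node (.leaf [0, 0, 1, 1, 0, 0, -1]) (.leaf [67, -30, -58, 15, -15, -53, 34, -7, 13, 2, 7])) (.node (.leaf [-5, 2, 0, -1, 3, 2, -1, 0, -1]) (.leaf [0, 0, 1, 1, 0, 0, -1])))) (.node (.node (.node (.leaf [-5, 2, 1, 0, 3, 2, -2, 0, -1]) (.leaf [0, 0, 1, 1, 0, 0, -1])) (.node (.leaf [0, 0, 1, 1, 0, 0, -1]) (.leaf [8662, -30360, 6520, -7285, -24099, -4647, 7752, 8198, 3267, 1849, 1625, 219, 22, 1, 0, -1]))) (.node (.node (.leaf [-606, 282, 263, 45, 278, 324, -277, 38, -97, -47, -36, 0, 1]) (.leaf [-6, 14, 1, -2, 10, 9, -7, -5, -1, 0, -1])) (.node (.leaf [-66, 22, 40, -13, 19, 47, -30, 5, -9, -2, -5]) (.leaf [0, 0, 1]))))) (.node (.node (.node (.node (.leaf [-4, 0, -1, -1, 2, 2, -1]) (.leaf [77, -50, -2, 18, -52, -41,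 19, 5, 15, 2, 3])) (.node (.leaf [-956, 770, 31, -338, 708, 644, -280, -144, -174, -12, -54, 0, -1]) (.leaf []))) (.node (.node (.leaf [0, 0, 0, -1, 0, 0, 1]) (.leaf [-1, 2, 1, 0, 1, 0, 0, 0, -1])) (.node (.leaf []) (.leaf [-175, 84, 124, -62, 53, 149, -85, 6, -27, -3, -20, 1, 1])))) (.node (.node (.node (.leaf []) (.leaf [-98, 32, 54, -31, 26, 75, -40, 6, -13, -2, -7])) (.node (.leaf [0, 0, 0, -1, 0, 0, 1]) (.leaf [-84, -182, 82, -104, -103, 81, -15, 55, 18, 19, -1, -1, 1]))) (.node (.node (.leaf []) (.leaf [0, 0, 0, -1, 0, 0, 1])) (.node (.leaf []) (.leaf [0, 0, 0, -1, 0, 0, 1])))))) (.node (.node (.node (.node (.node (.leaf []) (.leaf [-4, 2, -1, -3, 2, 2, 1, 0, -1])) (.node (.leaf [0, 0, 1]) (.leaf [0, 0, 1, 1, 0, 0, -1]))) (.node (.node (.leaf [0, 0, 1]) (.leaf [0, 0, 0, -1, 0, 0, 1])) (.node (.leaf [-898, 670, 505, -213, 376, 730, -381, -18, -163, -67, -86, 0, -1]) (.leaf [-273, 236, 138, 26, 181, 187, -165, -17, -47, -24, -30])))) (.node (.node (.node (.leaf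 [11, 2, -1, 5, -1, -6, 1, -2, 1]) (.leaf [0, 0, 1])) (.node (.leaf [0, 0, 1]) (.leaf [5902, 1946, -2129, 2874, 19, -3513, 1027, -1330, 317, -77, 234, -108, -9]))) (.node (.node (.leaf [0, 0, 1]) (.leaf [0, 0, 1])) (.node (.leaf [0, 0, 1]) (.leaf [0, 0, 1]))))) (.node (.node (.node (.node (.leaf [265, 78, -132, 151, 31, -202, 63, -52, 14, -6, 5]) (.leaf [0, 0, 0, -1, 0, 0, 1])) (.node (.leaf []) (.leaf [0, 0, 1]))) (.node (.node (.leaf [0, 2, 1, -1, 0, 0, 1, 0, -1]) (.leaf [0, 0, 1])) (.node (.leaf []) (.leaf [0, 0, 1])))) (.node (.node (.node (.leaf [0, 0, 0, -1, 0, 0, 1]) (.leaf [0, 0, 1])) (.node (.leaf []) (.leaf []))) (.node (.node (.leaf [0, 0, 1]) (.leaf [0, 0, 1])) (.node (.leaf [-2, 2, 0, 0, 2, 0, 0, 0, -1]) (.leaf [0, 0, 1])))))))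

def twoL11 : Janko.Tree (List ℤ) :=
  (.node (.node (.node (.node (.node (.node (.node (.leaf []) (.leaf [-3, 0, 0, -2, 1, 2, 0, 1])) (.leaf [68, 8, 17, 29, -25, -37, 8, -4, -2, 1, 2, -1])) (.node (.leaf [0, 0, 0, 1]) (.leaf [0, 0, 0, 1]))) (.node (.node (.leaf [0, 0, 0, 1]) (.leaf [])) (.node (.leaf []) (.leaf [0, 0, 0, 1])))) (.node (.node (.node (.leaf [0, 0, 0, 1]) (.leaf [0, 0, 0, 1])) (.node (.leaf [0, 0, 0, 1]) (.leaf [0, 0, 0, 1]))) (.node (.node (.leaf [-548, 260, 226, 66, 260, 272, -245, 38, -92, -47, -30, 0, 1]) (.leaf [])) (.node (.leaf []) (.leaf []))))) (.node (.node (.node (.node (.leaf [0, 0, 0, 1]) (.leaf [-4111, 1772, -243, -1374, 2383, 2208, -614, -14, -436, -209, -326, 100, -1, 1])) (.node (.leaf [0, 0, 0, 1]) (.leaf [-64, 70, 113, -13, -3, 119, -86, -13, -4, -5, -8, -5]))) (.node (.node (.leaf [0, 0, 0, 1]) (.leaf [0, 0, 0, 1])) (.node (.leaf [104, 2, -33, 58, -27, -71, 24, -14, 6, -4, 12, -1]) (.leaf [-175, 82, 114, -72, 53, 149, -75, 6, -26,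 -2, -20, 1])))) (.node (.node (.node (.leaf []) (.leaf [0, 0, 0, 1])) (.node (.leaf [0, 0, 0, 1]) (.leaf [-387, 140, 50, -88, 217, 197, -111, 7, -52, -5, -26, 6]))) (.node (.node (.leaf []) (.leaf [0, 0, 0, 1])) (.node (.leaf []) (.leaf [0, 0, 0, 1])))))) (.node (.node (.node (.node (.node (.leaf []) (.leaf [])) (.node (.leaf []) (.leaf [0, 0, 0, 1]))) (.node (.node (.leaf [-231, -1532, -860, -685, -469, -154, 581, 264, 224, 114, 149, 14, 1]) (.leaf [0, 0, 0, 1])) (.node (.leaf [1120, -652, -428, 88, -565, -718, 487, 2, 173, 71, 79, 0, 1]) (.leaf [-557, 502, 318, 6, 339, 405, -311, -27, -107, -52, -67, 1, 1])))) (.node (.node (.node (.leaf []) (.leaf [-59, 32, 40, -27, 21, 50, -25, 1, -10, 0, -8, 1])) (.node (.leaf []) (.leaf [0, 0, 0, 1]))) (.node (.node (.leaf []) (.leaf [126, -608, 60, -76, -414, -72, 77, 134, 91, 29, 43, 3, 4])) (.node (.leaf []) (.leaf [66, -14, -32, 37, -23, -49, 23, -4, 8, -4, 8, -1]))))) (.node (.node (.node (.node (.leaf [0, 0, 0, 1]) (.leaf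 [0, 0, 0, 1])) (.node (.leaf []) (.leaf [-70, 10, 32, -40, 21, 51, -21, 6, -8, 4, -8, 1]))) (.node (.node (.leaf []) (.leaf [-94, 54, 32, -28, 41, 61, -25, 1, -16, -7, -8, 3])) (.node (.leaf [-231, -4, 177, -61, 47, 163, -134, 31, -24, 15, -21, 1]) (.leaf [-73344, -66792, -163318, -24665, 55337, -5900, 39357, 358, 28310, -3746, 9124, 2472, -3122, 1, -1, -1, -1])))) (.node (.node (.node (.leaf [0, 0, 0, 1]) (.leaf [])) (.node (.leaf []) (.leaf []))) (.node (.node (.leaf []) (.leaf [])) (.node (.leaf [0, 0, 0, 1]) (.leaf [-204253, 245568, -42251, 29785, 219818, 115928, -82489, -46781, -21494, -32396, -22897, 3932, -3148, 1, -1, -1, -1])))))))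

def twoL12 : Janko.Tree (List ℤ) :=
  (.node (.node (.node (.node (.node (.node (.node (.leaf [1, 0, 1, 0, -1]) (.leaf [-1, 0, 0, 0, 0, 1, 0, 1])) (.leaf [0, 0, -1, 0, 1])) (.node (.leaf [91, -36, -26, 29, -38, -65, 32, 0, 10, 2, 6]) (.leaf [263745, -303352, -37422, -74089, -254975, -196732, 187201, 61555, 15670, 37738, 32641, -215, 4287, -1, 1, 1, 1]))) (.node (.node (.leaf []) (.leaf [99, -34, 16, 45, -57, -74, 29, 11, 1, 0, 5])) (.node (.leaf [1, 0, 0, 1, 0, -1]) (.leaf [3859, 83566, 122250, 3867, -6259, 27812, -34963, -176, -30720, -1092, -12529, -1, 2735, -1, 1, 1, 1])))) (.node (.node (.node (.leaf []) (.leaf [182, -58, -68, 59, -61, -120, 53, -13, 25, 4, 13])) (.node (.leaf [-1, 2, -2, -1, 2, 1, 0, -1]) (.leaf [268, -192, -84, 71, -161, -190, 103, 16, 45, 10, 27, -1, -1]))) (.node (.node (.leaf [1]) (.leaf [-69, 30, 34, -18, 25, 49, -27, 3, -11, -2, -5])) (.node (.leaf [112, -74, -94, 19, -43, -92, 65, -3, 21, 4, 15]) (.leaf [-55514, -95732, 45064, -30849,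 -59926, 46557, -14356, 32247, 15616, -506, 679, 1516, -1686, 0, 0, -1, -1]))))) (.node (.node (.node (.node (.leaf []) (.leaf [1])) (.node (.leaf [1, -2, 2, 1, -2, -1, 0, 1]) (.leaf [0, 0, -1, 0, 1]))) (.node (.node (.leaf []) (.leaf [31462, -25348, -11607, 1762, -20030, -23167, 16525, 2701, 4235, 2548, 3298, -131, 23, 0, 0, -1])) (.node (.leaf [1]) (.leaf [-4, -4, 4, -5, -4, 5, 0, 2])))) (.node (.node (.node (.leaf [-364, 66, -30, -88, 193, 119, -35, 29, -48, -11, -16, 13]) (.leaf [])) (.node (.leaf [915, 142, 65, 398, -281, -520, 164, -76, 6, -20, 20, -1]) (.leaf [-3, -186, 63, -64, -120, 21, 5, 49, 22, 19, 3, -1, 1]))) (.node (.node (.leaf [1]) (.leaf [68, -12, -37, 38, -19, -52, 24, -5, 8, -4, 8, -1])) (.node (.leaf [1]) (.leaf [-3880, 26602, -21543, -10909, 27643, -9071, 11828, -6978, -10472, 3082, 73, -441, 1435, 0, 1, 0, 1])))))) (.node (.node (.node (.node (.node (.leaf [0, 0, -1, 0, 1]) (.leaf [289, -136, -165, 80, -98, -221, 125, -9, 45, 8, 24])) (.node (.leaf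 [-1, 0, 0, -1, 0, 1]) (.leaf [494, -174, -117, 119, -231, -295, 164, -11, 62, 9, 30, -3]))) (.node (.node (.leaf [820, -706, -535, 18, -431, -610, 442, 16, 166, 76, 96, -1]) (.leaf [9, -12, 11, 6, -9, -8, -2, 4, 0, 2])) (.node (.leaf [-240, 456, 195, 15, 223, 245, -176, -65, -72, -42, -49]) (.leaf [-286, 236, 135, 12, 182, 195, -159, -15, -49, -24, -30])))) (.node (.node (.node (.leaf [1, 0, 0, 1, 0, -1]) (.leaf [3, 0, 1, 1, -1, -1])) (.node (.leaf [2, 0, 0, 1, 0, -1]) (.leaf [1]))) (.node (.node (.leaf [2, 0, 0, 1, 0, -1]) (.leaf [-424, 382, 261, -11, 247, 331, -248, -25, -78, -36, -52])) (.node (.leaf [-1, 0, 0, -1, 0, 1]) (.leaf [54039, -62800, -4450, -4463, -53885, -36602, 30025, 11914, 7855, 5132, 6111, 199, 189, 0, 0, 1]))))) (.node (.node (.node (.node (.leaf [139, -74, -104, 43, -38, -115, 64, -6, 26, 4, 13]) (.leaf [64, -16, -33, 35, -23, -49, 24, -3, 8, -4, 8, -1])) (.node (.leaf [1, 0, 1, 0, -1]) (.leaf [-400, 1752, 624, 835, 1070, 183, -774, -290, -300,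 -154, -164, 28, 4, -1]))) (.node (.node (.leaf [5, 6, -3, 1, 3, -1, 0, -3]) (.leaf [327, -38, -179, 170, -19, -246, 64, -53, 33, 16, 33, -11, 1])) (.node (.leaf [0, 0, -1, 0, 1]) (.leaf [-200528, 172988, -59039, 16944, 193960, 118321, -86837, -41596, -5960, -21300, -14724, 444, -3358, 1, -1, -1, -1])))) (.node (.node (.node (.leaf []) (.leaf [-154, 24, 30, -75, 79, 46, -1, 27, -36, 9, -18, 6])) (.node (.leaf [-470, 84, 78, -128, 183, 239, -105, 39, -54, -12, -24, 9]) (.leaf [168, -240, -90, -52, -163, -121, 125, 32, 38, 24, 26]))) (.node (.node (.leaf [-1, 0, 0, -1, 0, 1]) (.leaf [-1, 0, 0, -1, 0, 1])) (.node (.leaf [0, 0, -1, 0, 1]) (.leaf [-204215, 245560, -42272, 29788, 219803, 115897, -82461, -46781, -21494, -32396, -22893, 3932, -3148, 1, -1, -1, -1])))))))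

def twoL13 : Janko.Tree (List ℤ) :=
  (.node (.node (.node (.node (.node (.node (.node (.leaf []) (.leaf [0, 0, -1, 0, 0, 0, 1, 0, 1])) (.leaf [])) (.node (.leaf [0, 1]) (.leaf [0, 1]))) (.node (.node (.leaf [0, 1]) (.leaf [])) (.node (.leaf []) (.leaf [0, 1])))) (.node (.node (.node (.leaf [0, 1]) (.leaf [8979, 15420, 76523, -16230, -28411, 8860, -4722, 10194, -18830, 3579, -5120, 212, 2255, 0, 0, 0, 1])) (.node (.leaf [0, 1]) (.leaf [0, 1]))) (.node (.node (.leaf []) (.leaf [0, -1, -2, 0, 0, 0, 0, 0, 1])) (.node (.leaf []) (.leaf [-63496, -153389, 61746, -65174, -97598, 50586, -560, 50252, 15107, 6997, 3762, 1240, -663, 1, 0, -1, -1]))))) (.node (.node (.node (.node (.leaf [0, 1]) (.leaf [])) (.node (.leaf [0, 1]) (.leaf [-83039, 145114, -15510, -9190, 118543, 43951, -27693, -29760, -30335, -4088, -8928, -1039, 1593, -1, 0, 1, 1]))) (.node (.node (.leaf [0, 1]) (.leaf [0, 1])) (.node (.leaf [71, -54, -31, 10, -33, -50, 26, 1, 14, 7, 5]) (.leaf [0, 1])))) (.node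 (.node (.node (.leaf []) (.leaf [0, 1])) (.node (.leaf [0, 1]) (.leaf [-22254, 36757, 10322, 8930, 24507, 18179, -18913, -6533, -3906, -4045, -3841, 158, -211, 0, -1, 1]))) (.node (.node (.leaf []) (.leaf [0, 1])) (.node (.leaf []) (.leaf [-71, 53, 31, -12, 33, 50, -26, -1, -14, -6, -5])))))) (.node (.node (.node (.node (.node (.leaf []) (.leaf [])) (.node (.leaf [2, 2, 2, 2, -2, 0, 0, 0, 0, -1]) (.leaf [0, 1]))) (.node (.node (.leaf [0, 2, 0, 2, 0, 0, 0, 0, 0, -1]) (.leaf [0, 1])) (.node (.leaf []) (.leaf [0, 2, 2, 0, 0, 0, 0, 0, -1])))) (.node (.node (.node (.leaf [-172, -16, 43, -27, 46, 114, -79, 16, 2, 1, -6, -4, -1]) (.leaf [219734, -279362, -42316, -80126, -223677, -172561, 173837, 58315, 12031, 35261, 29910, 27, 4137, -1, 0, 1, 1])) (.node (.leaf []) (.leaf [-312, 21, 173, -173, 8, 222, -39, 65, -38, -12, -32, 8, -1]))) (.node (.node (.leaf [623, -316, -334, 107, -240, -445, 276, -22, 95, 32, 54, -1]) (.leaf [])) (.node (.leaf [2, -1, 0, 0, 0, -2, 0, 0, 0,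 1]) (.leaf [-114969, 42529, -55178, 2931, 85116, 61305, -35576, -12894, 10075, -12472, -4115, 1283, -3141, 1, -1, 0, -1]))))) (.node (.node (.node (.node (.leaf []) (.leaf [0, 1])) (.node (.leaf []) (.leaf [0, 1]))) (.node (.node (.leaf []) (.leaf [0, 1])) (.node (.leaf []) (.leaf [-1208, -582, 329, -495, -4, 656, -251, 284, -30, 42, -8, 2, 1])))) (.node (.node (.node (.leaf [0, 1]) (.leaf [0, -1, 0, -2, 0, 0, 0, 0, 0, 1])) (.node (.leaf []) (.leaf [0, 1]))) (.node (.node (.leaf [-4, 2, -2, 0, 2, 2, 0, 0, 0, -1]) (.leaf [-16994, 14523, 3180, -1124, 12744, 10650, -7048, -1570, -2664, -1411, -1788, 158, 14, 1, -1])) (.node (.leaf [-90988, 147348, -16300, -10148, 123616, 47392, -29788, -29628, -30842, -4376, -9476, -906, 1554, -1, 0, 1, 1]) (.leaf [12, 14, 13, 13, -6, -6, -1, 0, -4, -4, 0, 0, 1])))))))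

def twoL14 : Janko.Tree (List ℤ) :=
  (.node (.node (.node (.node (.node (.node (.node (.leaf [0, 0, 1]) (.leaf [0, 0, 2, 0, -1, 1, 0, 1])) (.leaf [0, 0, 1])) (.node (.leaf [95, -38, -34, 31, -37, -71, 36, -1, 11, 2, 7]) (.leaf [0, 2, 5, 3, 0, 0, -3, 0, -1]))) (.node (.node (.leaf []) (.leaf [0, 0, 0, -1, 0, 0, 1])) (.node (.leaf [-2, 2, 0, 0, 2, 0, 0, 0, -1]) (.leaf [0, 2, 5, 3, 0, 0, -3, 0, -1])))) (.node (.node (.node (.leaf [636, -42, -297, 103, -122, -370, 223, -98, 73, 19, 24, 2, 1]) (.leaf [177, -58, -71, 57, -58, -119, 54, -13, 25, 4, 13])) (.node (.leaf []) (.leaf [902, -8, 250, 381, -385, -440, 43, -47, 21, 18, 22, -13, 3]))) (.node (.node (.leaf [-1015, -826, -108, -564, -112, 428, 68, 304, 46, 16, 29, 17, 1]) (.leaf [0, 0, 1])) (.node (.leaf [0, 0, 0, -1, 0, 0, 1]) (.leaf [0, 0, 1, 1, 0, 0, -1]))))) (.node (.node (.node (.node (.leaf [10, -2, 2, 5, -4, -6, 1, 0, 1]) (.leaf [-32, 22, 5, -12, 22, 27, -15, -5, -3, 0, -3])) (.node (.leaf []) (.leaf [0, 0,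 1]))) (.node (.node (.leaf []) (.leaf [20704, 6050, 9602, 5141, -7990, -8698, 2245, -1490, -1787, 507, -404, -114, 263, 0, 0, -1])) (.node (.leaf [-3, -2, -1, -1, 1, 2, -1, 0, 1]) (.leaf [84, -26, -48, 21, -23, -65, 40, -5, 9, 2, 7])))) (.node (.node (.node (.leaf [0, 0, 0, -1, 0, 0, 1]) (.leaf [-516, 166, 107, -152, 240, 297, -147, 17, -65, -9, -36, 9, 1])) (.node (.leaf []) (.leaf [0, 0, 1]))) (.node (.node (.leaf []) (.leaf [])) (.node (.leaf [-180, 84, 45, -54, 86, 119, -57, -1, -26, -4, -11]) (.leaf [-13150, -67834, -22195, -24568, -24634, -536, 15910, 13613, 10092, 4912, 5615, -68, -247, 0, 1, -1])))))) (.node (.node (.node (.node (.node (.leaf [0, 0, 1]) (.leaf [0, 0, 1])) (.node (.leaf [0, 0, 1, 1, 0, 0, -1]) (.leaf []))) (.node (.node (.leaf [357, -1020, -1043, -344, -279, -488, 630, 64, 218, 86, 127, 14, 1]) (.leaf [])) (.node (.leaf [0, 0, 1]) (.leaf [0, 0, 1])))) (.node (.node (.node (.leaf [4, 2, -5, 0, 2, -2, 2, -2, 1]) (.leaf [0, 0, 0, -1, 0, 0, 1]))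 (.node (.leaf [-4, 0, -1, -1, 2, 2, -1]) (.leaf [5136, -2678, -2699, 1715, -1807, -4021, 1840, -244, 690, 320, 660, -70, -17, -1, 0, 1]))) (.node (.node (.leaf [-4, 0, -1, -1, 2, 2, -1]) (.leaf [0, 0, 1])) (.node (.leaf [0, 0, 1, 1, 0, 0, -1]) (.leaf [0, 0, 0, -1, 0, 0, 1]))))) (.node (.node (.node (.node (.leaf [0, 0, 0, -1, 0, 0, 1]) (.leaf [])) (.node (.leaf [0, 0, 1]) (.leaf [-162, 128, -53, -12, 131, 107, -51, -32, -8, -15, -2, -4, -3]))) (.node (.node (.leaf [114, -20, -49, 25, -35, -81, 52, -8, 7, 2, 9]) (.leaf [-222, 112, 66, -47, 127, 151, -106, -13, -29, 0, -15, 0, 1])) (.node (.leaf [0, 0, 1]) (.leaf [0, 0, 0, -1, 0, 0, 1])))) (.node (.node (.node (.leaf []) (.leaf [0, 0, 1, 1, 0, 0, -1])) (.node (.leaf [-440, 126, 244, -112, 121, 295, -169, 42, -63, -12, -35, 5]) (.leaf [194, -160, -84, -30, -134, -125, 119, 12, 30, 18, 20]))) (.node (.node (.leaf [0, 0, 1, 1, 0, 0, -1]) (.leaf [0, 0, 1, 1, 0, 0, -1])) (.node (.leaf [0, 0, 1]) (.leaf [0, 0, 0, -1, 0, 0,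 1])))))))

def twoL15 : Janko.Tree (List ℤ) :=
  (.node (.node (.node (.node (.node (.node (.node (.leaf []) (.leaf [-4, 0, 0, -2, 1, 3, 0, 1])) (.leaf [72, 18, 26, 32, -27, -39, 9, -4, -6, 0, 2, -1])) (.node (.leaf []) (.leaf [242465, -294608, -40942, -77211, -240913, -185503, 181387, 60581, 14590, 36564, 31469, -75, 4175, -1, 1, 1, 1]))) (.node (.node (.leaf []) (.leaf [0, 0, 0, 1])) (.node (.leaf [0, 0, 0, 1]) (.leaf [53559, 56406, -42882, 18905, 35009, -46941, 23389, -21346, -10546, 1734, 1365, -833, 1423, -1, 1, 1, 1])))) (.node (.node (.node (.leaf [596, -48, -336, 100, -100, -376, 241, -90, 66, 17, 30, 0, 1]) (.leaf [0, 0, 0, 1])) (.node (.leaf []) (.leaf [228, -168, -66, 59, -145, -163, 93, 18, 37, 8, 23, -1, -1]))) (.node (.node (.leaf [1108, -382, -11, 489, -553, -691, 225, 34, 134, -12, 34, 0, 1]) (.leaf [98, -1302, -1063, -730, -344, -414, 822, 198, 181, 139, 111, 21, 1])) (.node (.leaf [0, 0, 0, 1]) (.leaf [0, 0, 0, 1]))))) (.node (.node (.node (.node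 (.leaf []) (.leaf [])) (.node (.leaf []) (.leaf [-48945, 57892, 19330, 4616, 42484, 36416, -31046, -8602, -9000, -4936, -6351, -24, -33, 0, -1, 1]))) (.node (.node (.leaf []) (.leaf [29648, -16126, 1196, 3997, -19232, -18312, 10244, 2316, 1961, 1969, 1750, -118, 185, 0, 0, -1])) (.node (.leaf []) (.leaf [-28773, 16100, 662, -4176, 18756, 17250, -9778, -1660, -2552, -1804, -2190, 234, -78, 1, -1])))) (.node (.node (.node (.leaf [0, 0, 0, 1]) (.leaf [-480, 168, 101, -122, 242, 271, -151, 11, -62, -6, -34, 7])) (.node (.leaf [921, 142, 67, 396, -287, -525, 172, -74, 4, -20, 20, -1]) (.leaf [830, 96, -4, 328, -235, -461, 151, -84, 28, -8, 17, 0, -1]))) (.node (.node (.leaf [-140, 148, 139, -1, 53, 115, -76, 3, -42, -18, -16, -1]) (.leaf [70, -12, -35, 40, -21, -53, 24, -5, 8, -4, 8, -1])) (.node (.leaf []) (.leaf [0, 0, 0, 1])))))) (.node (.node (.node (.node (.node (.leaf []) (.leaf [])) (.node (.leaf [0, 0, 0, 1]) (.leaf [-4, -1284, -253, -595, -763, -45, 501, 316, 168,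 67, 88, 2, 1]))) (.node (.node (.leaf [0, 0, 0, 1]) (.leaf [-195, -14, 222, -135, -44, 183, -73, 52, -28, 2, -30, 6, 5])) (.node (.leaf []) (.leaf [-979, -200, -74, -424, 277, 545, -169, 94, -2, 22, -16, 1, 1])))) (.node (.node (.node (.leaf [0, 0, 0, 1]) (.leaf [0, 0, 0, 1])) (.node (.leaf [0, 0, 0, 1]) (.leaf [-13164, -258, -6711, -3511, 7597, 5283, -1349, -4, 302, -202, 42, 104, -113, -1, 0, 1]))) (.node (.node (.leaf [0, 0, 0, 1]) (.leaf [31156, -18944, -11967, 2550, -16817, -22439, 16045, 1226, 3439, 1937, 2885, -61, 46, 1, 0, -1])) (.node (.leaf [0, 0, 0, 1]) (.leaf [0, 0, 0, 1]))))) (.node (.node (.node (.node (.leaf [0, 0, 0, 1]) (.leaf [62, -16, -33, 35, -23, -48, 24, -3, 8, -4, 8, -1])) (.node (.leaf []) (.leaf [-58, 2092, 854, 997, 1008, 110, -806, -364, -336, -184, -196, 30, 4, -1]))) (.node (.node (.leaf [0, 0, 0, 1]) (.leaf [252, -12, -146, 145, 11, -191, 33, -51, 25, 16, 25, -10, 1])) (.node (.leaf [-948, 750, 9, -330, 711, 629, -277, -144, -168, -10,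 -52, 0, -1]) (.leaf [0, 0, 0, 1])))) (.node (.node (.node (.leaf []) (.leaf [0, 0, 0, 1])) (.node (.leaf [0, 0, 0, 1]) (.leaf []))) (.node (.node (.leaf [0, 0, 0, 1]) (.leaf [0, 0, 0, 1])) (.node (.leaf []) (.leaf [0, 0, 0, 1])))))))

def twoL16 : Janko.Tree (List ℤ) :=
  (.node (.node (.node (.node (.node (.node (.node (.leaf [-1, 0, 0, -1, 0, 1]) (.leaf [0, 0, 0, 0, 0, 0, 0, 0, 0, 0, 1, 0, 0, 0, 0, 0, 0])) (.leaf [])) (.node (.leaf [251, -118, -104, 81, -101, -190, 97, -1, 33, 6, 21]) (.leaf [0, 0, -1, 0, 1]))) (.node (.node (.leaf [1]) (.leaf [-23463, -22334, -3990, -19088, -3366, 10642, 3512, 6892, 564, 2395, 1244, -42, 114, 0, 0, -1])) (.node (.leaf []) (.leaf [0, 0, 0, -1, 0, 1])))) (.node (.node (.node (.leaf [1]) (.leaf [-1, -4, 3, -1, -3, 1, 0, 2])) (.node (.leaf [-7, 2, -6, -3, 6, 3, 0, -1]) (.leaf [-83, 34, 35, -21, 33, 57, -32, 3, -12, -2, -6]))) (.node (.node (.leaf [152, 76, -40, 55, -2, -85, 42, -32, 0, -6]) (.leaf [1, 0, 0, 1, 0, -1])) (.node (.leaf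 []) (.leaf [0, 0, -1, 0, 1]))))) (.node (.node (.node (.node (.leaf [-2, 0, -1, -1, 1, 1]) (.leaf [-1, -10, 12, 0, -9, 3, -3, 5, 1, 0, -1])) (.node (.leaf [0, 0, -1, 0, 1]) (.leaf [-13991, 58784, 17889, 14135, 31375, 14775, -20492, -10608, -9112, -4390, -5463, -8, 189, 0, -1, 1]))) (.node (.node (.leaf [1]) (.leaf [236, -88, -118, 66, -76, -164, 86, -16, 36, 6, 18])) (.node (.leaf [1, 0, 0, 1, 0, -1]) (.leaf [-28, 46, 4, -3, 29, 28, -17, -11, -5, -4, -3])))) (.node (.node (.node (.leaf [-240, 44, 86, -50, 68, 148, -82, 22, -26, -8, -10]) (.leaf [-3, 2, -5, -1, 5, 1, 0, -1])) (.node (.leaf [1]) (.leaf [-392, 140, 48, -91, 219, 200, -111, 7, -52, -5, -26, 6]))) (.node (.node (.leaf [1, 0, 1, 0, -1]) (.leaf [1])) (.node (.leaf [9, -4, -14, 2, -1, -15, 13, 1, -2, 0, 3]) (.leaf [-58166, 17956, -2054, -16852, 32096, 33921, -15865, -1278, -4882, -180, -2216, -432, 10, -1, 1, 1, 1])))))) (.node (.node (.node (.node (.node (.leaf [2, 0, 0, 1, 0, -1]) (.leaf [-2, 2, -3, -1,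 3, 1, 0, -1])) (.node (.leaf []) (.leaf []))) (.node (.node (.leaf [1]) (.leaf [63, -30, -36, 13, -23, -44, 27, -3, 11, 2, 5])) (.node (.leaf [51, 166, -119, -119, 55, 35, 92, -65, -10, -3, -4, -1]) (.leaf [-1654, -254, -10, -1223, 205, 1116, 15, 183, -85, 48, -17, 1, -3])))) (.node (.node (.node (.leaf []) (.leaf [-102, 26, 43, -37, 25, 71, -28, 10, -12, -4, -8, 1])) (.node (.leaf []) (.leaf [6218, -3160, 220, 2345, -3543, -3908, 1155, 281, 670, 304, 425, -89, -11, -1]))) (.node (.node (.leaf []) (.leaf [-436, 386, 258, -20, 252, 338, -246, -25, -80, -36, -52])) (.node (.leaf [0, 0, -1, 0, 1]) (.leaf [1]))))) (.node (.node (.node (.node (.leaf []) (.leaf [1])) (.node (.leaf [-1, 0, 0, -1, 0, 1]) (.leaf [-72, 10, 33, -39, 22, 52, -23, 6, -8, 4, -8, 1]))) (.node (.node (.leaf [-69, -364, -262, -35, -74, -2, 65, 56, 134, -20, 6, 11, -5]) (.leaf [-82962, -46908, -24670, -3375, 12937, 53058, -32179, 6972, 23775, -5527, 1459, 53, -3278, 0, 0, -1, -1])) (.node (.leaf [])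 (.leaf [0, -4, 3, 0, -3, 0, 0, 2])))) (.node (.node (.node (.leaf [1]) (.leaf [-2, 2, -4, -1, 4, 1, 0, -1])) (.node (.leaf [1]) (.leaf [253203, -311818, 33305, -72312, -281658, -166029, 152805, 70244, 14498, 39292, 28399, -1401, 4877, 0, 1, 0, 1]))) (.node (.node (.leaf [12, 0, 9, 3, -9, -3]) (.leaf [-932, 876, 551, -9, 556, 714, -525, -57, -179, -90, -112])) (.node (.leaf [2, 0, 0, 1, 0, -1]) (.leaf [-54038, 62800, 4450, 4463, 53885, 36602, -30025, -11914, -7855, -5132, -6111, -199, -189, 0, 0, -1])))))))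

def twoL17 : Janko.Tree (List ℤ) :=
  (.node (.node (.node (.node (.node (.node (.node (.leaf []) (.leaf [-67, 32, 31, -18, 27, 48, -26, 2, -10, -2, -5])) (.leaf [0, 1])) (.node (.leaf []) (.leaf [235822, -267718, 31980, -61240, -248147, -154997, 137509, 60028, 9210, 36126, 25257, -1624, 4862, -1, 0, 1, 1]))) (.node (.node (.leaf []) (.leaf [0, 1])) (.node (.leaf [0, 1]) (.leaf [])))) (.node (.node (.node (.leaf []) (.leaf [0, 1])) (.node (.leaf []) (.leaf [0, 1]))) (.node (.node (.leaf []) (.leaf [])) (.node (.leaf [0, 1]) (.leaf [-71, 25, 33, -22, 23, 50, -26, 4, -10, -1, -5]))))) (.node (.node (.node (.node (.leaf [1786, 222, 17, 827, -418, -960, 175, -204, 98, -4, 16, -16, -1]) (.leaf [0, -1, -2, 0, 0, 0, 0, 0, 1])) (.node (.leaf []) (.leaf []))) (.node (.node (.leaf []) (.leaf [])) (.node (.leaf [344, -156, -15, 99, -198, -194, 87, 12, 50, 3, 12, 0, 1]) (.leaf [196532, -248322, -30935, -80914, -202225, -152984, 158078, 53083, 6482, 33967, 26686, -430, 4373, 0,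 0, 0, 1])))) (.node (.node (.node (.leaf [0, 1]) (.leaf [])) (.node (.leaf []) (.leaf [0, 2, 0, 2, 0, 0, 0, 0, 0, -1]))) (.node (.node (.leaf []) (.leaf [15590, -24216, -3100, -2244, -17903, -10955, 9367, 4367, 3553, 1928, 2272, -5, -7, -1, 1])) (.node (.leaf [0, 2, 2, 0, 0, 0, 0, 0, -1]) (.leaf [0, 1])))))) (.node (.node (.node (.node (.node (.leaf []) (.leaf [-56232, -87411, -52160, -24774, -11677, 22489, 7213, 15299, 24549, -994, 6322, 1089, -2559, 1, 0, -1, -1])) (.node (.leaf [0, 1]) (.leaf [0, 1]))) (.node (.node (.leaf []) (.leaf [])) (.node (.leaf [-473, 184, 114, -165, 184, 341, -140, 5, -49, -17, -30, -1]) (.leaf [89864, -147391, 18152, 7906, -124283, -46457, 30163, 30043, 29943, 4790, 9516, 879, -1475, 1, 0, -1, -1])))) (.node (.node (.node (.leaf [0, 1]) (.leaf [0, 1])) (.node (.leaf [0, 1]) (.leaf [0, 1]))) (.node (.node (.leaf [0, 1]) (.leaf [-82, 11, 43, -39, 25, 59, -32, 7, -9, 5, -9, 1])) (.node (.leaf [73, -52, -27, 14, -37, -50, 26, 2, 14, 5, 5])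 (.leaf []))))) (.node (.node (.node (.node (.leaf [0, 1]) (.leaf [-278, 37, 101, -67, 67, 173, -90, 29, -28, -9, -11, 1])) (.node (.leaf [8, -5, 8, 2, -8, -4, 0, 2, 0, 1]) (.leaf []))) (.node (.node (.leaf [0, 1]) (.leaf [0, 1])) (.node (.leaf [0, 1]) (.leaf [])))) (.node (.node (.node (.leaf []) (.leaf [0, 1])) (.node (.leaf []) (.leaf [0, 1]))) (.node (.node (.leaf [0, 1]) (.leaf [-26650, 16437, -1062, -3270, 18811, 15703, -8925, -2155, -2325, -1858, -1984, 207, -103, 1, -1])) (.node (.leaf []) (.leaf [0, -1, 0, -2, 0, 0, 0, 0, 0, 1])))))))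

def twoL18 : Janko.Tree (List ℤ) :=
  (.node (.node (.node (.node (.node (.node (.node (.leaf [0, 0, 1, 1, 0, 0, -1]) (.leaf [4, 0, -10, -6, 0, -4, 10, 0, 0, 0, 1])) (.leaf [-285, 240, 144, 19, 183, 198, -169, -17, -48, -24, -31])) (.node (.leaf [0, 0, 0, -1, 0, 0, 1]) (.leaf [0, 0, 1]))) (.node (.node (.leaf []) (.leaf [-34511, 2908, -6313, -9802, 15825, 18545, -6583, 835, -349, -920, -860, 95, -255, 0, 0, -1])) (.node (.leaf []) (.leaf [8750, 14690, 9153, 8805, 1599, -1483, -4942, -3176, -1736, -1250, -1243, -14, 74, 0, 0, 1])))) (.node (.node (.node (.leaf [548, -606, 25, 243, -509, -387, 146, 136, 130, -2, 38, 0, 1]) (.leaf [-95, 34, 21, -25, 43, 57, -28, 3, -13, -2, -5])) (.node (.leaf [0, 0, 1]) (.leaf [-79, 32, 27, -19, 34, 51, -28, 2, -11, -2, -5]))) (.node (.node (.leaf [297, -242, -129, -15, -195, -202, 169, 19, 47, 24, 31]) (.leaf [-434, 238, 216, -43, 236, 274, -213, 8, -71, -9, -47, 1, -1])) (.node (.leaf []) (.leaf [0, 0, 1]))))) (.node (.node (.node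 (.node (.leaf [0, 0, 0, -1, 0, 0, 1]) (.leaf [0, 0, 1])) (.node (.leaf [0, 0, 1]) (.leaf [0, 0, 0, -1, 0, 0, 1]))) (.node (.node (.leaf []) (.leaf [81, -30, -51, 24, -21, -61, 33, -7, 13, 2, 7])) (.node (.leaf [0, -2, -1, 0, 0, 0, 0, 0, 1]) (.leaf [0, 0, 0, -1, 0, 0, 1])))) (.node (.node (.node (.leaf []) (.leaf [-13, -2, 11, -9, -3, 13, -4, 3, -1, 0, -1])) (.node (.leaf [-5, 2, 0, -1, 3, 2, -1, 0, -1]) (.leaf [434, 256, 189, 241, -87, -149, -54, -86, -14, -14, -9, -4, -1]))) (.node (.node (.leaf [0, 0, 1]) (.leaf [-1892, -814, 294, -828, 39, 980, -220, 429, -35, 6, -21, 28])) (.node (.leaf [0, 0, 1]) (.leaf [-110571, -26358, 56421, -52720, -6090, 77269, -26921, 23751, -6456, -114, -5302, 1246, 54, 0, 1, 0, 1])))))) (.node (.node (.node (.node (.node (.leaf [-4, 0, -1, -1, 2, 2, -1]) (.leaf [0, 0, 1, 1, 0, 0, -1])) (.node (.leaf [0, 2, 1, -1, 0, 0, 1, 0, -1]) (.leaf []))) (.node (.node (.leaf []) (.leaf [406, -92, -167, 120, -121, -255, 129, -37, 51, 10, 29, -7]))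 (.node (.leaf [0, 0, 1, 1, 0, 0, -1]) (.leaf [-971, -200, -71, -417, 275, 543, -174, 92, 0, 22, -16, 1, 1])))) (.node (.node (.node (.leaf []) (.leaf [])) (.node (.leaf [2, -2, 0, -1, -2, 0, 1, 0, 1]) (.leaf [4880, -2226, -2499, 1773, -1552, -3784, 1623, -312, 621, 281, 610, -70, -17, -1, 0, 1]))) (.node (.node (.leaf [6, 2, -4, 3, 2, -4, 1, -2, 1]) (.leaf [30560, -18524, -11598, 2539, -16519, -21977, 15674, 1204, 3347, 1901, 2829, -65, 46, 1, 0, -1])) (.node (.leaf [0, 0, 1]) (.leaf [-36827, 41756, 13179, 2644, 31463, 27788, -23208, -6609, -6186, -3420, -4471, -132, -60, 0, 0, 1]))))) (.node (.node (.node (.node (.leaf []) (.leaf [-3, -2, -1, -1, 1, 2, -1, 0, 1])) (.node (.leaf [0, 0, 1, 1, 0, 0, -1]) (.leaf [0, 0, 0, -1, 0, 0, 1]))) (.node (.node (.leaf [106, -442, -337, 9, -144, -122, 133, 52, 162, -16, 17, 11, -5]) (.leaf [2186, -784, 89, 581, -1243, -1115, 460, 10, 249, 55, 96, -20, 2])) (.node (.leaf [-2, -2, -2, -3, 0, 2, 1, 0, 1]) (.leaf [-79, 34, 28, -18,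 35, 49, -27, 3, -13, -2, -5])))) (.node (.node (.node (.leaf []) (.leaf [])) (.node (.leaf []) (.leaf [234355, -323988, -40555, -91954, -256413, -181719, 187885, 68703, 17359, 38602, 33038, 147, 4145, 0, 1, 0, 1]))) (.node (.node (.leaf []) (.leaf [-231, 408, 192, 11, 199, 229, -164, -53, -67, -38, -46])) (.node (.leaf [-4, 0, -1, -1, 2, 2, -1]) (.leaf [-51989, 61956, 3406, 4850, 53171, 34982, -28954, -11917, -7637, -5070, -5985, -180, -189, 0, 0, -1])))))))

def twoL19 : Janko.Tree (List ℤ) :=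
  (.node (.node (.node (.node (.node (.node (.node (.leaf [0, 0, 0, 1]) (.leaf [0, 0, 0, 0, 0, 0, 0, 0, 0, 0, 0, 1, 0, 0, 0, 0, 0])) (.leaf [-103, 646, 18, 59, 365, 62, -81, -149, -141, -23, -13, 0, 3])) (.node (.leaf [0, 0, 0, 1]) (.leaf []))) (.node (.node (.leaf []) (.leaf [])) (.node (.leaf []) (.leaf [0, 0, 0, 1])))) (.node (.node (.node (.leaf [-236, -62, -165, 19, 93, 131, -55, 12, 82, -54, -16, 10, -3]) (.leaf [])) (.node (.leaf []) (.leaf [-2741, -50108, -22370, -15870, -18878, -5463, 15597, 9042, 8819, 3012, 4325, 174, -318, 1, 0, -1]))) (.node (.node (.leaf [0, 0, 0, 1]) (.leaf [0, 0, 0, 1])) (.node (.leaf []) (.leaf []))))) (.node (.node (.node (.node (.leaf [0, 0, 0, 1]) (.leaf [-492, 686, 463, 90, 362, 410, -374, -56, -141, -61, -83, -1, -1])) (.node (.leaf []) (.leaf [0, 0, 0, 1]))) (.node (.node (.leaf []) (.leaf [0, 0, 0, 1])) (.node (.leaf [0, 0, 0, 1]) (.leaf [0, 0, 0, 1])))) (.node (.node (.node (.leaf [528, -158, -116, 170, -240, -309, 148, -21,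 66, 3, 38, -7]) (.leaf [0, 0, 0, 1])) (.node (.leaf []) (.leaf [0, 0, 0, 1]))) (.node (.node (.leaf [269, 414, -122, 43, 183, -164, 83, -153, -82, 18, 9, 0, 1]) (.leaf [])) (.node (.leaf [-1145, 1050, 396, -354, 669, 953, -439, -133, -210, -76, -102, -3, -1]) (.leaf [-106115, 2386, 55044, -42379, 10294, 75725, -32489, 15801, -9900, -1482, -6666, 912, 142, -1, 1, 1, 1])))))) (.node (.node (.node (.node (.node (.leaf [0, 0, 0, 1]) (.leaf [0, 0, 0, 1])) (.node (.leaf []) (.leaf []))) (.node (.node (.leaf [420, -320, -315, 47, -161, -335, 218, -4, 88, 34, 41, 1]) (.leaf [0, 0, 0, 1])) (.node (.leaf [0, 0, 0, 1]) (.leaf [0, 0, 0, 1])))) (.node (.node (.node (.leaf []) (.leaf [68, -10, -35, 37, -21, -50, 24, -6, 8, -4, 8, -1])) (.node (.leaf []) (.leaf [6782, -3880, -306, 2273, -3914, -4376, 1560, 327, 824, 373, 517, -90, -11, -1]))) (.node (.node (.leaf []) (.leaf [0, 0, 0, 1])) (.node (.leaf []) (.leaf [-508, 168, 92, -155, 251, 286, -139, 14, -66, -4, -36, 8]))))) (.node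 (.node (.node (.node (.leaf []) (.leaf [])) (.node (.leaf [0, 0, 0, 1]) (.leaf [0, 0, 0, 1]))) (.node (.node (.leaf [1120, -506, -305, 305, -542, -722, 386, 8, 164, 16, 65, -1, 1]) (.leaf [-1132, 800, 505, -215, 673, 747, -481, -20, -211, -51, -144, 20, 6])) (.node (.leaf [434, 1044, 254, 685, 474, -176, -389, -294, -104, -51, -64, -8, -1]) (.leaf [0, 0, 0, 1])))) (.node (.node (.node (.leaf []) (.leaf [68, -30, 16, -21, -41, -34, 33, 8, 0, 11, -4])) (.node (.leaf []) (.leaf []))) (.node (.node (.leaf [-182, 314, 157, 69, 183, 151, -164, -41, -54, -27, -34, -1]) (.leaf [0, 0, 0, 1])) (.node (.leaf [0, 0, 0, 1]) (.leaf [0, 0, 0, 1])))))))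

def twoL20 : Janko.Tree (List ℤ) :=
  (.node (.node (.node (.node (.node (.node (.node (.leaf []) (.leaf [-65, 12, 36, -33, 20, 49, -24, 6, -8, 4, -8, 1])) (.leaf [-1, -10, 11, -3, -11, 3, 0, 5])) (.node (.leaf []) (.leaf [2, 0, 0, 1, 0, -1]))) (.node (.node (.leaf [1, 0, 1, 0, -1]) (.leaf [1])) (.node (.leaf [1]) (.leaf [-27877, -274600, -206046, -137119, -59677, -73822, 148459, 48707, 25936, 29396, 31416, 565, 1280, -1, 1, 1, 1])))) (.node (.node (.node (.leaf [1]) (.leaf [0, 0, 0, -1, 0, 1])) (.node (.leaf [-5, 2, -5, -2, 5, 2, 0, -1]) (.leaf [-148253, -159338, -234359, -149864, 74251, -15341, 104777, 24875, 3260, 28652, 21320, -1523, 3085, 0, 1, 0, 1]))) (.node (.node (.leaf []) (.leaf [-2, 2, -3, -2, 3, 2, 0, -1])) (.node (.leaf [1]) (.leaf [2, 0, 0, 1, 0, -1]))))) (.node (.node (.node (.node (.leaf [4, 2, 1, 1, -1, -1, 0, -1]) (.leaf [1, 0, 0, 1, 0, -1])) (.node (.leaf [2, 0, 0, 1, 0, -1]) (.leaf [-1, 2, -3, -1, 3, 1, 0, -1]))) (.node (.node (.leaf [1, 0, 1,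 0, -1]) (.leaf [-79710, -46288, -23625, -2932, 11594, 51277, -31253, 6830, 23251, -5309, 1609, -19, -3218, 0, 0, -1, -1])) (.node (.leaf [0, 0, 0, -1, 0, 1]) (.leaf [102580, -23800, -7525, -20398, -47568, -77419, 66201, 5026, -15515, 12831, 6581, -403, 3380, 0, 0, 1, 1])))) (.node (.node (.node (.leaf [1]) (.leaf [-653, -1048, -118, -807, -454, 358, 309, 324, 84, 64, 46, 5, 1])) (.node (.leaf [1, 0, 0, 1, 0, -1]) (.leaf [3, 2, 0, 1, 0, -1, 0, -1]))) (.node (.node (.leaf [101, 20, 45, 50, -45, -56, 12, -1, -8, -2, 2, -1]) (.leaf [1, 0, 0, 1, 0, -1])) (.node (.leaf [1, 0, 0, 1, 0, -1]) (.leaf [3, 0, 1, 1, -1, -1])))))) (.node (.node (.node (.node (.node (.leaf []) (.leaf [])) (.node (.leaf [1]) (.leaf [1]))) (.node (.node (.leaf [1, 0, 1, 0, -1]) (.leaf [50804, -266898, -43429, -90482, -162645, -60246, 107630, 62616, 27723, 19744, 21561, 1867, -62, 0, 0, -1, -1])) (.node (.leaf [-232, 368, 204, 14, 177, 223, -165, -40, -64, -36, -44]) (.leaf [-13, 2, -9, -6, 9, 6, 0,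 -1])))) (.node (.node (.node (.leaf [-8, -6, -1, -2, 1, 2, 0, 3]) (.leaf [1])) (.node (.leaf [-2, 0, -1, -1, 1, 1]) (.leaf []))) (.node (.node (.leaf [-2, 0, -1, -1, 1, 1]) (.leaf [-151, 136, 107, -32, 70, 135, -79, -7, -29, -12, -20])) (.node (.leaf [2, 0, 0, 1, 0, -1]) (.leaf [-25810, 30252, 25118, 4338, 15764, 21422, -19936, -1573, -6120, -3486, -4521, 406, 168, 0, 0, 1]))))) (.node (.node (.node (.node (.leaf [1]) (.leaf [1, 0, 0, 1, 0, -1])) (.node (.leaf [-1, -2, 1, -1, -1, 1, 0, 1]) (.leaf []))) (.node (.node (.leaf [1481, 298, 88, 781, -298, -743, 22, -214, 88, -16, 7, -13, -1]) (.leaf [-90, 32, 30, -36, 34, 64, -28, 2, -10, -2, -8, 2])) (.node (.leaf [2, 2, -3, 3, 3, -3, 0, -1]) (.leaf [-4942, -910, 1385, -1866, 567, 3182, -1320, 775, -145, -3, -177, -1, 6, 0, -1])))) (.node (.node (.node (.leaf [1, 0, 1, 0, -1]) (.leaf [0, 0, -1, 0, 1])) (.node (.leaf [1, 0, 1, 0, -1]) (.leaf [1]))) (.node (.node (.leaf [0, 0, -1, 0, 1]) (.leaf [201444, -200158, 17448, -43150,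 -191747, -133983, 114973, 43377, 5505, 28390, 20117, -1351, 4041, 0, 1, 0, 1])) (.node (.leaf []) (.leaf [-152723, 90648, -53973, 8227, 126439, 87629, -58652, -23157, 4876, -16186, -8441, 926, -3342, 0, 0, -1, -1])))))))

def twoL21 : Janko.Tree (List ℤ) :=
  (.node (.node (.node (.node (.node (.node (.node (.leaf [0, 1]) (.leaf [70, -12, -34, 36, -20, -50, 22, -6, 8, -2, 8, -1])) (.leaf [])) (.node (.leaf [0, 1]) (.leaf []))) (.node (.node (.leaf []) (.leaf [524, 201, 179, 201, -154, -188, 7, -73, 1, -11, -18, 0, 1])) (.node (.leaf [-1652, 263, 79, -533, 652, 894, -321, 95, -148, -37, -58, 16, 1]) (.leaf [0, 1])))) (.node (.node (.node (.leaf []) (.leaf [])) (.node (.leaf []) (.leaf [0, 1]))) (.node (.node (.leaf [0, 1]) (.leaf [0, 1])) (.node (.leaf []) (.leaf [-12000, -21602, 15653, -9231, -15994, 10062, -2211, 8787, 1629, 254, -305, 484, -48, 0, 1, -1]))))) (.node (.node (.node (.node (.leaf []) (.leaf [])) (.node (.leaf []) (.leaf [1347, 584, 282, 1103, -69, -780,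 -183, -208, 19, -61, -33, -8, -1]))) (.node (.node (.leaf []) (.leaf [0, 1])) (.node (.leaf []) (.leaf [0, 1])))) (.node (.node (.node (.leaf []) (.leaf [0, 1])) (.node (.leaf [-2, 11, 17, 7, 6, 8, -19, -4, -1, 1, -2, 0, 1]) (.leaf [0, 1]))) (.node (.node (.leaf [0, 2, 0, 2, 0, 0, 0, 0, 0, -1]) (.leaf [-344, 734, 391, 71, 296, 348, -263, -76, -137, -81, -76, 2, 1])) (.node (.leaf [46590, 5672, 70448, -7520, -44727, -14883, 8175, 9333, -16377, 4696, -2906, 83, 2335, 0, 1, 0, 1]) (.leaf [72724, -18028, -17289, -1959, -25713, -56111, 39658, -78, -5430, 8108, 5316, -688, 1786, -1, 1, 0, 1])))))) (.node (.node (.node (.node (.node (.leaf [0, 1]) (.leaf [0, 1])) (.node (.leaf [2091, 1558, -201, 1136, 276, -971, 35, -623, -20, -62, -36, -39, 1]) (.leaf []))) (.node (.node (.leaf []) (.leaf [0, 1])) (.node (.leaf [0, 1]) (.leaf [0, 1])))) (.node (.node (.node (.leaf []) (.leaf [52676, 89138, 54738, 23820, 12566, -19498, -9064, -15234, -25230, 947, -6476, -1162, 2586, -1, 0,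 1, 1])) (.node (.leaf [-920, 430, 131, -269, 512, 564, -289, -36, -132, -4, -44, 2, -1]) (.leaf [0, 1]))) (.node (.node (.leaf [-426, 430, 211, -87, 262, 352, -191, -38, -84, -36, -56, 0, -1]) (.leaf [0, 1])) (.node (.leaf []) (.leaf [-23118, 37115, 10750, 8854, 24826, 18708, -19274, -6470, -4043, -4098, -3900, 162, -208, 0, -1, 1]))))) (.node (.node (.node (.node (.leaf []) (.leaf [216, -151, -157, -19, -120, -116, 115, -16, 54, 13, 28, -2, -1])) (.node (.leaf [0, 1]) (.leaf [0, 1]))) (.node (.node (.leaf [0, 1]) (.leaf [])) (.node (.leaf []) (.leaf [0, 1])))) (.node (.node (.node (.leaf []) (.leaf [-341, 1366, 636, 663, 773, 290, -737, -238, -222, -101, -115, -8, 1])) (.node (.leaf []) (.leaf [-850, 213, 269, -415, 220, 628, -195, 49, -98, -8, -48, 0, -1]))) (.node (.node (.leaf []) (.leaf [0, 1])) (.node (.leaf [0, 1]) (.leaf [-4, 3, 15, -1, -2, 10, -11, 0, 0, 0, -2, 0, 1])))))))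

def twoL22 : Janko.Tree (List ℤ) :=
  (.node (.node (.node (.node (.node (.node (.node (.leaf []) (.leaf [-2, 0, 2, -2, 0, 2, 0, 1])) (.leaf [0, 0, 1])) (.node (.leaf []) (.leaf [-4, 0, -1, -1, 2, 2, -1]))) (.node (.node (.leaf [0, 0, 1]) (.leaf [])) (.node (.leaf []) (.leaf [4, -2, -2, -1, -2, -2, 3, 0, 1])))) (.node (.node (.node (.leaf [-102, -184, -37, -52, -33, 16, 4, 43, 16, 16, 17]) (.leaf [-164, 94, 32, -37, 94, 99, -54, -7, -29, -4, -7])) (.node (.leaf [0, 0, 1, 1, 0, 0, -1]) (.leaf [23258, -39094, -11010, -9570, -25976, -18910, 19884, 6909, 4279, 4243, 4061, -156, 211, 0, 1, -1]))) (.node (.node (.leaf []) (.leaf [-31, 40, 10, -10, 21, 33, -15, -8, -5, -4, -3])) (.node (.leaf []) (.leaf [-4, 0, -1, -1, 2, 2, -1]))))) (.node (.node (.node (.node (.leaf [0, 0, 1]) (.leaf [-150, 94, -42, -57, 140, 102, -55, -32, -5, 5, -15, 1, -1])) (.node (.leaf [-4, 0, -1, -1, 2, 2, -1]) (.leaf [0, 0, 1]))) (.node (.node (.leaf [0, 0, 1]) (.leaf [])) (.node (.leaf [-1, 2,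 1, 0, 1, 0, 0, 0, -1]) (.leaf [753, 426, -136, 366, 45, -289, 9, -216, 79, -33, -33, -5, -5])))) (.node (.node (.node (.leaf [258, -106, -100, 84, -99, -193, 97, -4, 30, 6, 21]) (.leaf [1076, 166, 15, 455, -316, -628, 225, -94, 8, -26, 29, -1, 1])) (.node (.leaf [896, -1050, 134, 61, -894, -526, 277, 186, 153, 113, 92, -16, -3]) (.leaf [-23670, 11636, 8633, -2431, 11583, 16931, -11924, -434, -2103, -1243, -1993, 5, -50, -1, 0, 1]))) (.node (.node (.leaf [249, 342, -291, 10, 223, -196, 136, -161, -58, 24, 23, 0, 1]) (.leaf [406, 98, 808, 465, -440, 34, -363, 22, 9, -59, -12, -10, 1])) (.node (.leaf [-627, 866, 285, -191, 457, 635, -312, -153, -138, -62, -76, -3, -1]) (.leaf [0, 0, 0, -1, 0, 0, 1])))))) (.node (.node (.node (.node (.node (.leaf [-6, 2, 1, -3, 2, 4, -1, 0, -1]) (.leaf [])) (.node (.leaf []) (.leaf [-18, 24, 25, -4, 6, 21, -13, -1, -6, -2, -3]))) (.node (.node (.leaf [0, 0, 1]) (.leaf [2798, -1936, -1360, 592, -1309, -2141, 1209, 66, 478, 166, 254, 6,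 -2])) (.node (.leaf [-308, 384, 228, -8, 200, 275, -191, -36, -70, -38, -48]) (.leaf [])))) (.node (.node (.node (.leaf [0, 0, 0, -1, 0, 0, 1]) (.leaf [-1043, 396, 533, -168, 367, 865, -627, -24, -83, -23, -56, -15, 3])) (.node (.leaf [0, 0, 0, -1, 0, 0, 1]) (.leaf [30923, 956, -15718, 7535, -2614, -21849, 11608, -5066, 840, 1785, 2395, -559, 127, -1, 0, 1]))) (.node (.node (.leaf [0, 0, 0, -1, 0, 0, 1]) (.leaf [-107, 128, 111, -18, 51, 105, -67, -7, -29, -10, -18])) (.node (.leaf [-4, 0, -1, -1, 2, 2, -1]) (.leaf [0, 0, 1]))))) (.node (.node (.node (.node (.leaf []) (.leaf [0, -2, -1, 0, 0, 0, 0, 0, 1])) (.node (.leaf []) (.leaf [169, -80, -99, 72, -55, -137, 63, -6, 27, 1, 18, -1, 1]))) (.node (.node (.leaf [1158, -992, -921, 533, -518, -823, 390, -2, 464, -36, 84, 9, -23]) (.leaf [0, 0, 1])) (.node (.leaf [0, 0, 1]) (.leaf [-4457, -1358, 26, -2132, 711, 2251, -269, 843, -84, 10, -155, 60, 5, 0, -1])))) (.node (.node (.node (.leaf [0, 0, 1]) (.leaf [0, 0, 1])) (.node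 (.leaf [0, 0, 1]) (.leaf []))) (.node (.node (.leaf [0, 0, 1]) (.leaf [-25380, 188298, -27556, 53344, 132852, 11481, -38785, -47495, -22003, -13048, -11631, -351, 379, 0, 1, 0, 1])) (.node (.leaf [30, -42, -105, 4, 29, -37, 13, -20, 23, 8, 8, 1, 1]) (.leaf [0, 0, 0, -1, 0, 0, 1])))))))

def twoL23 : Janko.Tree (List ℤ) :=
  (.node (.node (.node (.node (.node (.node (.node (.leaf []) (.leaf [-4, 0, 0, -2, 1, 3, 0, 1])) (.leaf [1078, 90, 36, 424, -341, -629, 221, -79, 16, -7, 26, -1])) (.node (.leaf []) (.leaf [0, 0, 0, 1]))) (.node (.node (.leaf []) (.leaf [-70, 10, 33, -39, 21, 51, -22, 6, -8, 4, -8, 1])) (.node (.leaf [-72, 10, 35, -39, 21, 53, -24, 6, -8, 4, -8, 1]) (.leaf [-14441, -249048, -195410, -121761, -53107, -78257, 141377, 42955, 22862, 27438, 29386, 561, 1322, -1, 1, 1, 1])))) (.node (.node (.node (.leaf []) (.leaf [0, 0, 0, 1])) (.node (.leaf [0, 0, 0, 1]) (.leaf [14510, -41022, -10402, -10192, -23489, -13357, 15419, 7321, 4886, 4346, 4239, -392, 111,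 0, 1, -1]))) (.node (.node (.leaf []) (.leaf [932, -352, -528, 144, -287, -613, 379, -86, 144, 47, 73, -3, 1])) (.node (.leaf [-222, 96, 164, -89, 69, 182, -101, 14, -38, 4, -28]) (.leaf [0, 0, 0, 1]))))) (.node (.node (.node (.node (.leaf []) (.leaf [0, 0, 0, 1])) (.node (.leaf [0, 0, 0, 1]) (.leaf [-82509, 51828, 17262, -5604, 51772, 55930, -39418, -5925, -7840, -5205, -6695, 24, -273, 0, -1, 1]))) (.node (.node (.leaf []) (.leaf [])) (.node (.leaf [0, 0, 0, 1]) (.leaf [155, -184, -278, -170, -81, -113, 217, -12, 38, 34, 33, -1])))) (.node (.node (.node (.leaf []) (.leaf [-588, -1106, -183, -753, -478, 282, 340, 328, 102, 58, 57, 7, 1])) (.node (.leaf [0, 0, 0, 1]) (.leaf [-33072, 20500, 12765, -2779, 17979, 23873, -16993, -1366, -3749, -2069, -3085, 61, -42, -1, 0, 1]))) (.node (.node (.leaf [0, 0, 0, 1]) (.leaf [0, 0, 0, 1])) (.node (.leaf [0, 0, 0, 1]) (.leaf [0, 0, 0, 1])))))) (.node (.node (.node (.node (.node (.leaf []) (.leaf [])) (.node (.leaf []) (.leaf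 [143, 8, -16, 38, -47, -75, 41, -12, 9, -4, 1, 1, 1]))) (.node (.node (.leaf [-284, 326, 176, -201, 114, 298, -59, -28, -92, -8, -24, -12, 1]) (.leaf [816, -564, -266, 538, -289, -647, 54, 4, 200, 22, 50, 6])) (.node (.leaf []) (.leaf [])))) (.node (.node (.node (.leaf [0, 0, 0, 1]) (.leaf [])) (.node (.leaf [0, 0, 0, 1]) (.leaf [26345, 2820, -13284, 6529, -972, -18605, 9567, -4854, 208, 1611, 1981, -511, 155, -1, 0, 1]))) (.node (.node (.leaf [0, 0, 0, 1]) (.leaf [])) (.node (.leaf [0, 0, 0, 1]) (.leaf [-456, 118, -68, -84, 263, 227, -125, -16, -29, -12, -5, 4, -1]))))) (.node (.node (.node (.node (.leaf []) (.leaf [0, 0, 0, 1])) (.node (.leaf []) (.leaf []))) (.node (.node (.leaf [1194, 308, 309, 737, -280, -577, -83, -144, 42, -26, -14, -11, -1]) (.leaf [-1275, 870, 595, -266, 718, 861, -544, -18, -232, -58, -160, 26, 7])) (.node (.leaf []) (.leaf [-9199, 14456, 5711, 2697, 9242, 7006, -7053, -1937, -2289, -1431, -1677, 90, 16, 0, -1])))) (.node (.node (.node (.leaf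 []) (.leaf [-17710, 60076, 19152, 12647, 32705, 17342, -21653, -10552, -9724, -4362, -5594, -22, 216, 0, -1, 1])) (.node (.leaf []) (.leaf [-5078, 7042, 2485, -293, 4268, 4226, -2781, -939, -1185, -648, -821, 52, 20, 1]))) (.node (.node (.leaf [-186, 324, 158, 68, 183, 155, -161, -41, -56, -30, -34, -1]) (.leaf [])) (.node (.leaf []) (.leaf [0, 0, 0, 1])))))))

def twoL24 : Janko.Tree (List ℤ) :=
  (.node (.node (.node (.node (.node (.node (.node (.leaf [0, 0, -1, 0, 1]) (.leaf [-4, 4, 2, 0, 3, 2, -1, 0, -1])) (.leaf [])) (.node (.leaf [1]) (.leaf [227741, -294278, -47728, -83645, -232869, -178742, 180685, 60454, 14302, 36780, 31532, -51, 4122, -1, 1, 1, 1]))) (.node (.node (.leaf [-1, 0, 0, -1, 0, 1]) (.leaf [1, 0, 1, 0, -1])) (.node (.leaf [1, 0, 1, 0, -1]) (.leaf [-42878, 10066, 16727, -14035, 11882, 27166, -11519, 4410, -5554, -1486, -3083, 588, 92, 0, 0, 1])))) (.node (.node (.node (.leaf [-207, -44, 66, -68, 28, 120, -64, 31, -14, 6, -1]) (.leaf [])) (.node (.leaf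 [1]) (.leaf [-105, 168, 65, -49, 70, 122, -49, -29, -29, -12, -14]))) (.node (.node (.leaf [1]) (.leaf [-906, -2840, -460, -1138, -1095, 127, 595, 729, 312, 174, 171, 37, -3])) (.node (.leaf [1, 0, 1, 0, -1]) (.leaf [-2, 0, -1, -1, 1, 1]))))) (.node (.node (.node (.node (.leaf [2, 2, 0, 0, 0, 0, 0, -1]) (.leaf [2, -6, 7, 0, -7, 0, 0, 3])) (.node (.leaf []) (.leaf [-16493, 60306, 19451, 13243, 32328, 16784, -21619, -10655, -9676, -4382, -5618, -36, 214, 0, -1, 1]))) (.node (.node (.leaf [-1, 0, 0, -1, 0, 1]) (.leaf [-15527, -19104, -12775, -12439, -530, 4422, 5537, 4261, 2615, 1286, 1436, 121, -167, 0, 0, -1])) (.node (.leaf []) (.leaf [5769, 1828, 454, 1682, -1046, -3327, 1251, -727, -480, 209, 96, -67, 55])))) (.node (.node (.node (.leaf [-27, 2, 31, -16, -6, 31, -15, 4, -2, 0, -3]) (.leaf [1])) (.node (.leaf [66, -28, -30, 20, -23, -45, 21, -4, 11, 2, 5]) (.leaf [2465, -1812, -1571, 736, -896, -2182, 1106, 56, 473, 126, 207, 44]))) (.node (.node (.leaf [1]) (.leaf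 [9032, -18010, -77, -3429, -13733, -5445, 5914, 3579, 2446, 1484, 1500, -6, 2, 0, 1])) (.node (.leaf [1, -2, 3, 0, -3, 0, 0, 1]) (.leaf [-62, 10, 37, -32, 19, 46, -24, 6, -8, 4, -8, 1])))))) (.node (.node (.node (.node (.node (.leaf [-2, 0, -1, -1, 1, 1]) (.leaf [2106, -3726, 1584, -1986, -3747, -1001, 1627, 1019, -209, 647, 373, -71, 104, 0, 1])) (.node (.leaf [1, 0, 1, 0, -1]) (.leaf [15, -8, 0, 10, -3, -15, 1, 1, 0, 2, 1]))) (.node (.node (.leaf [507, -360, -315, 54, -213, -382, 246, -2, 96, 40, 45, 1]) (.leaf [-3398, -206100, -22721, -87520, -117392, -20797, 75217, 53991, 17563, 14754, 14946, 1857, -61, 0, -1, 0, -1])) (.node (.leaf [3, 0, 1, 1, -1, -1]) (.leaf [1])))) (.node (.node (.node (.leaf [304, -70, -122, 85, -92, -199, 106, -23, 36, 5, 18, -1]) (.leaf [1, 0, 0, 1, 0, -1])) (.node (.leaf [1]) (.leaf [153, 12, -68, 94, -7, -81, -5, -42, 24, 2, 16, -6]))) (.node (.node (.leaf [1, -10, 9, 1, -9, -1, 0, 5]) (.leaf [3, 0, 1, 1, -1, -1])) (.node (.leaf []) (.leaf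 [-393, 136, 50, -94, 217, 201, -111, 8, -52, -4, -26, 6]))))) (.node (.node (.node (.node (.leaf [1, 0, 1, 0, -1]) (.leaf [-239, 46, 85, -50, 69, 148, -82, 21, -26, -8, -10])) (.node (.leaf [0, 0, -1, 0, 1]) (.leaf [-8466, 8788, 1856, 797, 7501, 5182, -4413, -1130, -1436, -859, -1045, 67, 9, 0, -1]))) (.node (.node (.leaf [1]) (.leaf [1030312, 5502274, 2778855, 2593354, 1649995, 637398, -2213910, -1142618, -601257, -483656, -498841, -17393, -7372, 0, 0, -1, -1])) (.node (.leaf [-49, 16, 51, -27, 9, 43, -24, 6, -10, 3, -8, 1]) (.leaf [1])))) (.node (.node (.node (.leaf [-1, 0, 0, -1, 0, 1]) (.leaf [-16530, 57640, 18297, 12778, 31384, 16247, -20849, -10114, -9154, -4318, -5464, 28, 202, 0, -1, 1])) (.node (.leaf [-1, 0, 0, -1, 0, 1]) (.leaf [1, 0, 1, 0, -1]))) (.node (.node (.leaf []) (.leaf [79882, 46654, 23598, 3154, -11432, -51380, 31214, -6925, -23278, 5268, -1630, 20, 3218, 0, 0, 1, 1])) (.node (.leaf [-2, 0, -1, -1, 1, 1]) (.leaf [35249, -32368, -24092, -4922,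 -20584, -29928, 26358, 3045, 4092, 4194, 4801, -214, 266, 0, 0, -1])))))))

def twoL25 : Janko.Tree (List ℤ) :=
  (.node (.node (.node (.node (.node (.node (.node (.leaf []) (.leaf [2, 0, 2, 2, -2, 0, 0, 1])) (.leaf [0, 1])) (.node (.leaf []) (.leaf [0, 1]))) (.node (.node (.leaf [2, 6, -4, 4, 4, -2, 0, -2, 0, -1]) (.leaf [])) (.node (.leaf []) (.leaf [-686, -158, -73, -299, 186, 364, -95, 74, -4, 14, -6, 0, 1])))) (.node (.node (.node (.leaf [10, 11, 2, 6, 2, -4, -2, -4, -1]) (.leaf [0, 1])) (.node (.leaf []) (.leaf [91542, -145723, 19206, 9434, -124089, -47233, 29567, 29643, 29691, 4726, 9412, 835, -1445, 1, 0, -1, -1]))) (.node (.node (.leaf []) (.leaf [0, 1])) (.node (.leaf [-22786, 39157, 10600, 9134, 25742, 18788, -19298, -6960, -4236, -4254, -4070, 158, -216, 0, -1, 1]) (.leaf [-16, -14, -15, -15, 8, 8, 1, 0, 4, 4, 0, 0, -1]))))) (.node (.node (.node (.node (.leaf []) (.leaf [0, 1])) (.node (.leaf [0, 1]) (.leaf [0, 1]))) (.node (.node (.leaf [-2, 2, 0, 0, 0,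 2, 0, 0, 0, -1]) (.leaf [0, -1, 0, -2, 0, 0, 0, 0, 0, 1])) (.node (.leaf [0, 1]) (.leaf [0, 1])))) (.node (.node (.node (.leaf [-2, -6, 0, -4, -4, 2, 2, 2, 1]) (.leaf [])) (.node (.leaf [0, 1]) (.leaf [-46540, -5531, -70680, 7874, 44997, 14783, -8357, -9445, 16447, -4720, 2914, -89, -2341, 0, -1, 0, -1]))) (.node (.node (.leaf []) (.leaf [0, 1])) (.node (.leaf [0, 1]) (.leaf [0, 1])))))) (.node (.node (.node (.node (.node (.leaf []) (.leaf [0, 1])) (.node (.leaf []) (.leaf [0, 2, 2, 0, 0, 0, 0, 0, -1]))) (.node (.node (.leaf [-6, -12, 0, -6, -4, 2, 2, 4, 1, 1]) (.leaf [])) (.node (.leaf []) (.leaf [])))) (.node (.node (.node (.leaf [0, 1]) (.leaf [-1828, 295, 351, -713, 556, 1264, -523, 62, -139, -15, -56, -2, 3])) (.node (.leaf [383, -330, -26, 137, -245, -282, 91, 49, 66, 26, 23, 0, 1]) (.leaf [0, 1]))) (.node (.node (.leaf []) (.leaf [])) (.node (.leaf [0, 1]) (.leaf [0, -1, 0, -2, 0, 0, 0, 0, 0, 1]))))) (.node (.node (.node (.node (.leaf []) (.leaf [0, 1])) (.node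 (.leaf []) (.leaf [760, -403, -431, 99, -288, -540, 347, -32, 119, 50, 68, -2, -1]))) (.node (.node (.leaf []) (.leaf [0, 1])) (.node (.leaf []) (.leaf [-4495, 2897, 2891, -238, 1909, 3506, -2580, 6, -669, -319, -441, -25, 0, 0, -1])))) (.node (.node (.node (.leaf [-2, -6, -4, -4, 0, 2, 0, 0, 2, 1]) (.leaf [])) (.node (.leaf [4, -1, 2, 0, -2, -2, 0, 0, 0, 1]) (.leaf [-94, 13, 37, -47, 29, 65, -28, 8, -10, 4, -9, 1]))) (.node (.node (.leaf [0, 1]) (.leaf [-371, -56, 192, -37, 46, 195, -146, 80, -30, -7, -16, 1])) (.node (.leaf [-952, 444, 179, -287, 518, 598, -313, -32, -139, 0, -52, 2, -1]) (.leaf [0, 1])))))))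

def twoL26 : Janko.Tree (List ℤ) :=
  (.node (.node (.node (.node (.node (.node (.node (.leaf [0, 0, 1]) (.leaf [0, 0, 0, 2, 0, 0, 0, 0, 1])) (.leaf [])) (.node (.leaf []) (.leaf [4, -2, -2, -1, -2, -2, 3, 0, 1]))) (.node (.node (.leaf [0, 0, 1, 1, 0, 0, -1]) (.leaf [0, 0, 1])) (.node (.leaf [0, 0, 1]) (.leaf [0, 0, 0, -1, 0, 0, 1])))) (.node (.node (.node (.leaf [0, 0, 1]) (.leaf [-962, 480, 266, -270, 483, 621, -325, -16, -155, -13, -56, 1, -1])) (.node (.leaf []) (.leaf [-221, 130, 133, -71, 78, 179, -92, 2, -39, -8, -20]))) (.node (.node (.leaf []) (.leaf [351, 566, -308, 238, 381, -205, -13, -242, -21, 0, -10, -11, 1])) (.node (.leaf [0, 0, 1]) (.leaf [0, 0, 0, -1, 0, 0, 1]))))) (.node (.node (.node (.node (.leaf [0, 0, 1, 1, 0, 0, -1]) (.leaf [-1, -8, 20, 2, -11, 3, -5, 6, -1, 0, -1])) (.node (.leaf [2, 2, 3, 3, 0, -2, -1, 0, -1]) (.leaf [-642, 282, 356, -103, 253, 473, -336, 13, -86, -14, -51, -4, 1]))) (.node (.node (.leaf [0, 0, 1, 1, 0, 0, -1]) (.leaf [37488,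 -56264, -10120, -12467, -41093, -27999, 27626, 10315, 5647, 6286, 5750, -263, 397, 0, 0, -1])) (.node (.leaf [-1640, 426, 1471, -509, 204, 1304, -799, 240, -253, -43, -202, 28, 17]) (.leaf [-19632, 33754, 8329, 8938, 22761, 16069, -17223, -6263, -3202, -3865, -3520, 184, -211, 0, -1, 1])))) (.node (.node (.node (.leaf [0, 0, 1]) (.leaf [-1833, 11064, 7662, 2876, 3410, 4044, -5180, -1654, -1798, -986, -1210, 54, 62, 0, 0, 1])) (.node (.leaf [-3, 2, 3, 2, 3, 3, -5, -1, 1, 0, -1]) (.leaf [0, 0, 1]))) (.node (.node (.leaf []) (.leaf [])) (.node (.leaf []) (.leaf [15193, -11830, -116, 1408, -11975, -8706, 5478, 1692, 2155, 1022, 1158, -106, -6, 0, 1, -1])))))) (.node (.node (.node (.node (.node (.leaf [0, 0, 0, -1, 0, 0, 1]) (.leaf [])) (.node (.leaf [0, 0, 1]) (.leaf [0, 0, 1]))) (.node (.node (.leaf [-244, 366, 121, -208, 130, 270, -20, -46, -96, -10, -20, -12, 1]) (.leaf [0, 0, 1])) (.node (.leaf [0, 0, 0, -1, 0, 0, 1]) (.leaf [-8, 2, 15, 2, 0, 9, -11, 1, -1, 0, -1]))))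 (.node (.node (.node (.leaf []) (.leaf [-1144, 362, 568, -305, 358, 914, -569, 20, -103, -17, -78, -6, 3])) (.node (.leaf [-5, 2, 0, -1, 3, 2, -1, 0, -1]) (.leaf [-79638, 50098, 23581, 11989, 45150, 63112, -52085, -6986, 1287, -10256, -7842, 516, -1768, 0, 0, 0, -1]))) (.node (.node (.leaf [0, 0, 1]) (.leaf [0, 0, 0, -1, 0, 0, 1])) (.node (.leaf [2, -2, 0, -1, -2, 0, 1, 0, 1]) (.leaf [826, 94, -7, 327, -233, -459, 150, -84, 29, -8, 17, 0, -1]))))) (.node (.node (.node (.node (.leaf [0, 0, 1]) (.leaf [-31178, 18944, 11951, -2561, 16831, 22447, -16042, -1226, -3439, -1937, -2885, 61, -46, -1, 0, 1])) (.node (.leaf [0, 0, 1]) (.leaf [0, 0, 0, -1, 0, 0, 1]))) (.node (.node (.leaf []) (.leaf [642, -324, -135, 189, -355, -399, 208, 20, 103, 3, 38, -2])) (.node (.leaf [0, 0, 1, 1, 0, 0, -1]) (.leaf [-10249, -23138, -77646, 13146, 24885, -8967, 6717, -8258, 19652, -2996, 5623, -199, -2253, 0, -1, 0, -1])))) (.node (.node (.node (.leaf [0, 0, 1, 1, 0, 0, -1]) (.leaf [0, 0,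 0, -1, 0, 0, 1])) (.node (.leaf [0, 0, 1, 1, 0, 0, -1]) (.leaf [0, 0, 1]))) (.node (.node (.leaf [4, 2, 3, 1, -2, -2, 1, 0, -1]) (.leaf [0, 0, 1])) (.node (.leaf [0, 0, 0, -1, 0, 0, 1]) (.leaf [26717, -37472, -26826, -7286, -19777, -22908, 23102, 3281, 6916, 3994, 4993, -290, -158, 0, 0, -1])))))))

def twoL27 : Janko.Tree (List ℤ) :=
  (.node (.node (.node (.node (.node (.node (.node (.leaf []) (.leaf [0, 0, 0, 0, 0, 0, 0, 0, 0, 0, 0, 0, 1, 0, 0, 0, 0])) (.leaf [])) (.node (.leaf [14, -26, -11, -11, -1, -11, 4, 0, 4, 10, 0, -1]) (.leaf [-14503, -248386, -195296, -121803, -52807, -78097, 141271, 42786, 22736, 27430, 29356, 561, 1324, -1, 1, 1, 1]))) (.node (.node (.leaf [0, 0, 0, 1]) (.leaf [])) (.node (.leaf []) (.leaf [0, 0, 0, 1])))) (.node (.node (.node (.leaf []) (.leaf [-1096, 518, 284, -310, 543, 711, -371, -16, -164, -16, -64, 1])) (.node (.leaf []) (.leaf [0, 0, 0, 1]))) (.node (.node (.leaf [96, 28, 113, 33, -81, -11, -12, 1, -8, -4, -2, -1]) (.leaf [1021,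 -740, -674, 42, -467, -735, 529, -18, 196, 83, 110, -1])) (.node (.leaf []) (.leaf [0, 0, 0, 1]))))) (.node (.node (.node (.node (.leaf [0, 0, 0, 1]) (.leaf [])) (.node (.leaf []) (.leaf [-642, 282, 354, -103, 253, 473, -335, 13, -86, -14, -51, -4, 1]))) (.node (.node (.leaf [0, 0, 0, 1]) (.leaf [0, 0, 0, 1])) (.node (.leaf [589, -296, -158, 169, -301, -379, 199, 12, 96, 7, 34, -1]) (.leaf [767, -346, -372, -2, -318, -453, 353, -48, 120, 52, 50, 0, -1])))) (.node (.node (.node (.leaf []) (.leaf [-631, 190, 143, -201, 284, 376, -183, 23, -78, -3, -44, 7])) (.node (.leaf []) (.leaf [508255, 2892922, 1513384, 1378490, 851850, 373688, -1198038, -591442, -309529, -264387, -268420, -7034, -5649, 0, -1, 0, -1]))) (.node (.node (.leaf [468, -194, -379, 53, -107, -343, 240, -51, 82, 24, 41, 1]) (.leaf [])) (.node (.leaf []) (.leaf [-80, 22, 37, -32, 21, 57, -22, 8, -10, -2, -8, 1])))))) (.node (.node (.node (.node (.node (.leaf [0, 0, 0, 1]) (.leaf [])) (.node (.leaf []) (.leaf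 [189, -18, -68, -4, -47, -85, 61, -33, 22, 16, 6, -1, -1]))) (.node (.node (.leaf [0, 0, 0, 1]) (.leaf [748, -544, -302, 512, -237, -619, 48, -2, 194, 23, 50, 6, 1])) (.node (.leaf [0, 0, 0, 1]) (.leaf [-89546, 64910, 23337, 13466, 57105, 68980, -56898, -9667, -829, -11599, -9185, 583, -1758, 1, -1, 0, -1])))) (.node (.node (.node (.leaf [393, -56, 12, 108, -186, -145, 42, -36, 48, 11, 18, -13]) (.leaf [0, 0, 0, 1])) (.node (.leaf []) (.leaf [-45, 80, 30, 24, 43, 70, -73, -30, 0, -6, 0, -4]))) (.node (.node (.leaf [-237, 128, 124, -74, 103, 173, -99, 0, -44, -1, -20, 1]) (.leaf [0, 0, 0, 1])) (.node (.leaf []) (.leaf [0, 0, 0, 1]))))) (.node (.node (.node (.node (.leaf []) (.leaf [-30866, 18820, 11815, -2531, 16699, 22219, -15867, -1222, -3409, -1929, -2869, 65, -46, -1, 0, 1])) (.node (.leaf []) (.leaf [0, 0, 0, 1]))) (.node (.node (.leaf []) (.leaf [646, -346, -154, 182, -361, -409, 222, 24, 106, 5, 40, -2])) (.node (.leaf [0, 0, 0, 1]) (.leaf [-334440, 340586, 78834,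 59521, 275771, 242070, -207175, -53906, -28513, -45544, -40666, 2872, -4536, 1, -1, -1, -1])))) (.node (.node (.node (.leaf [0, 0, 0, 1]) (.leaf [0, 0, 0, 1])) (.node (.leaf [0, 0, 0, 1]) (.leaf [-20144, -12298, -10394, -12603, 3500, 8352, 2897, 3328, 1498, 650, 646, 172, -145, 1, 0, -1]))) (.node (.node (.leaf []) (.leaf [])) (.node (.leaf [0, 0, 0, 1]) (.leaf [-19061, 13010, -2915, -1085, 15376, 10878, -6845, -2325, -1343, -1464, -1363, 92, -102, 0, -1])))))))

def twoL28 : Janko.Tree (List ℤ) :=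
  (.node (.node (.node (.node (.node (.node (.node (.leaf [2, 0, 0, 1, 0, -1]) (.leaf [746, 124, 39, 305, -210, -400, 119, -78, 18, -10, 10, 0, -1])) (.leaf [1])) (.node (.leaf [1, 0, 1, 0, -1]) (.leaf [-2, 0, -1, -1, 1, 1]))) (.node (.node (.leaf [-2, -10, 8, -1, -8, 1, 0, 5]) (.leaf [-71, 10, 35, -38, 21, 52, -24, 6, -8, 4, -8, 1])) (.node (.leaf [-71, 10, 35, -38, 21, 52, -24, 6, -8, 4, -8, 1]) (.leaf [1])))) (.node (.node (.node (.leaf [1, 0, 0, 1, 0, -1]) (.leaf [-1, -6, 5, -1, -5, 1, 0, 3])) (.node (.leaf [1, 0, 1, 0, -1]) (.leaf [-189211, 231148, -45176, 30158, 207588, 106400, -75762, -45011, -18998, -31028, -21167, 3790, -3160, 0, 0, -1, -1]))) (.node (.node (.leaf [1, 0, 1, 0, -1]) (.leaf [-25, 42, 12, -8, 19, 31, -15, -9, -5, -4, -3])) (.node (.leaf [-307, 136, 198, -124, 101, 255, -135, 12, -46, 2, -36]) (.leaf [-30056, 486, -8768, -8939, 14105, 14926, -4263, 903, 237, -740, -521, 131, -253, 0, 0, -1]))))) (.node (.node (.node (.node (.leaf []) (.leaf [0,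 0, 0, -1, 0, 1])) (.node (.leaf [-2, 0, -1, -1, 1, 1]) (.leaf [13232, 67802, 22215, 24554, 24587, 496, -15878, -13606, -10090, -4901, -5619, 68, 247, 0, -1, 1]))) (.node (.node (.leaf []) (.leaf [0, 0, -1, 0, 1])) (.node (.leaf [1]) (.leaf [-28677, 16070, 608, -4150, 18730, 17174, -9732, -1664, -2542, -1802, -2183, 234, -78, 1, -1])))) (.node (.node (.node (.leaf [1, 0, 0, 1, 0, -1]) (.leaf [-84, 30, 40, -23, 28, 59, -32, 5, -12, -2, -6])) (.node (.leaf [-18, 0, -12, -6, 12, 6]) (.leaf [53, 30, 11, 49, -13, 1, -26, -17, 6, -1, 8, -11]))) (.node (.node (.leaf [1, 0, 1, 0, -1]) (.leaf [69, -10, -35, 37, -20, -50, 23, -6, 8, -4, 8, -1])) (.node (.leaf [0, 0, 0, -1, 0, 1]) (.leaf [1])))))) (.node (.node (.node (.node (.node (.leaf [0, -6, 5, 0, -5, 0, 0, 3]) (.leaf [145, -98, -83, 54, -53, -138, 68, 7, 18, 8, 16, 0, 0, 0, 1])) (.node (.leaf [-1, 0, 0, -1, 0, 1]) (.leaf [-1128, 652, 422, -87, 571, 718, -487, -2, -173, -72, -79, 1, -1]))) (.node (.node (.leaf [1, -6, 6,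 1, -6, -1, 0, 3]) (.leaf [368, -364, -208, 17, -240, -281, 204, 30, 75, 30, 47])) (.node (.leaf [1]) (.leaf [3, -2, -6, -6, -3, -3, 9, 1, -1, 0, 1])))) (.node (.node (.node (.leaf [1]) (.leaf [])) (.node (.leaf [1, 0, 0, 1, 0, -1]) (.leaf [91, -32, -30, 36, -34, -64, 28, -2, 10, 2, 8, -2]))) (.node (.node (.leaf []) (.leaf [1])) (.node (.leaf [-2, 0, -1, -1, 1, 1]) (.leaf [-2, -2, 0, -1, 0, 1, 0, 1]))))) (.node (.node (.node (.node (.leaf [-1, 0, 0, -1, 0, 1]) (.leaf [0, 0, 0, -1, 0, 1])) (.node (.leaf [2, 0, 0, 1, 0, -1]) (.leaf [-6983, 12714, 4574, 2808, 7942, 5374, -5850, -1838, -1944, -1267, -1409, 81, 20, 0, -1]))) (.node (.node (.leaf [1, 0, 1, 0, -1]) (.leaf [-80346, -45748, -22998, -3091, 11845, 51878, -31663, 6812, 23113, -5335, 1511, -11, -3216, 0, 0, -1, -1])) (.node (.leaf []) (.leaf [-117, 68, 99, -205, -52, 114, 93, 36, -62, 1, -7, -1, -1])))) (.node (.node (.node (.leaf [-10, -4, -2, -5, 2, 5, 0, 2]) (.leaf [2, -2, 3, 1, -3, -1, 0, 1])) (.node (.leaf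 [-216, 280, 135, 39, 181, 165, -152, -32, -49, -26, -33]) (.leaf [-4923, 6894, 2449, -278, 4156, 4123, -2721, -923, -1155, -634, -807, 52, 20, 1]))) (.node (.node (.leaf [-428, 672, 427, 109, 344, 368, -351, -63, -132, -62, -78, -1]) (.leaf [86022, 43150, 42511, 21345, -19975, -42953, 10092, -8499, -16882, 4334, -1952, -1096, 2520, 0, 0, 1, 1])) (.node (.leaf [3, 0, 1, 1, -1, -1]) (.leaf [113760, 167214, 205569, 135928, -43514, 25820, -103950, -28566, -5611, -27053, -20531, 1064, -2910, 0, -1, 0, -1])))))))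

def twoL29 : Janko.Tree (List ℤ) :=
  (.node (.node (.node (.node (.node (.node (.node (.leaf []) (.leaf [-688, -152, -64, -292, 184, 364, -96, 76, -6, 12, -6, 0, 1])) (.leaf [])) (.node (.leaf []) (.leaf [-676, -154, -67, -299, 180, 360, -91, 74, -6, 14, -6, 0, 1]))) (.node (.node (.leaf [0, 1]) (.leaf [0, 2, 0, 2, 0, 0, 0, 0, 0, -1])) (.node (.leaf [0, 2, 0, 2, 0, 0, 0, 0, 0, -1]) (.leaf [-1572, 158, 139, -509, 584, 894, -377, 99, -114, -13, -60, 8, 1])))) (.node (.node (.node (.leaf []) (.leaf [])) (.node (.leaf []) (.leaf [0, 1]))) (.node (.node (.leaf []) (.leaf [])) (.node (.leaf [0, 2, 0, 2, 0, 0, 0, 0, 0, -1]) (.leaf [0, -1, 0, -2, 0, 0, 0, 0, 0, 1]))))) (.node (.node (.node (.node (.leaf [0, 1]) (.leaf [])) (.node (.leaf [-194, 717, 173, -63, 348, 238, -149, -158, -149, -14, -38, 0, 1]) (.leaf []))) (.node (.node (.leaf [0, 1]) (.leaf [-353, -121, -266, -151, 151, 104, 47, 24, 14, 1, 23, 2, -3])) (.node (.leaf [1095, 632, -83, 556, 132, -583, 17, -281, -12,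 11, -28, -13, 7]) (.leaf [74822, 753186, 346818, 340082, 268716, 117410, -318512, -159602, -79983, -65126, -67518, -3354, -1010, 0, 0, 0, 1])))) (.node (.node (.node (.leaf []) (.leaf [0, 1])) (.node (.leaf [-49898, -69727, 30048, -23006, -39748, 40498, -14084, 23044, 13116, -1194, 408, 1122, -1632, 1, -1, 0, -1]) (.leaf []))) (.node (.node (.leaf []) (.leaf [])) (.node (.leaf [24258, -36440, -9174, -7798, -25309, -19001, 18607, 6403, 3906, 4071, 3815, -192, 217, 0, 1, -1]) (.leaf [])))))) (.node (.node (.node (.node (.node (.leaf []) (.leaf [])) (.node (.leaf [2, -1, 0, 0, 0, -2, 0, 0, 0, 1]) (.leaf [1936, -452, 2418, 748, -1863, -397, -327, 355, 53, 8, -170, -23, 3, 0, 0, -1]))) (.node (.node (.leaf [0, 1]) (.leaf [])) (.node (.leaf []) (.leaf [0, -1, -2, 0, 0, 0, 0, 0, 1])))) (.node (.node (.node (.leaf []) (.leaf [0, 1])) (.node (.leaf []) (.leaf [4218, -4940, -1186, 520, -3406, -3068, 1728, 616, 874, 480, 570, -58, -12, -1, 1]))) (.node (.node (.leaf [0, 1]) (.leaf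 [])) (.node (.leaf [-194, -78, 103, -39, -10, 84, -43, 64, -18, -2, -6, 2, -1]) (.leaf [0, 1]))))) (.node (.node (.node (.node (.leaf [-4, -6, -6, -4, 2, 2, 0, 0, 2, 1]) (.leaf [])) (.node (.leaf [-597, 317, 336, -95, 226, 425, -264, 24, -97, -34, -52, 1]) (.leaf [196, 77, -103, 39, 10, -86, 43, -64, 18, 3, 6, -2, 1]))) (.node (.node (.leaf []) (.leaf [0, 1])) (.node (.leaf [0, 1]) (.leaf [0, 1])))) (.node (.node (.node (.leaf [0, 1]) (.leaf [-23878, 39353, 11360, 9608, 26211, 19271, -20195, -6855, -4376, -4289, -4103, 156, -209, 0, -1, 1])) (.node (.leaf [0, 1]) (.leaf [0, 2, 0, 2, 0, 0, 0, 0, 0, -1]))) (.node (.node (.leaf []) (.leaf [0, 2, 0, 2, 0, 0, 0, 0, 0, -1])) (.node (.leaf []) (.leaf [0, 1])))))))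

def twoL30 : Janko.Tree (List ℤ) :=
  (.node (.node (.node (.node (.node (.node (.node (.leaf [-4, 0, -1, -1, 2, 2, -1]) (.leaf [-40, 23, 12, -10, 24, 26, -16, -1, -6, 0, -3])) (.leaf [418, -246, -301, 113, -132, -346, 197, -13, 75, 18, 43])) (.node (.leaf [0, 0, 1]) (.leaf [0, 0, 0, -1, 0, 0, 1]))) (.node (.node (.leaf []) (.leaf [0, 0, 1, 1, 0, 0, -1])) (.node (.leaf [0, 0, 1, 1, 0, 0, -1]) (.leaf [34030, -45144, -21751, -7369, -28722, -29398, 27465, 6511, 5909, 4524, 5501, 33, 94, 0, 0, 1])))) (.node (.node (.node (.leaf [0, 0, 1, 1, 0, 0, -1]) (.leaf [-15, -8, 13, -7, -5, 11, -4, 6, -1, 0, -1])) (.node (.leaf [0, 0, 1]) (.leaf []))) (.node (.node (.leaf [0, 0, 1]) (.leaf [0, 0, 1])) (.node (.leaf [0, 0, 1, 1, 0, 0, -1]) (.leaf [-57195, 18066, -4436, -11376, 31467, 32882, -16000, -1128, -2537, -2556, -2615, 166, -363, 0, 0, -1]))))) (.node (.node (.node (.node (.leaf []) (.leaf [-53, -2, 7, -21, 15, 33, -12, 6, -2, 0, -3])) (.node (.leaf [0, 0, 0, -1, 0, 0, 1])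 (.leaf [0, 0, 0, -1, 0, 0, 1]))) (.node (.node (.leaf [0, 2, 1, -1, 0, 0, 1, 0, -1]) (.leaf [0, 0, 1])) (.node (.leaf []) (.leaf [-28759, 16078, 646, -4168, 18751, 17229, -9769, -1657, -2549, -1802, -2187, 234, -78, 1, -1])))) (.node (.node (.node (.leaf [0, 0, 1, 1, 0, 0, -1]) (.leaf [40, -16, 10, 9, -29, -21, 12, 4, 3, 0, 1])) (.node (.leaf [0, 0, 0, -1, 0, 0, 1]) (.leaf [-168525, 347426, 65543, 157657, 238104, 165866, -215095, -81256, -1621, -48337, -36622, 156, -6033, 0, -1, 0, -1]))) (.node (.node (.leaf [0, 0, 1]) (.leaf [0, 0, 1])) (.node (.leaf [-1, 6, -1, -2, 3, 2, 0, -2, -1]) (.leaf [-644, 448, 325, -4, 354, 451, -355, -16, -98, -46, -64])))))) (.node (.node (.node (.node (.node (.leaf [0, 0, 1]) (.leaf [0, 0, 1])) (.node (.leaf [0, 0, 1, 1, 0, 0, -1]) (.leaf [343, -230, -287, 219, -43, -367, 120, -5, 68, 14, 38, 1, -1]))) (.node (.node (.leaf []) (.leaf [0, 0, 1])) (.node (.leaf [-219, 364, 198, 17, 172, 212, -157, -40, -63, -36, -43]) (.leaf [0, 0, 1]))))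 (.node (.node (.node (.leaf [-77, 18, 36, -20, 21, 47, -23, 10, -12, -2, -5]) (.leaf [-56938, 66850, 48442, 5760, 37034, 48084, -41686, -5306, -12866, -6614, -9174, 390, 145, -1, 0, 1])) (.node (.leaf [-2, 2, 0, 0, 2, 0, 0, 0, -1]) (.leaf [0, 0, 1]))) (.node (.node (.leaf []) (.leaf [-177, 48, 106, -53, 40, 140, -79, 13, -18, -4, -15])) (.node (.leaf [0, 0, 0, -1, 0, 0, 1]) (.leaf [-33806, 21076, 13201, -2803, 18384, 24428, -17419, -1393, -3870, -2124, -3172, 62, -41, -1, 0, 1]))))) (.node (.node (.node (.node (.leaf [0, 0, 1, 1, 0, 0, -1]) (.leaf [-1, 2, 1, 0, 1, 0, 0, 0, -1])) (.node (.leaf [-4, 0, -1, -1, 2, 2, -1]) (.leaf [-4, 2, 1, -2, 2, 2, 0, 0, -1]))) (.node (.node (.leaf [0, 0, 1]) (.leaf [1486, 1704, 577, 1129, 169, -419, -392, -510, -97, -143, -86, -22, 6])) (.node (.leaf []) (.leaf [-51, 26, 91, -187, -90, 70, 111, 39, -53, 5, -2, -1, -1])))) (.node (.node (.node (.leaf []) (.leaf [0, 0, 1])) (.node (.leaf []) (.leaf [-20284, -12082, -10377, -12594, 3660,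 8468, 2808, 3282, 1476, 632, 624, 172, -145, 1, 0, -1]))) (.node (.node (.leaf [0, 0, 0, -1, 0, 0, 1]) (.leaf [0, 0, 1, 1, 0, 0, -1])) (.node (.leaf [0, 0, 0, -1, 0, 0, 1]) (.leaf [-128, 36, 123, -210, -73, 127, 81, 45, -57, 3, -7, -1, -1])))))))

def twoL31 : Janko.Tree (List ℤ) :=
  (.node (.node (.node (.node (.node (.node (.node (.leaf [0, 0, 0, 1]) (.leaf [11, -9, -3, 4, -3, -10, 2, 1, 2, 2, 1])) (.leaf [134949, 142324, 218178, 165822, -43240, 27612, -146706, -35728, 7362, -16818, -19432, -4500, -2046, 1, -1, -1, -1])) (.node (.leaf []) (.leaf [0, 0, 0, 1]))) (.node (.node (.leaf [-63, 20, 63, -33, 11, 55, -30, 8, -12, 3, -10, 1]) (.leaf [0, 0, 0, 1])) (.node (.leaf [0, 0, 0, 1]) (.leaf [64, -14, -35, 35, -21, -49, 24, -4, 8, -4, 8, -1])))) (.node (.node (.node (.leaf [0, 0, 0, 1]) (.leaf [0, 0, 0, 1])) (.node (.leaf []) (.leaf []))) (.node (.node (.leaf []) (.leaf [])) (.node (.leaf [0, 0, 0, 1]) (.leaf [0, 0, 0, 1]))))) (.node (.node (.node (.node (.leaf [])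 (.leaf [0, 0, 0, 1])) (.node (.leaf [0, 0, 0, 1]) (.leaf [0, 0, 0, 1]))) (.node (.node (.leaf []) (.leaf [-70, 10, 32, -40, 21, 51, -21, 6, -8, 4, -8, 1])) (.node (.leaf [-110, -4, 25, -61, 31, 75, -24, 13, -4, 4, -12, 1]) (.leaf [0, 0, 0, 1])))) (.node (.node (.node (.leaf [0, 0, 0, 1]) (.leaf [])) (.node (.leaf [0, 0, 0, 1]) (.leaf [0, 0, 0, 1]))) (.node (.node (.leaf [-348, 350, 168, -213, 158, 326, -75, -30, -100, -8, -26, -12, 1]) (.leaf [74, -10, -32, 41, -23, -53, 23, -6, 8, -4, 8, -1])) (.node (.leaf [0, 0, 0, 1]) (.leaf [-55350, -830776, -309523, -340526, -335475, -122885, 320243, 182252, 91266, 66441, 70286, 4318, 825, 1, -1, -1, -1])))))) (.node (.node (.node (.node (.node (.leaf []) (.leaf [])) (.node (.leaf [0, 0, 0, 1]) (.leaf [0, 0, 0, 1]))) (.node (.node (.leaf []) (.leaf [30756, -18992, -11743, 2410, -16803, -22141, 15875, 1278, 3411, 1945, 2879, -63, 46, 1, 0, -1])) (.node (.leaf []) (.leaf [588, 1106, 181, 756, 478, -282, -340, -328, -101, -59, -57,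 -7, -1])))) (.node (.node (.node (.leaf []) (.leaf [-8774, 30382, -6438, 7246, 24112, 4734, -7797, -8182, -3282, -1852, -1636, -218, -21, -1, 0, 1])) (.node (.leaf [0, 0, 0, 1]) (.leaf [20, -2, 16, 11, -15, -5, -5, -1, 2, -1, 0, 1]))) (.node (.node (.leaf []) (.leaf [-5326, 4128, 586, -1312, 3588, 3466, -1518, -414, -796, -408, -536, 86, 4, 1])) (.node (.leaf [0, 0, 0, 1]) (.leaf [-44809, 54234, 4353, 4551, 46046, 29822, -25528, -10357, -7405, -4085, -4933, -239, -98, -1, 0, 1]))))) (.node (.node (.node (.node (.leaf [0, 0, 0, 1]) (.leaf [0, 0, 0, 1])) (.node (.leaf [0, 0, 0, 1]) (.leaf [0, 0, 0, 1]))) (.node (.node (.leaf []) (.leaf [1388, -968, 283, 115, -1289, -563, 395, 156, 197, 51, 104, -28, 4])) (.node (.leaf []) (.leaf [-130, 54, 122, -205, -63, 131, 77, 41, -58, 1, -9, -1, -1])))) (.node (.node (.node (.leaf [-420, 142, 62, -115, 218, 223, -112, 11, -56, -5, -28, 7]) (.leaf [])) (.node (.leaf []) (.leaf [0, 0, 0, 1]))) (.node (.node (.leaf [0, 0, 0, 1]) (.leaf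 [0, 0, 0, 1])) (.node (.leaf [0, 0, 0, 1]) (.leaf [-2476, 1880, 1247, -488, 1218, 1952, -1128, -101, -438, -158, -233, -13, 3])))))))

def twoL32 : Janko.Tree (List ℤ) :=
  (.node (.node (.node (.node (.node (.node (.node (.leaf [1]) (.leaf [-8, 3, 12, 2, 2, 8, -10, 1, 0, 0, -1])) (.leaf [536, -278, -339, 123, -169, -429, 250, -18, 80, 28, 49])) (.node (.leaf [17, -26, -9, -10, -3, -12, 4, 0, 4, 10, 0, -1]) (.leaf [1]))) (.node (.node (.leaf [0, 0, -1, 0, 1]) (.leaf [3444, 6232, 1961, 4772, 2254, -1821, -1875, -1424, -649, -513, -505, -9, -16, 0, -1])) (.node (.leaf [7, 0, 3, 4, -3, -4]) (.leaf [67, -10, -37, 32, -17, -48, 22, -8, 8, -2, 8, -1])))) (.node (.node (.node (.leaf []) (.leaf [739, 1950, 2048, 141, 17, -188, -233, -142, -866, 118, -107, -35, 57])) (.node (.leaf [-1, 0, 0, -1, 0, 1]) (.leaf [1]))) (.node (.node (.leaf [19, 56, 163, 10, -61, 50, -46, 7, -18, -6, -10, -1]) (.leaf [-72, 62, -35, 5, 70, 24, -19, -15, -14, -9, 3, 1, 3])) (.node (.leaf [1, -2,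 2, 1, -2, -1, 0, 1]) (.leaf [-61796, -4938, -45764, 7057, 35128, 31675, -17092, -3581, 17106, -9128, -236, 1314, -3006, 0, 0, -1, -1]))))) (.node (.node (.node (.node (.leaf [3, 0, 1, 1, -1, -1]) (.leaf [])) (.node (.leaf [14, 0, 10, 3, -10, -3]) (.leaf [-455, 212, 275, -114, 149, 390, -244, 0, -52, -12, -38, -4]))) (.node (.node (.leaf [90, -38, -36, 24, -37, -65, 37, -1, 11, 2, 7]) (.leaf [693, -38, -305, 617, 31, -651, 54, -83, 67, -10, 45, 2, -2, -1])) (.node (.leaf [1, 0, 1, 0, -1]) (.leaf [-258, 248, 86, 55, 210, 157, -158, -27, -44, -27, -26, -1, 1])))) (.node (.node (.node (.leaf []) (.leaf [-22, -4, -10, -17, 5, 12, 5, 2, -1, 0, 1])) (.node (.leaf [-440, -568, -307, -407, -53, 159, 144, 124, 64, 53, 44, -1]) (.leaf [-1158, 836, 526, -260, 586, 909, -511, -49, -190, -59, -110, -9, -1]))) (.node (.node (.leaf [427, -278, -319, 44, -145, -324, 214, -19, 86, 32, 39, 1]) (.leaf [0, 0, 0, -1, 0, 1])) (.node (.leaf []) (.leaf [-13, -132, -74, -14, -23, -35, 29, 22,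 20, 10, 14])))))) (.node (.node (.node (.node (.node (.leaf [12, -2, 10, 3, -10, -3, 0, 1]) (.leaf [1151, -590, -752, 165, -350, -855, 526, -75, 184, 84, 104, -2, 0, 0, 1])) (.node (.leaf [0, 0, -1, 0, 1]) (.leaf [-5, -2, -1, -2, 1, 2, 0, 1]))) (.node (.node (.leaf [0, 0, -1, 0, 1]) (.leaf [362, -360, -209, 16, -235, -276, 200, 28, 75, 30, 47])) (.node (.leaf [1, 0, 0, 1, 0, -1]) (.leaf [104191, 24530, 12951, 58573, -27655, -54289, 6764, -11297, 5307, -5863, -751, 925, -586, 1, -1, 0, -1])))) (.node (.node (.node (.leaf [18, -10, -15, 2, -8, -23, 21, 4, -2, 0, 3]) (.leaf [-166, 118, 17, -88, 55, 140, -12, -10, -20, -24, -9, 5, -1])) (.node (.leaf []) (.leaf [-214667, 274830, 41251, 81207, 220119, 169039, -172058, -57809, -11184, -34842, -29328, -108, -4144, 0, 0, -1, -1]))) (.node (.node (.leaf [1]) (.leaf [-1087, -720, -118, -1161, -178, 765, 224, 236, 20, 92, 18, -4, -2, 1])) (.node (.leaf [1]) (.leaf [-232, 156, 163, -16, 95, 218, -166, -14, -30, -8, -16, -10])))))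 (.node (.node (.node (.node (.leaf [2, 2, 0, -1, 0, 1, 0, -1]) (.leaf [])) (.node (.leaf []) (.leaf []))) (.node (.node (.leaf [-1, 0, 0, -1, 0, 1]) (.leaf [9, 2, 4, 3, -4, -3, 0, -1])) (.node (.leaf [3, 0, 1, 1, -1, -1]) (.leaf [405, -574, -318, -192, -369, -375, 439, 98, 74, 44, 51, 21, -1])))) (.node (.node (.node (.leaf [0, 0, -1, 0, 1]) (.leaf [-226, 84, 138, -71, 81, 156, -91, 19, -40, 3, -24])) (.node (.leaf [0, 0, -1, 0, 1]) (.leaf [-443, 576, 641, -191, 135, 547, -318, -37, -161, -11, -71, -11, 3]))) (.node (.node (.leaf [1]) (.leaf [101571, -54642, 35850, -20519, -79276, -60573, 45988, 14470, -10972, 15734, 6271, -1602, 3420, 0, 1, 0, 1])) (.node (.leaf [-46, 18, 7, 10, 19, 26, -22, 0, -4, -6, 2, -1]) (.leaf [-35054, 155436, 86873, 80193, 60937, 67669, -96504, -29222, -4327, -23779, -18490, 936, -2836, 0, 0, -1, -1])))))))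

def twoL33 : Janko.Tree (List ℤ) :=
  (.node (.node (.node (.node (.node (.node (.node (.leaf []) (.leaf [70, -9, -32, 36, -24, -48, 24, -5, 8, -4, 8, -1])) (.leaf [])) (.node (.leaf [0, -2, 2, 0, 0, 0, -2, 0, 0, 1]) (.leaf [-304, 134, 175, -17, 138, 172, -143, 25, -56, -9, -30, 2, 1]))) (.node (.node (.leaf []) (.leaf [])) (.node (.leaf []) (.leaf [-139, 57, 61, -18, 59, 84, -58, 7, -22, -4, -9])))) (.node (.node (.node (.leaf [0, 1]) (.leaf [0, 1])) (.node (.leaf [-6, 3, -6, -6, 6, 4, 0, -2, 0, 1]) (.leaf [-294, 374, 177, -25, 220, 252, -165, -41, -67, -30, -48, 0, -1]))) (.node (.node (.leaf [-2, 7, 0, 0, 2, 0, 2, 0, -2, -1]) (.leaf [24668, -46492, 164, -6598, -35689, -16539, 16113, 10029, 6138, 3327, 3567, 184, 1, 0, 1, -1])) (.node (.leaf [0, 1]) (.leaf [746, 123, 37, 303, -210, -400, 119, -78, 18, -10, 10, 0, -1]))))) (.node (.node (.node (.node (.leaf []) (.leaf [0, 1])) (.node (.leaf []) (.leaf [0, 1]))) (.node (.node (.leaf []) (.leaf [0, 1])) (.node (.leaf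 []) (.leaf [0, 1])))) (.node (.node (.node (.leaf [0, 1]) (.leaf [-89758, 64073, 23326, 12814, 56565, 69073, -56507, -9406, -831, -11513, -9109, 575, -1752, 1, -1, 0, -1])) (.node (.leaf [0, 1]) (.leaf [0, 1]))) (.node (.node (.leaf [6, 13, 0, 6, 4, -2, -2, -4, -1, -1]) (.leaf [])) (.node (.leaf [0, 1]) (.leaf [0, -1, -2, 0, 0, 0, 0, 0, 1])))))) (.node (.node (.node (.node (.node (.leaf []) (.leaf [-6, 6, 2, 2, 4, 2, -2, 0, -2, -1])) (.node (.leaf [69, -52, -29, 12, -35, -48, 26, 2, 14, 5, 5]) (.leaf [0, 1]))) (.node (.node (.leaf []) (.leaf [140, -110, -69, 83, -45, -137, 34, 5, 23, 11, 17, -1])) (.node (.leaf [1424, -722, -553, 295, -602, -974, 535, -18, 213, 69, 94, 0, 3]) (.leaf [96237, 16421, 29299, 52226, -36473, -48236, 4598, -5398, 3015, -5267, -1533, 1167, -194, 1, -1, 0, -1])))) (.node (.node (.node (.leaf [14, -2, 4, 4, -8, -6, 2, 0, 1]) (.leaf [])) (.node (.leaf [0, 1]) (.leaf []))) (.node (.node (.leaf []) (.leaf [-418, -25, 61, -177, 122, 268, -119, 32,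 -15, 13, -18, 0, 1])) (.node (.leaf [-449, 367, 56, -149, 267, 326, -111, -45, -78, -32, -27, 0, -1]) (.leaf [0, 1]))))) (.node (.node (.node (.node (.leaf [0, 1]) (.leaf [0, 1])) (.node (.leaf [0, 1]) (.leaf [0, 1]))) (.node (.node (.leaf [2, -1, 0, 0, 0, -2, 0, 0, 0, 1]) (.leaf [])) (.node (.leaf []) (.leaf [0, 1])))) (.node (.node (.node (.leaf []) (.leaf [])) (.node (.leaf []) (.leaf [-4220, 4775, 1247, -688, 3304, 3131, -1707, -588, -839, -449, -592, 72, 9, 1]))) (.node (.node (.leaf []) (.leaf [0, -1, 0, -2, 0, 0, 0, 0, 0, 1])) (.node (.leaf [0, 1]) (.leaf [0, 1])))))))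

def twoL34 : Janko.Tree (List ℤ) :=
  (.node (.node (.node (.node (.node (.node (.node (.leaf []) (.leaf [-71, 15, 34, -35, 20, 53, -22, 7, -8, 2, -8, 1])) (.leaf [0, 0, 1])) (.node (.leaf [0, 0, 1, 1, 0, 0, -1]) (.leaf [-26403, 7950, -10430, -6277, 18105, 13094, -5065, -1930, -685, -756, -484, 16, -136, 0, -1, 1]))) (.node (.node (.leaf [0, 0, 1]) (.leaf [0, 0, 1])) (.node (.leaf [162, -66, -64, 56, -59, -119, 55, -5, 21, 4, 13]) (.leaf [-13466, 12094, 146, -558, 11580, 7766, -5312, -1888, -2071, -1040, -1140, 88, 4, 0, -1, 1])))) (.node (.node (.node (.leaf []) (.leaf [2716, -236, 827, 911, -1280, -1442, 303, -44, -44, 132, 92, -45, 27])) (.node (.leaf [0, 0, 1, 1, 0, 0, -1]) (.leaf []))) (.node (.node (.leaf [0, 0, 1, 1, 0, 0, -1]) (.leaf [0, 0, 1, 1, 0, 0, -1])) (.node (.leaf []) (.leaf [0, 0, 0, -1, 0, 0, 1]))))) (.node (.node (.node (.node (.leaf [0, 0, 0, -1, 0, 0, 1]) (.leaf [-2114, -698, -700, -1358, 469, 1083, 131, 224, 9, 62, 44, 13, -3])) (.node (.leaf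 [0, 0, 1]) (.leaf []))) (.node (.node (.leaf [0, 0, 1]) (.leaf [-2190, 792, -71, -578, 1241, 1125, -471, -10, -250, -57, -98, 20, -1])) (.node (.leaf [0, 0, 1]) (.leaf [-360, 388, 222, -17, 217, 303, -204, -35, -74, -41, -44, -1, 1])))) (.node (.node (.node (.leaf []) (.leaf [0, 0, 0, -1, 0, 0, 1])) (.node (.leaf []) (.leaf []))) (.node (.node (.leaf [-290, 414, 123, -200, 176, 310, -60, -62, -96, -14, -24, -12, 1]) (.leaf [1, -2, 0, 0, -1, 0, 0, 0, 1])) (.node (.leaf [776, 282, 393, 469, -232, -324, -101, -86, -23, -11, -10, -14, 3]) (.leaf [0, 0, 1])))))) (.node (.node (.node (.node (.node (.leaf [0, 0, 1, 1, 0, 0, -1]) (.leaf [0, 0, 1, 1, 0, 0, -1])) (.node (.leaf [0, 0, 1]) (.leaf []))) (.node (.node (.leaf [0, 0, 1]) (.leaf [30808, -19320, -11854, 2311, -16969, -22231, 16012, 1346, 3445, 1973, 2915, -65, 46, 1, 0, -1])) (.node (.leaf [-994, 586, 494, -209, 416, 726, -409, 12, -165, -55, -86, 0, 1]) (.leaf [448, 1042, 190, 685, 494, -198, -369, -306, -97, -51,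 -59, -7, -1])))) (.node (.node (.node (.leaf [0, 0, 1]) (.leaf [0, 0, 1])) (.node (.leaf []) (.leaf [0, 0, 1]))) (.node (.node (.leaf [-5, 2, 0, -1, 3, 2, -1, 0, -1]) (.leaf [-64, -102, -28, -33, -10, 18, -1, 22, 15, 9, 6, 0, -1])) (.node (.leaf [-5, 2, 0, -1, 3, 2, -1, 0, -1]) (.leaf [15295, 180636, 116126, 115140, 45604, 47294, -103358, -34480, -5174, -28162, -21126, 1510, -2886, 0, -1, 0, -1]))))) (.node (.node (.node (.node (.leaf []) (.leaf [522, -86, 211, 217, -288, -294, 69, 40, 5, 3, -6, -4, 5])) (.node (.leaf [-4, 2, -8, -3, 6, 2, 1, -2, 1]) (.leaf [4764, 718, 1601, 1029, -1808, -2584, 919, -238, -571, 315, 132, -80, 83]))) (.node (.node (.leaf [0, 0, 1, 1, 0, 0, -1]) (.leaf [0, 0, 1])) (.node (.leaf [0, 0, 0, -1, 0, 0, 1]) (.leaf [-255429, 313284, -32186, 71586, 282513, 167701, -153487, -70199, -14949, -39424, -28594, 1401, -4877, 0, -1, 0, -1])))) (.node (.node (.node (.leaf [0, 0, 1]) (.leaf [0, 0, 1, 1, 0, 0, -1])) (.node (.leaf [0, 0, 1]) (.leaf [-3762,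 2314, 577, -1291, 2164, 2378, -843, -79, -555, -219, -401, 90, 7, 1]))) (.node (.node (.leaf []) (.leaf [233284, -322438, -40433, -91131, -254975, -181276, 186963, 68418, 17162, 38430, 32917, 148, 4144, 0, 1, 0, 1])) (.node (.leaf []) (.leaf [-2584, 1946, 1296, -507, 1266, 2036, -1177, -103, -451, -165, -243, -13, 2])))))))

def twoL35 : Janko.Tree (List ℤ) :=
  (.node (.node (.node (.node (.node (.node (.node (.leaf []) (.leaf [78, -21, -38, 38, -22, -58, 24, -5, 10, 0, 8, -1])) (.leaf [790, -512, -440, 160, -321, -619, 355, 1, 130, 51, 73, 1])) (.node (.leaf [0, 0, 0, 1]) (.leaf [68, -14, -29, 37, -29, -49, 26, -2, 8, -6, 8, -1]))) (.node (.node (.leaf [-589, 290, 154, -170, 301, 379, -199, -12, -94, -6, -34, 1]) (.leaf [])) (.node (.leaf [0, 0, 0, 1]) (.leaf [0, 0, 0, 1])))) (.node (.node (.node (.leaf []) (.leaf [2725, -262, 808, 917, -1285, -1461, 313, -40, -40, 134, 95, -45, 27])) (.node (.leaf [0, 0, 0, 1]) (.leaf []))) (.node (.node (.leaf [0, 0, 0, 1]) (.leaf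 [0, 0, 0, 1])) (.node (.leaf []) (.leaf [0, 0, 0, 1]))))) (.node (.node (.node (.node (.leaf [0, 0, 0, 1]) (.leaf [-480, 684, 490, 102, 341, 409, -379, -50, -142, -65, -84, -1])) (.node (.leaf []) (.leaf [-6227, -1658, -260, -1781, 1230, 3633, -1441, 744, 420, -218, -130, 68, -55]))) (.node (.node (.leaf []) (.leaf [2221, 910, 265, 2113, 41, -1514, -358, -357, 45, -130, -23, 6, 4, -1])) (.node (.leaf []) (.leaf [-264, 344, 154, 13, 203, 209, -155, -37, -66, -33, -36, -1, 1])))) (.node (.node (.node (.leaf []) (.leaf [0, 0, 0, 1])) (.node (.leaf [61, -30, -63, 38, -9, -61, 28, -5, 12, -1, 10, -1]) (.leaf [332, -166, -191, 47, -125, -271, 188, 1, 42, 9, 22, 9]))) (.node (.node (.leaf [0, 0, 0, 1]) (.leaf [0, 0, 0, 1])) (.node (.leaf [-423, 368, 260, 28, 261, 300, -263, -24, -83, -31, -45, 0, -1]) (.leaf [-695, -86, -62, -326, 217, 377, -85, 62, -24, 15, -12, 1, 1])))))) (.node (.node (.node (.node (.node (.leaf [0, 0, 0, 1]) (.leaf [0, 0, 0, 1])) (.node (.leaf []) (.leaf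 []))) (.node (.node (.leaf []) (.leaf [0, 0, 0, 1])) (.node (.leaf [0, 0, 0, 1]) (.leaf [0, 0, 0, 1])))) (.node (.node (.node (.leaf []) (.leaf [-98, 28, 44, -36, 23, 70, -27, 9, -12, -4, -8, 1])) (.node (.leaf []) (.leaf []))) (.node (.node (.leaf []) (.leaf [0, 0, 0, 1])) (.node (.leaf []) (.leaf [146, 2, -33, 88, -37, -69, 2, -25, 18, 1, 16, -11]))))) (.node (.node (.node (.node (.leaf [-309, 64, 144, -91, 80, 211, -112, 28, -36, -5, -20, 1]) (.leaf [512, -164, -95, 157, -248, -289, 139, -17, 66, 4, 36, -7])) (.node (.leaf []) (.leaf [175, -82, -114, 73, -53, -149, 75, -6, 26, 2, 20, -1]))) (.node (.node (.leaf [0, 0, 0, 1]) (.leaf [34, 8, 12, 18, -9, -15, -3, -4, 0, 1, 0, -1])) (.node (.leaf [0, 0, 0, 1]) (.leaf [-139857, 212386, -2528, 78284, 177257, 109165, -123473, -52489, -1078, -27921, -20638, -155, -3912, 1, -1, -1, -1])))) (.node (.node (.node (.leaf [-46, 0, 71, -46, -6, 45, -17, 15, -12, 8, -12, 1]) (.leaf [0, 0, 0, 1])) (.node (.leaf []) (.leaf [0, 0,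 0, 1]))) (.node (.node (.leaf []) (.leaf [0, 0, 0, 1])) (.node (.leaf [-40, 18, 3, 14, 19, 23, -22, -2, -2, -6, 2, -1]) (.leaf [-1120, 754, 610, -241, 477, 869, -485, -5, -194, -70, -107, -1])))))))

def twoL36 : Janko.Tree (List ℤ) :=
  (.node (.node (.node (.node (.node (.node (.node (.leaf [1, 0, 1, 0, -1]) (.leaf [-9, 11, 7, -10, 3, 10, 0, 0, -3, 0, -1])) (.leaf [7, 2, -23, 0, 8, -9, 9, -4, 2, 0, 1])) (.node (.leaf [3, -2, 2, 3, -2, -3, 0, 1]) (.leaf [63, -14, -31, 34, -27, -46, 26, -2, 8, -6, 8, -1]))) (.node (.node (.leaf []) (.leaf [-6456, 18068, 196, 4249, 12767, 4270, -5543, -3840, -2269, -1471, -1437, -13, -4, 0, -1])) (.node (.leaf []) (.leaf [110079, -179620, -112668, -67553, -89168, -120351, 128884, 26910, 9394, 27610, 23996, -1186, 3086, 0, 0, 1, 1])))) (.node (.node (.node (.leaf [1]) (.leaf [1])) (.node (.leaf [-10, -4, -2, -5, 2, 5, 0, 2]) (.leaf [1, 0, 1, 0, -1]))) (.node (.node (.leaf []) (.leaf [25, -42, -12, 7, -19, -30, 15, 9, 5, 4, 3])) (.node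 (.leaf [-93, 32, 104, -66, 9, 93, -41, 13, -18, 6, -18, 1]) (.leaf [3, 0, 1, 1, -1, -1]))))) (.node (.node (.node (.node (.leaf [22, -10, -52, 46, 4, -36, 8, -6, 8, -8, 12, -1]) (.leaf [-61, 22, 44, -12, 15, 43, -27, 7, -11, -2, -5])) (.node (.leaf [8, 0, 3, 4, -3, -4]) (.leaf [-143, 86, 105, -22, 42, 145, -99, -7, -14, -7, -10, -5]))) (.node (.node (.leaf [-8, -2, -1, -5, 1, 5, 0, 1]) (.leaf [-72, 10, 33, -39, 22, 52, -23, 6, -8, 4, -8, 1])) (.node (.leaf [-109, -4, 33, -60, 27, 74, -24, 15, -6, 4, -12, 1]) (.leaf [-2330, 1696, 1439, -206, 1077, 1750, -1180, 0, -416, -182, -250, 2, -2, 0, -1])))) (.node (.node (.node (.leaf [-117, 56, 18, 21, 63, 66, -61, -5, -10, -12, 0, -1]) (.leaf [])) (.node (.leaf [-1658, 86, -302, -625, 736, 819, -206, 62, -84, -8, -27, 17, -3]) (.leaf [11309, -331720, -42659, -105495, -187524, -36860, 101215, 79785, 41767, 18576, 23738, 3015, -1021, 0, -1, 0, -1]))) (.node (.node (.leaf [-1, 2, -4, 1, 4, -1, 0, -1]) (.leaf [45429, -55530, -17723,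 -4880, -40530, -34125, 29365, 8535, 8358, 4760, 6052, 26, 34, 0, 1, -1])) (.node (.leaf [-103, 188, 63, -53, 75, 125, -44, -33, -32, -14, -15]) (.leaf [-108317, -811840, -301669, -346707, -309955, -85458, 295857, 180300, 89810, 63827, 67656, 3910, 417, 1, -1, -1, -1])))))) (.node (.node (.node (.node (.node (.leaf []) (.leaf [9028, -18514, -168, -3608, -14003, -5463, 6043, 3683, 2519, 1515, 1541, -5, 4, 0, 1])) (.node (.leaf [2, 0, 0, 1, 0, -1]) (.leaf [1]))) (.node (.node (.leaf [2, 0, 0, 1, 0, -1]) (.leaf [-152, 92, 73, -44, 66, 113, -57, 1, -27, -6, -14])) (.node (.leaf [-65, 26, 36, -16, 21, 45, -25, 5, -11, -2, -5]) (.leaf [2, 2, -1, 0, 1, 0, 0, -1])))) (.node (.node (.node (.leaf [1, 0, 0, 1, 0, -1]) (.leaf [0, 0, 0, -1, 0, 1])) (.node (.leaf [1]) (.leaf [-22321, -48694, -66366, 1090, 8868, 940, 5870, 153, 22000, -1580, 6144, -40, -2330, 0, 0, -1, -1]))) (.node (.node (.leaf [1, 0, 0, 1, 0, -1]) (.leaf [9, -4, -7, -4, -6, -5, 9, 0, 1, 0, 1])) (.node (.leaf [1,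 0, 0, 1, 0, -1]) (.leaf [-70078, 171272, -5602, 86966, 130648, 65302, -96666, -47267, 4832, -23910, -15400, -269, -3622, 0, 0, 0, -1]))))) (.node (.node (.node (.node (.leaf [0, 0, -1, 0, 1]) (.leaf [-853, -606, 221, -208, -35, 381, -213, 269, 40, 10, -26, 11, -1])) (.node (.leaf [-2, 0, -1, -1, 1, 1]) (.leaf [3, 0, 1, 1, -1, -1]))) (.node (.node (.leaf [-1, 2, -3, -1, 3, 1, 0, -1]) (.leaf [])) (.node (.leaf [-86, -14, -29, -34, 37, 48, -16, 2, 6, 0, -2, 1]) (.leaf [149678, 155986, 235021, 142090, -78863, 12817, -96883, -22217, -4978, -28326, -21786, 2187, -2873, 0, -1, 0, -1])))) (.node (.node (.node (.leaf []) (.leaf [-160, 90, 127, -39, 39, 169, -110, -7, -14, -7, -14, -3])) (.node (.leaf [2, 0, 0, 1, 0, -1]) (.leaf [11, 2, 6, 3, -6, -3, 0, -1]))) (.node (.node (.leaf [1, 0, 1, 0, -1]) (.leaf [0, 0, -1, 0, 1])) (.node (.leaf [1]) (.leaf [1885, 748, 1451, 1843, -539, -678, -937, -274, 14, -53, 0, -60, -1, -1])))))))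

def twoL37 : Janko.Tree (List ℤ) :=
  (.node (.node (.node (.node (.node (.node (.node (.leaf []) (.leaf [5, 0, -6, 0, 0, -5, 6, 0, 0, 0, 1])) (.leaf [0, 1])) (.node (.leaf [0, 1]) (.leaf [139, -56, -61, 18, -59, -84, 58, -7, 22, 4, 9]))) (.node (.node (.leaf [0, 1]) (.leaf [4, -5, -4, -2, -2, -2, 2, 0, 2, 1])) (.node (.leaf [0, 1]) (.leaf [0, 1])))) (.node (.node (.node (.leaf []) (.leaf [])) (.node (.leaf [0, 1]) (.leaf [611, -316, -338, 99, -236, -439, 278, -21, 94, 32, 54, -1]))) (.node (.node (.leaf [0, 1]) (.leaf [])) (.node (.leaf []) (.leaf [-9485, -13624, -12500, -8227, 397, 1628, 5063, 2364, 2354, 888, 1326, 40, -160, 0, 1, -1]))))) (.node (.node (.node (.node (.leaf [0, 1]) (.leaf [])) (.node (.leaf []) (.leaf []))) (.node (.node (.leaf []) (.leaf [])) (.node (.leaf [0, -1, 0, -2, 0, 0, 0, 0, 0, 1]) (.leaf [0, 1])))) (.node (.node (.node (.leaf []) (.leaf [0, 1])) (.node (.leaf []) (.leaf []))) (.node (.node (.leaf [0, 1]) (.leaf [0, 1])) (.node (.leaf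 []) (.leaf [95472, -181401, 11756, 1562, -141280, -53704, 38540, 36880, 35044, 7429, 11976, 900, -1528, 1, 0, -1, -1])))))) (.node (.node (.node (.node (.node (.leaf [0, 1]) (.leaf [0, 1])) (.node (.leaf []) (.leaf []))) (.node (.node (.leaf []) (.leaf [0, 1])) (.node (.leaf [0, 1]) (.leaf [0, 1])))) (.node (.node (.node (.leaf []) (.leaf [])) (.node (.leaf [-168, -2, 47, -21, 52, 110, -81, 13, -2, 1, -6, -4, -1]) (.leaf [145, -64, -65, 24, -57, -94, 58, -6, 23, 6, 9]))) (.node (.node (.leaf []) (.leaf [0, 1])) (.node (.leaf []) (.leaf [12896, -346221, -47456, -108854, -193944, -39004, 104700, 82090, 44460, 19717, 24982, 2954, -1092, 0, -1, 0, -1]))))) (.node (.node (.node (.node (.leaf []) (.leaf [-3334, -79, -2812, -2052, 1939, 1259, 633, -159, -81, 52, 200, 27, 1, 0, 0, 1])) (.node (.leaf [-868, 566, 469, -203, 360, 664, -355, 6, -152, -52, -84, 0, -1]) (.leaf [194662, -217514, 44712, -23436, -201330, -107900, 72650, 40564, 17936, 30403, 20914, -4194, 3134, -1,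 0, 1, 1]))) (.node (.node (.leaf [0, 1]) (.leaf [0, 1])) (.node (.leaf [0, 1]) (.leaf [])))) (.node (.node (.node (.leaf [0, 1]) (.leaf [0, 1])) (.node (.leaf [-190, 131, 51, -51, 119, 135, -74, -12, -27, -6, -21, 1]) (.leaf [0, 1]))) (.node (.node (.leaf []) (.leaf [71, -24, -33, 22, -23, -50, 26, -4, 10, 1, 5])) (.node (.leaf [71, -54, -31, 10, -33, -50, 26, 1, 14, 7, 5]) (.leaf [0, 1])))))))

def twoL38 : Janko.Tree (List ℤ) :=
  (.node (.node (.node (.node (.node (.node (.node (.leaf [0, 0, 1]) (.leaf [5, 0, -4, 0, -1, -4, 5, 0, 0, 0, 1])) (.leaf [93, -38, -43, 20, -29, -71, 39, -4, 10, 6, 7])) (.node (.leaf []) (.leaf [-46460, 57018, 18476, 5330, 41516, 34772, -30206, -8698, -8667, -4898, -6196, -20, -30, 0, -1, 1]))) (.node (.node (.leaf [2, 2, 5, -3, -4, 2, 1, 0, -1]) (.leaf [0, 0, 1, 1, 0, 0, -1])) (.node (.leaf []) (.leaf [14812, 68110, 22281, 25383, 24268, -344, -15797, -13811, -10014, -4920, -5609, 52, 247, 0, -1, 1])))) (.node (.node (.node (.leaf []) (.leaf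 [-1221, 1198, 359, -708, 852, 691, -103, -90, -493, 40, -76, 5, 15])) (.node (.leaf []) (.leaf [0, 0, 1]))) (.node (.node (.leaf []) (.leaf [807, 104, -492, 251, 4, -562, 297, -154, 65, 7, 30, -1, 1])) (.node (.leaf [63, -14, 24, -34, -39, -15, 27, 2, 1, 10, -7, 1]) (.leaf [0, 0, 0, -1, 0, 0, 1]))))) (.node (.node (.node (.node (.leaf []) (.leaf [0, 0, 1])) (.node (.leaf [0, 0, 1, 1, 0, 0, -1]) (.leaf [0, 0, 1]))) (.node (.node (.leaf [0, 0, 1, 1, 0, 0, -1]) (.leaf [0, 0, 0, -1, 0, 0, 1])) (.node (.leaf [0, 0, 1, 1, 0, 0, -1]) (.leaf [0, -2, 0, 1, 0, 0, -1, 0, 1])))) (.node (.node (.node (.leaf [0, 0, 1]) (.leaf [])) (.node (.leaf [17, 4, -8, 9, 1, -15, 6, -3, 0, 0, 1]) (.leaf [0, 0, 0, -1, 0, 0, 1]))) (.node (.node (.leaf []) (.leaf [55894, -40932, -5472, 3833, -40558, -36820, 24995, 6120, 5700, 3856, 4650, -28, 168, 0, 1, -1])) (.node (.leaf [0, 0, 1]) (.leaf [-315, 10, -1, -117, 133, 213, -106, 2, 6, 5, -18, 1, -1])))))) (.node (.node (.node (.node (.node (.leaf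 []) (.leaf [6, -2, 1, 1, -4, -2, 1, 0, 1])) (.node (.leaf [-4, 0, -1, -1, 2, 2, -1]) (.leaf [-78, 34, 47, -24, 24, 63, -35, 3, -11, -2, -7]))) (.node (.node (.leaf [-4, 0, -1, -1, 2, 2, -1]) (.leaf [-74, 40, 51, -22, 19, 57, -27, 5, -15, -4, -6])) (.node (.leaf [6, 4, 15, 4, -5, 1, -5, 0, -1, 0, -1]) (.leaf [-23, 20, 26, -6, 5, 25, -15, 0, -5, -2, -3])))) (.node (.node (.node (.leaf [0, 0, 1, 1, 0, 0, -1]) (.leaf [1, -2, 0, 0, -1, 0, 0, 0, 1])) (.node (.leaf []) (.leaf [0, 0, 1, 1, 0, 0, -1]))) (.node (.node (.leaf [-6, -2, 4, -4, -2, 4, 0, 2, -1]) (.leaf [-66, 50, 34, -32, 28, 57, -21, -3, -13, -2, -7])) (.node (.leaf [-2, 2, 0, 0, 2, 0, 0, 0, -1]) (.leaf [0, 0, 1]))))) (.node (.node (.node (.node (.leaf [0, 0, 1]) (.leaf [0, 0, 1])) (.node (.leaf [0, 0, 0, -1, 0, 0, 1]) (.leaf [0, 0, 0, -1, 0, 0, 1]))) (.node (.node (.leaf []) (.leaf [])) (.node (.leaf []) (.leaf [0, 0, 1])))) (.node (.node (.node (.leaf [-20, -6, -1, -11, 2, 10, 1, 4, -1]) (.leaf [])) (.node (.leaf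 [-4, 0, -1, -1, 2, 2, -1]) (.leaf [71, -28, -36, 21, -22, -47, 22, -6, 13, 2, 5]))) (.node (.node (.leaf [0, 0, 1]) (.leaf [0, 0, 1])) (.node (.leaf [-3, -2, -1, -1, 1, 2, -1, 0, 1]) (.leaf [5441, -4224, -713, 1267, -3643, -3578, 1643, 416, 802, 425, 560, -86, -5, -1])))))))

def twoL39 : Janko.Tree (List ℤ) :=
  (.node (.node (.node (.node (.node (.node (.node (.leaf []) (.leaf [5, 0, -2, 2, -1, -4, 3, 0, 0, 0, 1])) (.leaf [])) (.node (.leaf []) (.leaf [0, 0, 0, 1]))) (.node (.node (.leaf []) (.leaf [0, 0, 0, 1])) (.node (.leaf []) (.leaf [])))) (.node (.node (.node (.leaf [-528, 156, 116, -171, 240, 309, -148, 21, -66, -2, -38, 7]) (.leaf [-45, 56, 134, -3, -29, 60, -33, 20, -24, -11, -12, -1])) (.node (.leaf []) (.leaf []))) (.node (.node (.leaf []) (.leaf [0, 0, 0, 1])) (.node (.leaf [0, 0, 0, 1]) (.leaf [0, 0, 0, 1]))))) (.node (.node (.node (.node (.leaf [124, -34, -98, 68, -28, -103, 50, -14, 20, -6, 18, -1]) (.leaf [-3661, 1764, -407, -1168, 2335, 1874, -506,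 -72, -418, -189, -292, 90, -1, 1])) (.node (.leaf [0, 0, 0, 1]) (.leaf [4395, -200, -766, 1582, -1204, -2570, 949, -424, 357, 47, 147, -33, 6]))) (.node (.node (.leaf [0, 0, 0, 1]) (.leaf [0, 0, 0, 1])) (.node (.leaf [0, 0, 0, 1]) (.leaf [])))) (.node (.node (.node (.leaf [634, -196, -143, 203, -286, -377, 181, -23, 80, 4, 44, -7]) (.leaf [])) (.node (.leaf [0, 0, 0, 1]) (.leaf [0, 0, 0, 1]))) (.node (.node (.leaf []) (.leaf [44498, -56670, -18362, -5946, -40743, -33686, 29805, 8803, 8494, 4844, 6124, 38, 32, 0, 1, -1])) (.node (.leaf []) (.leaf [0, 0, 0, 1])))))) (.node (.node (.node (.node (.node (.leaf []) (.leaf [])) (.node (.leaf [0, 0, 0, 1]) (.leaf []))) (.node (.node (.leaf [0, 0, 0, 1]) (.leaf [])) (.node (.leaf []) (.leaf [-421, -14, 184, -148, 99, 289, -175, 43, -26, 17, -27, 1, -1])))) (.node (.node (.node (.leaf [0, 0, 0, 1]) (.leaf [0, 0, 0, 1])) (.node (.leaf [40, -22, -7, -13, -19, -23, 22, 2, 4, 6, -2, 1]) (.leaf [0, 0, 0, 1]))) (.node (.node (.leaf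 [0, 0, 0, 1]) (.leaf [7856, -30726, 6336, -7838, -24045, -4188, 7830, 8343, 3314, 1843, 1608, 237, 18, 1, 0, -1])) (.node (.leaf [0, 0, 0, 1]) (.leaf [-58069, -354502, -76422, -144202, -168657, -5245, 108411, 86571, 43858, 19235, 26304, 3111, -1828, 0, -1, 0, -1]))))) (.node (.node (.node (.node (.leaf [-425, 102, 127, -118, 154, 245, -121, 32, -54, -10, -26, 7]) (.leaf [-22098, -3958, -11490, -5724, 10182, 9244, -2088, 736, 1477, -573, 482, 118, -261, 0, 0, 1])) (.node (.leaf [0, 0, 0, 1]) (.leaf [0, 0, 0, 1]))) (.node (.node (.leaf []) (.leaf [])) (.node (.leaf [-68, -14, -21, -30, 25, 37, -8, 4, 4, 0, -2, 1]) (.leaf [-1970, 1232, 1099, -390, 811, 1503, -887, 10, -337, -109, -176, -6, 2])))) (.node (.node (.node (.leaf []) (.leaf [-1102, -612, 215, -449, -83, 549, -115, 308, -2, -11, -8, 18, 1])) (.node (.leaf [0, 0, 0, 1]) (.leaf []))) (.node (.node (.leaf []) (.leaf [])) (.node (.leaf []) (.leaf [2523, 1668, 1127, 2391, -35, -1353, -685, -450, -98, -173, -110,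 -8, 5, -1])))))))

def twoL40 : Janko.Tree (List ℤ) :=
  (.node (.node (.node (.node (.node (.node (.node (.leaf [-1, 0, 0, -1, 0, 1]) (.leaf [7, 0, 0, 4, -2, -5, 2, 0, 0, 0, 1])) (.leaf [1])) (.node (.leaf [-7, 2, -4, -5, 4, 5, 0, -1]) (.leaf [-63148, 284600, 38401, 91255, 178958, 65762, -111119, -66187, -30304, -21254, -22860, -1739, 44, 0, 0, 1, 1]))) (.node (.node (.leaf [-329, 182, 131, -95, 162, 226, -129, -8, -60, -2, -22, 1]) (.leaf [-4816, 8750, 3458, 2143, 5416, 4029, -4512, -1358, -1242, -825, -945, -11, 6, 0, -1])) (.node (.leaf [-1562, 684, 961, -245, 475, 1349, -938, -11, -155, -55, -93, -27, -1]) (.leaf [-68982, 390400, 71614, 93876, 228472, 78150, -128110, -85416, -57980, -20238, -29846, -3558, 1838, -1, 1, 1, 1])))) (.node (.node (.node (.leaf [1, 0, 1, 0, -1]) (.leaf [-82, 28, 48, -23, 22, 57, -30, 8, -14, -2, -6])) (.node (.leaf [0, 0, -1, 0, 1]) (.leaf [-1, 0, 0, -1, 0, 1]))) (.node (.node (.leaf [1]) (.leaf [-3677, 1126, 1222, -1142, 1350, 2375,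 -1145, 205, -446, -104, -278, 49, 11])) (.node (.leaf [1]) (.leaf [-30919, -48350, -870, -35322, -17246, 14328, 9154, 14198, 950, 5882, 3107, -386, 424, 0, 0, -1]))))) (.node (.node (.node (.node (.leaf [1]) (.leaf [-2, 6, -7, -1, 7, 1, 0, -3])) (.node (.leaf [6, -8, 19, -2, -16, 7, -5, 3, 2, 0, -1]) (.leaf [87, -78, -43, 7, -55, -65, 46, 7, 16, 6, 10]))) (.node (.node (.leaf []) (.leaf [0, 0, -1, 0, 1])) (.node (.leaf [0, 0, -1, 0, 1]) (.leaf [-5051, 8844, 3384, 1988, 5572, 4194, -4538, -1387, -1244, -825, -969, -1, 4, 0, -1])))) (.node (.node (.node (.leaf [-9, -2, -1, -6, 1, 6, 0, 1]) (.leaf [1])) (.node (.leaf []) (.leaf [-9, -2, -5, -3, 5, 3, 0, 1]))) (.node (.node (.leaf [0, 0, -1, 0, 1]) (.leaf [1])) (.node (.leaf [841, 194, -507, 239, 21, -541, 302, -189, 62, 1, 30, -1]) (.leaf [14, -2, 9, 6, -9, -6, 0, 1])))))) (.node (.node (.node (.node (.node (.leaf [3, 0, 1, 1, -1, -1]) (.leaf [1])) (.node (.leaf []) (.leaf [-3, -2, 12, -6, -7, 7, -1, 3, -1, 0, -1])))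 (.node (.node (.leaf []) (.leaf [3, 0, 1, 1, -1, -1])) (.node (.leaf [-1, -6, 4, 0, -4, 0, 0, 3]) (.leaf [-1653, -734, 88, -712, 219, 867, -283, 314, 30, 54, -41, 11, -1])))) (.node (.node (.node (.leaf []) (.leaf [-127, 68, 32, 31, 63, 102, -99, -19, -4, -11, 6, -6])) (.node (.leaf [1, 0, 1, 0, -1]) (.leaf [4312, -4416, -896, 827, -3269, -3048, 1537, 539, 790, 428, 537, -73, -13, -1]))) (.node (.node (.leaf [794, 554, 303, 478, -49, -308, -106, -172, -42, -16, -31, -15, -1]) (.leaf [1040, -874, -650, 65, -528, -767, 518, 14, 216, 94, 115, -1, -1])) (.node (.leaf []) (.leaf [13071, -336232, -45237, -106868, -189727, -38634, 103560, 80418, 42546, 18950, 24181, 3046, -1025, 0, 0, 0, -1]))))) (.node (.node (.node (.node (.leaf []) (.leaf [-59, 6, 39, -31, 17, 43, -24, 7, -8, 5, -8, 1])) (.node (.leaf [5, -10, 11, 3, -11, -3, 0, 5]) (.leaf [68, -12, -37, 38, -19, -52, 24, -5, 8, -4, 8, -1]))) (.node (.node (.leaf [0, 0, -1, 0, 1]) (.leaf [1])) (.node (.leaf [1]) (.leaf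 [86676, -277556, -35415, -83607, -184932, -78964, 116579, 64044, 28927, 21095, 22811, 1755, 146, 0, 0, -1, -1])))) (.node (.node (.node (.leaf [32, -24, 8, -45, -27, -4, 27, 5, 2, 10, -6, 1]) (.leaf [456, -378, -244, 17, -266, -343, 254, 25, 76, 36, 52])) (.node (.leaf []) (.leaf [0, 0, 0, -1, 0, 1]))) (.node (.node (.leaf [-1, 0, 0, -1, 0, 1]) (.leaf [2, 0, 0, 1, 0, -1])) (.node (.leaf [1, 0, 0, 1, 0, -1]) (.leaf [593, 930, -333, 447, 481, -311, -18, -335, -44, -46, -27, -19, 6, 0, -1])))))))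

def twoL41 : Janko.Tree (List ℤ) :=
  (.node (.node (.node (.node (.node (.node (.node (.leaf []) (.leaf [-79, 23, 40, -33, 20, 59, -24, 8, -10, -1, -8, 1])) (.leaf [])) (.node (.leaf []) (.leaf [0, 1]))) (.node (.node (.leaf []) (.leaf [0, 1])) (.node (.leaf [0, 1]) (.leaf [0, 1])))) (.node (.node (.node (.leaf []) (.leaf [0, 1])) (.node (.leaf []) (.leaf [-60212, -91693, 45476, -31790, -56498, 49538, -15734, 31796, 14872, -931, 186, 1604, -1680, 1, 0, -1, -1]))) (.node (.node (.leaf []) (.leaf [0, 1])) (.node (.leaf []) (.leaf [0, 1]))))) (.node (.node (.node (.node (.leaf []) (.leaf [-6004, 3197, -460, -1198, 4195, 2893, -1323, -201, -726, -335, -485, 144, 5, 1])) (.node (.leaf [0, 1]) (.leaf []))) (.node (.node (.leaf [0, 1]) (.leaf [151650, -55052, -27294, 14526, -70899, -106907, 69217, 3233, 2761, 9910, 9950, -105, 1777, -1, 0, 1, 1])) (.node (.leaf [607, -38, -306, 105, -109, -372, 231, -90, 64, 17, 27, 0, 1]) (.leaf [742, 135, 41, 303, -208, -398, 121, -78,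 14, -12, 10, 0, -1])))) (.node (.node (.node (.leaf [0, 1]) (.leaf [])) (.node (.leaf [0, 1]) (.leaf [893, -427, -652, 123, -225, -818, 571, 0, 95, 43, 57, 18, 1]))) (.node (.node (.leaf []) (.leaf [])) (.node (.leaf [521, -288, -306, 73, -196, -369, 232, -23, 89, 33, 46, -1]) (.leaf [0, 1])))))) (.node (.node (.node (.node (.node (.leaf []) (.leaf [1685, -82, 317, 640, -746, -831, 203, -63, 84, 8, 26, -17, 3])) (.node (.leaf [0, 1]) (.leaf [0, -1, -2, 0, 0, 0, 0, 0, 1]))) (.node (.node (.leaf [0, 1]) (.leaf [])) (.node (.leaf []) (.leaf [0, 1])))) (.node (.node (.node (.leaf [0, 1]) (.leaf [0, 1])) (.node (.leaf []) (.leaf [0, 1]))) (.node (.node (.leaf [0, 1]) (.leaf [])) (.node (.leaf [0, 1]) (.leaf [0, 1]))))) (.node (.node (.node (.node (.leaf [0, 1]) (.leaf [])) (.node (.leaf []) (.leaf [0, 1]))) (.node (.node (.leaf [69, -28, -41, 8, -23, -44, 30, -6, 12, 3, 5]) (.leaf [])) (.node (.leaf []) (.leaf [0, -1, 0, -2, 0, 0, 0, 0, 0, 1])))) (.node (.node (.node (.leaf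 []) (.leaf [0, 1])) (.node (.leaf [0, 1]) (.leaf []))) (.node (.node (.leaf [8, -5, 8, 2, -8, -4, 0, 2, 0, 1]) (.leaf [25133, 74050, 42700, 14053, 18365, -6262, -11447, -11880, -21213, 642, -5760, -978, 2164, 0, 0, 0, 1])) (.node (.leaf [-1058, 472, 169, -303, 572, 662, -351, -36, -142, -7, -54, 2, 1]) (.leaf [-73, 51, 29, -14, 37, 50, -28, -2, -14, -4, -5])))))))

def twoL42 : Janko.Tree (List ℤ) :=
  (.node (.node (.node (.node (.node (.node (.node (.leaf [0, 0, 1, 1, 0, 0, -1]) (.leaf [83, -20, -38, 40, -22, -61, 25, -6, 10, 0, 8, -1])) (.leaf [-7, -6, -1, -5, -1, 4, 1, 2, 1])) (.node (.leaf [0, 0, 1]) (.leaf [-52190, 67594, 9557, 6625, 53332, 35058, -30013, -11563, -9720, -5938, -6679, 142, -39, 0, -1, 1]))) (.node (.node (.leaf [0, 0, 0, -1, 0, 0, 1]) (.leaf [-4, 2, 2, -1, 2, 2, -1, 0, -1])) (.node (.leaf [420, -124, -49, 127, -212, -221, 104, -13, 52, 5, 28, -9, -1]) (.leaf [-60227, 428374, 29131, 124510, 270147, 65659, -135389, -103717, -53343, -24190, -29737,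 -4336, 1136, -1, 1, 1, 1])))) (.node (.node (.node (.leaf [0, 0, 1]) (.leaf [-74, 18, 48, -21, 13, 53, -28, 9, -11, -2, -5])) (.node (.leaf [0, 0, 1]) (.leaf [0, 0, 1, 1, 0, 0, -1]))) (.node (.node (.leaf []) (.leaf [810, -256, -10, 156, -429, -285, 77, -76, 135, 38, 43, -15, 3])) (.node (.leaf []) (.leaf [31125, -49686, -3876, -11534, -37877, -22138, 22348, 9882, 4444, 5550, 4855, -292, 404, 0, 0, -1]))))) (.node (.node (.node (.node (.leaf [-5, 2, 0, -1, 3, 2, -1, 0, -1]) (.leaf [-6189, 2556, -902, -1903, 3889, 2948, -805, -62, -690, -269, -406, 144, 5, 1])) (.node (.leaf [-26, 32, 43, 8, 13, 25, -29, -1, -8, -2, -5]) (.leaf [0, 0, 1]))) (.node (.node (.leaf []) (.leaf [0, 0, 1])) (.node (.leaf [0, 0, 1]) (.leaf [0, 0, 0, -1, 0, 0, 1])))) (.node (.node (.node (.leaf []) (.leaf [])) (.node (.leaf []) (.leaf [0, 0, 1]))) (.node (.node (.leaf [0, 0, 1]) (.leaf [-662, 1306, 370, 198, 843, 527, -541, -224, -217, -83, -120, -10, 1])) (.node (.leaf [0, 0, 1, 1, 0, 0, -1])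 (.leaf [-263, 238, 150, 30, 173, 185, -167, -17, -48, -24, -30])))))) (.node (.node (.node (.node (.node (.leaf [0, 0, 0, -1, 0, 0, 1]) (.leaf [36335, -618, 8087, 11600, -15789, -19076, 5748, -1272, 62, 722, 655, -118, 260, 0, 0, 1])) (.node (.leaf [2, -2, 0, -1, -2, 0, 1, 0, 1]) (.leaf [0, 0, 1]))) (.node (.node (.leaf [4, 2, 5, 3, -2, -2, -1, 0, -1]) (.leaf [0, 0, 0, -1, 0, 0, 1])) (.node (.leaf [0, 0, 0, -1, 0, 0, 1]) (.leaf [-1093, -168, -4, -464, 315, 643, -231, 97, -9, 26, -30, 1, -1])))) (.node (.node (.node (.leaf []) (.leaf [-24678, 47240, -569, 6683, 36233, 16533, -16100, -10281, -6206, -3369, -3575, -188, -1, 0, -1, 1])) (.node (.leaf [0, 0, 1]) (.leaf [0, 2, 5, 3, 0, 0, -3, 0, -1]))) (.node (.node (.leaf [167, 1356, 844, 596, 387, 192, -554, -224, -202, -102, -135, -14, -1]) (.leaf [-258, 196, 85, -67, 159, 186, -103, -19, -45, -10, -26, 1, 1])) (.node (.leaf []) (.leaf [-439, 346, -322, 31, 499, 137, -98, -96, -15, -62, -27, 24, 3]))))) (.node (.node (.node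 (.node (.leaf [-14, -2, 1, -11, 0, 10, 1, 2, -1]) (.leaf [9528, 14798, 9173, 9113, 1394, -1910, -4819, -3260, -1715, -1251, -1232, -14, 73, 0, 0, 1])) (.node (.leaf [0, 0, 1]) (.leaf []))) (.node (.node (.leaf [0, 0, 1]) (.leaf [-366, 164, 141, -11, 178, 240, -189, 3, -36, -20, -29])) (.node (.leaf [-5, 2, 0, -1, 3, 2, -1, 0, -1]) (.leaf [-744, 544, 306, -509, 235, 617, -50, 2, -195, -23, -50, -6])))) (.node (.node (.node (.leaf [0, 0, 0, -1, 0, 0, 1]) (.leaf [])) (.node (.leaf [-4, -2, -4, -3, 2, 2, 1, 0, 1]) (.leaf [-213, 292, 146, 49, 182, 159, -152, -30, -54, -28, -34]))) (.node (.node (.leaf [0, 0, 1, 1, 0, 0, -1]) (.leaf [-4, 0, -1, -1, 2, 2, -1])) (.node (.leaf [0, -2, -1, 0, 0, 0, 0, 0, 1]) (.leaf [17118, -30682, 7976, -3433, -27579, -8979, 8352, 7713, 3753, 1840, 1845, 162, 28, 0, 0, -1])))))))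

def twoL43 : Janko.Tree (List ℤ) :=
  (.node (.node (.node (.node (.node (.node (.node (.leaf [0, 0, 0, 1]) (.leaf [89, -20, -37, 41, -25, -64, 27, -6, 10, 0, 8, -1])) (.leaf [-1081, 712, 808, -300, 290, 1063, -607, -32, -172, -49, -74, -30, 1])) (.node (.leaf []) (.leaf []))) (.node (.node (.leaf [0, 0, 0, 1]) (.leaf [])) (.node (.leaf [-1526, 700, 921, -271, 482, 1299, -869, -5, -166, -55, -100, -23, -1]) (.leaf [-69241, 390604, 71764, 93809, 228594, 78362, -128222, -85422, -58030, -20252, -29876, -3560, 1838, -1, 1, 1, 1])))) (.node (.node (.node (.leaf []) (.leaf [])) (.node (.leaf []) (.leaf [0, 0, 0, 1]))) (.node (.node (.leaf []) (.leaf [788, 284, -711, 224, 211, -567, 311, -252, 54, 19, 40, -4, 1])) (.node (.leaf []) (.leaf [-50975, -33260, -429, -35065, -2072, 27180, 151, 11832, -446, 3898, 1377, -275, 244, 0, 0, -1]))))) (.node (.node (.node (.node (.leaf []) (.leaf [0, 0, 0, 1])) (.node (.leaf []) (.leaf [30896, -18960, -11853, 2448, -16785, -22267, 15959,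 1256, 3407, 1949, 2887, -65, 46, 1, 0, -1]))) (.node (.node (.leaf []) (.leaf [])) (.node (.leaf [-100, -6, 30, -56, 25, 69, -23, 14, -4, 4, -12, 1]) (.leaf [0, 0, 0, 1])))) (.node (.node (.node (.leaf []) (.leaf [170, -50, -18, 11, -69, -98, 59, -3, 12, 14, 2])) (.node (.leaf []) (.leaf [-12606, 202554, 123512, 121232, 65518, 67622, -122494, -37934, -6064, -31841, -24099, 1766, -3105, 0, 0, 0, -1]))) (.node (.node (.leaf []) (.leaf [-3850, 752, -406, -1610, 1852, 1837, -238, 225, -400, -59, -207, 62, 3])) (.node (.leaf [0, 0, 0, 1]) (.leaf [185, -100, -108, 16, -85, -169, 135, 13, 7, 7, 21, 1, 1])))))) (.node (.node (.node (.node (.node (.leaf [0, 0, 0, 1]) (.leaf [])) (.node (.leaf []) (.leaf [730, -386, -393, 48, -292, -490, 340, -32, 115, 53, 59, -1, -1]))) (.node (.node (.leaf []) (.leaf [0, 0, 0, 1])) (.node (.leaf [0, 0, 0, 1]) (.leaf [-955, 26, 62, -348, 335, 577, -241, 59, -40, 5, -38, 1])))) (.node (.node (.node (.leaf []) (.leaf [-129, 68, 32, 31, 63, 103,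 -99, -19, -4, -11, 6, -6])) (.node (.leaf []) (.leaf [4390, -4348, -806, 905, -3305, -3075, 1507, 533, 774, 412, 535, -73, -7, -1]))) (.node (.node (.leaf [-343, 1028, 1030, 346, 283, 478, -621, -68, -218, -86, -127, -14, -1]) (.leaf [0, 0, 0, 1])) (.node (.leaf []) (.leaf [-1345, 706, 180, -171, 795, 863, -565, -82, -115, -84, -93, 18, 3]))))) (.node (.node (.node (.node (.leaf []) (.leaf [0, 0, 0, 1])) (.node (.leaf [-156, 60, -74, -38, 149, 65, -43, -22, -8, 7, -8, 1]) (.leaf [70, -12, -35, 40, -21, -53, 24, -5, 8, -4, 8, -1]))) (.node (.node (.leaf []) (.leaf [-106303, -812420, -302280, -346166, -310733, -86651, 296461, 180167, 90088, 63867, 67777, 3900, 411, 1, -1, -1, -1])) (.node (.leaf []) (.leaf [0, 0, 0, 1])))) (.node (.node (.node (.leaf [0, 0, 0, 1]) (.leaf [])) (.node (.leaf []) (.leaf [0, 0, 0, 1]))) (.node (.node (.leaf [0, 0, 0, 1]) (.leaf [0, 0, 0, 1])) (.node (.leaf [0, 0, 0, 1]) (.leaf [0, 0, 0, 1])))))))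

def twoL44 : Janko.Tree (List ℤ) :=
  (.node (.node (.node (.node (.node (.node (.node (.leaf []) (.leaf [87, -20, -38, 40, -24, -63, 27, -6, 10, 0, 8, -1])) (.leaf [])) (.node (.leaf [-5, 2, -3, -4, 3, 4, 0, -1]) (.leaf [0, 0, -1, 0, 1]))) (.node (.node (.leaf [0, 6, -5, -1, 5, 1, 0, -3]) (.leaf [-10249, 10044, 2923, 599, 8331, 6503, -5294, -1128, -1756, -984, -1234, 70, 10, 0, -1])) (.node (.leaf [1]) (.leaf [51995, 119954, 70652, 30077, 23002, -12151, -19030, -20443, -30122, -1206, -9964, -1016, 2774, 0, 0, 1, 1])))) (.node (.node (.node (.leaf [111, -48, -16, -36, -62, -48, 58, 1, 12, 12, -2, 1]) (.leaf [156, -66, -90, 47, -49, -118, 63, -9, 23, 4, 15])) (.node (.leaf [2, 0, 0, 1, 0, -1]) (.leaf [-297, -212, 125, -241, -116, 236, -27, 81, 1, 16, 8]))) (.node (.node (.leaf [1, 0, 1, 0, -1]) (.leaf [1131, 104, -1143, 213, 195, -958, 647, -255, 82, 53, 72, -1, -3])) (.node (.leaf [1, 0, 1, 0, -1]) (.leaf [1]))))) (.node (.node (.node (.node (.leaf [1, 0, 0, 1, 0,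 -1]) (.leaf [-6248, 2594, -915, -1921, 3938, 2990, -829, -75, -693, -269, -409, 144, 5, 1])) (.node (.leaf [3, 0, 1, 1, -1, -1]) (.leaf [79, -78, -48, 4, -50, -62, 46, 7, 16, 6, 10]))) (.node (.node (.leaf [1]) (.leaf [2, 0, 0, 1, 0, -1])) (.node (.leaf [-103343, 158362, -14246, -11687, 131950, 57521, -35742, -31682, -32089, -5500, -10364, -1018, 1472, -1, 1, 1, 1]) (.leaf [-696, 500, 396, 27, 354, 475, -378, 4, -136, -54, -56, -14, 6, 0, -1])))) (.node (.node (.node (.leaf [0, 0, 0, -1, 0, 1]) (.leaf [1, 0, 1, 0, -1])) (.node (.leaf [928, 258, -7, 710, -77, -630, 4, -126, 22, -42, 17, -1, 1]) (.leaf [14476, -346956, -50123, -109155, -194038, -40510, 106369, 81836, 44768, 19772, 25226, 2974, -1098, 0, 0, 0, -1]))) (.node (.node (.leaf [2, 0, 0, 1, 0, -1]) (.leaf [0, 0, -1, 0, 1])) (.node (.leaf [-219, 124, 148, -70, 67, 181, -95, 6, -40, -8, -20]) (.leaf [-279, 240, 138, 12, 179, 193, -157, -16, -50, -24, -30])))))) (.node (.node (.node (.node (.node (.leaf []) (.leaf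 [6012, 14182, 8538, 7222, 2306, -36, -4922, -2924, -1814, -1210, -1221, 4, 74, 0, 0, 1])) (.node (.leaf [-2, 0, -1, -1, 1, 1]) (.leaf [1, 0, 0, 1, 0, -1]))) (.node (.node (.leaf [-2, 0, -1, -1, 1, 1]) (.leaf [1])) (.node (.leaf [-241, 82, 135, -71, 68, 176, -93, 20, -34, -6, -21]) (.leaf [1, -2, -6, -8, -3, -1, 9, 1, -1, 0, 1])))) (.node (.node (.node (.leaf [394, -90, -150, 109, -125, -234, 119, -36, 52, 10, 26, -7]) (.leaf [1])) (.node (.leaf [37, -22, -9, -14, -17, -22, 22, 2, 4, 6, -2, 1]) (.leaf [0, 0, -1, 0, 1]))) (.node (.node (.leaf [1, 6, -4, -1, 4, 1, 0, -3]) (.leaf [])) (.node (.leaf [1]) (.leaf [67627, 143334, 106496, 118159, 10243, 12420, -79247, -30013, 403, -24167, -16391, 1259, -2758, 0, 0, -1, -1]))))) (.node (.node (.node (.node (.leaf [-553, 142, 210, -137, 189, 338, -187, 42, -70, -14, -36, 7]) (.leaf [-22, 20, 11, 4, 3, 16, -6, 1, -4, -8, 0, 1])) (.node (.leaf []) (.leaf [1]))) (.node (.node (.leaf [2, 0, 0, 1, 0, -1]) (.leaf [])) (.node (.leaf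 [1, 0, 0, 1, 0, -1]) (.leaf [-121211, 23546, -44916, -1066, 71552, 67394, -37804, -6407, 12924, -12518, -4028, 1568, -3312, 0, 0, -1, -1])))) (.node (.node (.node (.leaf [9, -2, 5, 5, -5, -5, 0, 1]) (.leaf [0, 0, -1, 0, 1])) (.node (.leaf [-2, 0, -1, -1, 1, 1]) (.leaf [3, -2, 3, 1, -3, -1, 0, 1]))) (.node (.node (.leaf [1, -6, 5, 1, -5, -1, 0, 3]) (.leaf [-2, 0, -1, -1, 1, 1])) (.node (.leaf [0, 0, 0, -1, 0, 1]) (.leaf [4935, -6924, -2486, 234, -4181, -4113, 2747, 916, 1164, 638, 816, -52, -20, -1])))))))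

def twoL45 : Janko.Tree (List ℤ) :=
  (.node (.node (.node (.node (.node (.node (.node (.leaf [0, 1]) (.leaf [-3, 0, -3, -1, 3, 0, 1, 0, 0, 0, 0, 1])) (.leaf [0, 1])) (.node (.leaf []) (.leaf []))) (.node (.node (.leaf [0, 1]) (.leaf [758, -401, -427, 103, -286, -540, 343, -32, 118, 50, 68, -2, -1])) (.node (.leaf []) (.leaf [0, 1])))) (.node (.node (.node (.leaf [-20, -1, 0, -10, 2, 10, 2, 4, -2, -1]) (.leaf [215939, -307880, -41735, -95100, -240007, -170996, 181420, 65750, 13942, 38157, 31910, -128, 4309, 0, 0, 0, 1])) (.node (.leaf [484, -666, -321, -49, -401, -399, 330, 78, 115, 60, 81, -1]) (.leaf [114014, -21715, 18172, 42000, -60039, -63887, 22727, 1667, 7387, -1444, 2224, 1065, -41, 1, 0, -1, -1]))) (.node (.node (.leaf []) (.leaf [])) (.node (.leaf []) (.leaf [124880, -230340, -9841, -90412, -177499, -104824, 128844, 56480, 3517, 29177, 21977, 265, 3754, -1, 1, 0, 1]))))) (.node (.node (.node (.node (.leaf []) (.leaf [])) (.node (.leaf []) (.leaf [-476, 659,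 329, 57, 395, 395, -336, -77, -113, -59, -81, 1]))) (.node (.node (.leaf []) (.leaf [])) (.node (.leaf [0, 1]) (.leaf [-23958, 17185, -1338, -1916, 18380, 14306, -8658, -2626, -2200, -1936, -1900, 162, -92, 1, -1])))) (.node (.node (.node (.leaf []) (.leaf [-23338, 35789, 9080, 7696, 24567, 18539, -18143, -6313, -3778, -4015, -3757, 186, -217, 0, -1, 1])) (.node (.leaf []) (.leaf [0, 1]))) (.node (.node (.leaf []) (.leaf [10150, -15872, -80, -1720, -12519, -6347, 5371, 2973, 2175, 1404, 1440, -55, -1, -1, 1])) (.node (.leaf [0, 1]) (.leaf [])))))) (.node (.node (.node (.node (.node (.leaf [0, 1]) (.leaf [])) (.node (.leaf [-2, 18, -27, 7, 20, -10, 9, -6, -2, -2, 2, 0, -1]) (.leaf []))) (.node (.node (.leaf [-880, -352, -209, -687, 102, 546, 59, 110, 21, 40, 4, 2, -1]) (.leaf [])) (.node (.leaf []) (.leaf [])))) (.node (.node (.node (.leaf []) (.leaf [])) (.node (.leaf [0, 2, 0, 2, 0, 0, 0, 0, 0, -1]) (.leaf [10476, -13694, -4712, -978, -9301, -7965, 6523, 1876, 2176,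 1292, 1585, -66, -16, -1, 1]))) (.node (.node (.leaf []) (.leaf [0, 1])) (.node (.leaf [154, -1, -55, 11, -48, -104, 85, -11, 2, -1, 6, 4, 1]) (.leaf [0, 1]))))) (.node (.node (.node (.node (.leaf []) (.leaf [0, 1])) (.node (.leaf [0, 1]) (.leaf [-89590, 150276, -15132, -7952, 124513, 47089, -31021, -30351, -31021, -4660, -9708, -947, 1549, -1, 0, 1, 1]))) (.node (.node (.leaf []) (.leaf [0, 1])) (.node (.leaf [-1484, 711, 185, -375, 800, 880, -429, -38, -219, -39, -60, 0, 1]) (.leaf [0, 1])))) (.node (.node (.node (.leaf []) (.leaf [])) (.node (.leaf [-806, 263, 215, -379, 256, 594, -185, 26, -94, -14, -48, 0, -1]) (.leaf []))) (.node (.node (.leaf [0, 1]) (.leaf [-750, 90, -143, -401, 306, 472, -69, 4, -32, 0, -16, -2, 1])) (.node (.leaf []) (.leaf [0, 1])))))))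

def twoL46 : Janko.Tree (List ℤ) :=
  (.node (.node (.node (.node (.node (.node (.node (.leaf []) (.leaf [-19, 9, 7, -6, 5, 16, -6, 1, -1, -2, -1])) (.leaf [])) (.node (.leaf [0, 0, 1, 1, 0, 0, -1]) (.leaf [0, 0, 1]))) (.node (.node (.leaf []) (.leaf [0, 0, 0, -1, 0, 0, 1])) (.node (.leaf [29820, -380, 8862, 8868, -14011, -14761, 4181, -897, -273, 734, 504, -131, 253, 0, 0, 1]) (.leaf [88, -1988, -1148, -1330, -991, -201, 1159, 324, 250, 186, 234, -6, 6])))) (.node (.node (.node (.leaf [0, 0, 1, 1, 0, 0, -1]) (.leaf [0, 0, 0, -1, 0, 0, 1])) (.node (.leaf [-4, 0, -1, -1, 2, 2, -1]) (.leaf [-142, 132, 98, -59, 59, 133, -58, -9, -33, -8, -16]))) (.node (.node (.leaf [0, 0, 1]) (.leaf [6, -14, -1, 1, -10, -9, 8, 5, 1, 0, 1])) (.node (.leaf [0, 0, 1]) (.leaf [-378, 134, 227, -124, 95, 284, -142, 31, -57, -9, -32, 1, -1]))))) (.node (.node (.node (.node (.leaf [-10, 2, -2, -6, 4, 6, 0, 0, -1]) (.leaf [71, -20, 32, 27, -49, -33, 6, 4, 5, 0, 1])) (.node (.leaf [0, 0, 0, -1,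 0, 0, 1]) (.leaf [30510, -18596, -11406, 2433, -16677, -21825, 15632, 1238, 3345, 1911, 2835, -77, 46, 1, 0, -1]))) (.node (.node (.leaf [-490, -222, 60, -280, 49, 173, 7, 124, -65, 37, 2, 8, 5]) (.leaf [-4, 0, -1, -1, 2, 2, -1])) (.node (.leaf [5, -4, -2, 0, -3, -2, 2, 0, 2]) (.leaf [0, -2, -2, 0, 0, 0, 0, 0, 1])))) (.node (.node (.node (.leaf [-5, 2, 1, 0, 3, 2, -2, 0, -1]) (.leaf [0, 0, 1])) (.node (.leaf [0, 0, 1]) (.leaf [-425, 336, -332, 41, 495, 123, -94, -96, -12, -62, -25, 24, 3]))) (.node (.node (.leaf [-4, 0, -1, -1, 2, 2, -1]) (.leaf [0, 0, 1])) (.node (.leaf [-217, 100, 130, -64, 68, 169, -93, 8, -34, -6, -18]) (.leaf [0, 0, 1])))))) (.node (.node (.node (.node (.node (.leaf []) (.leaf [0, 0, 1])) (.node (.leaf [0, 0, 0, -1, 0, 0, 1]) (.leaf [268, -314, -104, -21, -198, -210, 153, 42, 49, 39, 27, 1, -1]))) (.node (.node (.leaf [0, 0, 0, -1, 0, 0, 1]) (.leaf [232, -290, -146, -43, -188, -170, 157, 28, 54, 28, 35])) (.node (.leaf [4, 2, 6, 3, -1, -1, -2,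 0, 0, 0, -1]) (.leaf [0, 0, 1])))) (.node (.node (.node (.leaf [0, 0, 1]) (.leaf [990, -346, -546, 234, -321, -821, 555, -2, 89, 11, 70, 8, -3])) (.node (.leaf [0, 0, 1, 1, 0, 0, -1]) (.leaf [0, 0, 1]))) (.node (.node (.leaf [0, 0, 1]) (.leaf [])) (.node (.leaf []) (.leaf [-276, 1212, -73, 221, 745, 207, -210, -264, -143, -127, -90, 16, 2]))))) (.node (.node (.node (.node (.leaf [0, 0, 0, -1, 0, 0, 1]) (.leaf [14516, 17192, 11770, 11456, 308, -4468, -4890, -3796, -2455, -1120, -1296, -86, 157, 0, 0, 1])) (.node (.leaf []) (.leaf [-2033, -342, -382, -994, 595, 998, -56, 217, -49, 6, -23, 26, -6]))) (.node (.node (.leaf [-4, 0, -1, -1, 2, 2, -1]) (.leaf [])) (.node (.leaf [452, 1058, 276, 687, 464, -176, -391, -296, -107, -51, -66, -8, -1]) (.leaf [0, -2, -2, -1, 0, 0, 1, 0, 1])))) (.node (.node (.node (.leaf [82, -116, -102, 59, -13, -114, 35, 8, 25, 10, 15]) (.leaf [0, 0, 1])) (.node (.leaf [0, 0, 0, -1, 0, 0, 1]) (.leaf [44454, -55512, -5708, -5069, -46059, -30131,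 26144, 10510, 7605, 4189, 5113, 245, 94, 1, 0, -1]))) (.node (.node (.leaf []) (.leaf [0, 0, 0, -1, 0, 0, 1])) (.node (.leaf [-1, 2, 1, 0, 1, 0, 0, 0, -1]) (.leaf [1964, 1472, 5114, 2043, -1826, 106, -1619, 380, -314, -317, -537, 35, 17, 0, 0, -1])))))))

def twoL47 : Janko.Tree (List ℤ) :=
  (.node (.node (.node (.node (.node (.node (.node (.leaf []) (.leaf [4, 0, 0, 3, -1, -3, 1, 0, 0, 0, 1])) (.leaf [])) (.node (.leaf [0, 0, 0, 1]) (.leaf [160, -40, -55, 15, -55, -107, 74, -7, 11, 8, 7, 1]))) (.node (.node (.leaf []) (.leaf [0, 0, 0, 1])) (.node (.leaf []) (.leaf [134, -1992, -1200, -1318, -985, -233, 1176, 310, 260, 188, 238, -6, 6])))) (.node (.node (.node (.leaf [0, 0, 0, 1]) (.leaf [0, 0, 0, 1])) (.node (.leaf [0, 0, 0, 1]) (.leaf [0, 0, 0, 1]))) (.node (.node (.leaf []) (.leaf [0, 0, 0, 1])) (.node (.leaf []) (.leaf [-70, 8, 37, -38, 19, 52, -24, 7, -8, 4, -8, 1]))))) (.node (.node (.node (.node (.leaf [0, 0, 0, 1]) (.leaf [0, 0, 0, 1])) (.node (.leaf [0, 0,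 0, 1]) (.leaf [0, 0, 0, 1]))) (.node (.node (.leaf [-561, -208, 106, -307, 64, 229, -25, 130, -72, 37, -6, 10, 5]) (.leaf [0, 0, 0, 1])) (.node (.leaf [64781, 74146, 142732, 20885, -39234, 5840, -35736, -4672, -28689, 4284, -8218, -2804, 3026, -1, 1, 1, 1]) (.leaf [0, 0, 0, 1])))) (.node (.node (.node (.leaf [0, 0, 0, 1]) (.leaf [])) (.node (.leaf [959, -32, -62, 351, -337, -579, 239, -59, 42, -4, 38, -1]) (.leaf [-425, 336, -334, 41, 495, 123, -93, -96, -12, -62, -25, 24, 3]))) (.node (.node (.leaf [0, 0, 0, 1]) (.leaf [-70, 12, 34, -40, 21, 53, -23, 5, -8, 4, -8, 1])) (.node (.leaf []) (.leaf [21140, -16040, 27151, 4892, -28719, -7581, 1349, 7514, 333, -167, -497, 563, 274, 1, 0, -1])))))) (.node (.node (.node (.node (.node (.leaf []) (.leaf [])) (.node (.leaf [0, 0, 0, 1]) (.leaf [0, 0, 0, 1]))) (.node (.node (.leaf [0, 0, 0, 1]) (.leaf [])) (.node (.leaf [0, 0, 0, 1]) (.leaf [-6550, 2672, -645, -1940, 4015, 3228, -1044, -48, -726, -267, -440, 142, 3, 1])))) (.node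 (.node (.node (.leaf [579, -130, 5, 161, -286, -255, 93, -30, 70, 14, 24, -13]) (.leaf [-275, 46, 9, -56, 86, 182, -83, 4, -10, -16, 4, -5])) (.node (.leaf [0, 0, 0, 1]) (.leaf []))) (.node (.node (.leaf []) (.leaf [])) (.node (.leaf [-72, 10, 35, -39, 21, 53, -24, 6, -8, 4, -8, 1]) (.leaf [-74201, 233312, -48518, 110561, 186137, 47409, -90383, -62976, -2256, -30996, -17631, 934, -3731, 0, 0, 0, -1]))))) (.node (.node (.node (.node (.leaf [0, 0, 0, 1]) (.leaf [-88, 40, 49, -26, 21, 71, -34, 3, -10, -8, -8, 3])) (.node (.leaf []) (.leaf []))) (.node (.node (.leaf [0, 0, 0, 1]) (.leaf [])) (.node (.leaf [0, 0, 0, 1]) (.leaf [-1012, 570, 640, -353, 289, 795, -348, 52, -208, -41, -82, -6])))) (.node (.node (.node (.leaf [0, 0, 0, 1]) (.leaf [])) (.node (.leaf [0, 0, 0, 1]) (.leaf [0, 0, 0, 1]))) (.node (.node (.leaf []) (.leaf [0, 0, 0, 1])) (.node (.leaf [0, 0, 0, 1]) (.leaf [5035, -6900, -2550, 280, -4175, -4180, 2777, 894, 1176, 634, 818, -52, -20, -1])))))))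

def twoL48 : Janko.Tree (List ℤ) :=
  (.node (.node (.node (.node (.node (.node (.node (.leaf [-2, 0, -1, -1, 1, 1]) (.leaf [5, 0, 1, 3, -2, -3, 1, 0, 0, 0, 1])) (.leaf [895, 176, 107, 384, -264, -497, 145, -78, -6, -15, 12, -1])) (.node (.leaf [1]) (.leaf [1320, 342152, 73902, 118146, 177106, 36550, -111884, -78788, -45168, -19740, -25714, -2986, 1320, -1, 1, 1, 1]))) (.node (.node (.leaf [0, 0, -1, 0, 1]) (.leaf [-464, 2604, 682, 1171, 1593, 1096, -1779, -820, -51, -129, -187, -105, -10, 0, -1])) (.node (.leaf [-37495, 56264, 10115, 12464, 41098, 28001, -27625, -10315, -5647, -6286, -5750, 263, -397, 0, 0, 1]) (.leaf [1])))) (.node (.node (.node (.leaf [2, -2, 1, 2, -1, -2, 0, 1]) (.leaf [223605, -240876, -18541, -70984, -212228, -165513, 159689, 51182, 4469, 34213, 26383, -497, 4688, 0, 0, 1, 1])) (.node (.leaf []) (.leaf [-53127, 61222, 2896, 4306, 53413, 35345, -28895, -11717, -7581, -5024, -5935, -163, -191, 0, 0, -1]))) (.node (.node (.leaf [-1, 0, 0, -1, 0,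 1]) (.leaf [2, -8, 9, 1, -9, -1, 0, 4])) (.node (.leaf [-1, 0, 0, -1, 0, 1]) (.leaf [-85, -1706, -772, -624, -564, -398, 696, 359, 185, 155, 146, 19, -11]))))) (.node (.node (.node (.node (.leaf []) (.leaf [173861, -148286, 43425, -20768, -163768, -106445, 81605, 35246, 2526, 20165, 13567, -637, 3276, 0, 0, 1, 1])) (.node (.leaf [-108, 64, -33, -58, 89, 72, -20, -17, -8, 2, -10, 1]) (.leaf [295, -244, -147, -16, -188, -205, 173, 17, 49, 24, 32]))) (.node (.node (.leaf [-6, 2, -3, -5, 3, 5, 0, -1]) (.leaf [])) (.node (.leaf [-96, -6, 25, -55, 26, 68, -23, 12, -2, 4, -12, 1]) (.leaf [3, 0, 1, 1, -1, -1])))) (.node (.node (.node (.leaf []) (.leaf [241, -90, -42, 30, -105, -153, 91, 1, 20, 16, 8])) (.node (.leaf [106, -32, -50, 32, -31, -77, 41, -6, 13, 2, 7]) (.leaf [-10713, 201508, 122827, 121840, 64785, 66192, -121928, -37967, -5820, -31695, -23915, 1750, -3107, 0, 0, 0, -1]))) (.node (.node (.leaf []) (.leaf [-148106, -129154, -224477, -132273, 88592, -9110, 88375,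 17133, 1843, 25607, 19097, -1918, 2815, -1, 1, 1, 1])) (.node (.leaf [3, 0, 1, 1, -1, -1]) (.leaf [-221, 218, 105, 7, 148, 142, -103, -10, -51, -25, -25, 1, 1])))))) (.node (.node (.node (.node (.node (.leaf [1]) (.leaf [1, 0, 0, 1, 0, -1])) (.node (.leaf [1]) (.leaf [0, 2, -3, 0, 3, 0, 0, -1]))) (.node (.node (.leaf [-14, -2, -6, -7, 6, 7, 0, 1]) (.leaf [1, 0, 0, 1, 0, -1])) (.node (.leaf []) (.leaf [-725, -592, -217, -857, -142, 448, 255, 166, 10, 77, 43, 1, -1])))) (.node (.node (.node (.leaf [-7, -2, -1, -4, 1, 4, 0, 1]) (.leaf [-62, 10, 35, -36, 20, 47, -23, 5, -8, 5, -8, 1])) (.node (.leaf [-6, -4, -1, -2, 1, 2, 0, 2]) (.leaf [2, 0, 0, 1, 0, -1]))) (.node (.node (.leaf [3, 6, -3, 0, 3, 0, 0, -3]) (.leaf [15, -4, -3, -2, -10, -7, 9, 0, 1, 0, 1])) (.node (.leaf [1, 0, 1, 0, -1]) (.leaf [-23113, 211812, 57348, 113418, 98442, 56016, -100030, -47270, -3472, -32816, -20462, 2060, -3946, 0, -1, 0, -1]))))) (.node (.node (.node (.node (.leaf [-75, 78, 43, -2, 51, 56,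 -42, -7, -17, -6, -9]) (.leaf [-6787, -768, -4546, -3727, 3615, 2748, 483, -101, -85, 270, 322, -9, -13, 0, 0, 1])) (.node (.leaf [1]) (.leaf [1, 0, 0, 1, 0, -1]))) (.node (.node (.leaf []) (.leaf [1])) (.node (.leaf [-55, 28, 36, -12, 19, 43, -27, 2, -9, -2, -5]) (.leaf [-8975, 155666, 88067, 89407, 51837, 52369, -90936, -30645, -3880, -23622, -17888, 918, -2716, 0, 0, -1, -1])))) (.node (.node (.node (.leaf []) (.leaf [2, 0, 0, 1, 0, -1])) (.node (.leaf [13, 4, 4, 5, -4, -5, 0, -2]) (.leaf [567, -502, -318, -5, -343, -410, 315, 27, 107, 52, 67, -1, -1]))) (.node (.node (.leaf [0, 0, -1, 0, 1]) (.leaf [-4, -4, 1, -2, -1, 2, 0, 2])) (.node (.leaf []) (.leaf [485, 924, -291, 383, 497, -233, -42, -320, -50, -44, -38, -16, 6, 0, -1])))))))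

def twoL49 : Janko.Tree (List ℤ) :=
  (.node (.node (.node (.node (.node (.node (.node (.leaf []) (.leaf [-5, 0, 0, -2, 2, 3, 0, 1])) (.leaf [-49084, -69467, 30222, -22644, -39967, 40067, -13983, 22958, 13083, -1209, 413, 1121, -1632, 1, -1, 0, -1])) (.node (.leaf []) (.leaf [0, 1]))) (.node (.node (.leaf []) (.leaf [])) (.node (.leaf []) (.leaf [-218, -17, 61, -181, -4, 168, -1, 29, -25, 8, -2, 0, -1])))) (.node (.node (.node (.leaf [0, 1]) (.leaf [0, 1])) (.node (.leaf [0, 1]) (.leaf [0, 1]))) (.node (.node (.leaf [-8, 6, -8, -2, 8, 4, 0, -2, 0, -1]) (.leaf [0, 1])) (.node (.leaf [-2, -1, -2, -2, 2, 0, 0, 0, 0, 1]) (.leaf [2270, -1306, 201, 986, -1384, -1341, 187, 72, 275, 149, 222, -66, 1, -1]))))) (.node (.node (.node (.node (.leaf [0, 1]) (.leaf [0, 1])) (.node (.leaf [0, 1]) (.leaf [0, 1]))) (.node (.node (.leaf [0, 1]) (.leaf [0, 1])) (.node (.leaf []) (.leaf [-26544, 17331, 1646, -2564, 18407, 16171, -10035, -1950, -2648, -1920, -2281, 214, -80, 1, -1]))))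 (.node (.node (.node (.leaf [0, 1]) (.leaf [0, 2, 0, 2, 0, 0, 0, 0, 0, -1])) (.node (.leaf [0, 1]) (.leaf []))) (.node (.node (.leaf [0, 1]) (.leaf [0, 1])) (.node (.leaf []) (.leaf [-5269, 4171, 607, -1216, 3602, 3440, -1564, -427, -783, -421, -545, 86, 5, 1])))))) (.node (.node (.node (.node (.node (.leaf []) (.leaf [0, -1, 0, -2, 0, 0, 0, 0, 0, 1])) (.node (.leaf [1371, 270, 136, 647, -345, -690, 105, -157, 48, -14, 5, -16, -1]) (.leaf [0, 1]))) (.node (.node (.leaf []) (.leaf [-204, 451, 171, 103, 268, 164, -191, -64, -73, -37, -50, 0, -1])) (.node (.leaf [0, 1]) (.leaf [-6674, 2501, -706, -2046, 3999, 3287, -1033, -13, -698, -249, -435, 142, 3, 1])))) (.node (.node (.node (.leaf [0, 1]) (.leaf [221316, -280674, -42556, -79844, -224898, -173358, 174270, 58406, 12409, 35331, 30056, 8, 4127, -1, 0, 1, 1])) (.node (.leaf []) (.leaf []))) (.node (.node (.leaf []) (.leaf [0, 1])) (.node (.leaf []) (.leaf []))))) (.node (.node (.node (.node (.leaf []) (.leaf [-2322,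 -98, -511, -857, 960, 1062, -229, 146, -91, -9, -18, 22, -1])) (.node (.leaf []) (.leaf [2488, 1142, 1531, 191, -824, -1176, 441, -198, -661, 263, 16, -62, 71]))) (.node (.node (.leaf [0, 1]) (.leaf [])) (.node (.leaf [0, 1]) (.leaf [])))) (.node (.node (.node (.leaf [0, 1]) (.leaf [-224, 213, 119, 1, 151, 167, -130, -17, -39, -20, -31, 1])) (.node (.leaf []) (.leaf [0, 1]))) (.node (.node (.leaf []) (.leaf [])) (.node (.leaf [0, 1]) (.leaf [0, 1])))))))

def twoL50 : Janko.Tree (List ℤ) :=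
  (.node (.node (.node (.node (.node (.node (.node (.leaf [0, 0, 0, -1, 0, 0, 1]) (.leaf [-5, 0, 0, -2, 2, 3, 0, 1])) (.leaf [0, 0, 0, -1, 0, 0, 1])) (.node (.leaf []) (.leaf [45035, 371590, 106213, 141438, 163975, 20161, -115107, -83225, -50435, -22558, -28889, -2472, 1784, -1, 1, 1, 1]))) (.node (.node (.leaf [0, 0, 1]) (.leaf [4, -2, -2, 0, -2, -2, 2, 0, 1])) (.node (.leaf [0, 0, 1]) (.leaf [])))) (.node (.node (.node (.leaf [82, -92, -79, 46, -21, -102, 40, 8, 17, 8, 13]) (.leaf [])) (.node (.leaf [6, -6, 4, 3, -6, -4, 1, 2, 1]) (.leaf [-33593, 1330, -7952, -9990, 15388, 17303, -5449, 1003, -53, -806, -683, 131, -257, 0, 0, -1]))) (.node (.node (.leaf [0, 0, 1, 1, 0, 0, -1]) (.leaf [16, -22, -17, 9, -5, -23, 10, 3, 3, 2, 3])) (.node (.leaf [0, 0, 1, 1, 0, 0, -1]) (.leaf [0, 0, 1]))))) (.node (.node (.node (.node (.leaf [690, -582, -70, 296, -504, -490, 196, 104, 140, -2, 48, 0, 1]) (.leaf [])) (.node (.leaf []) (.leaf [313, -160, -141, 2, -155, -205, 167, -3, 39,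 18, 26]))) (.node (.node (.leaf []) (.leaf [106, -444, -329, 6, -147, -117, 129, 52, 163, -15, 16, 11, -5])) (.node (.leaf [0, 0, 0, -1, 0, 0, 1]) (.leaf [0, 0, 0, -1, 0, 0, 1])))) (.node (.node (.node (.leaf [518, -702, -391, -61, -408, -430, 367, 76, 131, 57, 82, 2, 3]) (.leaf [0, 0, 1, 1, 0, 0, -1])) (.node (.leaf [-58, 36, 34, -10, 26, 41, -27, 0, -11, -2, -5]) (.leaf [0, 0, 0, -1, 0, 0, 1]))) (.node (.node (.leaf [2, 2, 3, 3, 0, -2, -1, 0, -1]) (.leaf [-135446, -129928, -225167, -131873, 83165, -17420, 94969, 17242, 1238, 25919, 19322, -1714, 2957, -1, 1, 1, 1])) (.node (.leaf [0, 0, 0, -1, 0, 0, 1]) (.leaf [26094, -17640, -10246, 1097, -15189, -18773, 14056, 1360, 2985, 1861, 2665, -91, 40, 1, 0, -1])))))) (.node (.node (.node (.node (.node (.leaf []) (.leaf [0, 0, 1, 1, 0, 0, -1])) (.node (.leaf [-5, 2, 0, -1, 3, 2, -1, 0, -1]) (.leaf [-23, 20, 18, -6, 9, 25, -15, -2, -3, -2, -3]))) (.node (.node (.leaf [0, 0, 1]) (.leaf [-72, 58, 52, -73, 2, 78, 7, 8, -19,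 -7, -12, 0, 1])) (.node (.leaf []) (.leaf [-4590, 1208, -568, -2067, 2265, 2458, -327, 110, -422, -113, -260, 84, -3, 1])))) (.node (.node (.node (.leaf []) (.leaf [0, 0, 0, -1, 0, 0, 1])) (.node (.leaf [-91, 30, 38, -16, 35, 61, -41, 3, -11, -2, -5]) (.leaf [-4, 0, -1, -1, 2, 2, -1]))) (.node (.node (.leaf [0, 0, 1, 1, 0, 0, -1]) (.leaf [15, 0, -3, 4, -5, -9, 5, -2, 1, 0, 1])) (.node (.leaf [0, 0, 1]) (.leaf [0, 0, 1]))))) (.node (.node (.node (.node (.leaf [0, 0, 1]) (.leaf [-2408, -42, -426, -879, 982, 1150, -287, 146, -103, -13, -30, 22, -1])) (.node (.leaf [-5, 2, 0, -1, 3, 2, -1, 0, -1]) (.leaf [4204, 1202, 1934, 969, -1512, -2124, 611, -272, -669, 267, 68, -80, 85]))) (.node (.node (.leaf [2, -2, 0, -1, -2, 0, 1, 0, 1]) (.leaf [5, -26, 20, -2, -23, -3, 1, 10, 0, 2, 1])) (.node (.leaf [2, -6, 19, -2, -13, 7, -5, 3, 1, 0, -1]) (.leaf [-1842, 1256, 906, -563, 777, 1437, -672, -20, -347, -97, -160, -6, 2])))) (.node (.node (.node (.leaf []) (.leaf [-4, 0, -1, -1,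 2, 2, -1])) (.node (.leaf [0, 0, 1]) (.leaf [272, -266, -187, 13, -152, -212, 147, 10, 60, 28, 37, -1, -1]))) (.node (.node (.leaf [0, 0, 1]) (.leaf [-167, 54, 74, -48, 53, 111, -55, 13, -25, -4, -11])) (.node (.leaf [212, 242, 343, 47, -68, -64, -31, -16, -111, 23, -18, -6, 7]) (.leaf [-528328, -2879366, -1516466, -1379757, -835796, -362164, 1190855, 588995, 308122, 262868, 267033, 7116, 5549, 0, 0, 0, 1])))))))

def twoL51 : Janko.Tree (List ℤ) :=
  (.node (.node (.node (.node (.node (.node (.node (.leaf [0, 0, 0, 1]) (.leaf [-21, 0, -6, -10, 5, 12, 2, 2, 0, -2, 0, 1])) (.leaf [0, 0, 0, 1])) (.node (.leaf []) (.leaf [-107911, -128284, -203432, -122597, 64486, -27140, 95514, 18362, 220, 25592, 18448, -1528, 3048, -1, 1, 1, 1]))) (.node (.node (.leaf [-1192, 718, 659, -376, 423, 913, -423, 28, -236, -52, -94, -6, 1]) (.leaf [0, 0, 0, 1])) (.node (.leaf []) (.leaf [])))) (.node (.node (.node (.leaf []) (.leaf [])) (.node (.leaf []) (.leaf []))) (.node (.node (.leaf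 [0, 0, 0, 1]) (.leaf [])) (.node (.leaf [0, 0, 0, 1]) (.leaf [-195, 1854, 988, 572, 627, 613, -819, -335, -242, -174, -167, -20, 11]))))) (.node (.node (.node (.node (.leaf [632, -922, -68, 182, -674, -474, 247, 192, 180, 22, 66, 0, 1]) (.leaf [])) (.node (.leaf [-220, 120, 55, -68, 113, 167, -84, -11, -22, -8, -20, 1]) (.leaf []))) (.node (.node (.leaf []) (.leaf [])) (.node (.leaf [0, 0, 0, 1]) (.leaf [0, 0, 0, 1])))) (.node (.node (.node (.leaf [-384, -268, -4, -248, 14, 90, 55, 120, -50, 39, 12, 8, 5]) (.leaf [0, 0, 0, 1])) (.node (.leaf []) (.leaf [0, 0, 0, 1]))) (.node (.node (.leaf []) (.leaf [-135446, -129928, -225167, -131871, 83165, -17420, 94968, 17242, 1238, 25919, 19322, -1714, 2957, -1, 1, 1, 1])) (.node (.leaf [0, 0, 0, 1]) (.leaf [0, 0, 0, 1])))))) (.node (.node (.node (.node (.node (.leaf []) (.leaf [0, 0, 0, 1])) (.node (.leaf []) (.leaf [2675, 192, -374, 972, -581, -1457, 463, -352, 180, 41, 65, -31, 1]))) (.node (.node (.leaf []) (.leaf [0, 0, 0,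 1])) (.node (.leaf []) (.leaf [0, 0, 0, 1])))) (.node (.node (.node (.leaf []) (.leaf [0, 0, 0, 1])) (.node (.leaf [0, 0, 0, 1]) (.leaf [0, 0, 0, 1]))) (.node (.node (.leaf [0, 0, 0, 1]) (.leaf [])) (.node (.leaf []) (.leaf [35828, -360182, -47054, -106876, -210085, -52796, 113335, 84024, 46266, 21295, 26632, 2870, -996, 0, 0, 0, -1]))))) (.node (.node (.node (.node (.leaf []) (.leaf [0, 0, 0, 1])) (.node (.leaf [-64401, -74308, -142834, -20760, 39072, -6094, 35850, 4670, 28740, -4272, 8242, 2800, -3026, 1, -1, -1, -1]) (.leaf [0, 0, 0, 1]))) (.node (.node (.leaf []) (.leaf [130, -60, -126, 204, 63, -131, -77, -41, 60, 0, 9, 1, 1])) (.node (.leaf []) (.leaf [0, 0, 0, 1])))) (.node (.node (.node (.leaf []) (.leaf [0, 0, 0, 1])) (.node (.leaf [102, -14, -28, 36, -27, -63, 23, -11, 10, 3, 6, -1]) (.leaf [1261, 554, 198, 1203, 19, -827, -223, -201, 25, -78, -25, -1, 3]))) (.node (.node (.leaf []) (.leaf [0, 0, 0, 1])) (.node (.leaf [44, -56, -134, 3, 29, -59, 33, -20,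 24, 11, 12, 1]) (.leaf [])))))))

def twoL52 : Janko.Tree (List ℤ) :=
  (.node (.node (.node (.node (.node (.node (.node (.leaf []) (.leaf [18, 4, 8, 11, -7, -7, 0, 0, 0, 0, 0, -1])) (.leaf [957, 158, 69, 414, -285, -542, 168, -83, 4, -18, 20, -2])) (.node (.leaf [1, 0, 1, 0, -1]) (.leaf [492, -338, -70, 136, -280, -336, 138, 31, 83, 25, 24, 7, -1]))) (.node (.node (.leaf [2, 0, 0, 1, 0, -1]) (.leaf [0, 0, -1, 0, 1])) (.node (.leaf [1, 0, 0, 1, 0, -1]) (.leaf [1, 0, 1, 0, -1])))) (.node (.node (.node (.leaf [0, 0, 0, -1, 0, 1]) (.leaf [189278, -230688, 45052, -29950, -207294, -106432, 75682, 44872, 18980, 30982, 21142, -3790, 3158, 0, 0, 1, 1])) (.node (.leaf [-2, 0, -1, -1, 1, 1]) (.leaf [-173297, 149482, -42748, 21820, 164128, 106296, -82248, -35515, -2610, -20294, -13682, 634, -3274, 0, 0, -1, -1]))) (.node (.node (.leaf [2, -10, 10, 1, -10, -1, 0, 5]) (.leaf [0, 0, 0, -1, 0, 1])) (.node (.leaf [65, -76, -39, 1, -47, -51, 38, 8, 15, 6, 9]) (.leaf [-5, -4, -1, -3,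 1, 1, 0, 1, 0, 0, 0, 1]))))) (.node (.node (.node (.node (.leaf []) (.leaf [63, -150, -177, -2, -48, -95, 97, 11, 34, 1, 30, -1])) (.node (.leaf [1]) (.leaf [3, 0, 1, 1, -1, -1]))) (.node (.node (.leaf []) (.leaf [-2, 0, -1, -1, 1, 1])) (.node (.leaf []) (.leaf [68, -10, -35, 38, -19, -50, 22, -6, 8, -4, 8, -1])))) (.node (.node (.node (.leaf [1]) (.leaf [-9, -2, -4, -3, 4, 3, 0, 1])) (.node (.leaf [0, 0, 0, -1, 0, 1]) (.leaf [-51, -32, -9, -50, 11, 0, 26, 18, -6, 2, -8, 10]))) (.node (.node (.leaf [-2, 0, -1, -1, 1, 1]) (.leaf [-72, 12, 33, -41, 22, 54, -23, 5, -8, 4, -8, 1])) (.node (.leaf [1]) (.leaf [-3, -4, 3, -3, -3, 3, 0, 2])))))) (.node (.node (.node (.node (.node (.leaf [1, 0, 1, 0, -1]) (.leaf [0, 0, -1, 0, 1])) (.node (.leaf [1, 0, 0, 1, 0, -1]) (.leaf [-1143, 68, -686, -426, 649, 629, -99, -69, 104, -52, -17, 19, -19]))) (.node (.node (.leaf [-12, -2, -5, -6, 5, 6, 0, 1]) (.leaf [-66, 24, 31, -14, 24, 45, -27, 4, -9, -2, -5])) (.node (.leaf [13, -6, 16,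 2, -15, -1, -1, 3, 1, 0, -1]) (.leaf [-4047, 1790, -175, -1245, 2438, 2146, -713, -29, -449, -175, -323, 84, -3, 1])))) (.node (.node (.node (.leaf [0, 0, 0, -1, 0, 1]) (.leaf [-2, 8, 5, 0, -1, 4, 0, 0, -2, -2])) (.node (.leaf []) (.leaf [4262, -4370, -848, 815, -3257, -3006, 1517, 542, 776, 420, 530, -71, -12, -1]))) (.node (.node (.leaf [15, 6, 5, 4, -4, -1, -3, -4, 2, 0, -1]) (.leaf [1])) (.node (.leaf [-71, 10, 35, -38, 21, 52, -24, 6, -8, 4, -8, 1]) (.leaf [-9007, 101794, 81064, 74137, 24267, 48574, -79471, -19121, 3527, -19733, -13683, 887, -2774, 0, 0, -1, -1]))))) (.node (.node (.node (.node (.leaf [12, 2, 7, 3, -7, -3, 0, -1]) (.leaf [5, -2, 2, 4, -2, -4, 0, 1])) (.node (.leaf [103488, -158408, 14256, 11731, -132020, -57599, 35764, 31680, 32106, 5504, 10366, 1020, -1472, 1, -1, -1, -1]) (.leaf [-7799, 9186, 3697, 1173, 6603, 5711, -5184, -1179, -1480, -862, -1084, 6, 6, 0, -1]))) (.node (.node (.leaf [-2, 0, -1, -1, 1, 1]) (.leaf [12, -18, 13, 4, -16, -9,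 1, 6, 0, 2, 1])) (.node (.leaf [13, 0, 10, 2, -10, -2]) (.leaf [1170, -1080, 29, -100, -1058, -754, 630, 224, 107, 116, 97, 0, -4])))) (.node (.node (.node (.leaf []) (.leaf [])) (.node (.leaf []) (.leaf [84, -30, -39, 21, -29, -57, 32, -5, 12, 2, 6]))) (.node (.node (.leaf [2, 0, 0, 1, 0, -1]) (.leaf [])) (.node (.leaf [1]) (.leaf [-64025, -728048, -344188, -325258, -258908, -121759, 313053, 152922, 78040, 62736, 66080, 3344, 902, 0, -1, 0, -1])))))))

def twoL53 : Janko.Tree (List ℤ) :=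
  (.node (.node (.node (.node (.node (.node (.node (.leaf [0, 1]) (.leaf [-1, -3, -3, 2, 1, -2, 0, 1, 1, 0, 1])) (.leaf [0, 1])) (.node (.leaf []) (.leaf [0, 1]))) (.node (.node (.leaf []) (.leaf [-91882, 148768, -17720, -7674, 125818, 47576, -31262, -30176, -30168, -4930, -9720, -860, 1470, -1, 0, 1, 1])) (.node (.leaf [-2, -1, -2, -2, 2, 0, 0, 0, 0, 1]) (.leaf [86, -14, -43, 39, -27, -61, 32, -7, 10, -4, 9, -1])))) (.node (.node (.node (.leaf []) (.leaf [])) (.node (.leaf [482, -469, -253, 101, -280, -398, 215, 36, 96, 40, 62, 0, 1]) (.leaf [139, -776, 30, -93, -442, -171, 132, 182, 86, 65, 54, 1]))) (.node (.node (.leaf [0, 1]) (.leaf [21686, -36694, -10344, -9074, -24247, -17889, 18767, 6548, 3872, 4039, 3829, -152, 211, 0, 1, -1])) (.node (.leaf [0, 1]) (.leaf [-15829, -17142, -11787, -11887, 204, 5118, 4661, 3900, 2364, 1109, 1253, 101, -156, 0, 0, -1]))))) (.node (.node (.node (.node (.leaf [0, 1]) (.leaf [])) (.node (.leaf []) (.leaf []))) (.node (.node (.leaf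 [0, 1]) (.leaf [928, -435, -147, 267, -514, -574, 301, 36, 133, 4, 46, -2, 1])) (.node (.leaf [0, 1]) (.leaf [0, 1])))) (.node (.node (.node (.leaf []) (.leaf [0, 1])) (.node (.leaf []) (.leaf [0, 1]))) (.node (.node (.leaf [822, 381, 237, 677, -78, -508, -83, -108, -31, -42, -8, -2, 1]) (.leaf [])) (.node (.leaf []) (.leaf [0, 1])))))) (.node (.node (.node (.node (.node (.leaf [-4, 3, 2, 0, 2, 2, -2, 0, -1]) (.leaf [49, -40, -39, 6, -21, -38, 26, 0, 12, 3, 5])) (.node (.leaf []) (.leaf [0, 1]))) (.node (.node (.leaf []) (.leaf [0, 1])) (.node (.leaf [0, 1]) (.leaf [])))) (.node (.node (.node (.leaf []) (.leaf [0, 1])) (.node (.leaf [0, 1]) (.leaf [0, 1]))) (.node (.node (.leaf [0, 1]) (.leaf [])) (.node (.leaf [0, 2, 0, 2, 0, 0, 0, 0, 0, -1]) (.leaf [0, 1]))))) (.node (.node (.node (.node (.leaf []) (.leaf [])) (.node (.leaf []) (.leaf [0, 1]))) (.node (.node (.leaf [248, -122, -59, 129, -78, -198, 43, 2, 28, 18, 18, -6, 1]) (.leaf [0, 2, 2, 0, 0, 0, 0, 0, -1])) (.node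 (.leaf [-49984, -69859, 29888, -23208, -39758, 40502, -13946, 23064, 13106, -1164, 434, 1122, -1632, 1, -1, 0, -1]) (.leaf [0, 1])))) (.node (.node (.node (.leaf [0, 1]) (.leaf [0, 1])) (.node (.leaf [0, 1]) (.leaf [0, 1]))) (.node (.node (.leaf [397, -155, -84, 143, -154, -285, 108, -4, 41, 16, 24, 1]) (.leaf [0, 1])) (.node (.leaf [-153, 0, 49, -12, 50, 103, -85, 9, 0, 1, -6, -3, -1]) (.leaf [])))))))

def twoL54 : Janko.Tree (List ℤ) :=
  (.node (.node (.node (.node (.node (.node (.node (.leaf []) (.leaf [2, 0, 1, 2, -1, 0, 0, 0, 1])) (.leaf [])) (.node (.leaf [0, 0, 1]) (.leaf [510, -334, -62, 148, -287, -344, 138, 31, 83, 25, 24, 5, -1]))) (.node (.node (.leaf [-1128, 794, 628, -359, 437, 895, -406, -2, -236, -60, -94, -6, 1]) (.leaf [0, 0, 1])) (.node (.leaf [0, 0, 1, 1, 0, 0, -1]) (.leaf [0, 0, 1])))) (.node (.node (.node (.leaf [628, -618, -386, 11, -375, -494, 355, 42, 124, 64, 79]) (.leaf [0, 0, 1])) (.node (.leaf [0, 0, 0, -1, 0, 0, 1]) (.leaf [0, 0, 1])))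 (.node (.node (.leaf []) (.leaf [212, -124, -145, 69, -65, -177, 92, -5, 39, 8, 20])) (.node (.leaf []) (.leaf [-279, 122, 55, -73, 139, 165, -82, -1, -44, -4, -11, 0, -1]))))) (.node (.node (.node (.node (.leaf []) (.leaf [0, 0, 1])) (.node (.leaf [17, 6, -1, 11, 1, -10, -1, -4, 1]) (.leaf [0, 0, 0, -1, 0, 0, 1]))) (.node (.node (.leaf []) (.leaf [0, 0, 0, -1, 0, 0, 1])) (.node (.leaf []) (.leaf [])))) (.node (.node (.node (.leaf [562, -542, -15, 273, -459, -415, 152, 116, 120, -6, 40, 0, 1]) (.leaf [])) (.node (.leaf [11, 2, 0, 6, -1, -6, 0, -2, 1]) (.leaf []))) (.node (.node (.leaf [0, 0, 0, -1, 0, 0, 1]) (.leaf [0, 0, 0, -1, 0, 0, 1])) (.node (.leaf [-206, 120, 142, -67, 62, 170, -87, 6, -39, -8, -19]) (.leaf [-77, 38, 43, -21, 29, 61, -36, 1, -11, -2, -7])))))) (.node (.node (.node (.node (.node (.leaf [0, 0, 1]) (.leaf [0, 0, 1])) (.node (.leaf [-2, 2, 0, 0, 2, 0, 0, 0, -1]) (.leaf [155, 58, -82, 16, 15, -63, 31, -54, 15, 8, 2, -1, 1]))) (.node (.node (.leaf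 [0, 0, 1, 1, 0, 0, -1]) (.leaf [9, -10, 22, 6, -16, -1, -5, 5, 1, 0, -1])) (.node (.leaf [-67, 18, 64, -20, 6, 57, -33, 11, -9, -2, -9]) (.leaf [-838, -650, -186, -911, -142, 520, 225, 189, 13, 83, 40, 1, -1])))) (.node (.node (.node (.leaf [-5, 2, 1, 0, 3, 2, -2, 0, -1]) (.leaf [])) (.node (.leaf []) (.leaf [4, -2, -2, -1, -2, -2, 3, 0, 1]))) (.node (.node (.leaf [173, -70, -63, 44, -69, -111, 59, -6, 28, 4, 9]) (.leaf [515, -424, -311, 52, -270, -389, 261, 14, 102, 38, 58])) (.node (.leaf [0, 0, 1, 1, 0, 0, -1]) (.leaf [3282, -2362, -1947, 225, -1588, -2564, 1855, 93, 517, 235, 329, 13, -6]))))) (.node (.node (.node (.node (.leaf [0, 0, 1, 1, 0, 0, -1]) (.leaf [0, 0, 0, -1, 0, 0, 1])) (.node (.leaf [4, -2, 8, 2, -6, -2, 0, 2, -1]) (.leaf []))) (.node (.node (.leaf [0, 0, 0, -1, 0, 0, 1]) (.leaf [0, 0, 1])) (.node (.leaf [0, 0, 0, -1, 0, 0, 1]) (.leaf [-132, 62, 105, -206, -53, 127, 83, 37, -59, 0, -7, -1, -1])))) (.node (.node (.node (.leaf []) (.leaf [279, -244,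 -145, -15, -179, -196, 163, 17, 50, 24, 31])) (.node (.leaf []) (.leaf [-46, 40, 29, -19, 20, 39, -16, -2, -11, -2, -5]))) (.node (.node (.leaf [-4, 0, -1, -1, 2, 2, -1]) (.leaf [])) (.node (.leaf []) (.leaf [0, 0, 1])))))))

def twoL55 : Janko.Tree (List ℤ) :=
  (.node (.node (.node (.node (.node (.node (.node (.leaf []) (.leaf [1, 0, 2, 2, -1, 0, 0, 1])) (.leaf [71, -76, -1, 44, -65, -57, 18, 16, 14, -1, 10, -1])) (.node (.leaf []) (.leaf [582, -358, -91, 183, -320, -394, 163, 30, 93, 21, 32, 4, -1]))) (.node (.node (.leaf [0, 0, 0, 1]) (.leaf [])) (.node (.leaf [0, 0, 0, 1]) (.leaf [37919, -59576, -14016, -9168, -42070, -27941, 26931, 10120, 8528, 5215, 6051, -125, -1, 1, 0, -1])))) (.node (.node (.node (.leaf [0, 0, 0, 1]) (.leaf [-1188, 528, 338, -341, 571, 777, -416, -8, -172, -12, -74, 2])) (.node (.leaf [0, 0, 0, 1]) (.leaf []))) (.node (.node (.leaf [-86, 24, -149, -23, 135, 5, -2, -30, 6, 9, 2, 1]) (.leaf [0, 0, 0, 1])) (.node (.leaf []) (.leaf [0, 0, 0,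 1]))))) (.node (.node (.node (.node (.leaf []) (.leaf [319, 68, -164, 107, -57, -205, 147, -47, 18, -23, 19, -1])) (.node (.leaf []) (.leaf [0, 0, 0, 1]))) (.node (.node (.leaf []) (.leaf [0, 0, 0, 1])) (.node (.leaf []) (.leaf [70, -10, -35, 38, -21, -51, 24, -6, 8, -4, 8, -1])))) (.node (.node (.node (.leaf [562, -906, -45, 165, -651, -431, 225, 198, 172, 20, 62, 0, 1]) (.leaf [])) (.node (.leaf [0, 0, 0, 1]) (.leaf [-1263, 1206, 78, -119, 1022, 825, -487, -184, -194, -120, -116, 8, 3]))) (.node (.node (.leaf [0, 0, 0, 1]) (.leaf [0, 0, 0, 1])) (.node (.leaf []) (.leaf [-11346, 8316, 979, -1168, 8345, 6706, -4118, -845, -1474, -832, -1129, 122, 0, 1, -1])))))) (.node (.node (.node (.node (.node (.leaf []) (.leaf [])) (.node (.leaf [0, 0, 0, 1]) (.leaf [155, 60, -86, 12, 17, -65, 37, -54, 14, 9, 2, -1]))) (.node (.node (.leaf [0, 0, 0, 1]) (.leaf [-1847, -50114, -22642, -14860, -18827, -5986, 15322, 8883, 9156, 2909, 4256, 191, -338, 1, 0, -1])) (.node (.leaf [])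 (.leaf [0, 0, 0, 1])))) (.node (.node (.node (.leaf [0, 0, 0, 1]) (.leaf [4, 14, -5, 2, 7, 1, -2, -7, 0, -1, 0, 1])) (.node (.leaf []) (.leaf [4174, -4266, -734, 831, -3219, -2925, 1437, 538, 748, 408, 518, -71, -8, -1]))) (.node (.node (.leaf []) (.leaf [])) (.node (.leaf [0, 0, 0, 1]) (.leaf [1584, -1216, -791, 477, -716, -1282, 602, 53, 312, 90, 141, 13, -1]))))) (.node (.node (.node (.node (.leaf [0, 0, 0, 1]) (.leaf [0, 0, 0, 1])) (.node (.leaf [0, 0, 0, 1]) (.leaf []))) (.node (.node (.leaf [0, 0, 0, 1]) (.leaf [526, -298, -169, 152, -258, -392, 200, 16, 66, 20, 47, -1, 1])) (.node (.leaf [0, 0, 0, 1]) (.leaf [-2326, 1710, 1522, -175, 1058, 1866, -1335, -49, -391, -171, -237, -13, 6])))) (.node (.node (.node (.leaf []) (.leaf [])) (.node (.leaf []) (.leaf [34980, -52336, -9148, -12726, -38772, -25851, 26429, 9750, 5057, 5888, 5287, -216, 402, 1, 0, -1]))) (.node (.node (.leaf [0, 0, 0, 1]) (.leaf [])) (.node (.leaf [38, -20, -9, -15, -17, -21, 22, 1, 4, 6, -2,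 1]) (.leaf [-434, -124, -246, -115, 193, 153, -26, 26, 18, 2, 24, -6, -2])))))))

def twoL56 : Janko.Tree (List ℤ) :=
  (.node (.node (.node (.node (.node (.node (.node (.leaf [1]) (.leaf [-5, 1, -2, 1, 2, 1, 0, 1, 0, -1, 0, 1])) (.leaf [1])) (.node (.leaf [-1, 0, 0, -1, 0, 1]) (.leaf [80261, 45826, 23040, 3071, -11812, -51807, 31632, -6819, -23128, 5320, -1518, 16, 3216, 0, 0, 1, 1]))) (.node (.node (.leaf []) (.leaf [2, 0, 0, 1, 0, -1])) (.node (.leaf [-308, 64, 124, -84, 91, 199, -107, 26, -36, -5, -18, 1]) (.leaf [-1, 0, 0, -1, 0, 1])))) (.node (.node (.node (.leaf [316, -390, -234, 5, -206, -279, 198, 36, 72, 38, 49]) (.leaf [236542, -279944, -35891, -74791, -232221, -180973, 176092, 58378, 11818, 35576, 29940, 8, 4252, 0, 0, 1, 1])) (.node (.leaf [-4, -4, 0, -1, 0, 1, 0, 2]) (.leaf [-173497, 148338, -43629, 20801, 163727, 106249, -81454, -35325, -2496, -20158, -13550, 636, -3276, 0, 0, -1, -1]))) (.node (.node (.leaf [0, 0, -1, 0, 1]) (.leaf [138, -132, -101,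 57, -56, -132, 59, 9, 33, 8, 16])) (.node (.leaf [0, 0, -1, 0, 1]) (.leaf [-12327, 343562, 48973, 108657, 192025, 38729, -104858, -81343, -44295, -19377, -24879, -2991, 1104, -1, 1, 0, 1]))))) (.node (.node (.node (.node (.leaf [13, -2, 11, 3, -11, -3, 0, 1]) (.leaf [-2795, -482, -564, -1590, 758, 1549, -83, 231, -52, 52, 0, 13, -3])) (.node (.leaf [1, 0, 0, 1, 0, -1]) (.leaf [1]))) (.node (.node (.leaf [1]) (.leaf [3, 0, 1, 1, -1, -1])) (.node (.leaf [1]) (.leaf [1])))) (.node (.node (.node (.leaf [-98, 114, 95, -49, 29, 117, -48, -9, -23, -10, -15]) (.leaf [-207, 46, 54, -92, 83, 127, -49, 14, -26, 4, -18, 3])) (.node (.leaf [1]) (.leaf [34240, 134216, 109867, 111970, 15356, 34277, -91983, -26417, 3601, -25712, -17160, 1641, -3061, 0, -1, 0, -1]))) (.node (.node (.leaf [-13, 0, -10, -3, 10, 3]) (.leaf [9255, -10156, -2270, -951, -8397, -5798, 4991, 1352, 1672, 945, 1175, -57, -9, 0, 1])) (.node (.leaf [1, 0, 0, 1, 0, -1]) (.leaf [-14, 0, 8, 5, 2, 9, -10, 2, 0, -2]))))))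 (.node (.node (.node (.node (.node (.leaf [-1, 0, 0, -1, 0, 1]) (.leaf [2, 0, 0, 1, 0, -1])) (.node (.leaf []) (.leaf [-17, 22, 20, -4, 7, 23, -15, -3, -3, -2, -3]))) (.node (.node (.leaf [10, 2, 15, 4, -8, 1, -5, 0, 0, 0, -1]) (.leaf [440, 918, 738, 349, 40, 89, -330, -180, -136, -40, -89, -15, 1])) (.node (.leaf [0, 0, 0, -1, 0, 1]) (.leaf [1157, 902, 70, 940, 204, -629, -175, -335, -28, -56, -20, -11, -1])))) (.node (.node (.node (.leaf []) (.leaf [335, -100, -151, 145, -100, -246, 107, -19, 40, 4, 32, -7])) (.node (.leaf [281, -88, -183, 81, -63, -207, 116, -27, 41, 9, 25, -3, -1]) (.leaf [-2, 0, -1, -1, 1, 1]))) (.node (.node (.leaf [-418, 296, 307, -42, 157, 322, -214, 10, -86, -32, -39, -1]) (.leaf [72, -36, -38, 16, -29, -55, 35, 0, 10, 2, 6])) (.node (.leaf [-11, 0, -5, -6, 5, 6]) (.leaf [-14, -6, -4, -5, 4, 5, 0, 3]))))) (.node (.node (.node (.node (.leaf [-186, 412, 168, 68, 216, 178, -166, -57, -62, -40, -47]) (.leaf [59, -6, -29, 35, -23, -43, 24, -3,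 6, -7, 8, -1])) (.node (.leaf [-89, -378, 231, 44, -271, 68, -68, 156, 64, -20, -9, -1, -1]) (.leaf [69, -10, -35, 37, -20, -50, 23, -6, 8, -4, 8, -1]))) (.node (.node (.leaf [1]) (.leaf [-413, 576, 310, 189, 377, 378, -439, -99, -74, -44, -51, -21, 1])) (.node (.leaf [-895, -176, -109, -385, 265, 497, -144, 78, 6, 15, -12, 1]) (.leaf [-514, -116, -227, -164, 217, 209, -43, 29, 12, 5, 18, -3, -3])))) (.node (.node (.node (.leaf [1]) (.leaf [-2, 0, -1, -1, 1, 1])) (.node (.leaf [1]) (.leaf [8, 110, 1, -29, 28, 32, 17, -22, -11, -10, -12]))) (.node (.node (.leaf []) (.leaf [1])) (.node (.leaf [1, 0, 1, 0, -1]) (.leaf [-14970, -279302, -47499, -111381, -144469, -22391, 91828, 68209, 29600, 19536, 20870, 1836, -400, 0, 0, -1, -1])))))))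

def twoL57 : Janko.Tree (List ℤ) :=
  (.node (.node (.node (.node (.node (.node (.node (.leaf []) (.leaf [-5, 0, -2, -2, 3, 2, 0, 0, 0, 0, 0, 1])) (.leaf [])) (.node (.leaf [-2, -1, 0, -4, 0, 2, 0, 0, 0, 1]) (.leaf [0, 1]))) (.node (.node (.leaf [0, 1]) (.leaf [])) (.node (.leaf [0, 1]) (.leaf [-14204, 7963, -4658, -2538, 11301, 6927, -2915, -1423, -1205, -721, -616, 27, -43, 1, -1])))) (.node (.node (.node (.leaf []) (.leaf [0, 2, 0, 2, 0, 0, 0, 0, 0, -1])) (.node (.leaf []) (.leaf [0, 2, 0, 2, 0, 0, 0, 0, 0, -1]))) (.node (.node (.leaf []) (.leaf [])) (.node (.leaf []) (.leaf [0, 1]))))) (.node (.node (.node (.node (.leaf []) (.leaf [0, 1])) (.node (.leaf [338, -1375, -637, -669, -780, -290, 743, 242, 222, 101, 116, 8, -1]) (.leaf []))) (.node (.node (.leaf []) (.leaf [49170, 69646, -30003, 22851, 39982, -40080, 13839, -22976, -13104, 1184, -438, -1122, 1633, -1, 1, 0, 1])) (.node (.leaf []) (.leaf [-59, 39, 35, -10, 25, 42, -26, 1, -12, -3, -5])))) (.node (.node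 (.node (.leaf []) (.leaf [])) (.node (.leaf []) (.leaf []))) (.node (.node (.leaf []) (.leaf [0, 1])) (.node (.leaf [-410, 390, 211, -27, 268, 318, -227, -38, -75, -31, -50, 0, -1]) (.leaf [0, 1])))))) (.node (.node (.node (.node (.node (.leaf []) (.leaf [])) (.node (.leaf [0, 1]) (.leaf []))) (.node (.node (.leaf [0, 1]) (.leaf [])) (.node (.leaf [-1874, -1238, 432, -904, -138, 800, -100, 616, -53, 64, -46, 36, 2, 0, 0, 0, 1]) (.leaf [0, 1])))) (.node (.node (.node (.leaf [0, 1]) (.leaf [219566, -280578, -42232, -80562, -224194, -172704, 174086, 58680, 12081, 35391, 29938, 48, 4151, -1, 0, 1, 1])) (.node (.leaf [0, 1]) (.leaf [-746, -122, -37, -303, 210, 400, -119, 78, -18, 10, -10, 0, 1]))) (.node (.node (.leaf [0, 1]) (.leaf [0, -1, -2, 0, 0, 0, 0, 0, 1])) (.node (.leaf []) (.leaf [0, 1]))))) (.node (.node (.node (.node (.leaf [0, 1]) (.leaf [0, 1])) (.node (.leaf [0, 1]) (.leaf []))) (.node (.node (.leaf []) (.leaf [])) (.node (.leaf [0, 1]) (.leaf [])))) (.node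 (.node (.node (.leaf []) (.leaf [412, -235, -253, 45, -168, -292, 201, -14, 71, 22, 38, 0, 1])) (.node (.leaf []) (.leaf [-10250, 16137, 200, 1788, 12667, 6431, -5491, -3015, -2225, -1420, -1464, 55, 1, 1, -1]))) (.node (.node (.leaf [0, 1]) (.leaf [])) (.node (.leaf []) (.leaf [0, -1, 0, -2, 0, 0, 0, 0, 0, 1])))))))

def twoL58 : Janko.Tree (List ℤ) :=
  (.node (.node (.node (.node (.node (.node (.node (.leaf []) (.leaf [-3, 0, -1, 1, 2, 1, -1, 0, 0, 0, 1])) (.leaf [239, -98, -141, 76, -68, -189, 101, -11, 34, 6, 20])) (.node (.leaf [0, 0, 1, 1, 0, 0, -1]) (.leaf [388, 28, -160, 10, -79, -177, 143, -72, 44, 6, 2, 4, 2]))) (.node (.node (.leaf [-4, -10, 4, -3, -6, 2, 1, 4, 1]) (.leaf [-4, 0, -1, -1, 2, 2, -1])) (.node (.leaf [-30762, 19040, 11821, -2373, 16778, 22176, -15915, -1280, -3414, -1964, -2882, 66, -46, -1, 0, 1]) (.leaf [-28185, -1644, 13323, -6569, 2218, 19595, -10204, 4756, -386, -1833, -2137, 567, -145, 1, 0, -1])))) (.node (.node (.node (.leaf [0, 0,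 0, -1, 0, 0, 1]) (.leaf [82, 136, 217, -52, -21, -33, -3, -12, -108, 50, 8, -10, 4])) (.node (.leaf [0, 0, 1]) (.leaf [0, 0, 1, 1, 0, 0, -1]))) (.node (.node (.leaf [0, 0, 1]) (.leaf [0, 0, 0, -1, 0, 0, 1])) (.node (.leaf [0, 0, 1]) (.leaf [-8443, 343260, 46357, 110349, 191527, 35919, -103480, -81954, -43776, -19433, -24506, -3041, 1080, -1, 1, 0, 1]))))) (.node (.node (.node (.node (.leaf [0, 0, 0, -1, 0, 0, 1]) (.leaf [])) (.node (.leaf [20, 6, 1, 10, -2, -10, 0, -4, 1]) (.leaf [8, 124, 62, 11, 26, 34, -25, -21, -18, -10, -13]))) (.node (.node (.leaf []) (.leaf [0, 0, 0, -1, 0, 0, 1])) (.node (.leaf []) (.leaf [3, -2, 1, 3, -1, -2, -1, 0, 1])))) (.node (.node (.node (.leaf [-62, 104, 79, -35, 23, 88, -37, -12, -19, -8, -13]) (.leaf [201, -60, 26, 20, -111, -99, 57, 5, 13, 12, 1, -1])) (.node (.leaf [-49, 4, -11, -26, 20, 27, -1, 2, -3, 0, -1]) (.leaf [0, 0, 1]))) (.node (.node (.leaf [0, 0, 1]) (.leaf [1057, 32, 191, 343, -441, -436, 91, -98, 67, 8, 14, -6, -1]))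 (.node (.leaf [626, -886, -390, -17, -522, -516, 377, 100, 159, 75, 106, 0, 3]) (.leaf [-4, -14, 6, 11, -3, -1, -10, 3, 3, 0, 1])))))) (.node (.node (.node (.node (.node (.leaf [0, 0, 1, 1, 0, 0, -1]) (.leaf [-4, 0, -1, -1, 2, 2, -1])) (.node (.leaf []) (.leaf [0, 0, 1]))) (.node (.node (.leaf [10, 6, 13, 8, -3, -1, -7, -2, 0, 0, -1]) (.leaf [-99, 44, 55, -31, 34, 77, -42, 3, -14, -2, -9])) (.node (.leaf [1, -6, 2, 2, -3, -2, 0, 2, 1]) (.leaf [-299, 10, 182, -88, 73, 209, -149, 33, -27, 14, -25, 1, -1])))) (.node (.node (.node (.leaf [630, -2, 183, 225, -276, -282, 45, -26, 29, 5, -8, -2, 3]) (.leaf [0, 0, 1])) (.node (.leaf [279, -86, -201, 83, -52, -213, 120, -30, 42, 9, 26, -3, -1]) (.leaf [0, 0, 0, -1, 0, 0, 1]))) (.node (.node (.leaf [-614, 678, 341, -238, 304, 570, -212, -62, -162, -48, -55, -13, 1]) (.leaf [0, 0, 1])) (.node (.leaf [120, -58, -84, 26, -39, -89, 55, -9, 21, 4, 13]) (.leaf [46, -40, -28, 19, -20, -39, 16, 2, 11, 2, 5]))))) (.node (.node (.node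 (.node (.leaf [154, 152, -2, 64, 9, -60, 28, -43, -8, -16, -9]) (.leaf [])) (.node (.leaf [33, -654, -26, 2, -335, -78, 62, 169, 130, 8, 21, 0, -1]) (.leaf [0, 0, 1]))) (.node (.node (.leaf [-5, 2, 0, -1, 3, 2, -1, 0, -1]) (.leaf [1328, -1102, -642, 241, -728, -1084, 647, 92, 232, 76, 129, 21, 1])) (.node (.leaf []) (.leaf [0, 0, 1])))) (.node (.node (.node (.leaf []) (.leaf [0, 0, 0, -1, 0, 0, 1])) (.node (.leaf [-5, 2, 0, -1, 3, 2, -1, 0, -1]) (.leaf [92, 168, 25, 53, 30, -17, 0, -39, -13, -18, -14]))) (.node (.node (.leaf [-4, 2, -8, -3, 6, 2, 1, -2, 1]) (.leaf [-443, 48, 211, -52, 90, 239, -149, 68, -61, -17, -12, 1, -3])) (.node (.leaf [0, 0, 1]) (.leaf [-432, -144, -263, -126, 191, 145, -15, 28, 20, 6, 26, -6, -2])))))))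

def twoL59 : Janko.Tree (List ℤ) :=
  (.node (.node (.node (.node (.node (.node (.node (.leaf []) (.leaf [-3, 0, 0, 0, 1, 2, 0, 1])) (.leaf [])) (.node (.leaf [0, 0, 0, 1]) (.leaf [316, 96, -180, 4, -7, -145, 122, -88, 28, 4, 2, 4, 2]))) (.node (.node (.leaf [-532, -56, -192, -203, 214, 226, -15, 32, -12, -3, 12, 2, -3]) (.leaf [0, 0, 0, 1])) (.node (.leaf [-30706, 18672, 11467, -2465, 16748, 21942, -15688, -1224, -3374, -1924, -2844, 76, -46, -1, 0, 1]) (.leaf [0, 0, 0, 1])))) (.node (.node (.node (.leaf [0, 0, 0, 1]) (.leaf [0, 0, 0, 1])) (.node (.leaf [481, -214, 4, 146, -291, -293, 143, 33, 52, 3, 20, -1]) (.leaf [0, 0, 0, 1]))) (.node (.node (.leaf [54, 30, 158, 26, -85, 17, -29, 14, -16, -6, -6, -1]) (.leaf [0, 0, 0, 1])) (.node (.leaf []) (.leaf [94857, -184094, 6807, -83491, -147097, -79474, 104534, 48657, -2989, 25475, 17163, 37, 3704, -1, 1, 0, 1]))))) (.node (.node (.node (.node (.leaf [0, 0, 0, 1]) (.leaf [-896, 772, 545, -116, 521, 699, -483, -50, -170,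 -49, -116, 4, -5])) (.node (.leaf [0, 0, 0, 1]) (.leaf [-55345, -830904, -309590, -340616, -335534, -122912, 320324, 182274, 91272, 66460, 70304, 4318, 824, 1, -1, -1, -1]))) (.node (.node (.leaf []) (.leaf [0, 0, 0, 1])) (.node (.leaf [-59, 32, 39, -28, 21, 50, -24, 1, -10, 0, -8, 1]) (.leaf [-242460, 294608, 40946, 77215, 240910, 185501, -181388, -60581, -14590, -36564, -31469, 75, -4175, 1, -1, -1, -1])))) (.node (.node (.node (.leaf [0, 0, 0, 1]) (.leaf [0, 0, 0, 1])) (.node (.leaf []) (.leaf [1524, -1234, -756, 456, -716, -1238, 575, 65, 311, 91, 137, 13]))) (.node (.node (.leaf []) (.leaf [1059, 24, 187, 343, -445, -438, 94, -96, 69, 8, 14, -6, -1])) (.node (.leaf [0, 0, 0, 1]) (.leaf [-3641, -420, -1202, -2236, 1260, 1818, 286, 310, -80, 14, -86, 58, -6, 1])))))) (.node (.node (.node (.node (.node (.leaf [0, 0, 0, 1]) (.leaf [0, 0, 0, 1])) (.node (.leaf []) (.leaf []))) (.node (.node (.leaf []) (.leaf [0, 0, 0, 1])) (.node (.leaf [0, 0, 0, 1]) (.leaf [146, 1212,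 245, 658, 677, -47, -467, -308, -146, -71, -80, 0, -1])))) (.node (.node (.node (.leaf [1980, -1092, -212, 476, -1182, -1138, 539, 58, 292, 83, 134, -22, 1]) (.leaf [338, -100, -154, 145, -101, -245, 107, -21, 42, 4, 32, -7])) (.node (.leaf [289, -54, -185, 103, -40, -207, 95, -44, 40, 9, 26, -3, -1]) (.leaf [0, 0, 0, 1]))) (.node (.node (.leaf [-590, 392, 355, -76, 241, 441, -278, 6, -108, -42, -51, -1]) (.leaf [250, -768, -180, -156, -429, -213, 231, 125, 120, 69, 70, 1, -1])) (.node (.leaf [0, 0, 0, 1]) (.leaf [-4552, 4878, 1302, -788, 3444, 3335, -1791, -575, -876, -458, -610, 72, 8, 1]))))) (.node (.node (.node (.node (.leaf []) (.leaf [62, -8, -27, 40, -25, -47, 24, -2, 6, -7, 8, -1])) (.node (.leaf [-513, -138, 422, -58, -93, 398, -249, 153, 10, -44, -49, 0, -1]) (.leaf [74, -10, -32, 41, -23, -53, 23, -6, 8, -4, 8, -1]))) (.node (.node (.leaf []) (.leaf [0, 0, 0, 1])) (.node (.leaf [-1318, 122, 75, -480, 477, 813, -316, 65, -66, -9, -52, 1]) (.leaf [-211, 190,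 -13, -25, 172, 155, -92, -46, -20, -14, -10, -2, -3])))) (.node (.node (.node (.leaf []) (.leaf [0, 0, 0, 1])) (.node (.leaf [-2570, -1024, -532, -2264, 113, 1621, 403, 377, -30, 131, 45, -4, -7, 1]) (.leaf [0, 0, 0, 1]))) (.node (.node (.leaf []) (.leaf [-1095, 518, 284, -309, 543, 710, -371, -16, -164, -16, -64, 1])) (.node (.leaf []) (.leaf [0, 0, 0, 1])))))))

def twoL60 : Janko.Tree (List ℤ) :=
  (.node (.node (.node (.node (.node (.node (.node (.leaf [1, 0, 1, 0, -1]) (.leaf [97, -27, -42, 39, -26, -69, 28, -7, 12, 3, 8, -1])) (.leaf [504, -294, -308, 128, -181, -401, 225, -9, 84, 24, 48])) (.node (.leaf [11, 4, 2, 5, -2, -5, 0, -2]) (.leaf [-8, -2, -4, -3, 4, 3, 0, 1]))) (.node (.node (.leaf [2, 2, -1, 1, 1, -1, 0, -1]) (.leaf [])) (.node (.leaf [0, 0, -1, 0, 1]) (.leaf [309, -304, -154, -9, -202, -227, 170, 25, 60, 33, 34, 1, -1])))) (.node (.node (.node (.leaf []) (.leaf [173447, -150262, 42779, -21908, -164576, -106475, 82383, 35698, 2696, 20359, 13737, -633,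 3274, 0, 0, 1, 1])) (.node (.leaf []) (.leaf [32006, -68526, -14236, -19743, -44618, -26701, 31308, 13358, 6928, 7242, 6409, -110, 436, 0, 0, -1]))) (.node (.node (.leaf []) (.leaf [2281, -1640, -1396, 173, -1048, -1699, 1158, -5, 402, 183, 239, -1, 2, 0, 1])) (.node (.leaf [2, 0, 0, 1, 0, -1]) (.leaf [-128875, -49730, 23028, -40848, -336, 83652, -31374, 23960, 10128, -5764, -3508, 2328, -2279, 0, 0, -1, -1]))))) (.node (.node (.node (.node (.leaf []) (.leaf [-755, 744, 481, -41, 475, 592, -433, -57, -156, -55, -100, 1, -5])) (.node (.leaf []) (.leaf [106758, -159256, 13190, 12323, -133288, -59585, 36998, 31472, 32430, 5614, 10594, 992, -1474, 1, -1, -1, -1]))) (.node (.node (.leaf [1, 0, 1, 0, -1]) (.leaf [84, -62, -72, 35, -35, -72, 43, 2, 21, -2, 11, -1])) (.node (.leaf [1, 0, 1, 0, -1]) (.leaf [-241813, 293316, 40352, 78388, 240244, 185096, -181552, -60401, -13846, -36818, -31445, 83, -4231, 1, -1, -1, -1])))) (.node (.node (.node (.leaf []) (.leaf [8, 0, 2, 5,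 -2, -5])) (.node (.leaf [-14, 0, -44, -2, 25, -13, 15, -2, -1, 0, 3]) (.leaf [1]))) (.node (.node (.leaf [-15, 0, -11, -4, 11, 4]) (.leaf [1])) (.node (.leaf [-65, 26, 36, -16, 21, 45, -25, 5, -11, -2, -5]) (.leaf [181798, -238266, 84957, -73184, -242602, -100093, 104709, 62413, 3693, 30959, 18743, -707, 4032, 0, 0, 1, 1])))))) (.node (.node (.node (.node (.node (.leaf []) (.leaf [])) (.node (.leaf [1]) (.leaf [305, -2002, -2007, 173, -430, -432, 497, 99, 864, -91, 157, 23, -51]))) (.node (.node (.leaf [3, 0, 1, 1, -1, -1]) (.leaf [])) (.node (.leaf [1]) (.leaf [585, 1092, 177, 759, 479, -284, -345, -327, -98, -57, -56, -7, -1])))) (.node (.node (.node (.leaf [1]) (.leaf [0, 0, 0, -1, 0, 1])) (.node (.leaf [1]) (.leaf [1]))) (.node (.node (.leaf [1]) (.leaf [1, 0, 0, 1, 0, -1])) (.node (.leaf []) (.leaf [-7, -2, -1, 3, 5, 1, -4, 1]))))) (.node (.node (.node (.node (.leaf [3, 0, 1, 1, -1, -1]) (.leaf [])) (.node (.leaf [-3, 6, -6, -3, 6, 3, 0, -3]) (.leaf [0, 0, 0,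 -1, 0, 1]))) (.node (.node (.leaf [1, 0, 0, 1, 0, -1]) (.leaf [1, 6, -7, 2, 7, -2, 0, -3])) (.node (.leaf [4, 38, -290, 229, 240, -67, -130, -98, 80, -6, 15, -5, -5]) (.leaf [-19569, 11630, -2847, -1489, 14735, 10997, -6696, -1917, -1238, -1392, -1254, 90, -104, 0, -1])))) (.node (.node (.node (.leaf [1, 0, 1, 0, -1]) (.leaf [68, -104, -74, 35, -28, -89, 38, 12, 19, 8, 13])) (.node (.leaf [-1307, -760, -412, -1245, -13, 796, 285, 225, 30, 91, 43, -6, -3, 1]) (.leaf [188391, -231372, 45391, -30388, -207481, -105958, 75546, 45170, 18974, 31032, 21142, -3788, 3156, 0, 0, 1, 1]))) (.node (.node (.leaf [-2, 0, -1, -1, 1, 1]) (.leaf [-304, 2002, 2007, -173, 430, 432, -497, -99, -864, 91, -157, -23, 51])) (.node (.leaf [35, -20, -3, -16, -19, -20, 22, 3, 2, 6, -2, 1]) (.leaf [-11198, 333304, 43449, 106596, 188369, 36780, -102022, -80054, -42020, -18680, -23901, -3020, 1023, 0, 0, 0, 1])))))))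

def twoL61 : Janko.Tree (List ℤ) :=
  (.node (.node (.node (.node (.node (.node (.node (.leaf []) (.leaf [-2, 0, 0, -1, 1, 1, 0, 0, 0, 0, 0, 1])) (.leaf [2, -10, 6, -2, -10, 0, 2, 4, 1])) (.node (.leaf [0, 1]) (.leaf []))) (.node (.node (.leaf []) (.leaf [0, 1])) (.node (.leaf [-304, 63, 117, -83, 91, 193, -102, 26, -36, -5, -17, 1]) (.leaf [-26126, 16251, 106, -3138, 18068, 15810, -9226, -2012, -2328, -1837, -2062, 198, -84, 1, -1])))) (.node (.node (.node (.leaf [0, 1]) (.leaf [0, 1])) (.node (.leaf [0, 1]) (.leaf [0, -1, 0, -2, 0, 0, 0, 0, 0, 1]))) (.node (.node (.leaf [0, 1]) (.leaf [])) (.node (.leaf [126, 3, -33, 13, -39, -55, 40, -18, 15, 0, 1, 1]) (.leaf [0, 1]))))) (.node (.node (.node (.node (.leaf [0, 1]) (.leaf [])) (.node (.leaf [0, 1]) (.leaf [1084, -717, -601, 107, -522, -818, 575, 18, 163, 67, 110, 0, 1]))) (.node (.node (.leaf []) (.leaf [0, 1])) (.node (.leaf [6578, -2604, 782, 1978, -4019, -3203, 981, 47, 710, 275, 423, -148, -5, -1]) (.leaf [-742,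 -136, -43, -307, 208, 398, -119, 78, -14, 13, -10, 0, 1])))) (.node (.node (.node (.leaf [0, 1]) (.leaf [])) (.node (.leaf [0, -1, -2, 0, 0, 0, 0, 0, 1]) (.leaf []))) (.node (.node (.leaf []) (.leaf [])) (.node (.leaf [0, 1]) (.leaf [0, 1])))))) (.node (.node (.node (.node (.node (.leaf [0, 1]) (.leaf [0, 1])) (.node (.leaf [1652, -250, -75, 537, -646, -896, 319, -97, 144, 37, 58, -16, -1]) (.leaf [65372, 43544, 182, -8792, 2011, -50303, 38459, -8445, -24056, 7505, 411, -506, 3319, 0, 0, 0, 1]))) (.node (.node (.leaf []) (.leaf [0, 1])) (.node (.leaf []) (.leaf [])))) (.node (.node (.node (.leaf []) (.leaf [8736, -20910, 89622, -58986, -58743, -3925, 29281, 27971, -32799, 12037, -1532, 527, 4251, -1, 0, 1, 1])) (.node (.leaf []) (.leaf [408, -154, -21, 115, -216, -226, 99, 3, 52, 7, 16, -2, 1]))) (.node (.node (.leaf []) (.leaf [125090, -13673, 2298, 48510, -52508, -71818, 25946, -4352, 9318, -1723, 3190, 780, -376, 1, 0, -1, -1])) (.node (.leaf [0, 1]) (.leaf [0,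 1]))))) (.node (.node (.node (.node (.leaf []) (.leaf [0, 1])) (.node (.leaf []) (.leaf []))) (.node (.node (.leaf []) (.leaf [0, 1])) (.node (.leaf []) (.leaf [-858, 317, 449, 25, 332, 510, -431, 70, -112, -55, -64, 2, 1])))) (.node (.node (.node (.leaf []) (.leaf [])) (.node (.leaf []) (.leaf [0, 1]))) (.node (.node (.leaf [742, -238, -211, 367, -222, -560, 167, -26, 86, 12, 46, 0, 1]) (.leaf [0, 1])) (.node (.leaf [0, -1, 0, -2, 0, 0, 0, 0, 0, 1]) (.leaf [0, 1])))))))

def twoL62 : Janko.Tree (List ℤ) :=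
  (.node (.node (.node (.node (.node (.node (.node (.leaf [0, 0, 1]) (.leaf [-2, 0, 0, 1, 1, 1, -1, 0, 0, 0, 1])) (.leaf [0, 0, 1])) (.node (.leaf []) (.leaf [0, 0, 1]))) (.node (.node (.leaf [0, 0, 1]) (.leaf [-159, -54, 107, -8, -19, 75, -51, 54, -15, -10, -4, 1, 1])) (.node (.leaf [0, 0, 1]) (.leaf [-72, 108, 97, -47, 16, 99, -36, -8, -24, -8, -14])))) (.node (.node (.node (.leaf []) (.leaf [0, 2, 3, 1, 0, 0, -1, 0, -1])) (.node (.leaf []) (.leaf [41287, -54950, -9395, -10579, -41877, -29792, 27711, 9762, 5654, 6232, 5729, -300, 398, 0, 0, -1]))) (.node (.node (.leaf [4, -2, 7, 1, -6, -2, 1, 2, -1]) (.leaf [0, 0, 1])) (.node (.leaf [-4, 0, -1, -1, 2, 2, -1]) (.leaf [64, -154, -89, 128, 45, -141, -45, 0, 39, 25, 9, 7, -3]))))) (.node (.node (.node (.node (.leaf []) (.leaf [24, -2, 5, 5, -14, -11, 6, -1, 1, 0, 1])) (.node (.leaf []) (.leaf [-90, 98, 18, -145, 12, 106, 51, -4, -29, -5, -10, 0, -1]))) (.node (.node (.leaf [0, 0, 1]) (.leaf [])) (.node (.leaf [0, 0,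 1]) (.leaf [4, -2, 1, 2, -2, -2, 0, 0, 1])))) (.node (.node (.node (.leaf []) (.leaf [0, 0, 1])) (.node (.leaf [0, 0, 1]) (.leaf [-19, 0, 6, -2, 7, 11, -9, 2, -1, 0, -1]))) (.node (.node (.leaf [0, 0, 1, 1, 0, 0, -1]) (.leaf [])) (.node (.leaf [6, 4, 15, 4, -5, 1, -5, 0, -1, 0, -1]) (.leaf [-1907, 280, 322, -562, 747, 1075, -523, 127, -175, -7, -97, 13, -1])))))) (.node (.node (.node (.node (.node (.leaf []) (.leaf [4, -2, 0, 1, -2, -2, 1, 0, 1])) (.node (.leaf []) (.leaf [0, 0, 1, 1, 0, 0, -1]))) (.node (.node (.leaf [0, 0, 0, -1, 0, 0, 1]) (.leaf [])) (.node (.leaf [-92, 46, 13, -20, 52, 49, -25, -1, -17, -2, -3]) (.leaf [-58056, 52552, 6692, 12379, 46709, 42605, -36468, -9778, -864, -8557, -6376, 525, -1226, 1, -1, 0, -1])))) (.node (.node (.node (.leaf [1186, -742, -669, 371, -431, -919, 434, -20, 238, 52, 96, 6, -1]) (.leaf [1100, 102, 151, 480, -359, -553, 113, -82, 61, -15, -10, -2, -3])) (.node (.leaf []) (.leaf [-67029, 12446, 16568, 2967, 21219, 52270, -37661,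 826, 6417, -7608, -4678, 622, -1802, 0, 0, 0, -1]))) (.node (.node (.leaf [-5, -6, -1, -3, -1, 2, 1, 2, 1]) (.leaf [958, -1480, -597, -161, -891, -743, 634, 177, 268, 135, 160, 1, -1])) (.node (.leaf []) (.leaf [-21, 8, 1, -3, 10, 13, -6, 0, -1, -2, -1]))))) (.node (.node (.node (.node (.leaf [0, 0, 0, -1, 0, 0, 1]) (.leaf [])) (.node (.leaf [0, 0, 1]) (.leaf [1, -2, 0, 0, -1, 0, 0, 0, 1]))) (.node (.node (.leaf [-2, 2, 0, 0, 2, 0, 0, 0, -1]) (.leaf [])) (.node (.leaf [-22, 32, 76, 21, 3, 31, -48, 1, -8, -2, -7]) (.leaf [0, 2, 1, -2, 0, 0, 2, 0, -1])))) (.node (.node (.node (.leaf [0, 0, 1]) (.leaf [0, 0, 1])) (.node (.leaf [4, 2, 4, 2, -2, -2, 0, 0, -1]) (.leaf []))) (.node (.node (.leaf [0, 0, 0, -1, 0, 0, 1]) (.leaf [-2688, -188, 381, -975, 586, 1468, -471, 352, -181, -41, -66, 31, -1])) (.node (.leaf [0, 0, 1, 1, 0, 0, -1]) (.leaf [-11446, 346258, 48718, 110025, 193292, 38154, -105047, -81980, -44493, -19738, -25090, -2930, 1102, 0, 0, 0, 1])))))))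

def twoL63 : Janko.Tree (List ℤ) :=
  (.node (.node (.node (.node (.node (.node (.node (.leaf []) (.leaf [687, 156, 67, 295, -183, -363, 96, -76, 6, -12, 6, 0, -1])) (.leaf [])) (.node (.leaf []) (.leaf [-71, 76, 0, -44, 65, 57, -17, -16, -14, 1, -10, 1]))) (.node (.node (.leaf []) (.leaf [])) (.node (.leaf []) (.leaf [0, 0, 0, 1])))) (.node (.node (.node (.leaf []) (.leaf [])) (.node (.leaf []) (.leaf [0, 0, 0, 1]))) (.node (.node (.leaf []) (.leaf [])) (.node (.leaf [0, 0, 0, 1]) (.leaf [-286, 246, -15, -98, 254, 196, -106, -62, -50, 10, -15, -5, -1]))))) (.node (.node (.node (.node (.leaf []) (.leaf [0, 0, 0, 1])) (.node (.leaf []) (.leaf [0, 0, 0, 1]))) (.node (.node (.leaf []) (.leaf [94, -62, -74, 37, -39, -75, 45, 0, 23, -2, 11, -1])) (.node (.leaf [-318, 46, 182, -168, 15, 243, -61, 51, -34, -18, -33, 12, -1]) (.leaf [0, 0, 0, 1])))) (.node (.node (.node (.leaf []) (.leaf [199, -10, 64, 52, -123, -95, 51, 5, -2, -3, 6, -1])) (.node (.leaf [-63, -216, 39, -120,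 -118, 65, 13, 55, 28, 21, 4, -1, 1]) (.leaf [-3937, 4750, 1187, -648, 3229, 2987, -1643, -635, -814, -427, -578, 74, 5, 1]))) (.node (.node (.leaf [0, 0, 0, 1]) (.leaf [23, -80, -22, -29, -43, -56, 69, 34, -2, 4, 0, 4])) (.node (.leaf []) (.leaf [-319, -74, 160, -108, 57, 205, -147, 47, -16, 24, -19, 1])))))) (.node (.node (.node (.node (.node (.leaf []) (.leaf [])) (.node (.leaf [-104, -6, 29, -57, 27, 71, -24, 14, -4, 4, -12, 1]) (.leaf [0, 0, 0, 1]))) (.node (.node (.leaf [0, 0, 0, 1]) (.leaf [])) (.node (.leaf []) (.leaf [0, 0, 0, 1])))) (.node (.node (.node (.leaf [1230, -714, -667, 347, -437, -921, 445, -38, 232, 62, 98, 4, -1]) (.leaf [0, 0, 0, 1])) (.node (.leaf []) (.leaf [66, -10, -35, 33, -21, -47, 24, -6, 8, -4, 8, -1]))) (.node (.node (.leaf [-275, -160, -322, -116, 138, 41, 71, 18, 28, 7, 32, -2, -3]) (.leaf [0, 0, 0, 1])) (.node (.leaf []) (.leaf [19449, -32696, -5120, -9510, -23756, -14779, 16369, 6452, 2643, 3844, 3293, -202, 318, 1, 0, -1]))))) (.node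 (.node (.node (.node (.leaf [0, 0, 0, 1]) (.leaf [])) (.node (.leaf []) (.leaf [0, 0, 0, 1]))) (.node (.node (.leaf [0, 0, 0, 1]) (.leaf [])) (.node (.leaf [0, 0, 0, 1]) (.leaf [0, 0, 0, 1])))) (.node (.node (.node (.leaf []) (.leaf [31090, -18984, -11951, 2554, -16834, -22416, 16034, 1248, 3436, 1930, 2894, -62, 46, 1, 0, -1])) (.node (.leaf [0, 0, 0, 1]) (.leaf []))) (.node (.node (.leaf [0, 0, 0, 1]) (.leaf [571, 72, -112, 301, -89, -371, 97, -74, 32, -13, 19, -1, 1])) (.node (.leaf [0, 0, 0, 1]) (.leaf [-23368, 12242, 205, -2958, 15110, 13878, -8187, -1277, -1793, -1432, -1685, 152, -86, 0, -1])))))))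

def twoL64 : Janko.Tree (List ℤ) :=
  (.node (.node (.node (.node (.node (.node (.node (.leaf [-1, 0, 0, -1, 0, 1]) (.leaf [621, 164, 62, 284, -149, -319, 67, -78, 10, -14, 2, 0, -1])) (.leaf [1, 0, 0, 1, 0, -1])) (.node (.leaf [0, 0, -1, 0, 1]) (.leaf []))) (.node (.node (.leaf [-63, 22, 35, -31, 25, 47, -24, 3, -10, 3, -8, 1]) (.leaf [-2, 0, -1, -1, 1, 1])) (.node (.leaf [2, 0, 0, 1, 0, -1]) (.leaf [299362, -344884, -20565, -69793, -292246, -207650, 184659, 66683, 23718, 43748, 35649, -2065, 4709, 0, 1, 0, 1])))) (.node (.node (.node (.leaf [1]) (.leaf [-3820, -362, -765, -1118, 1307, 2077, -623, 263, 186, -178, -100, 55, -45])) (.node (.leaf [1]) (.leaf [0, 0, -1, 0, 1]))) (.node (.node (.leaf [-62, 82, 83, -15, 18, 78, -49, -8, -18, -6, -8, -1]) (.leaf [9061, -14870, -5926, -3161, -9349, -6850, 7199, 1969, 2377, 1511, 1683, -83, -22, 0, 1])) (.node (.leaf []) (.leaf [-156329, 255008, -24857, 47599, 201595, 94547, -79668, -50552, -22725, -32051, -22988, 3634, -2822,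 0, 0, -1, -1]))))) (.node (.node (.node (.node (.leaf [1]) (.leaf [-6, 8, -11, -3, 11, 3, 0, -4])) (.node (.leaf [1]) (.leaf [23, -24, -17, 4, -12, -21, 13, 2, 5, 2, 3]))) (.node (.node (.leaf [-1, 0, 0, -1, 0, 1]) (.leaf [1])) (.node (.leaf [112, -20, -43, 41, -25, -75, 28, -13, 12, 4, 8, -1]) (.leaf [-28865, 16124, 704, -4194, 18786, 17312, -9818, -1654, -2562, -1806, -2196, 234, -78, 1, -1])))) (.node (.node (.node (.leaf [1]) (.leaf [])) (.node (.leaf [1, 0, 0, 1, 0, -1]) (.leaf [-78, 28, 29, -20, 30, 51, -27, 4, -11, -2, -5]))) (.node (.node (.leaf [-5, 8, -13, -4, 10, -1, 5, -3, -2, 0, 1]) (.leaf [1, 0, 1, 0, -1])) (.node (.leaf [-1, -6, 4, 0, -4, 0, 0, 3]) (.leaf [103, 1280, 336, 642, 688, 25, -517, -313, -160, -71, -92, -3, -1])))))) (.node (.node (.node (.node (.node (.leaf [1]) (.leaf [-2, 0, -1, -1, 1, 1])) (.node (.leaf [1, 0, 1, 0, -1]) (.leaf [17, -22, -20, 3, -7, -22, 15, 3, 3, 2, 3]))) (.node (.node (.leaf [594, -738, -525, -66, -397, -498, 430, 56,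 152, 66, 94, 1]) (.leaf [86, -56, 21, 28, -66, -49, 17, 12, 11, 2, 3])) (.node (.leaf [-69, 34, 30, -14, 29, 41, -23, 3, -15, -2, -3]) (.leaf [-2, 0, -3, 1, 3, -1])))) (.node (.node (.node (.leaf [-3, 4, -7, 0, 7, 0, 0, -2]) (.leaf [234235, -281978, -37136, -74871, -232026, -179903, 175638, 58843, 12634, 35324, 29944, 60, 4184, 0, 0, 1, 1])) (.node (.leaf [1, 0, 1, 0, -1]) (.leaf [-23, -2, -7, -12, 5, 12, 2, 2, 0, -2, 0, 1]))) (.node (.node (.leaf []) (.leaf [2, -2, 3, 0, -3, 0, 0, 1])) (.node (.leaf [-76, 228, -63, 49, 173, 17, -24, -51, -35, -21, -7, 1, -1]) (.leaf [-145023, -153454, -237335, -139486, 79748, -15746, 97650, 20830, 5151, 28203, 21955, -2274, 2862, 0, 1, 0, 1]))))) (.node (.node (.node (.node (.leaf []) (.leaf [-15, 26, 11, 11, 2, 12, -5, 0, -4, -10, 0, 1])) (.node (.leaf [-3, 6, -7, -2, 7, 2, 0, -3]) (.leaf [-29512, 339826, 86419, 111456, 179596, 61743, -126287, -75633, -43656, -21304, -27168, -3112, 960, 0, 0, 0, 1]))) (.node (.node (.leaf [73, -28,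 -38, 15, -26, -51, 32, -4, 10, 2, 6]) (.leaf [20, 6, -26, 0, 9, -17, 13, -7, 1, 2, 1])) (.node (.leaf []) (.leaf [-5662, 1424, -5218, -692, 5168, 2534, -994, -928, 690, -264, -50, -42, -118, 0, 0, -1])))) (.node (.node (.node (.leaf [-1, 0, 0, -1, 0, 1]) (.leaf [60, -104, -79, 32, -23, -86, 38, 12, 19, 8, 13])) (.node (.leaf [759, 10, -51, 790, 13, -610, -152, -83, 91, -18, 1, 1, 3]) (.leaf [1]))) (.node (.node (.leaf [5, -10, 11, 3, -11, -3, 0, 5]) (.leaf [-188, -1072, -360, 56, -351, -107, 119, 257, 266, -36, 47, 19, -17])) (.node (.leaf [0, 0, -1, 0, 1]) (.leaf [4803, -4048, -414, 992, -3497, -3077, 1441, 465, 732, 408, 505, -84, -2, -1])))))))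

def twoL65 : Janko.Tree (List ℤ) :=
  (.node (.node (.node (.node (.node (.node (.node (.leaf []) (.leaf [-13, -12, -12, -12, 7, 7, 1, 0, 4, 4, 0, 0, -1])) (.leaf [91748, -149215, 15548, 9378, -124749, -47971, 30753, 29905, 31109, 4572, 9674, 907, -1559, 1, 0, -1, -1])) (.node (.leaf []) (.leaf [0, 1]))) (.node (.node (.leaf []) (.leaf [-196, -72, 107, -39, -8, 84, -43, 64, -21, -2, -6, 2, -1])) (.node (.leaf []) (.leaf [0, -1, 0, -2, 0, 0, 0, 0, 0, 1])))) (.node (.node (.node (.leaf []) (.leaf [])) (.node (.leaf []) (.leaf [71, -24, -33, 22, -23, -50, 26, -4, 10, 1, 5]))) (.node (.node (.leaf []) (.leaf [-275726, 292075, 18998, 59380, 253980, 191478, -166570, -55402, -16829, -39629, -31662, 2198, -4713, 1, 0, -1, -1])) (.node (.leaf [0, 1]) (.leaf [0, 1]))))) (.node (.node (.node (.node (.leaf []) (.leaf [0, 1])) (.node (.leaf []) (.leaf [0, 1]))) (.node (.node (.leaf [2, 2, 0, 4, 0, -2, 0, 0, 0, -1]) (.leaf [74, -32, -39, 33, -33, -55, 30, -1, 12, -3, 9, -1])) (.node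 (.leaf [0, 2, 0, 2, 0, 0, 0, 0, 0, -1]) (.leaf [])))) (.node (.node (.node (.leaf []) (.leaf [0, 1])) (.node (.leaf []) (.leaf [0, -1, -2, 0, 0, 0, 0, 0, 1]))) (.node (.node (.leaf [0, 1]) (.leaf [10710, 1283, 462, 3046, -3292, -6162, 2564, -960, -303, 200, 346, -14, 90, 0, 0, 0, -1])) (.node (.leaf []) (.leaf [0, 1])))))) (.node (.node (.node (.node (.node (.leaf []) (.leaf [582, -698, -625, -79, -302, -488, 413, 14, 170, 76, 88, 2, -1])) (.node (.leaf []) (.leaf []))) (.node (.node (.leaf [0, 1]) (.leaf [0, 1])) (.node (.leaf [0, -1, -2, 0, 0, 0, 0, 0, 1]) (.leaf [0, 1])))) (.node (.node (.node (.leaf [0, 1]) (.leaf [0, 1])) (.node (.leaf []) (.leaf [143, -60, -61, 26, -59, -92, 58, -5, 22, 4, 9]))) (.node (.node (.leaf [0, 1]) (.leaf [0, 1])) (.node (.leaf [0, 1]) (.leaf [0, 1]))))) (.node (.node (.node (.node (.leaf [0, 1]) (.leaf [])) (.node (.leaf []) (.leaf [0, 1]))) (.node (.node (.leaf [0, 1]) (.leaf [0, 1])) (.node (.leaf [0, 1]) (.leaf [0, 1])))) (.node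 (.node (.node (.leaf [2, 7, 4, 4, 0, -2, 0, 0, -2, -1]) (.leaf [-134, 109, 69, -83, 45, 137, -38, -8, -21, -9, -17, 1])) (.node (.leaf [0, 1]) (.leaf [546, -90, -123, 323, -112, -400, 71, -39, 59, 2, 22, 0, 1]))) (.node (.node (.leaf []) (.leaf [0, 1])) (.node (.leaf [2201, -786, 70, 583, -1241, -1134, 475, 8, 248, 57, 99, -20, 1]) (.leaf [0, 1])))))))

def twoL66 : Janko.Tree (List ℤ) :=
  (.node (.node (.node (.node (.node (.node (.node (.leaf [0, 0, 1, 1, 0, 0, -1]) (.leaf [-17, -12, -13, -13, 9, 9, 0, 0, 4, 4, 0, 0, -1])) (.leaf [0, 0, 1, 1, 0, 0, -1])) (.node (.leaf [0, 0, 1]) (.leaf []))) (.node (.node (.leaf [0, 0, 1, 1, 0, 0, -1]) (.leaf [0, 0, 0, -1, 0, 0, 1])) (.node (.leaf [-4, 0, -1, -1, 2, 2, -1]) (.leaf [8312, -30190, 6720, -7433, -23970, -4390, 7643, 8222, 3209, 1841, 1574, 228, 21, 1, 0, -1])))) (.node (.node (.node (.leaf []) (.leaf [0, 0, 1])) (.node (.leaf [-5, 2, 0, -1, 3, 2, -1, 0, -1]) (.leaf [0, 0, 1]))) (.node (.node (.leaf [0, 0, 0, -1, 0,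 0, 1]) (.leaf [0, 0, 1, 1, 0, 0, -1])) (.node (.leaf [2, -2, 0, -1, -2, 0, 1, 0, 1]) (.leaf [-312, 288, 66, -107, 228, 236, -113, -48, -65, -1, -23, -5, -2]))))) (.node (.node (.node (.node (.leaf [312, -386, -233, 8, -201, -280, 196, 36, 70, 38, 49]) (.leaf [66, -26, -61, 15, -11, -55, 36, -7, 11, 2, 7])) (.node (.leaf [-17, -4, 8, -10, -1, 15, -5, 3, 0, 0, -1]) (.leaf [46, -30, -36, -2, -22, -33, 31, -1, 9, 2, 5]))) (.node (.node (.leaf [0, 0, 1, 1, 0, 0, -1]) (.leaf [-3, -2, -1, -1, 1, 2, -1, 0, 1])) (.node (.leaf [-258, 18, 141, -145, -7, 193, -30, 51, -26, -18, -25, 10, -1]) (.leaf [-28599, 16084, 570, -4130, 18724, 17129, -9707, -1681, -2535, -1802, -2180, 234, -78, 1, -1])))) (.node (.node (.node (.leaf []) (.leaf [])) (.node (.leaf [123, -312, -112, -85, -178, -81, 112, 41, 60, 27, 28, -1, 1]) (.leaf [0, 0, 1]))) (.node (.node (.leaf [67, -24, -43, 16, -17, -51, 31, -5, 10, 2, 5]) (.leaf [0, 0, 1])) (.node (.leaf [0, 0, 0, -1, 0, 0, 1]) (.leaf [-21482, 38504,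 10703, 9916, 25173, 17897, -19361, -6980, -4088, -4159, -3958, 144, -211, 0, -1, 1])))))) (.node (.node (.node (.node (.node (.leaf []) (.leaf [0, 0, 0, -1, 0, 0, 1])) (.node (.leaf [0, 0, 1]) (.leaf [-554, -112, 108, -303, 62, 350, -77, 86, -29, 15, -16, 1, -1]))) (.node (.node (.leaf []) (.leaf [86, -52, -9, 24, -53, -55, 27, 6, 13, 2, 5])) (.node (.leaf [0, 0, 1]) (.leaf [-6, 2, 9, 13, 7, 3, -16, -1, 1, 0, -1])))) (.node (.node (.node (.leaf [-313, 162, 129, -2, 161, 200, -162, 1, -39, -18, -25]) (.leaf [])) (.node (.leaf [0, 0, 1]) (.leaf [41370, -259182, -20236, -83080, -162918, -42200, 85612, 60686, 29017, 19000, 20054, 1134, -300, 0, 0, 0, -1]))) (.node (.node (.leaf []) (.leaf [-354, 362, 210, -12, 233, 271, -199, -29, -76, -30, -46])) (.node (.leaf [31, 216, -37, 97, 124, -43, -12, -51, -30, -21, -6, 1, -1]) (.leaf [24082, -44308, 3704, -6438, -36156, -14348, 14294, 9838, 5771, 3163, 3299, 74, 9, 0, 1, -1]))))) (.node (.node (.node (.node (.leaf []) (.leaf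 [0, 0, 1])) (.node (.leaf [0, 0, 1, 1, 0, 0, -1]) (.leaf [-13722, 336300, 45564, 106729, 189858, 39052, -103809, -80334, -42616, -18964, -24214, -3046, 1024, 0, 0, 0, 1]))) (.node (.node (.leaf [95, -30, -40, 21, -35, -65, 40, -5, 11, 2, 7]) (.leaf [83, -32, -47, 12, -27, -63, 43, -4, 9, 4, 7])) (.node (.leaf []) (.leaf [6719, 636, 2325, 3296, -2690, -3154, 118, -304, 210, -98, -94, -40, 8, 0, 0, -1])))) (.node (.node (.node (.leaf [0, 0, 1, 1, 0, 0, -1]) (.leaf [30424, -18644, -11550, 2537, -16560, -21924, 15635, 1254, 3350, 1896, 2842, -66, 46, 1, 0, -1])) (.node (.leaf [-660, 432, 222, -312, 269, 546, -164, -19, -103, -34, -59, 0, -1]) (.leaf []))) (.node (.node (.leaf [0, 0, 1]) (.leaf [-3803, -1514, -1859, -824, 1219, 1856, -532, 337, 723, -246, -53, 80, -84])) (.node (.leaf [0, 0, 1]) (.leaf [4, -2, -2, -1, -2, -2, 3, 0, 1])))))))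

def twoL67 : Janko.Tree (List ℤ) :=
  (.node (.node (.node (.node (.node (.node (.node (.leaf [0, 0, 0, 1]) (.leaf [0, -1, 0, 0, 0, 0, 0, 0, 1, 1])) (.leaf [0, 0, 0, 1])) (.node (.leaf []) (.leaf []))) (.node (.node (.leaf [0, 0, 0, 1]) (.leaf [0, 0, 0, 1])) (.node (.leaf [0, 0, 0, 1]) (.leaf [0, 0, 0, 1])))) (.node (.node (.node (.leaf []) (.leaf [-1670, 288, 402, -617, 525, 1021, -392, 126, -184, -19, -80, 16, -3])) (.node (.leaf []) (.leaf []))) (.node (.node (.leaf [0, 0, 0, 1]) (.leaf [0, 0, 0, 1])) (.node (.leaf []) (.leaf [-962, -28, 596, -287, 39, 679, -361, 166, -92, -16, -45, 1]))))) (.node (.node (.node (.node (.leaf []) (.leaf [])) (.node (.leaf []) (.leaf [-3306, -47182, -21926, -13346, -16475, -5404, 13750, 8431, 8726, 2607, 3934, 227, -334, 1, 0, -1]))) (.node (.node (.leaf [0, 0, 0, 1]) (.leaf [])) (.node (.leaf [0, 0, 0, 1]) (.leaf [0, 0, 0, 1])))) (.node (.node (.node (.leaf [48, 8, 147, 23, -89, 13, -18, 25, -10, -8, -10, -1]) (.leaf [])) (.node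 (.leaf [0, 0, 0, 1]) (.leaf [-437, 584, 640, -184, 141, 541, -319, -39, -162, -11, -72, -11, 3]))) (.node (.node (.leaf []) (.leaf [380, -200, -298, 12, -119, -341, 287, 13, 41, 20, 25, 2, -1])) (.node (.leaf [0, 0, 0, 1]) (.leaf [467, 1066, 272, 694, 464, -183, -389, -300, -106, -52, -66, -8, -1])))))) (.node (.node (.node (.node (.node (.leaf []) (.leaf [0, 0, 0, 1])) (.node (.leaf []) (.leaf [0, 0, 0, 1]))) (.node (.node (.leaf [504, -698, -505, -90, -353, -437, 398, 54, 142, 64, 88, 1]) (.leaf [])) (.node (.leaf [-736, 138, 273, -116, 228, 412, -254, 72, -95, -19, -25, 1, -3]) (.leaf [])))) (.node (.node (.node (.leaf []) (.leaf [])) (.node (.leaf []) (.leaf [0, 0, 0, 1]))) (.node (.node (.leaf []) (.leaf [])) (.node (.leaf [7, 184, -69, 63, 118, -25, 1, -49, -22, -19, -2, 1, -1]) (.leaf [-55644, -13000, 16218, -22928, 3937, 36369, -13963, 9296, -1330, 200, -1727, 100, -39, 0, 1, -1]))))) (.node (.node (.node (.node (.leaf []) (.leaf [-12, 26, 14, 13, -1, 11, -5,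 0, -4, -10, 0, 1])) (.node (.leaf [0, 0, 0, 1]) (.leaf [-31725, 342110, 88596, 111648, 180641, 63902, -128133, -75835, -44104, -21502, -27408, -3166, 960, 0, 0, 0, 1]))) (.node (.node (.leaf []) (.leaf [])) (.node (.leaf []) (.leaf [-72739, 4918, -15904, -25191, 34459, 39187, -12451, 1043, -1420, -263, -1310, -187, -322, 0, 0, -1])))) (.node (.node (.node (.leaf [0, 0, 0, 1]) (.leaf [0, 0, 0, 1])) (.node (.leaf [-188, 184, 158, -234, -13, 240, 21, 3, -59, -12, -23, 0, -1]) (.leaf [-4706, 3890, 343, -951, 3442, 2964, -1401, -445, -705, -392, -489, 84, 2, 1]))) (.node (.node (.leaf [68, 4, -138, 18, 63, -57, 19, -40, 26, 9, 2, 1]) (.leaf [-1539, -1140, -766, 143, 246, 693, -400, 273, 532, -207, -17, 44, -55])) (.node (.leaf [44, -22, -6, -12, -21, -25, 23, 2, 4, 6, -2, 1]) (.leaf [4844, -3952, -405, 986, -3496, -3060, 1455, 441, 726, 396, 499, -84, -2, -1])))))))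

def twoL68 : Janko.Tree (List ℤ) :=
  (.node (.node (.node (.node (.node (.node (.node (.leaf []) (.leaf [2, 15, 19, 11, 0, 6, -13, -2, -1, -2, -2, 0, 1])) (.leaf [])) (.node (.leaf [2, 0, 0, 1, 0, -1]) (.leaf [1]))) (.node (.node (.leaf []) (.leaf [3, 0, 1, 1, -1, -1])) (.node (.leaf []) (.leaf [0, 0, -1, 0, 1])))) (.node (.node (.node (.leaf [1, 0, 1, 0, -1]) (.leaf [-347, 240, 28, -112, 194, 241, -79, -23, -56, -21, -16, -5, 1])) (.node (.leaf [1, 0, 0, 1, 0, -1]) (.leaf [2, 0, 0, 1, 0, -1]))) (.node (.node (.leaf [-4, 6, -7, -3, 7, 3, 0, -3]) (.leaf [4732, -8756, -3246, -2182, -5516, -3940, 4486, 1416, 1208, 814, 936, 10, -6, 0, 1])) (.node (.leaf [-2, 0, -1, -1, 1, 1]) (.leaf [2323, -1574, -375, 949, -1313, -1560, 423, 57, 350, 165, 286, -68, -3, -1]))))) (.node (.node (.node (.node (.leaf [-25, -118, -22, -16, -36, -20, 16, 28, 8, 10, 13]) (.leaf [-1920, 762, -651, -833, 1196, 912, 69, -3, -135, -149, -169, 78, -3, 1])) (.node (.leaf [-108, 36, 19, -32, 48,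 65, -29, 3, -14, -2, -5]) (.leaf [186, -38, -108, 5, -30, -99, 62, -36, 30, 18, 9, -1, -1]))) (.node (.node (.leaf [8, 0, 5, 3, -5, -3]) (.leaf [1, 0, 0, 1, 0, -1])) (.node (.leaf [-3, -2, 0, -1, 0, 1, 0, 1]) (.leaf [-143776, -119284, -210547, -126324, 85436, -7215, 83967, 17044, 629, 23475, 17183, -1449, 2760, 0, 0, 1, 1])))) (.node (.node (.node (.leaf [1, 0, 1, 0, -1]) (.leaf [1])) (.node (.leaf [4, -2, 5, 0, -5, 0, 0, 1]) (.leaf [-3702, 2278, 525, -1271, 2149, 2324, -813, -81, -544, -217, -394, 90, 7, 1]))) (.node (.node (.leaf [3, 0, 1, 1, -1, -1]) (.leaf [20, -80, -24, -30, -41, -55, 69, 34, -2, 4, 0, 4])) (.node (.leaf [-241, 82, 135, -71, 68, 176, -93, 20, -34, -6, -21]) (.leaf [-18349, 20632, -424, 1664, 18528, 11242, -8810, -3715, -2462, -2050, -2091, 96, -94, 1, -1])))))) (.node (.node (.node (.node (.node (.leaf [1, 0, 1, 0, -1]) (.leaf [1])) (.node (.leaf [-111, -6, 25, -60, 31, 74, -24, 14, -4, 4, -12, 1]) (.leaf [-1745, 962, -142, -218, 1160, 1073, -571,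 -139, -72, -142, -128, 23, -23]))) (.node (.node (.leaf [1]) (.leaf [0, 0, 0, -1, 0, 1])) (.node (.leaf [1, 0, 0, 1, 0, -1]) (.leaf [-4471, -670, -453, -2619, 1042, 2722, -267, 407, -91, 79, -63, 10, -7, 1])))) (.node (.node (.node (.leaf [0, 0, 0, -1, 0, 1]) (.leaf [56, -2, -25, 34, -22, -41, 23, -3, 4, -7, 8, -1])) (.node (.leaf [-1, 0, 0, -1, 0, 1]) (.leaf [15281, -104388, -122201, -5399, -12540, -39640, 44225, 3881, 33248, 3144, 14658, -89, -2648, 0, 0, -1, -1]))) (.node (.node (.leaf [-70, 26, 35, -32, 30, 49, -25, 3, -12, 3, -8, 1]) (.leaf [0, 0, 0, -1, 0, 1])) (.node (.leaf [1]) (.leaf [20444, -12636, 2239, 1429, -15333, -11699, 7262, 2002, 1430, 1490, 1382, -90, 104, 0, 1]))))) (.node (.node (.node (.node (.leaf []) (.leaf [0, 0, 0, -1, 0, 1])) (.node (.leaf [-19, 26, -33, -8, 34, 7, 1, -12, -2, 0, 1]) (.leaf [1]))) (.node (.node (.leaf [-21, -6, 4, -7, 1, 12, -5, 3, -1, 0, 1]) (.leaf [-134, 228, 150, 3, 90, 122, -85, -16, -56, -20, -22, -1, 1])) (.node (.leaf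 [580, 2, -509, 52, 41, -452, 288, -146, 28, 54, 61, 1, 1]) (.leaf [-18124, 12010, -3605, -1074, 14801, 10142, -6294, -2271, -1120, -1372, -1227, 89, -104, 0, -1])))) (.node (.node (.node (.leaf [7, -2, 3, 5, -3, -5, 0, 1]) (.leaf [4, -8, -10, -6, -5, -3, 9, 1, 2, 0, 1])) (.node (.leaf [5, 106, 22, 7, 36, 29, -16, -22, -8, -10, -13]) (.leaf [1, 0, 1, 0, -1]))) (.node (.node (.leaf []) (.leaf [-235, 88, 118, -66, 76, 164, -86, 16, -36, -6, -18])) (.node (.leaf [-914, 1742, 810, 533, 1128, 567, -876, -222, -343, -144, -194, 26, 6, -1]) (.leaf [-9045, 17986, 40, 3408, 13744, 5444, -5900, -3579, -2440, -1478, -1498, 6, -4, 0, -1])))))))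

def twoL69 : Janko.Tree (List ℤ) :=
  (.node (.node (.node (.node (.node (.node (.node (.leaf [0, 1]) (.leaf [-4, 9, 19, 3, -2, 10, -11, 0, -1, -1, -2, 0, 1])) (.leaf [0, 1])) (.node (.leaf [98, -14, -37, 49, -31, -67, 28, -8, 11, -4, 9, -1]) (.leaf []))) (.node (.node (.leaf [0, 1]) (.leaf [])) (.node (.leaf [0, 1]) (.leaf [71, -28, -29, 22, -27, -50, 26, -2, 10, 1, 5])))) (.node (.node (.node (.leaf []) (.leaf [0, 1])) (.node (.leaf []) (.leaf [22427, -55294, -12880, -16917, -34113, -19966, 24695, 10720, 5573, 5932, 5260, -154, 316, 0, 1, -1]))) (.node (.node (.leaf [0, 1]) (.leaf [0, 1])) (.node (.leaf [886, -641, -483, 103, -442, -644, 419, 8, 160, 60, 92, 0, 1]) (.leaf [0, 1]))))) (.node (.node (.node (.node (.leaf [-10, -10, -2, -6, -2, 4, 2, 4, 1]) (.leaf [])) (.node (.leaf [0, 2, 2, 0, 0, 0, 0, 0, -1]) (.leaf []))) (.node (.node (.leaf [0, 1]) (.leaf [922, -431, -131, 269, -512, -566, 289, 36, 132, 5, 44, -2, 1])) (.node (.leaf [0, 1]) (.leaf [0, 1])))) (.node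 (.node (.node (.leaf []) (.leaf [])) (.node (.leaf [0, 1]) (.leaf [93724, -183590, 6108, -84198, -146284, -79032, 104840, 48636, -3084, 25379, 17048, 112, 3704, 0, 1, 0, 1]))) (.node (.node (.leaf []) (.leaf [0, -1, 0, -2, 0, 0, 0, 0, 0, 1])) (.node (.leaf []) (.leaf [-6496, 2575, -748, -2002, 3980, 3200, -978, -46, -697, -252, -434, 138, 4, 1])))))) (.node (.node (.node (.node (.node (.leaf []) (.leaf [-469, -934, -460, -813, -267, 228, 375, 185, 110, 104, 67, 2, -1])) (.node (.leaf [0, 2, 0, 2, 0, 0, 0, 0, 0, -1]) (.leaf [0, 1]))) (.node (.node (.leaf []) (.leaf [19673, -33782, -8291, -8920, -22801, -16084, 17216, 6271, 3207, 3866, 3519, -184, 212, 0, 1, -1])) (.node (.leaf []) (.leaf [])))) (.node (.node (.node (.leaf []) (.leaf [])) (.node (.leaf [-2, -1, -2, -2, 2, 0, 0, 0, 0, 1]) (.leaf [0, 1]))) (.node (.node (.leaf []) (.leaf [])) (.node (.leaf []) (.leaf [742, 129, 39, 303, -208, -398, 119, -78, 16, -11, 10, 0, -1]))))) (.node (.node (.node (.node (.leaf [0,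 1]) (.leaf [])) (.node (.leaf [0, 1]) (.leaf []))) (.node (.node (.leaf []) (.leaf [])) (.node (.leaf []) (.leaf [0, 1])))) (.node (.node (.node (.leaf [0, 1]) (.leaf [0, 1])) (.node (.leaf [0, 1]) (.leaf [477, -187, -114, 165, -186, -343, 140, -5, 50, 18, 30, 1]))) (.node (.node (.leaf [0, 1]) (.leaf [-3538, -2668, 508, -1930, -366, 1468, 22, 1200, -36, 148, -50, 68, 4, 0, 0, 0, 1])) (.node (.leaf [0, 1]) (.leaf [282, -33, -88, 48, -92, -188, 124, -17, 14, 2, 12, 4, 2])))))))

def twoL70 : Janko.Tree (List ℤ) :=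
  (.node (.node (.node (.node (.node (.node (.node (.leaf []) (.leaf [-4, 7, 17, 3, -2, 10, -11, 0, 0, -1, -2, 0, 1])) (.leaf [])) (.node (.leaf [-4, 0, -1, -1, 2, 2, -1]) (.leaf [117, -132, -119, 23, -52, -116, 73, 7, 30, 10, 19]))) (.node (.node (.leaf []) (.leaf [0, 0, 0, -1, 0, 0, 1])) (.node (.leaf [2, -2, 0, -1, -2, 0, 1, 0, 1]) (.leaf [0, 0, 1])))) (.node (.node (.node (.leaf [0, 0, 1]) (.leaf [])) (.node (.leaf [-6, 6, -4, -4, 6, 4, 0, -2, -1]) (.leaf [-4, 0, -1, -1, 2, 2, -1]))) (.node (.node (.leaf []) (.leaf [0, -2, -1, 1, 0, 0, -1, 0, 1])) (.node (.leaf [0, 0, 0, -1, 0, 0, 1]) (.leaf [3936, -4750, -1198, 647, -3224, -2992, 1649, 635, 813, 427, 579, -74, -5, -1]))))) (.node (.node (.node (.node (.leaf [0, 0, 1]) (.leaf [0, 0, 0, -1, 0, 0, 1])) (.node (.leaf [0, 0, 1]) (.leaf [115, 28, -9, 19, -39, -48, 37, -15, 5, -6, 0, 1, 1]))) (.node (.node (.leaf []) (.leaf [0, -2, -1, 0, 0, 0, 0, 0, 1])) (.node (.leaf [2512, 49772, 23871, 14993, 17759, 6261, -15702,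 -8812, -9085, -2869, -4213, -241, 334, -1, 0, 1]) (.leaf [-25622, 44894, -3463, 6244, 36924, 15178, -14774, -9789, -5945, -3253, -3389, -62, -9, 0, -1, 1])))) (.node (.node (.node (.leaf [0, 0, 1]) (.leaf [85, -110, -101, 55, -18, -112, 41, 8, 24, 8, 15])) (.node (.leaf [36, -34, -60, -2, -9, -39, 37, -1, 9, 2, 7]) (.leaf [-313, 520, 581, -139, 91, 443, -270, -39, -144, -9, -60, -11, 3]))) (.node (.node (.leaf [0, 0, 0, -1, 0, 0, 1]) (.leaf [338, -188, -295, 1, -111, -315, 284, 17, 37, 14, 25, 2, -1])) (.node (.leaf [4, 2, 6, 3, -1, -1, -2, 0, 0, 0, -1]) (.leaf [-3681, -418, -1192, -2228, 1285, 1837, 255, 309, -81, 16, -87, 58, -6, 1])))))) (.node (.node (.node (.node (.node (.leaf [0, 0, 1]) (.leaf [-5, 2, 0, -1, 3, 2, -1, 0, -1])) (.node (.leaf [0, 0, 1, 1, 0, 0, -1]) (.leaf [733, 148, -418, 130, 13, -409, 219, -194, 49, 42, 41, -15, 3]))) (.node (.node (.leaf [17, 6, -1, 11, 1, -10, -1, -4, 1]) (.leaf [1, -6, 2, 2, -3, -2, 0, 2, 1])) (.node (.leaf [-394, 226, -26,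 -69, 252, 230, -119, -40, -53, -15, 1, -5, -1]) (.leaf [0, 0, 0, -1, 0, 0, 1])))) (.node (.node (.node (.leaf [247, -88, -160, 79, -57, -198, 107, -17, 34, 6, 21]) (.leaf [0, 0, 1])) (.node (.leaf [0, 0, 1, 1, 0, 0, -1]) (.leaf [-76298, 201018, 215577, 81169, 44582, 132380, -154999, -20659, -19978, -28194, -30597, 924, -2005, 0, 0, 0, -1]))) (.node (.node (.leaf [0, 0, 0, -1, 0, 0, 1]) (.leaf [62, -32, -33, 15, -25, -47, 28, -1, 9, 2, 6])) (.node (.leaf [24973, -188132, 27778, -53456, -132723, -11185, 38625, 47519, 21943, 13034, 11596, 353, -379, 0, -1, 0, -1]) (.leaf [0, 2, 1, -2, 0, 0, 2, 0, -1]))))) (.node (.node (.node (.node (.leaf []) (.leaf [1, -2, 0, 0, -1, 0, 0, 0, 1])) (.node (.leaf [-5, 10, -19, -2, 15, -1, 3, -6, 0, 0, 1]) (.leaf [8, -2, 8, 6, -7, -1, -5, 0, 1, -1, 0, 0, 1]))) (.node (.node (.leaf [0, 0, 0, -1, 0, 0, 1]) (.leaf [215, -106, -146, 215, 18, -194, -37, -37, 66, 6, 16, 1, 1])) (.node (.leaf [0, 0, 1]) (.leaf [3096, -11060, -7602, -2411, -3850,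 -4768, 5437, 1589, 1839, 992, 1231, -59, -62, 0, 0, -1])))) (.node (.node (.node (.leaf []) (.leaf [-6, -12, -12, -4, 4, -3, 3, 1, 2, 2, 1])) (.node (.leaf []) (.leaf [0, 0, 1]))) (.node (.node (.leaf []) (.leaf [-2, -6, -3, 4, 1, -3, -1, 1, 1, 0, 1])) (.node (.leaf [5, -4, -2, 0, -3, -2, 2, 0, 2]) (.leaf [0, 0, 0, -1, 0, 0, 1])))))))

def twoL71 : Janko.Tree (List ℤ) :=
  (.node (.node (.node (.node (.node (.node (.node (.leaf []) (.leaf [4, -3, 3, 3, -2, -2, -3, 0, 1, 1, 0, 0, 1])) (.leaf [])) (.node (.leaf [0, 0, 0, 1]) (.leaf [-317, -1764, -766, -982, -735, 153, 605, 315, 288, 151, 167, -32, -7, 1]))) (.node (.node (.leaf []) (.leaf [0, 0, 0, 1])) (.node (.leaf []) (.leaf [8422, -30118, 6619, -7318, -23923, -4483, 7651, 8178, 3216, 1830, 1590, 224, 21, 1, 0, -1])))) (.node (.node (.node (.leaf []) (.leaf [-585, 50, 236, -82, 142, 319, -199, 80, -68, -16, -18, 0, -3])) (.node (.leaf [0, 0, 0, 1]) (.leaf [0, 0, 0, 1]))) (.node (.node (.leaf []) (.leaf [])) (.node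 (.leaf [0, 0, 0, 1]) (.leaf [3715, -2278, -545, 1273, -2147, -2339, 827, 79, 544, 217, 396, -90, -7, -1]))))) (.node (.node (.node (.node (.leaf []) (.leaf [0, 0, 0, 1])) (.node (.leaf [-1704, 82, -295, -642, 746, 843, -213, 69, -88, -8, -28, 17, -3]) (.leaf [0, 0, 0, 1]))) (.node (.node (.leaf [-220, 122, 61, -57, 105, 139, -62, 1, -40, -9, -12, -1]) (.leaf [0, 0, 0, 1])) (.node (.leaf [1852, 50104, 22661, 14865, 18813, 5987, -15327, -8878, -9155, -2909, -4257, -191, 338, -1, 0, 1]) (.leaf [])))) (.node (.node (.node (.leaf []) (.leaf [989, -1160, -374, 236, -685, -869, 437, 172, 201, 95, 109, 2, 1])) (.node (.leaf []) (.leaf [0, 0, 0, 1]))) (.node (.node (.leaf [0, 0, 0, 1]) (.leaf [0, 0, 0, 1])) (.node (.leaf [0, 0, 0, 1]) (.leaf [0, 0, 0, 1])))))) (.node (.node (.node (.node (.node (.leaf []) (.leaf [-4229, 4294, 758, -847, 3240, 2963, -1454, -536, -758, -410, -522, 71, 8, 1])) (.node (.leaf [0, 0, 0, 1]) (.leaf [5228, 2076, 757, 1520, -865, -2867, 983, -728, -542,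 197, 50, -70, 55]))) (.node (.node (.leaf []) (.leaf [0, 0, 0, 1])) (.node (.leaf [0, 0, 0, 1]) (.leaf [0, 0, 0, 1])))) (.node (.node (.node (.leaf [0, 0, 0, 1]) (.leaf [56, 0, -26, 35, -21, -41, 23, -4, 4, -7, 8, -1])) (.node (.leaf [0, 0, 0, 1]) (.leaf []))) (.node (.node (.leaf [0, 0, 0, 1]) (.leaf [0, 0, 0, 1])) (.node (.leaf []) (.leaf [0, 0, 0, 1]))))) (.node (.node (.node (.node (.leaf []) (.leaf [0, 0, 0, 1])) (.node (.leaf []) (.leaf [-897, -2012, -1962, -154, -34, 255, 196, 197, 852, -127, 105, 36, -57]))) (.node (.node (.leaf [0, 0, 0, 1]) (.leaf [0, 0, 0, 1])) (.node (.leaf [-168, 60, 40, -51, 71, 133, -71, -5, -6, -6, -14, 1]) (.leaf [])))) (.node (.node (.node (.leaf []) (.leaf [])) (.node (.leaf []) (.leaf []))) (.node (.node (.leaf []) (.leaf [0, 0, 0, 1])) (.node (.leaf [-60, 50, 0, -9, 48, 28, -14, -6, -15, -2, -2, 0, 0, -1]) (.leaf [0, 0, 0, 1])))))))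

def twoL72 : Janko.Tree (List ℤ) :=
  (.node (.node (.node (.node (.node (.node (.node (.leaf [3, 0, 1, 1, -1, -1]) (.leaf [0, 0, 4, -2, -3, 2, 0, 2])) (.leaf [1102, -42, -95, 628, -269, -762, 150, -77, 63, -8, 43, -1, 1])) (.node (.leaf []) (.leaf []))) (.node (.node (.leaf [3, 0, 1, 1, -1, -1]) (.leaf [62, -14, -37, 34, -19, -48, 24, -4, 8, -4, 8, -1])) (.node (.leaf [-2, 0, -1, -1, 1, 1]) (.leaf [2, 0, 0, 1, 0, -1])))) (.node (.node (.node (.leaf [-1, 0, 0, -1, 0, 1]) (.leaf [-3, 8, -9, -2, 9, 2, 0, -4])) (.node (.leaf [922, 830, 359, 678, 81, -360, -210, -247, -55, -38, -59, -15, -1]) (.leaf [-2, 0, -1, -1, 1, 1]))) (.node (.node (.leaf [0, 0, -1, 0, 1]) (.leaf [3, -2, 3, 1, -3, -1, 0, 1])) (.node (.leaf [-7, 0, -2, -5, 2, 5]) (.leaf [32, 38, -13, 40, 13, -28, 0, -12, -6, -6, 5, -1, 1]))))) (.node (.node (.node (.node (.leaf [1, 0, 0, 1, 0, -1]) (.leaf [-12319, 344516, 49317, 108834, 192334, 38913, -105011, -81443, -44353, -19568, -25094, -2927, 1127, 0, 1, 0,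 1])) (.node (.leaf [1, 0, 0, 1, 0, -1]) (.leaf []))) (.node (.node (.leaf [0, 0, -1, 0, 1]) (.leaf [0, 0, 0, -1, 0, 1])) (.node (.leaf [0, 0, -1, 0, 1]) (.leaf [0, 0, -1, 0, 1])))) (.node (.node (.node (.leaf [-59, 64, 165, -14, -33, 88, -52, 19, -24, -10, -16, -1]) (.leaf [])) (.node (.leaf [0, 0, 0, -1, 0, 1]) (.leaf [0, 2, -3, 0, 3, 0, 0, -1]))) (.node (.node (.leaf [1085, 136, -5, 480, -307, -638, 204, -99, 24, -22, 30, -1]) (.leaf [-6, -2, -2, -3, 2, 3, 0, 1])) (.node (.leaf []) (.leaf [-1654, 838, 710, -115, 806, 1175, -882, -14, -166, -89, -150, 1, -1])))))) (.node (.node (.node (.node (.node (.leaf [-1, 0, 0, -1, 0, 1]) (.leaf [-6540, 3178, -46, -2522, 3556, 4142, -1206, -220, -704, -316, -458, 99, 10, 1])) (.node (.leaf [7, 4, 1, 2, -1, -2, 0, -2]) (.leaf [6005, 1744, 333, 1731, -1127, -3494, 1357, -739, -450, 215, 114, -67, 55]))) (.node (.node (.leaf [1, 0, 0, 1, 0, -1]) (.leaf [1])) (.node (.leaf [-2, -6, 5, -2, -5, 2, 0, 3]) (.leaf [1, -2, 1, 1, -1, -1,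 0, 1])))) (.node (.node (.node (.leaf [419, -260, -292, 109, -146, -345, 200, -7, 76, 18, 43]) (.leaf [1])) (.node (.leaf [-12, -8, -1, -4, 1, 4, 0, 4]) (.leaf [0, 0, -1, 0, 1]))) (.node (.node (.leaf [778, -376, -91, 220, -429, -476, 228, 28, 110, 14, 36]) (.leaf [-228, 288, 140, 38, 185, 167, -149, -28, -54, -28, -34])) (.node (.leaf [-214036, 15476, 48099, -43442, 55562, 142995, -74205, 17193, -23, -12984, -12234, 2781, -2471, 0, -1, 0, -1]) (.leaf [69, -10, -33, 39, -20, -50, 21, -6, 8, -4, 8, -1]))))) (.node (.node (.node (.node (.leaf [1]) (.leaf [-63, 30, 34, -12, 25, 43, -27, 3, -11, -2, -5])) (.node (.leaf [-488, 210, 365, -56, 127, 352, -242, 47, -84, -26, -41, -1]) (.leaf [0, 0, -1, 0, 1]))) (.node (.node (.leaf []) (.leaf [-6, 18, -6, -2, 11, 7, -1, -5, -1, -2, -1])) (.node (.leaf [57, -4, 2, 30, -19, -35, 5, -4, 3, 0, 3]) (.leaf [69, -10, -33, 39, -20, -50, 21, -6, 8, -4, 8, -1])))) (.node (.node (.node (.leaf [0, 0, -1, 0, 1]) (.leaf [3, 0, 1, 1, -1,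 -1])) (.node (.leaf [0, 0, -1, 0, 1]) (.leaf [-4915, 3982, 439, -1004, 3522, 3113, -1485, -439, -735, -398, -505, 84, 2, 1]))) (.node (.node (.leaf [1]) (.leaf [150372, -184244, -17646, -68876, -154969, -119351, 126391, 42088, -815, 26967, 19931, -45, 3996, 0, 0, 1, 1])) (.node (.leaf [52, -22, -9, -9, -22, -28, 23, 0, 6, 6, -2, 1]) (.leaf [-7171, 13794, 4703, 3123, 8613, 5585, -6218, -2081, -2054, -1352, -1517, 85, 22, 0, -1])))))))

def twoL73 : Janko.Tree (List ℤ) :=
  (.node (.node (.node (.node (.node (.node (.node (.leaf []) (.leaf [-4, 0, 0, -2, 0, 3, 0, 2])) (.leaf [])) (.node (.leaf [0, 1]) (.leaf [0, 1]))) (.node (.node (.leaf []) (.leaf [0, 1])) (.node (.leaf [1244, -41, 59, 399, -502, -598, 205, -96, 84, 10, 36, -12, -1]) (.leaf [228838, -310610, -35665, -87627, -248404, -177606, 181937, 66761, 15345, 37204, 31551, 274, 4170, 0, 0, 0, 1])))) (.node (.node (.node (.leaf [-2, -6, -4, -4, 0, 2, 0, 0, 2, 1]) (.leaf [-145834, 113102, -21790, -14158, 126298,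 81172, -49574, -20582, -17261, -8254, -9988, -248, -218, 0, 0, 0, 1])) (.node (.leaf [0, 1]) (.leaf [-746, -122, -37, -303, 210, 400, -119, 78, -18, 10, -10, 0, 1]))) (.node (.node (.leaf []) (.leaf [-905, 1908, 817, 840, 1234, 641, -1087, -270, -273, -201, -214, -1, 5])) (.node (.leaf []) (.leaf [-41092, -294556, -219438, -148940, -61193, -70891, 154739, 52900, 28839, 30737, 32993, 695, 1114, -1, 1, 0, 1]))))) (.node (.node (.node (.node (.leaf []) (.leaf [0, 1])) (.node (.leaf []) (.leaf [0, 1]))) (.node (.node (.leaf []) (.leaf [])) (.node (.leaf [-91488, 145840, -19156, -9442, 124091, 47233, -29551, -29663, -29717, -4730, -9420, -835, 1445, -1, 0, 1, 1]) (.leaf [607, -285, -262, -47, -283, -326, 281, -36, 96, 47, 37, 0, -1])))) (.node (.node (.node (.leaf [6, 11, 4, 0, -2, 0, 2, -2, -2, -1]) (.leaf [0, 1])) (.node (.leaf []) (.leaf [0, 1]))) (.node (.node (.leaf [0, 1]) (.leaf [0, 1])) (.node (.leaf [0, 1]) (.leaf [0, 1])))))) (.node (.node (.node (.node (.node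 (.leaf [-6, 7, 2, -2, 2, 4, 0, 0, -2, -1]) (.leaf [])) (.node (.leaf []) (.leaf []))) (.node (.node (.leaf [-1504, 2032, 1917, 363, 738, 1638, -1505, -194, -382, -197, -192, -50, -1]) (.leaf [])) (.node (.leaf [0, 1]) (.leaf [687, -507, -501, -114, -344, -445, 433, -18, 141, 65, 68, 1, -3])))) (.node (.node (.node (.leaf []) (.leaf [136, -52, -59, 135, -2, -132, -13, -15, 16, 10, 20, -6, 1])) (.node (.leaf [0, 1]) (.leaf []))) (.node (.node (.leaf [0, 1]) (.leaf [])) (.node (.leaf []) (.leaf [-289004, 328347, 14505, 66733, 281762, 199774, -176887, -64395, -21101, -42084, -33867, 1996, -4722, 0, 0, 0, -1]))))) (.node (.node (.node (.node (.leaf []) (.leaf [5, -7, 3, 8, -7, -10, 4, 5, -1, -1, 1])) (.node (.leaf [0, 1]) (.leaf [52098, 89504, 54764, 24020, 13101, -19315, -9385, -15263, -25307, 908, -6522, -1157, 2589, -1, 0, 1, 1]))) (.node (.node (.leaf [0, 1]) (.leaf [0, 1])) (.node (.leaf [0, 1]) (.leaf [])))) (.node (.node (.node (.leaf []) (.leaf [])) (.node (.leaf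 []) (.leaf [-14584, 23935, 3034, 2776, 17392, 10296, -9158, -4374, -3480, -1937, -2156, -22, 2, 1, -1]))) (.node (.node (.leaf []) (.leaf [])) (.node (.leaf []) (.leaf [75, -52, -29, 14, -35, -52, 26, 1, 14, 6, 5])))))))

def twoL74 : Janko.Tree (List ℤ) :=
  (.node (.node (.node (.node (.node (.node (.node (.leaf [0, 0, 0, -1, 0, 0, 1]) (.leaf [3, -2, -5, 0, -1, -4, 4, 1, 1, 0, 1])) (.leaf [0, 0, 1])) (.node (.leaf [2, -2, -2, 1, 0, -2, 1, 0, 1]) (.leaf []))) (.node (.node (.leaf [0, 0, 0, -1, 0, 0, 1]) (.leaf [])) (.node (.leaf [0, 0, 0, -1, 0, 0, 1]) (.leaf [8294, -30106, 6732, -7405, -23945, -4357, 7612, 8198, 3198, 1830, 1582, 224, 21, 1, 0, -1])))) (.node (.node (.node (.leaf [0, 0, 1, 1, 0, 0, -1]) (.leaf [140, -50, -92, 42, -33, -103, 53, -15, 23, 4, 13])) (.node (.leaf [603, 994, 590, 604, 145, -122, -324, -214, -119, -64, -85, -14, -1]) (.leaf [0, 0, 0, -1, 0, 0, 1]))) (.node (.node (.leaf [0, 0, 1]) (.leaf [103, -166, -60, 49, -70, -117, 44, 28, 29, 12,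 14])) (.node (.leaf [0, 0, 1]) (.leaf [0, 0, 1]))))) (.node (.node (.node (.node (.leaf [0, 0, 1, 1, 0, 0, -1]) (.leaf [-9385, 344528, 44403, 110204, 193271, 35901, -103065, -82371, -43819, -19620, -24554, -2969, 1069, 0, 1, 0, 1])) (.node (.leaf [-1674, 82, -282, -635, 728, 835, -212, 67, -86, -8, -28, 17, -3]) (.leaf []))) (.node (.node (.leaf [0, 0, 1]) (.leaf [-1, 2, 1, 0, 1, 0, 0, 0, -1])) (.node (.leaf [0, 0, 1]) (.leaf [0, 0, 1])))) (.node (.node (.node (.leaf [0, 0, 1, 1, 0, 0, -1]) (.leaf [])) (.node (.leaf [22, -32, -75, -21, -3, -31, 48, -1, 8, 2, 7]) (.leaf [34, -26, -15, 10, -16, -25, 11, 1, 7, 2, 3]))) (.node (.node (.leaf []) (.leaf [-31056, 19204, 11973, -2429, 16909, 22363, -16018, -1256, -3467, -1983, -2921, 69, -44, -1, 0, 1])) (.node (.leaf []) (.leaf [-1738, 1046, 832, -115, 883, 1281, -956, -40, -204, -105, -174, 1, -1])))))) (.node (.node (.node (.node (.node (.leaf [0, 0, 1, 1, 0, 0, -1]) (.leaf [-4, 2, 0, -2, 2, 2, 0, 0, -1])) (.node (.leaf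 [78, -30, -44, 16, -27, -59, 39, -3, 9, 2, 7]) (.leaf [4, -2, -11, 5, 4, -9, 4, -1, 1, 0, 1]))) (.node (.node (.leaf [14, 2, -1, 10, 0, -10, 0, -2, 1]) (.leaf [-105, 40, 38, -28, 43, 69, -37, 4, -15, -2, -7])) (.node (.leaf [-15, -8, 14, -6, -5, 11, -5, 6, -1, 0, -1]) (.leaf [-2, -100, -4, 9, -34, -29, 0, 21, 7, 10, 12])))) (.node (.node (.node (.leaf [0, 0, 0, -1, 0, 0, 1]) (.leaf [])) (.node (.leaf [-30580, 18908, 11651, -2361, 16752, 22012, -15815, -1288, -3380, -1936, -2868, 64, -46, -1, 0, 1]) (.leaf [0, 0, 1]))) (.node (.node (.leaf []) (.leaf [0, 0, 1])) (.node (.leaf [0, 0, 1]) (.leaf [0, 0, 1]))))) (.node (.node (.node (.node (.leaf []) (.leaf [0, 0, 1])) (.node (.leaf [-948, 680, 569, -286, 360, 770, -368, -1, -204, -46, -77, -13, 1]) (.leaf [0, 0, 1]))) (.node (.node (.leaf []) (.leaf [4, -2, -10, 2, 2, -7, 5, -1, 1, 0, 1])) (.node (.leaf [91, -44, -2, 18, -58, -47, 25, 2, 13, 2, 5]) (.leaf [0, 0, 1])))) (.node (.node (.node (.leaf [0, 0, 1]) (.leaf [0,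 0, 0, -1, 0, 0, 1])) (.node (.leaf [0, 0, 1]) (.leaf [0, 0, 1, 1, 0, 0, -1]))) (.node (.node (.leaf [-5, 2, 0, -1, 3, 2, -1, 0, -1]) (.leaf [0, 0, 1])) (.node (.leaf [0, 0, 0, -1, 0, 0, 1]) (.leaf [59712, 406, -11687, -158, -13218, -46670, 31640, -2610, -8403, 6292, 3216, -518, 1820, 0, 0, 0, 1])))))))

def twoL75 : Janko.Tree (List ℤ) :=
  (.node (.node (.node (.node (.node (.node (.node (.leaf [0, 0, 0, 1]) (.leaf [-1, -1, -6, 0, 2, -3, 4, 1, 0, 0, 1])) (.leaf [981, 182, 20, 457, -259, -569, 167, -100, 12, -26, 24, -1])) (.node (.leaf []) (.leaf []))) (.node (.node (.leaf [0, 0, 0, 1]) (.leaf [70, -10, -35, 38, -21, -51, 24, -6, 8, -4, 8, -1])) (.node (.leaf [0, 0, 0, 1]) (.leaf [0, 0, 0, 1])))) (.node (.node (.node (.leaf [0, 0, 0, 1]) (.leaf [0, 0, 0, 1])) (.node (.leaf [15, 482, 772, 264, -45, 212, -373, -14, -113, -36, -63, -14, -1]) (.leaf [0, 0, 0, 1]))) (.node (.node (.leaf [-1026, 602, 649, -336, 313, 805, -371, 44, -212, -44, -84, -6, 1]) (.leaf [0, 0, 0,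 1])) (.node (.leaf [18, 14, -14, 18, 13, -15, -3, -9, 0, 1, 2, -1]) (.leaf [-312, 126, 189, -86, 78, 234, -119, 24, -49, -13, -24, 0, -1]))))) (.node (.node (.node (.node (.leaf [0, 0, 0, 1]) (.leaf [])) (.node (.leaf [0, 0, 0, 1]) (.leaf []))) (.node (.node (.leaf [-222, 124, 80, -58, 97, 149, -69, 3, -40, -10, -14, -1]) (.leaf [0, 0, 0, 1])) (.node (.leaf []) (.leaf [-70, 10, 32, -40, 21, 51, -21, 6, -8, 4, -8, 1])))) (.node (.node (.node (.leaf [0, 0, 0, 1]) (.leaf [])) (.node (.leaf [0, 0, 0, 1]) (.leaf [-988, 22, -236, -410, 415, 485, -57, 56, -33, -19, -25, 13, -3]))) (.node (.node (.leaf [1077, 40, -49, 430, -347, -647, 248, -79, 36, -14, 38, -1]) (.leaf [-44740, 55850, 5887, 5079, 46272, 30354, -26320, -10543, -7671, -4217, -5155, -245, -94, -1, 0, 1])) (.node (.leaf []) (.leaf [-984, 434, 392, -107, 455, 699, -501, 0, -86, -45, -86, 1, -1])))))) (.node (.node (.node (.node (.node (.leaf [0, 0, 0, 1]) (.leaf [0, 0, 0, 1])) (.node (.leaf [0, 0, 0, 1]) (.leaf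 [0, 0, 0, 1]))) (.node (.node (.leaf [0, 0, 0, 1]) (.leaf [])) (.node (.leaf []) (.leaf [0, 0, 0, 1])))) (.node (.node (.node (.leaf [0, 0, 0, 1]) (.leaf [])) (.node (.leaf [-30826, 19000, 11779, -2449, 16828, 22198, -15908, -1276, -3416, -1938, -2888, 64, -46, -1, 0, 1]) (.leaf [-84, 56, 69, -37, 33, 73, -42, -1, -19, 2, -11, 1]))) (.node (.node (.leaf [54, -46, -17, 12, -27, -31, 8, -1, 16, 5, 2, 1]) (.leaf [69658, -31708, 3489, 16004, -44473, -40481, 20877, 3998, 6729, 1479, 3327, 323, -2, 1, 0, -1])) (.node (.leaf []) (.leaf [70, -10, -34, 39, -21, -51, 23, -6, 8, -4, 8, -1]))))) (.node (.node (.node (.node (.leaf []) (.leaf [])) (.node (.leaf [-522, 318, 347, -62, 183, 389, -248, 21, -96, -38, -45, -1]) (.leaf [-70, 12, 34, -40, 21, 53, -23, 5, -8, 4, -8, 1]))) (.node (.node (.leaf []) (.leaf [])) (.node (.leaf []) (.leaf [70, -10, -34, 39, -21, -51, 23, -6, 8, -4, 8, -1])))) (.node (.node (.node (.leaf []) (.leaf [0, 0, 0, 1])) (.node (.leaf []) (.leaf [0, 0,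 0, 1]))) (.node (.node (.leaf [0, 0, 0, 0, 0, 0, 0, 0, 0, 0, 0, 0, 0, 1, 0, 0, 0]) (.leaf [90, 124, 203, -54, -21, -45, 5, -12, -107, 53, 10, -10, 4])) (.node (.leaf [0, 0, 0, 1]) (.leaf [0, 0, 0, 1])))))))

def twoL76 : Janko.Tree (List ℤ) :=
  (.node (.node (.node (.node (.node (.node (.node (.leaf []) (.leaf [7, -1, -2, 2, -3, -6, 5, 1, 0, 0, 1])) (.leaf [1, 2, -1, 0, 1, 0, 0, -1])) (.node (.leaf [-2, 0, -1, -1, 1, 1]) (.leaf [1]))) (.node (.node (.leaf [-240, 68, -119, -76, 185, 104, -38, -25, -14, 4, 0, 1]) (.leaf [1])) (.node (.leaf [1]) (.leaf [11407, 23846, 77629, -12618, -25015, 8018, -6142, 8198, -19819, 2845, -5673, 270, 2256, 0, 1, 0, 1])))) (.node (.node (.node (.leaf [6, -2, 4, 3, -4, -3, 0, 1]) (.leaf [1116, -1024, -403, 349, -639, -935, 428, 127, 205, 77, 101, 1, 1])) (.node (.leaf [-86, 164, 64, -41, 62, 105, -40, -27, -30, -12, -13]) (.leaf [-4, -4, 1, -2, -1, 2, 0, 2]))) (.node (.node (.leaf [2, 0, 0, 1, 0, -1]) (.leaf [-1114, 1518, 581, 39, 917,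 871, -622, -176, -279, -144, -160, -1, 1])) (.node (.leaf []) (.leaf [0, 0, 0, -1, 0, 1]))))) (.node (.node (.node (.node (.leaf []) (.leaf [9125, -18526, -322, -3583, -13938, -5547, 6066, 3638, 2548, 1531, 1545, -3, 4, 0, 1])) (.node (.leaf [3, -2, 5, 0, -5, 0, 0, 1]) (.leaf [23, -24, -17, 4, -12, -21, 13, 2, 5, 2, 3]))) (.node (.node (.leaf []) (.leaf [])) (.node (.leaf [2, 0, 0, 1, 0, -1]) (.leaf [-72, 10, 33, -39, 22, 52, -23, 6, -8, 4, -8, 1])))) (.node (.node (.node (.leaf []) (.leaf [1])) (.node (.leaf []) (.leaf [-74, 28, 39, -18, 24, 49, -27, 6, -13, -2, -5]))) (.node (.node (.leaf [1]) (.leaf [0, 0, -1, 0, 1])) (.node (.leaf [13, -6, 16, 2, -15, -1, -1, 3, 1, 0, -1]) (.leaf [3, 0, 1, 1, -1, -1])))))) (.node (.node (.node (.node (.node (.leaf [-6, -6, 1, -2, -1, 2, 0, 3]) (.leaf [])) (.node (.leaf []) (.leaf [0, -8, 9, -1, -9, 1, 0, 4]))) (.node (.node (.leaf []) (.leaf [-86, 36, 47, -22, 30, 63, -37, 4, -13, -2, -7])) (.node (.leaf [0, 0, 0, -1, 0, 1]) (.leaf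 [-409, 64, 61, -55, 183, 251, -176, 11, -9, -10, -24, 1, -1])))) (.node (.node (.node (.leaf []) (.leaf [1, 0, 1, 0, -1])) (.node (.leaf [0, 0, -1, 0, 1]) (.leaf [4913, -3708, -154, 1054, -3522, -2994, 1384, 422, 694, 366, 460, -80, -8, -1]))) (.node (.node (.leaf [1]) (.leaf [-2, 2, -3, -1, 3, 1, 0, -1])) (.node (.leaf [1, 0, 0, 1, 0, -1]) (.leaf [42784, -45482, 57289, 6400, -69529, -7368, 552, 16581, 6110, -318, -158, 634, -108, 0, 0, -1, -1]))))) (.node (.node (.node (.node (.leaf [1, 0, 1, 0, -1]) (.leaf [-206, 62, -18, -18, 113, 103, -63, -4, -14, -12, -2, 1])) (.node (.leaf [1]) (.leaf [6604, -2498, 711, 2049, -3968, -3264, 1007, 17, 693, 245, 435, -138, -3, -1]))) (.node (.node (.leaf [1]) (.leaf [1])) (.node (.leaf [0, 0, 0, -1, 0, 1]) (.leaf [0, 0, 0, -1, 0, 1])))) (.node (.node (.node (.leaf [2, 0, 0, 1, 0, -1]) (.leaf [1])) (.node (.leaf [2, 0, 0, 1, 0, -1]) (.leaf [107232, -13492, 9832, 18592, -44199, -65189, 29917, -1684, -3883, 7416, 3973, -1211, 2135,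 0, 1, 0, 1]))) (.node (.node (.leaf [1115, -1808, -878, -471, -1200, -703, 942, 214, 368, 148, 206, -26, -6, 1]) (.leaf [236622, -285564, -37983, -77097, -235420, -180450, 177611, 59110, 13157, 35809, 30547, -33, 4192, 0, 0, 1, 1])) (.node (.leaf []) (.leaf [-73939, 449668, 29024, 128862, 287650, 74042, -143876, -107875, -55698, -26306, -31747, -4254, 1046, -1, 0, 1, 1])))))))

def twoL77 : Janko.Tree (List ℤ) :=
  (.node (.node (.node (.node (.node (.node (.node (.leaf [0, 1]) (.leaf [7, -1, -2, 2, -3, -6, 5, 1, 0, 0, 1])) (.leaf [0, 1])) (.node (.leaf [-240, -21, 83, -197, -6, 194, -15, 32, -24, 10, -6, 0, -1]) (.leaf []))) (.node (.node (.leaf [0, 1]) (.leaf [75, -54, -29, 12, -35, -52, 26, 1, 14, 7, 5])) (.node (.leaf []) (.leaf [0, 1])))) (.node (.node (.node (.leaf [0, 1]) (.leaf [0, 1])) (.node (.leaf [0, 1]) (.leaf []))) (.node (.node (.leaf []) (.leaf [0, 1])) (.node (.leaf [0, 1]) (.leaf [93331, -220866, -215044, -83143, -62347, -142954, 163625, 24401, 22214,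 30147, 32582, -998, 2087, -1, 1, 0, 1]))))) (.node (.node (.node (.node (.leaf [0, 1]) (.leaf [])) (.node (.leaf [0, 1]) (.leaf [0, 1]))) (.node (.node (.leaf [0, 1]) (.leaf [0, 1])) (.node (.leaf []) (.leaf [])))) (.node (.node (.node (.leaf [0, 1]) (.leaf [])) (.node (.leaf [0, 1]) (.leaf []))) (.node (.node (.leaf []) (.leaf [])) (.node (.leaf [0, 1]) (.leaf [-26443, -40917, 49745, -3966, -38369, 36606, -25662, 15485, 10348, -2672, -1885, 503, -1320, 1, -1, 0, -1])))))) (.node (.node (.node (.node (.node (.leaf [0, 1]) (.leaf [0, 1])) (.node (.leaf [0, 1]) (.leaf [0, 1]))) (.node (.node (.leaf [0, 1]) (.leaf [0, -1, -2, 0, 0, 0, 0, 0, 1])) (.node (.leaf []) (.leaf [0, 1])))) (.node (.node (.node (.leaf [0, 1]) (.leaf [])) (.node (.leaf [76, -22, -41, 39, -25, -59, 28, -4, 10, -3, 9, -1]) (.leaf [0, 1]))) (.node (.node (.leaf []) (.leaf [-2212, -909, -265, -2110, -42, 1510, 356, 355, -45, 131, 23, -6, -3, 1])) (.node (.leaf [-2, -1, -2, -2, 2, 0, 0, 0, 0, 1]) (.leaf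 [0, 1]))))) (.node (.node (.node (.node (.leaf []) (.leaf [])) (.node (.leaf []) (.leaf [0, 1]))) (.node (.node (.leaf []) (.leaf [])) (.node (.leaf []) (.leaf [])))) (.node (.node (.node (.leaf []) (.leaf [])) (.node (.leaf [463, -189, -112, 159, -178, -329, 128, -7, 53, 20, 28, 1]) (.leaf [0, 1]))) (.node (.node (.leaf []) (.leaf [0, -1, 0, -2, 0, 0, 0, 0, 0, 1])) (.node (.leaf [0, 1]) (.leaf [0, 1])))))))

def twoL78 : Janko.Tree (List ℤ) :=
  (.node (.node (.node (.node (.node (.node (.leaf []) (.leaf [])) (.node (.leaf [0, 0, 0, -1, 0, 0, 1]) (.leaf [-17, 14, 8, -12, 3, 17, -1, 0, -4, -2, -1]))) (.node (.node (.leaf []) (.leaf [-3, -2, -1, -1, 1, 2, -1, 0, 1])) (.node (.leaf [-5, 2, 0, -1, 3, 2, -1, 0, -1]) (.leaf [15007, 17898, 76049, -13074, -28829, 5525, -4127, 9002, -18776, 3436, -5013, 159, 2243, 0, 1, 0, 1])))) (.node (.node (.node (.leaf []) (.leaf [1165, -1040, -402, 369, -665, -969, 442, 129, 208, 77, 104, 1, 1])) (.node (.leaf []) (.leaf [-167, 54, 74,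 -48, 53, 111, -55, 13, -25, -4, -11]))) (.node (.node (.leaf [-1178, 694, 662, -371, 411, 895, -418, 34, -236, -48, -92, -6, 1]) (.leaf [-576, 1102, 388, 171, 639, 453, -420, -145, -192, -102, -112, -1, 1])) (.node (.leaf []) (.leaf [1, -2, 0, 0, -1, 0, 0, 0, 1]))))) (.node (.node (.node (.node (.leaf []) (.leaf [0, 0, 1])) (.node (.leaf []) (.leaf [1, -4, -5, -4, -3, -1, 5, 0, 1, 0, 1]))) (.node (.node (.leaf [6, 6, 3, -1, -2, 0, 1, -2, -1]) (.leaf [650, -470, -73, 257, -452, -470, 221, 84, 103, -1, 52, 0, -3])) (.node (.leaf [-4, 0, -1, -1, 2, 2, -1]) (.leaf [0, 0, 0, -1, 0, 0, 1])))) (.node (.node (.node (.leaf []) (.leaf [-9, 26, 20, -4, 5, 19, -11, -4, -4, -2, -3])) (.node (.leaf [-367, 104, -289, -16, 340, 111, -71, -45, 23, -38, -18, 21, 5]) (.leaf [0, 0, 1]))) (.node (.node (.leaf [17, 6, -1, 11, 1, -10, -1, -4, 1]) (.leaf [0, 0, 1])) (.node (.leaf [-67, 18, 64, -20, 6, 57, -33, 11, -9, -2, -9]) (.leaf [0, 0, 0, -1, 0, 0, 1])))))) (.node (.node (.node (.node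 (.node (.leaf []) (.leaf [])) (.node (.leaf []) (.leaf [14, -22, -17, 7, -5, -21, 10, 3, 3, 2, 3]))) (.node (.node (.leaf []) (.leaf [0, 0, 1])) (.node (.leaf [-173, 70, 65, -43, 69, 111, -60, 6, -28, -4, -9]) (.leaf [-972, 512, 394, -89, 489, 701, -508, -18, -94, -52, -92, 1, -1])))) (.node (.node (.node (.leaf []) (.leaf [0, 0, 1])) (.node (.leaf [0, 0, 1]) (.leaf [4892, -3690, -213, 1032, -3481, -2975, 1383, 401, 703, 368, 461, -80, -8, -1]))) (.node (.node (.leaf [244, -78, -138, 72, -65, -177, 93, -22, 34, 6, 21]) (.leaf [69464, -31660, 3570, 15923, -44419, -40337, 20814, 4010, 6711, 1475, 3309, 327, -2, 1, 0, -1])) (.node (.leaf [0, 0, 1, 1, 0, 0, -1]) (.leaf [-247540, -1434074, -677576, -640334, -458096, -159439, 550473, 300381, 165018, 118888, 126988, 5168, 594, 0, 0, 0, -1]))))) (.node (.node (.node (.node (.leaf [0, 0, 1]) (.leaf [0, 0, 1, 1, 0, 0, -1])) (.node (.leaf [-5, -6, -1, -3, -1, 2, 1, 2, 1]) (.leaf [6810, -2560, 645, 2063, -4057, -3370, 1091, 8,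 722, 253, 442, -142, -3, -1]))) (.node (.node (.leaf []) (.leaf [526, -282, -328, 122, -171, -419, 241, -16, 81, 28, 48])) (.node (.leaf [11, 2, 0, 6, -1, -6, 0, -2, 1]) (.leaf [1, -2, 0, 0, -1, 0, 0, 0, 1])))) (.node (.node (.node (.leaf [-4, 0, -1, -1, 2, 2, -1]) (.leaf [5, -2, 3, 3, -3, -2, -1, 0, 1])) (.node (.leaf [-4, 0, -1, -1, 2, 2, -1]) (.leaf [-50222, 275780, 6176, 80684, 181772, 43677, -84757, -65978, -31981, -18810, -20129, -1507, 515, 0, 1, 0, 1]))) (.node (.node (.leaf [4, -2, 8, 2, -6, -2, 0, 2, -1]) (.leaf [-1216, 520, 318, -361, 585, 791, -412, -8, -169, -9, -74, 2, -2])) (.node (.leaf []) (.leaf [-82828, 411094, 71173, 97998, 245842, 86487, -136425, -89474, -60243, -22302, -31800, -3476, 1748, -1, 0, 1, 1])))))))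

def twoL79 : Janko.Tree (List ℤ) :=
  (.node (.node (.node (.node (.node (.node (.leaf []) (.leaf [])) (.node (.leaf [0, 0, 0, 1]) (.leaf [-195, 612, 374, 458, 443, 107, -481, -97, -82, -46, -85, 5, -1]))) (.node (.node (.leaf [218, -124, -61, 58, -103, -139, 60, -1, 40, 10, 12, 1]) (.leaf [])) (.node (.leaf []) (.leaf [310763, -285652, 48529, -66584, -299303, -203664, 180378, 68993, 1523, 38901, 27375, -266, 6300, 0, 0, 0, 1])))) (.node (.node (.node (.leaf [-124, 28, 96, -67, 28, 103, -52, 14, -18, 7, -18, 1]) (.leaf [1125, -1016, -402, 351, -639, -939, 431, 125, 204, 77, 100, 1, 1])) (.node (.leaf []) (.leaf [0, 0, 0, 1]))) (.node (.node (.leaf [0, 0, 0, 1]) (.leaf [-1170, 1550, 610, 21, 939, 915, -643, -175, -288, -146, -166, -1, 1])) (.node (.leaf []) (.leaf [0, 0, 0, 1]))))) (.node (.node (.node (.node (.leaf []) (.leaf [])) (.node (.leaf []) (.leaf []))) (.node (.node (.leaf []) (.leaf [1094, -518, -284, 309, -543, -709, 371, 16, 164, 16, 64, -1])) (.node (.leaf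 [0, 0, 0, 1]) (.leaf [0, 0, 0, 1])))) (.node (.node (.node (.leaf []) (.leaf [-759, -1914, -2048, -146, 3, 209, 225, 134, 862, -122, 105, 35, -57])) (.node (.leaf [-511, 186, 255, -112, 170, 377, -233, 19, -62, -13, -34, -3]) (.leaf [13872, -28364, 3915, -4664, -23593, -7963, 8823, 6862, 3567, 1763, 1851, 129, 10, 1, 0, -1]))) (.node (.node (.leaf []) (.leaf [-72802, 42432, 18822, 11628, 40254, 57662, -47368, -6194, 2782, -9648, -6843, 480, -1793, 0, 0, 0, -1])) (.node (.leaf []) (.leaf [0, 0, 0, 1])))))) (.node (.node (.node (.node (.node (.leaf []) (.leaf [])) (.node (.leaf []) (.leaf []))) (.node (.node (.leaf []) (.leaf [-1137, 1032, 406, -358, 649, 949, -433, -127, -208, -77, -102, -1, -1])) (.node (.leaf [0, 0, 0, 1]) (.leaf [854, 136, 34, 371, -255, -493, 167, -72, 6, -22, 20, -1, 1])))) (.node (.node (.node (.leaf []) (.leaf [])) (.node (.leaf []) (.leaf [4290, -1824, 106, 1441, -2434, -2344, 700, -2, 466, 200, 346, -100, 2, -1]))) (.node (.node (.leaf [])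 (.leaf [0, 0, 0, 1])) (.node (.leaf [0, 0, 0, 1]) (.leaf []))))) (.node (.node (.node (.node (.leaf []) (.leaf [0, 0, 0, 1])) (.node (.leaf [-257, 192, 38, -38, 166, 187, -109, -32, -30, -15, -14, -2, -3]) (.leaf [4650, -1220, 537, 2065, -2291, -2496, 368, -112, 426, 113, 264, -84, 3, -1]))) (.node (.node (.leaf [24, -38, 1, -1, -13, -21, 4, 6, 4, 10, 0, -1]) (.leaf [111975, 153304, 214560, 164512, -27565, 40923, -154787, -37557, 7028, -18681, -20799, -4310, -2333, 1, -1, -1, -1])) (.node (.leaf [0, 0, 0, 1]) (.leaf [0, 0, 0, 1])))) (.node (.node (.node (.leaf [0, 0, 0, 1]) (.leaf [-66444, 10818, -21933, -14796, 31023, 34586, -6662, 953, 1999, -6410, -1797, 1262, -1416, 1, -1, -1, -1])) (.node (.leaf [0, 0, 0, 1]) (.leaf []))) (.node (.node (.leaf [0, 0, 0, 1]) (.leaf [0, 0, 0, 1])) (.node (.leaf []) (.leaf [107663, -45656, 81107, -43149, -102943, -64808, 63286, 26027, -30008, 17982, 4473, -456, 4810, -1, 0, 1, 1])))))))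

def twoL80 : Janko.Tree (List ℤ) :=
  (.node (.node (.node (.node (.node (.node (.leaf [-12, -2, -4, -6, 4, 6, 0, 1]) (.leaf [0, 0, 0, -1, 0, 1])) (.node (.leaf [-1, 4, -4, -1, 4, 1, 0, -2]) (.leaf [-12, 14, 9, -8, 2, 13, -1, 0, -4, -2, -1]))) (.node (.node (.leaf [1]) (.leaf [1, 0, 0, 1, 0, -1])) (.node (.leaf [1, 0, 0, 1, 0, -1]) (.leaf [14, 2, 6, 6, -6, -6, 0, -1])))) (.node (.node (.node (.leaf [0, 0, -1, 0, 1]) (.leaf [-30592, 41536, 84517, -19675, -2938, 34566, -21999, 7635, -23361, 944, -8596, 443, 2167, 0, 1, 0, 1])) (.node (.leaf [0, 0, -1, 0, 1]) (.leaf []))) (.node (.node (.leaf []) (.leaf [0, 0, -1, 0, 1])) (.node (.leaf [1]) (.leaf [64907, 73720, 59898, 19892, -2454, -25124, -3632, -11558, -23916, 2892, -5818, -1288, 2828, 0, 0, 0, 1]))))) (.node (.node (.node (.node (.leaf [1]) (.leaf [-3359, -1824, 102, -1867, 73, 1958, -435, 622, 105, 131, 13, 29, 12, 0, 1])) (.node (.leaf [0, 0, 0, -1, 0, 1]) (.leaf [1]))) (.node (.node (.leaf [40, 16, 117, 15, -72,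 12, -9, 19, -10, -8, -8, -1]) (.leaf [3, 0, 1, 1, -1, -1])) (.node (.leaf []) (.leaf [-58722, -41282, -32409, -12166, 7839, 29338, -6934, 7760, 16123, -4007, 1877, 1136, -2248, 0, -1, 0, -1])))) (.node (.node (.node (.leaf [1]) (.leaf [-6, 2, 15, -4, -4, 9, -5, 2, -2, 0, -1])) (.node (.leaf [72, -36, -48, 16, -25, -57, 37, -2, 11, 2, 7]) (.leaf [-1026, 44, -215, -419, 434, 514, -77, 55, -39, -19, -29, 13, -3]))) (.node (.node (.leaf [1, 0, 0, 1, 0, -1]) (.leaf [90, -22, -33, 43, -27, -65, 24, -6, 10, 0, 8, -1])) (.node (.leaf [0, 0, 0, -1, 0, 1]) (.leaf [-62, 10, 37, -32, 19, 46, -24, 6, -8, 4, -8, 1])))))) (.node (.node (.node (.node (.node (.leaf [0, 0, -1, 0, 1]) (.leaf [1])) (.node (.leaf [234, -48, -77, 61, -77, -151, 92, -7, 21, 7, 11, -7, -1]) (.leaf [0, 0, 0, -1, 0, 1]))) (.node (.node (.leaf [1]) (.leaf [1, 0, 0, 1, 0, -1])) (.node (.leaf []) (.leaf [0, 0, -1, 0, 1])))) (.node (.node (.node (.leaf [1]) (.leaf [-1, 0, 0, -1, 0, 1])) (.node (.leaf [2, 0, 0,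 1, 0, -1]) (.leaf [204, -138, -184, 30, -62, -170, 118, -7, 45, 11, 20, 1, -1]))) (.node (.node (.leaf [-11, 6, 35, -8, -10, 23, -15, 2, -2, 0, -3]) (.leaf [163, 150, -5, 60, 2, -65, 37, -42, -9, -16, -8])) (.node (.leaf [-73, 16, 36, -38, 23, 53, -23, 6, -10, 3, -8, 1]) (.leaf [-60345, -85540, -48407, -24133, -10196, 25478, 3855, 15462, 23853, -1081, 6055, 1015, -2534, 0, 0, -1, -1]))))) (.node (.node (.node (.node (.leaf [-1, 0, 0, -1, 0, 1]) (.leaf [-412, 150, 82, -62, 193, 237, -143, 7, -48, -18, -18, 2])) (.node (.leaf []) (.leaf [-72, 12, 33, -41, 22, 54, -23, 5, -8, 4, -8, 1]))) (.node (.node (.leaf [1, 0, 1, 0, -1]) (.leaf [539, -302, -325, 124, -186, -433, 249, -10, 81, 30, 50])) (.node (.leaf [1]) (.leaf [34984, -222080, -57633, -108064, -108737, -63478, 103426, 49193, 6602, 32139, 21187, -1764, 3683, 0, 0, 0, 1])))) (.node (.node (.node (.leaf []) (.leaf [104149, -158558, 13843, 11977, -132087, -58113, 35980, 31597, 32195, 5530, 10409, 1020, -1472, 1, -1,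 -1, -1])) (.node (.leaf []) (.leaf [173383, -149676, 42993, -21912, -164395, -106248, 82248, 35579, 2618, 20316, 13685, -634, 3274, 0, 0, 1, 1]))) (.node (.node (.leaf [-911, -270, -23, -724, 77, 618, 14, 122, -18, 46, -15, 1, -1]) (.leaf [120850, -23604, 45107, 1031, -71511, -67207, 37664, 6488, -12955, 12511, 4013, -1567, 3312, 0, 0, 1, 1])) (.node (.leaf [1]) (.leaf [1])))))))

def twoL81 : Janko.Tree (List ℤ) :=
  (.node (.node (.node (.node (.node (.node (.leaf [0, 1]) (.leaf [])) (.node (.leaf []) (.leaf [0, 2, 2, 0, 0, 0, 0, 0, -1]))) (.node (.node (.leaf []) (.leaf [-754, 396, 423, -105, 284, 538, -341, 32, -116, -49, -68, 2, 1])) (.node (.leaf []) (.leaf [])))) (.node (.node (.node (.leaf []) (.leaf [-2, -1, -2, -2, 2, 0, 0, 0, 0, 1])) (.node (.leaf []) (.leaf [0, 1]))) (.node (.node (.leaf [0, 1]) (.leaf [-65, 37, 35, -14, 25, 46, -26, 2, -12, -3, -5])) (.node (.leaf []) (.leaf [0, 1]))))) (.node (.node (.node (.node (.leaf []) (.leaf [0, 6, 4, 2, 0, 0, 0,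 0, -2, -1])) (.node (.leaf []) (.leaf []))) (.node (.node (.leaf []) (.leaf [60212, 91686, -45474, 31792, 56490, -49534, 15732, -31794, -14868, 929, -186, -1604, 1680, -1, 0, 1, 1])) (.node (.leaf [0, 1]) (.leaf [0, 1])))) (.node (.node (.node (.leaf []) (.leaf [0, 2, 2, 0, 0, 0, 0, 0, -1])) (.node (.leaf []) (.leaf []))) (.node (.node (.leaf [828, -403, -611, 103, -210, -770, 547, 6, 84, 41, 52, 18, 1]) (.leaf [0, 1])) (.node (.leaf [21812, -34294, -8284, -8046, -23668, -17312, 17490, 6196, 3437, 3912, 3580, -192, 214, 0, 1, -1]) (.leaf [0, 1])))))) (.node (.node (.node (.node (.node (.leaf []) (.leaf [-892, 422, 645, -123, 224, 814, -567, 1, -94, -43, -56, -18, -1])) (.node (.leaf [0, 1]) (.leaf [-35537, 361718, 46436, 107462, 210999, 52557, -113343, -84482, -46368, -21475, -26671, -2856, 993, 0, 0, 0, 1]))) (.node (.node (.leaf []) (.leaf [12468, 18702, 76500, -14066, -27820, 7136, -4692, 9078, -19076, 3371, -5164, 194, 2246, 0, 1, 0, 1])) (.node (.leaf [0, 1])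 (.leaf [-7, 13, 7, -4, 3, 6, 0, 0, -4, -1, -1])))) (.node (.node (.node (.leaf []) (.leaf [139, -54, -65, 16, -53, -84, 56, -10, 22, 6, 9])) (.node (.leaf []) (.leaf [0, 1]))) (.node (.node (.leaf [4, -10, 6, 0, -10, -2, 2, 4, 1]) (.leaf [0, 1])) (.node (.leaf [0, 1]) (.leaf [0, 2, 0, 2, 0, 0, 0, 0, 0, -1]))))) (.node (.node (.node (.node (.leaf [0, 15, -4, 2, 8, 0, 0, -4, -2, -1]) (.leaf [0, 1])) (.node (.leaf [0, 1]) (.leaf []))) (.node (.node (.leaf []) (.leaf [-2, 11, -6, 2, 10, 0, -2, -4, -1])) (.node (.leaf []) (.leaf [0, 1])))) (.node (.node (.node (.leaf [0, 1]) (.leaf [80, -3, 19, -59, -40, 12, 15, -18, 12, 17, -8, 0, -1])) (.node (.leaf [0, 1]) (.leaf [371, 57, -192, 37, -46, -195, 146, -80, 30, 7, 16, -1]))) (.node (.node (.leaf [0, 1]) (.leaf [0, 1])) (.node (.leaf []) (.leaf [198, -209, 627, -83, -490, 186, -139, 83, -2, 57, 6, -36, -3])))))))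

def twoL82 : Janko.Tree (List ℤ) :=
  (.node (.node (.node (.node (.node (.node (.leaf []) (.leaf [-1148, 734, 839, -320, 309, 1107, -627, -26, -183, -51, -78, -30, 1])) (.node (.leaf [0, 0, 1]) (.leaf [0, 0, 1]))) (.node (.node (.leaf [-5, 2, 0, -1, 3, 2, -1, 0, -1]) (.leaf [0, -2, -1, 0, 0, 0, 0, 0, 1])) (.node (.leaf [-2, 2, 0, 0, 2, 0, 0, 0, -1]) (.leaf [-20158, -26684, -10169, -16068, -3604, 7290, 4342, 6384, 2798, 2332, 1942, -90, -24, 1, 0, -1])))) (.node (.node (.node (.leaf [0, 0, 1]) (.leaf [9345, 28328, 78851, -11230, -22052, 9322, -8002, 7544, -20469, 2348, -6194, 342, 2265, 0, 1, 0, 1])) (.node (.leaf [0, 0, 1]) (.leaf []))) (.node (.node (.leaf [0, -10, 6, -1, -8, 0, 1, 4, 1]) (.leaf [0, 0, 1])) (.node (.leaf [-5, 2, 0, -1, 3, 2, -1, 0, -1]) (.leaf [8320, 75720, 114985, 780, -8498, 21318, -28222, 1054, -30450, 316, -11526, -98, 2844, 0, 0, 0, 1]))))) (.node (.node (.node (.node (.leaf []) (.leaf [0, 0, 1, 1, 0, 0, -1])) (.node (.leaf [-11, -2, 1, -6,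 1, 6, 0, 2, -1]) (.leaf [68, -76, -51, 8, -40, -63, 43, 8, 14, 6, 10]))) (.node (.node (.leaf [0, 0, 0, -1, 0, 0, 1]) (.leaf [0, 0, 0, -1, 0, 0, 1])) (.node (.leaf [348, -96, -124, 72, -130, -213, 139, -12, 43, 9, 16, -7, -1]) (.leaf [1068, -1140, -451, -90, -843, -839, 715, 174, 177, 85, 112, 21, 1])))) (.node (.node (.node (.leaf []) (.leaf [0, 0, 1])) (.node (.leaf [0, 0, 1]) (.leaf [10562, -23480, -10758, -8619, -12887, -11243, 14086, 4276, 1989, 2763, 2587, -79, 204, 1, 0, -1]))) (.node (.node (.leaf [2, 2, -7, 4, 6, -4, 0, -2, 1]) (.leaf [])) (.node (.leaf [1, -6, 2, 2, -3, -2, 0, 2, 1]) (.leaf [])))))) (.node (.node (.node (.node (.node (.leaf [0, 0, 1]) (.leaf [])) (.node (.leaf [236, -46, -91, 63, -70, -157, 96, -10, 22, 7, 12, -7, -1]) (.leaf [225, -368, -201, -15, -175, -219, 162, 41, 63, 36, 44]))) (.node (.node (.leaf [149, -78, -80, 46, -57, -117, 63, -2, 22, 4, 15]) (.leaf [-1121, 1020, 407, -349, 637, 937, -430, -125, -206, -77, -100, -1, -1])) (.node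 (.leaf [842, 6, 168, 282, -373, -471, 173, -20, -25, 14, 34, -13, 7]) (.leaf [0, 0, 1])))) (.node (.node (.node (.leaf []) (.leaf [0, 0, 1, 1, 0, 0, -1])) (.node (.leaf [-4, 0, -1, -1, 2, 2, -1]) (.leaf [254, -102, -240, 74, -21, -214, 114, -37, 47, 15, 28, -1, -1]))) (.node (.node (.leaf [0, 0, 1]) (.leaf [16, 112, 4, -28, 24, 29, 19, -23, -11, -10, -12])) (.node (.leaf [-30534, 18816, 11679, -2339, 16702, 21956, -15809, -1264, -3378, -1922, -2862, 64, -46, -1, 0, 1]) (.leaf [218, -1312, -1032, -741, -409, -453, 856, 194, 185, 149, 108, 20]))))) (.node (.node (.node (.node (.leaf [0, 0, 1, 1, 0, 0, -1]) (.leaf [-44484, 55664, 17853, 5317, 40222, 33618, -29247, -8608, -8340, -4780, -6040, -30, -34, 0, -1, 1])) (.node (.leaf []) (.leaf [0, 0, 0, -1, 0, 0, 1]))) (.node (.node (.leaf [0, 0, 1]) (.leaf [0, 0, 1])) (.node (.leaf [-96, 36, 35, -24, 38, 65, -37, 2, -13, -2, -5]) (.leaf [10189, -202650, -123146, -122278, -64939, -66290, 122162, 38265, 5872, 31828, 23985, -1730,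 3105, 0, 0, 0, 1])))) (.node (.node (.node (.leaf [8, 2, -2, 3, 0, -4, 1, -2, 1]) (.leaf [2, -2, 1, 0, -2, 0, 0, 0, 1])) (.node (.leaf [40, 86, -13, -15, 15, 4, 27, -21, -5, -8, -9]) (.leaf [0, 0, 1]))) (.node (.node (.leaf [148, -126, -40, -236, -213, -16, 214, 23, 4, 20, 17, 0, -1]) (.leaf [0, -2, -2, -1, 0, 0, 1, 0, 1])) (.node (.leaf []) (.leaf [54835, -272972, -19759, -82839, -175610, -50012, 90941, 63008, 31194, 20207, 21329, 1057, -309, 0, -1, 0, -1])))))))

def twoL83 : Janko.Tree (List ℤ) :=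
  (.node (.node (.node (.node (.node (.node (.leaf []) (.leaf [0, 0, 0, 1])) (.node (.leaf [-238, 122, 50, -62, 117, 145, -63, 1, -40, -9, -12, -1]) (.leaf [-984, -86, 11, -406, 314, 586, -220, 74, -18, 20, -33, 1, -1]))) (.node (.node (.leaf []) (.leaf [0, 0, 0, 1])) (.node (.leaf [0, 0, 0, 1]) (.leaf [0, 0, 0, 1])))) (.node (.node (.node (.leaf [-94, 26, 65, -54, 28, 69, -29, 12, -18, 6, -14, 1]) (.leaf [0, 0, 0, 1])) (.node (.leaf []) (.leaf []))) (.node (.node (.leaf [-446, -164, -268, -137, 190, 152, -15, 32, 24, 9, 26, -6, -3]) (.leaf [])) (.node (.leaf [105473, -159012, 13216, 12386, -132537, -59079, 36481, 31509, 32338, 5567, 10553, 1010, -1471, 1, -1, -1, -1]) (.leaf [532540, 2846150, 1474196, 1300659, 838089, 325479, -1124993, -579277, -333524, -241077, -259702, -9075, -420, 0, 0, 0, 1]))))) (.node (.node (.node (.node (.leaf [210, -106, -76, -11, -90, -161, 130, 14, 16, 16, 2, 5]) (.leaf [0, 0, 0, 1])) (.node (.leaf [0, 0, 0, 1]) (.leaf []))) (.node (.node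 (.leaf [0, 0, 0, 1]) (.leaf [0, 0, 0, 1])) (.node (.leaf []) (.leaf [])))) (.node (.node (.node (.leaf []) (.leaf [-1482, -262, -1069, -232, 794, 788, -276, -48, 350, -126, -31, 29, -43])) (.node (.leaf []) (.leaf [0, 0, 0, 1]))) (.node (.node (.leaf [0, 0, 0, 1]) (.leaf [90, -22, -33, 45, -27, -66, 24, -6, 10, 0, 8, -1])) (.node (.leaf [0, 0, 0, 1]) (.leaf [86, -22, -39, 42, -23, -65, 26, -6, 10, 0, 8, -1])))))) (.node (.node (.node (.node (.node (.leaf []) (.leaf [362, -162, -123, 109, -143, -265, 126, -4, 44, 14, 26, 1])) (.node (.leaf [106, -18, -41, 45, -20, -69, 23, -12, 14, 5, 6, -3, -1]) (.leaf [0, 0, 0, 1]))) (.node (.node (.leaf []) (.leaf [0, 0, 0, 1])) (.node (.leaf [-46, 56, 134, -4, -29, 61, -33, 20, -24, -11, -12, -1]) (.leaf [])))) (.node (.node (.node (.leaf []) (.leaf [0, 0, 0, 1])) (.node (.leaf [0, 0, 0, 1]) (.leaf [174, -94, -195, 35, -10, -152, 89, -26, 39, 15, 20, 0, -1]))) (.node (.node (.leaf []) (.leaf [])) (.node (.leaf [-30520, 18704, 11621,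 -2569, 16584, 22012, -15678, -1252, -3366, -1902, -2852, 66, -46, -1, 0, 1]) (.leaf [0, 0, 0, 1]))))) (.node (.node (.node (.node (.leaf [0, 0, 0, 1]) (.leaf [-438, 154, 82, -78, 201, 262, -151, 5, -46, -18, -20, 2])) (.node (.leaf []) (.leaf [0, 0, 0, 1]))) (.node (.node (.leaf []) (.leaf [])) (.node (.leaf []) (.leaf [594054, 2798718, 1490958, 1300407, 783148, 290732, -1102698, -569172, -330852, -234803, -255115, -9680, 263, 0, 0, 0, 1])))) (.node (.node (.node (.leaf []) (.leaf [0, 0, 0, 1])) (.node (.leaf []) (.leaf []))) (.node (.node (.leaf [112, -198, -30, -312, -255, 14, 241, 47, 6, 30, 17, 0, -1]) (.leaf [1412, 670, -54, 621, -33, -695, 96, -320, 2, 5, -6, -16])) (.node (.leaf [98, -28, -45, 36, -23, -70, 28, -9, 12, 4, 8, -1]) (.leaf [-30761, 19048, 11625, -2362, 16915, 22046, -15837, -1294, -3424, -1955, -2883, 77, -45, -1, 0, 1])))))))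

def twoL84 : Janko.Tree (List ℤ) :=
  (.node (.node (.node (.node (.node (.node (.leaf [0, 0, -1, 0, 1]) (.leaf [11, 4, -6, 9, 3, -8, -1, -4, 1, 0, 1])) (.node (.leaf []) (.leaf [78, 392, 242, 515, 283, -118, -337, -73, -40, -34, -53, 5, -1]))) (.node (.node (.leaf [1, 0, 0, 1, 0, -1]) (.leaf [0, 0, 0, -1, 0, 1])) (.node (.leaf [480, -692, -455, -93, -363, -404, 371, 61, 140, 61, 82, 1, 1]) (.leaf [-28486, -24894, 24, -19154, -4576, 17236, -2424, 6822, 1738, 2762, 1716, -625, 34, 0, 1, -1])))) (.node (.node (.node (.leaf []) (.leaf [0, 0, -1, 0, 1])) (.node (.leaf [2, 0, 0, 1, 0, -1]) (.leaf [1]))) (.node (.node (.leaf [-2, 2, -3, -1, 3, 1, 0, -1]) (.leaf [2, 0, 0, 1, 0, -1])) (.node (.leaf [104732, -158404, 13650, 12023, -132267, -58408, 36273, 31499, 32180, 5525, 10467, 1006, -1475, 1, -1, -1, -1]) (.leaf [5841, -11342, 11655, -4205, -13276, 82, 563, 3662, -100, 1794, 329, -314, 300, 0, 0, -1]))))) (.node (.node (.node (.node (.leaf [1, 0, 1, 0, -1]) (.leaf [1366,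 -658, -854, 206, -424, -968, 590, -101, 228, 88, 116, -2, 0, 0, 1])) (.node (.leaf []) (.leaf [103, -120, -102, 50, -31, -123, 53, 10, 24, 10, 16]))) (.node (.node (.leaf [1]) (.leaf [-44, 20, 5, 12, 21, 24, -22, -1, -4, -6, 2, -1])) (.node (.leaf [-2, 0, -1, -1, 1, 1]) (.leaf [-6004, 8922, 4368, 1701, 5439, 4840, -4823, -1105, -1454, -875, -1043, 11, 5, 0, -1])))) (.node (.node (.node (.leaf [1, 0, 1, 0, -1]) (.leaf [-1310, 570, -6, -879, 677, 670, 53, 12, -328, 48, -47, 17, 13])) (.node (.leaf [-14, -6, -3, -5, 3, 5, 0, 3]) (.leaf [-3, -4, 3, -3, -3, 3, 0, 2]))) (.node (.node (.leaf []) (.leaf [-15281, 19214, -9750, 275, 20688, 6973, -4666, -5218, -2254, -1125, -844, -128, -38, 0, 0, 1])) (.node (.leaf [1]) (.leaf [1])))))) (.node (.node (.node (.node (.node (.leaf [2, 0, 0, 1, 0, -1]) (.leaf [1, 0, 1, 0, -1])) (.node (.leaf [1]) (.leaf [227, -408, -195, -13, -196, -228, 165, 53, 67, 38, 46]))) (.node (.node (.leaf [-192, 70, -1, -54, 102, 109, -47, -4, -22, -4,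 -5]) (.leaf [-2, 2, -3, -2, 3, 2, 0, -1])) (.node (.leaf [-75, 22, 38, -20, 21, 51, -27, 7, -11, -2, -5]) (.leaf [2, 0, 0, 1, 0, -1])))) (.node (.node (.node (.leaf [1, 0, 1, 0, -1]) (.leaf [286966, -308438, -25148, -62086, -264696, -199816, 174528, 57568, 19488, 41264, 33476, -2271, 4694, -1, 1, 1, 1])) (.node (.leaf []) (.leaf [-218034, 276434, 41788, 80383, 222010, 170979, -173054, -57829, -11648, -34954, -29586, -62, -4138, 0, 0, -1, -1]))) (.node (.node (.leaf [1, 0, 0, 1, 0, -1]) (.leaf [-158, 314, 323, 72, 148, 187, -243, -35, -60, -9, -54, 1])) (.node (.leaf [0, 0, -1, 0, 1]) (.leaf [10925, -17482, -6440, -3277, -11030, -8413, 8302, 2451, 2742, 1752, 1854, -46, -12, 0, 1]))))) (.node (.node (.node (.node (.leaf [12, 2, 5, 5, -5, -5, 0, -1]) (.leaf [1])) (.node (.leaf [-143, 38, -127, -46, 154, 57, -31, -31, 6, 9, -4, 1]) (.leaf [-10532, 9984, 3074, 529, 8351, 6650, -5377, -1058, -1784, -983, -1249, 73, 9, 0, -1]))) (.node (.node (.leaf [27, -38, 3, 0, -15,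 -22, 4, 6, 4, 10, 0, -1]) (.leaf [94594, -152088, 14056, 11435, -124553, -53240, 32473, 30877, 30860, 5073, 9641, 1082, -1489, 1, -1, -1, -1])) (.node (.leaf [-57, 24, 46, -12, 13, 47, -31, 4, -9, -2, -5]) (.leaf [16519, -346798, -86539, -115652, -180207, -47498, 118438, 75419, 47664, 21612, 27960, 2214, -1470, 0, 0, -1, -1])))) (.node (.node (.node (.leaf [-2, 0, -1, -1, 1, 1]) (.leaf [])) (.node (.leaf [-2, 0, -1, -1, 1, 1]) (.leaf [59509, 157508, -61308, 64495, 100850, -47975, -728, -50785, -15818, -7410, -4255, -1152, 666, 0, 0, 1, 1]))) (.node (.node (.leaf [-3, 6, -6, -3, 6, 3, 0, -3]) (.leaf [-61208, 282850, 37221, 91415, 177956, 64132, -110043, -66068, -29966, -21057, -22639, -1733, 38, 0, 0, 1, 1])) (.node (.leaf [1, 0, 1, 0, -1]) (.leaf [3421, -4650, -972, 200, -3168, -2464, 1528, 644, 780, 446, 533, -71, -7, -1])))))))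

def twoL85 : Janko.Tree (List ℤ) :=
  (.node (.node (.node (.node (.node (.node (.leaf []) (.leaf [-141032, 73381, -6074, -7900, 92675, 92157, -59925, -13110, -2647, -10219, -8767, -23, -1924, 1, -1, 0, -1])) (.node (.leaf [0, 1]) (.leaf []))) (.node (.node (.leaf [-526, -202, -179, -205, 152, 190, -5, 74, -1, 11, 18, 0, -1]) (.leaf [])) (.node (.leaf [0, 1]) (.leaf [0, 1])))) (.node (.node (.node (.leaf [0, 1]) (.leaf [-838, 415, 183, -255, 435, 547, -272, -24, -124, -11, -49, 1])) (.node (.leaf [531, -290, -312, 75, -202, -381, 244, -21, 87, 32, 48, -1]) (.leaf []))) (.node (.node (.leaf []) (.leaf [])) (.node (.leaf []) (.leaf [-69, 51, 31, -12, 35, 48, -28, -2, -14, -4, -5]))))) (.node (.node (.node (.node (.leaf []) (.leaf [0, 1])) (.node (.leaf [0, 1]) (.leaf [0, -1, -2, 0, 0, 0, 0, 0, 1]))) (.node (.node (.leaf []) (.leaf [0, 1])) (.node (.leaf [58, 5, -29, -53, -48, -14, 77, 2, 3, -6, -2, 2, -1]) (.leaf [-652, 965, 427, 177, 570, 606, -565, -158, -133, -86,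 -82, -22, -1])))) (.node (.node (.node (.leaf []) (.leaf [])) (.node (.leaf []) (.leaf [0, 1]))) (.node (.node (.leaf [0, 1]) (.leaf [3572, 19, 537, 1253, -1456, -1688, 447, -238, 179, 25, 56, -32, 1])) (.node (.leaf []) (.leaf [-7, 7, 15, 6, 1, 6, -10, 1, -2, -1, -1])))))) (.node (.node (.node (.node (.node (.leaf []) (.leaf [3044, 2431, -642, 1716, 476, -1260, -52, -1124, 49, -132, 62, -68, -2, 0, 0, 0, -1])) (.node (.leaf []) (.leaf []))) (.node (.node (.leaf [0, 2, 2, 0, 0, 0, 0, 0, -1]) (.leaf [0, 1])) (.node (.leaf []) (.leaf [])))) (.node (.node (.node (.leaf []) (.leaf [0, 1])) (.node (.leaf [0, 1]) (.leaf [0, 1]))) (.node (.node (.leaf []) (.leaf [])) (.node (.leaf [-58, 23, 33, -33, 21, 45, -20, 2, -10, 3, -7, 1]) (.leaf [0, 1]))))) (.node (.node (.node (.node (.leaf [0, 1]) (.leaf [])) (.node (.leaf []) (.leaf [0, 1]))) (.node (.node (.leaf [-4, -2, 0, -2, 2, 2, -2, 0, 0, 1]) (.leaf [-34033, -835453, -305062, -336914, -347909, -133601, 325495, 182456, 91533,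 67446, 71228, 4087, 977, 1, 0, -1, -1])) (.node (.leaf [0, -1, -2, 0, 0, 0, 0, 0, 1]) (.leaf [0, 1])))) (.node (.node (.node (.leaf [256, -754, -211, 77, -374, -286, 179, 158, 160, 16, 44, 0, -1]) (.leaf [0, 1])) (.node (.leaf [806, -268, -211, 381, -260, -594, 183, -24, 95, 14, 48, 0, 1]) (.leaf [0, 2, 0, 2, 0, 0, 0, 0, 0, -1]))) (.node (.node (.leaf []) (.leaf [])) (.node (.leaf [-121394, -136900, -211892, -128224, 67185, -21695, 96283, 20311, 2384, 25223, 18937, -1296, 2891, -1, 1, 1, 1]) (.leaf [0, 1])))))))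

def twoL86 : Janko.Tree (List ℤ) :=
  (.node (.node (.node (.node (.node (.node (.leaf [0, 0, 1]) (.leaf [27, -2, 12, 17, -11, -13, -4, -1, 3, 0, -1])) (.node (.leaf []) (.leaf [528, 1006, 138, 697, 462, -262, -319, -306, -88, -50, -51, -7, -1]))) (.node (.node (.leaf [-1980, 1078, 178, -475, 1188, 1124, -525, -58, -289, -83, -130, 22, -1]) (.leaf [-1, 2, 1, 0, 1, 0, 0, 0, -1])) (.node (.leaf [464, -666, -467, -99, -338, -390, 363, 50, 139, 61, 81, 1, 1]) (.leaf [6492, -22706, -5738, -8044, -13733, -5753, 9653, 4407, 2614, 2207, 2260, -170, 35, 0, 1, -1])))) (.node (.node (.node (.leaf [-10, -6, 5, -7, -4, 6, 1, 4, -1]) (.leaf [0, 0, 1])) (.node (.leaf [-4, 0, -1, -1, 2, 2, -1]) (.leaf [-2012, -324, 1099, -954, 110, 1277, -505, 434, -205, 43, -158, 37, 11]))) (.node (.node (.leaf [0, 0, 1]) (.leaf [-4, 0, -1, -1, 2, 2, -1])) (.node (.leaf [-2, 2, 0, 0, 2, 0, 0, 0, -1]) (.leaf [-33572, 44798, 21700, 7541, 28455, 29067, -27360, -6470, -5834, -4498, -5471, -34, -92,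 0, 0, -1]))))) (.node (.node (.node (.node (.leaf [0, 0, 1]) (.leaf [0, -2, -1, 1, 0, 0, -1, 0, 1])) (.node (.leaf [-480, -1002, -195, -687, -452, 232, 335, 286, 99, 51, 56, 8, 1]) (.leaf [0, 0, 1]))) (.node (.node (.leaf []) (.leaf [])) (.node (.leaf [0, 0, 0, -1, 0, 0, 1]) (.leaf [0, 0, 0, -1, 0, 0, 1])))) (.node (.node (.node (.leaf [0, 0, 1]) (.leaf [1242, 526, -216, 469, -24, -590, 133, -312, 36, 16, 19, -21, -1])) (.node (.leaf [0, 0, 1, 1, 0, 0, -1]) (.leaf [-7, 10, 3, -3, 7, 9, -6, -3, -1, 0, -1]))) (.node (.node (.leaf []) (.leaf [1084, 130, 454, 461, -460, -468, 19, -50, 9, 1, -18, -10, 3])) (.node (.leaf [-92, 46, 13, -20, 52, 49, -25, -1, -17, -2, -3]) (.leaf [3, -2, -1, 1, -1, -2, 1, 0, 1])))))) (.node (.node (.node (.node (.node (.leaf [-4, 0, -1, -1, 2, 2, -1]) (.leaf [0, 0, 1])) (.node (.leaf []) (.leaf [0, 0, 0, -1, 0, 0, 1]))) (.node (.node (.leaf [0, 0, 1]) (.leaf [-14, 2, 5, -6, 4, 11, -5, 1, -1, 0, -1])) (.node (.leaf [0, 0, 1]) (.leaf [-4, 0,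 -1, -1, 2, 2, -1])))) (.node (.node (.node (.leaf [0, 0, 1]) (.leaf [-4, 2, 3, 1, 2, 2, -3, 0, -1])) (.node (.leaf [2, -2, 0, -1, -2, 0, 1, 0, 1]) (.leaf [606, -56, 290, 190, -343, -223, 13, 2, 40, 4, -24, 2, 4]))) (.node (.node (.leaf [0, 0, 1, 1, 0, 0, -1]) (.leaf [0, 0, 0, -1, 0, 0, 1])) (.node (.leaf [0, 0, 1]) (.leaf [-220436, 280460, 42245, 80266, 224469, 173167, -174295, -58601, -12108, -35373, -29952, -47, -4149, 1, 0, -1, -1]))))) (.node (.node (.node (.node (.leaf []) (.leaf [103440, -47906, -2908, 18204, -62440, -64860, 37132, 5451, 7578, 4077, 6162, 317, 368, 0, 0, 1])) (.node (.leaf [0, 0, 0, -1, 0, 0, 1]) (.leaf [-1231, 268, 1253, -323, 27, 1288, -931, 58, -115, 22, -60, -40, 1]))) (.node (.node (.leaf [0, 0, 1, 1, 0, 0, -1]) (.leaf [0, 0, 1, 1, 0, 0, -1])) (.node (.leaf [0, 0, 1]) (.leaf [])))) (.node (.node (.node (.leaf [0, 0, 0, -1, 0, 0, 1]) (.leaf [])) (.node (.leaf [0, 0, 0, -1, 0, 0, 1]) (.leaf [0, 0, 1, 1, 0, 0, -1]))) (.node (.node (.leaf [0,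 0, 1]) (.leaf [-1178, 540, 314, -339, 585, 765, -408, -16, -173, -11, -72, 2])) (.node (.leaf [0, 0, 1]) (.leaf [0, -2, -4, -3, 0, 0, 3, 0, 1])))))))

def twoL87 : Janko.Tree (List ℤ) :=
  (.node (.node (.node (.node (.node (.node (.leaf []) (.leaf [0, 0, 0, 1])) (.node (.leaf []) (.leaf [0, 0, 0, 1]))) (.node (.node (.leaf [0, 0, 0, 1]) (.leaf [0, 0, 0, 1])) (.node (.leaf [154, -90, 47, 59, -142, -104, 56, 32, 3, -5, 15, -1, 1]) (.leaf [20869, -76656, -40322, -17287, -34697, -26878, 33711, 12097, 12928, 5397, 8076, 180, -350, 0, 1, -1])))) (.node (.node (.node (.leaf []) (.leaf [])) (.node (.leaf [0, 0, 0, 1]) (.leaf [-238, 130, 124, -73, 103, 174, -99, 0, -44, -2, -20, 1]))) (.node (.node (.leaf []) (.leaf [0, 0, 0, 1])) (.node (.leaf [0, 0, 0, 1]) (.leaf [0, 0, 0, 1]))))) (.node (.node (.node (.node (.leaf []) (.leaf [])) (.node (.leaf [-448, -1056, -272, -684, -466, 174, 391, 296, 106, 51, 66, 8, 1]) (.leaf [328, -360, -190, -8, -219, -261, 195, 35, 68, 37, 40,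 1, -1]))) (.node (.node (.leaf []) (.leaf [-38, 20, 9, 16, 17, 21, -22, -1, -4, -6, 2, -1])) (.node (.leaf [0, 0, 0, 1]) (.leaf [0, 0, 0, 1])))) (.node (.node (.node (.leaf []) (.leaf [0, 0, 0, 1])) (.node (.leaf [0, 0, 0, 1]) (.leaf [-316585, -1965334, -1022349, -894612, -592119, -260430, 798802, 398206, 225864, 170744, 180477, 5884, 1492, 1, 0, -1, -1]))) (.node (.node (.leaf []) (.leaf [0, 0, 0, 1])) (.node (.leaf []) (.leaf [-175652, 276118, -24758, 49253, 220576, 106513, -89098, -54280, -25280, -34146, -25165, 3727, -2915, 1, -1, -1, -1])))))) (.node (.node (.node (.node (.node (.leaf [0, 0, 0, 1]) (.leaf [])) (.node (.leaf []) (.leaf [0, 0, 0, 1]))) (.node (.node (.leaf [-2401, -3208, 143, -1722, -1084, 1027, 259, 1040, 206, 174, 140, 49, -5]) (.leaf [])) (.node (.leaf []) (.leaf [0, 0, 0, 1])))) (.node (.node (.node (.leaf []) (.leaf [285298, -363310, -19544, -45772, -289872, -187897, 150136, 63240, 40056, 42372, 36592, -3597, 2992, -1, 1, 1, 1])) (.node (.leaf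 []) (.leaf [534, 12, 270, 184, -271, -191, -8, -14, 24, 2, -24, 2, 4]))) (.node (.node (.leaf [0, 0, 0, 1]) (.leaf [0, 0, 0, 1])) (.node (.leaf []) (.leaf [39191, -60476, -133835, 12989, 10677, -52480, 42186, -11309, 29461, 1879, 13433, -818, -2408, 0, 0, 0, -1]))))) (.node (.node (.node (.node (.leaf []) (.leaf [99, -10, -43, 66, -28, -60, 11, -17, 18, -7, 12, -1])) (.node (.leaf [0, 0, 0, 1]) (.leaf [-1229, 260, 1249, -323, 23, 1286, -928, 60, -113, 22, -60, -40, 1]))) (.node (.node (.leaf [0, 0, 0, 1]) (.leaf [0, 0, 0, 1])) (.node (.leaf [-508, 156, 93, -152, 240, 285, -139, 17, -64, -7, -34, 9, 1]) (.leaf [])))) (.node (.node (.node (.leaf [0, 0, 0, 1]) (.leaf [])) (.node (.leaf [0, 0, 0, 1]) (.leaf [0, 0, 0, 1]))) (.node (.node (.leaf []) (.leaf [0, 0, 0, 1])) (.node (.leaf [-57, 58, 10, -96, -11, 77, 41, 1, -8, -16, -11, 6, -1]) (.leaf [3505, -4686, -1008, 218, -3204, -2525, 1568, 644, 790, 448, 539, -71, -7, -1])))))))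

def twoL88 : Janko.Tree (List ℤ) :=
  (.node (.node (.node (.node (.node (.node (.leaf [2, 0, 0, 1, 0, -1]) (.leaf [-93, -68, -61, -56, 18, 37, 11, 14, 10, 5, 6, -1])) (.node (.leaf [1]) (.leaf [-1, -2, 1, 0, -1, 0, 0, 1]))) (.node (.node (.leaf [-59, 26, 32, -10, 23, 41, -27, 3, -9, -2, -5]) (.leaf [])) (.node (.leaf [2450, 594, 636, 1480, -606, -1311, -37, -231, 22, -56, -22, -13, 3]) (.leaf [1078, -596, -363, 25, -586, -638, 483, 1, 161, 63, 71, 1, 1])))) (.node (.node (.node (.leaf [72, -30, 18, -17, -43, -38, 33, 8, 0, 10, -4, 1]) (.leaf [2, 0, 0, 1, 0, -1])) (.node (.leaf []) (.leaf [-859, -174, 583, -245, -44, 570, -319, 199, -76, -3, -33, 1, -1]))) (.node (.node (.leaf [-1130, 534, 583, -141, 429, 761, -488, 61, -168, -69, -94, 3]) (.leaf [])) (.node (.leaf [-179, -338, 227, 58, -193, 110, -120, 149, 61, -22, -17, -1, -1]) (.leaf [4924, -6894, -2449, 278, -4156, -4123, 2721, 923, 1155, 634, 807, -52, -20, -1]))))) (.node (.node (.node (.node (.leaf [-27, 2,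 80, -36, -14, 36, -18, 14, -12, 8, -12, 1]) (.leaf [-1, 6, -7, -1, 7, 1, 0, -3])) (.node (.leaf [1]) (.leaf [1, 0, 0, 1, 0, -1]))) (.node (.node (.leaf [1, 0, 1, 0, -1]) (.leaf [1])) (.node (.leaf [3, 0, 1, 1, -1, -1]) (.leaf [-11745, 17368, 6434, 2932, 11262, 8866, -8442, -2367, -2768, -1737, -1871, 47, 12, 0, -1])))) (.node (.node (.node (.leaf [-1, 0, 0, -1, 0, 1]) (.leaf [1, -2, 3, 0, -3, 0, 0, 1])) (.node (.leaf []) (.leaf [0, 0, 0, -1, 0, 1]))) (.node (.node (.leaf [1]) (.leaf [])) (.node (.leaf [-69, 34, 30, -14, 29, 41, -23, 3, -15, -2, -3]) (.leaf [-54219, 197602, 229768, 85280, 30518, 122650, -153178, -19390, -21450, -26358, -30585, 501, -1519, 1, -1, -1, -1])))))) (.node (.node (.node (.node (.node (.leaf [-2, 0, -1, -1, 1, 1]) (.leaf [355, -166, -123, 106, -143, -262, 126, -2, 44, 14, 26, 1])) (.node (.leaf [1, 0, 1, 0, -1]) (.leaf [-60, 96, 70, -43, 32, 79, -32, -11, -20, -3, -15, 1, 0, 0, -1]))) (.node (.node (.leaf [1, 0, 0, 1, 0, -1]) (.leaf [0, 0,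 0, -1, 0, 1])) (.node (.leaf [2, 6, -5, 1, 5, -1, 0, -3]) (.leaf [])))) (.node (.node (.node (.leaf [-1, 0, 0, -1, 0, 1]) (.leaf [])) (.node (.leaf [-2, 0, -1, -1, 1, 1]) (.leaf []))) (.node (.node (.leaf []) (.leaf [47, -34, -94, -47, -23, -30, 77, -3, 14, 0, 6])) (.node (.leaf [2, 0, 0, 1, 0, -1]) (.leaf [5167, -8806, -4314, -2157, -5296, -4429, 4910, 1209, 1296, 834, 1060, 10, -6, 0, 1]))))) (.node (.node (.node (.node (.leaf [0, 0, -1, 0, 1]) (.leaf [13772, -21290, 106, -4348, -17512, -8422, 8506, 4153, 2350, 2124, 2010, -82, 90, 0, 1])) (.node (.leaf [-97, 36, -89, -12, 115, 30, -26, -22, 2, 4, -2]) (.leaf [1]))) (.node (.node (.leaf [-1, 2, -2, -1, 2, 1, 0, -1]) (.leaf [164, -82, 10, 72, -104, -114, 42, 15, 12, 2, 14, -2])) (.node (.leaf [1, 0, 0, 1, 0, -1]) (.leaf [-175203, 161526, 9590, 48290, 153416, 129824, -121596, -35692, 1468, -24320, -18280, -46, -3893, 0, 0, -1, -1])))) (.node (.node (.node (.leaf [-7, -6, 1, -3, -1, 3, 0, 3]) (.leaf [1])) (.node (.leaf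 [0, -6, 4, 1, -4, -1, 0, 3]) (.leaf [43535, 74072, -29446, 21603, 43934, -36509, 12146, -23463, -13968, 776, -985, -1032, 1636, 0, 1, 0, 1]))) (.node (.node (.leaf [-1, 6, -5, -2, 5, 2, 0, -3]) (.leaf [1505, 254, 45, 630, -362, -932, 306, -129, -27, 4, 31, -8, 2])) (.node (.leaf [-73, 8, 33, -37, 23, 51, -24, 7, -8, 4, -8, 1]) (.leaf [-67835, 13806, 16545, 3035, 22279, 52785, -38064, 556, 6206, -7696, -4787, 617, -1799, 0, -1, 0, -1])))))))

def twoL89 : Janko.Tree (List ℤ) :=
  (.node (.node (.node (.node (.node (.node (.leaf []) (.leaf [-48892, -70387, 29630, -22876, -40303, 39783, -13591, 23088, 13267, -1147, 497, 1121, -1632, 1, -1, 0, -1])) (.node (.leaf []) (.leaf [0, 1]))) (.node (.node (.leaf [0, 1]) (.leaf [0, 1])) (.node (.leaf [0, 1]) (.leaf [0, 1])))) (.node (.node (.node (.leaf []) (.leaf [])) (.node (.leaf [0, 1]) (.leaf [0, 1]))) (.node (.node (.leaf []) (.leaf [0, 1])) (.node (.leaf [0, 1]) (.leaf [0, 1]))))) (.node (.node (.node (.node (.leaf [20,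 2, 0, 10, -2, -10, -2, -4, 2, 1]) (.leaf [-611, 521, -249, -144, 546, 399, -149, -136, -31, -59, -40, 9, -3])) (.node (.leaf []) (.leaf [-26270, 16155, 64, -3160, 18128, 15842, -9264, -1988, -2316, -1827, -2064, 202, -84, 1, -1]))) (.node (.node (.leaf []) (.leaf [-92166, 149348, -17042, -8018, 125717, 48205, -31439, -30217, -30293, -4968, -9790, -871, 1465, -1, 0, 1, 1])) (.node (.leaf []) (.leaf [-646, 941, 407, 175, 570, 588, -555, -156, -132, -81, -78, -22, -1])))) (.node (.node (.node (.leaf [2, 6, -4, 4, 4, -2, 0, -2, 0, -1]) (.leaf [0, 1])) (.node (.leaf [0, 1]) (.leaf [2597, 5364, -319, 2744, 2481, -1302, -730, -1610, -429, -365, -287, 9, 0, 0, 1]))) (.node (.node (.leaf []) (.leaf [0, 1])) (.node (.leaf [0, -1, -2, 0, 0, 0, 0, 0, 1]) (.leaf [5829, -68889, -113216, 5299, 7589, -29868, 30237, -3077, 29044, -163, 11312, -10, -2661, 1, -1, 0, -1])))))) (.node (.node (.node (.node (.node (.leaf []) (.leaf [0, 2, 0, 2, 0, 0, 0, 0, 0, -1])) (.node (.leaf []) (.leaf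 []))) (.node (.node (.leaf []) (.leaf [])) (.node (.leaf [211300, -184696, -22062, -44644, -173787, -155485, 139081, 37373, 2730, 26699, 21721, -108, 3933, 0, 0, 0, 1]) (.leaf [0, 1])))) (.node (.node (.node (.leaf [-2, -6, -4, -4, 0, 2, 0, 0, 2, 1]) (.leaf [0, 1])) (.node (.leaf [-228, -13, 129, -143, -14, 166, -21, 54, -22, -8, -24, 8, -1]) (.leaf [0, 1]))) (.node (.node (.leaf [0, 1]) (.leaf [-13528, 23389, 2200, 2808, 17054, 9526, -8538, -4440, -3292, -1874, -2064, -22, -2, 1, -1])) (.node (.leaf []) (.leaf [-1248, 551, 599, -221, 456, 844, -491, 72, -185, -63, -96, -2, -1]))))) (.node (.node (.node (.node (.leaf []) (.leaf [0, 1])) (.node (.leaf [0, 1]) (.leaf []))) (.node (.node (.leaf [0, 1]) (.leaf [-47808, -70877, 29366, -22548, -40818, 39044, -13228, 23101, 13402, -1122, 570, 1120, -1632, 1, -1, 0, -1])) (.node (.leaf []) (.leaf [2617, 1730, 1075, 2430, -10, -1408, -666, -483, -95, -175, -109, -8, 5, -1])))) (.node (.node (.node (.leaf []) (.leaf [])) (.node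 (.leaf []) (.leaf [0, -1, 0, -2, 0, 0, 0, 0, 0, 1]))) (.node (.node (.leaf []) (.leaf [0, 1])) (.node (.leaf [0, 2, 0, 2, 0, 0, 0, 0, 0, -1]) (.leaf [66, -21, -11, 11, -30, -32, 15, -4, 10, 2, 2, 0, 1])))))))

def twoL90 : Janko.Tree (List ℤ) :=
  (.node (.node (.node (.node (.node (.node (.leaf [-4, 0, -1, -1, 2, 2, -1]) (.leaf [0, 0, 1])) (.node (.leaf [-5, 2, 0, -1, 3, 2, -1, 0, -1]) (.leaf []))) (.node (.node (.leaf [6, 4, 9, 6, -1, 1, -7, -2, 1, 0, -1]) (.leaf [-936, -478, -1393, -153, 602, 422, -25, -90, 433, -107, 18, 28, -43])) (.node (.leaf []) (.leaf [-1249, -49470, -23606, -14307, -18090, -6870, 15711, 8672, 9130, 2838, 4200, 232, -337, 1, 0, -1])))) (.node (.node (.node (.leaf [0, 0, 0, -1, 0, 0, 1]) (.leaf [-4, 0, -1, -1, 2, 2, -1])) (.node (.leaf [-195, 104, 123, -57, 65, 152, -83, 6, -35, -6, -17]) (.leaf [-945, 356, 535, -147, 292, 624, -387, 86, -145, -47, -74, 3, -1]))) (.node (.node (.leaf [0, 0, 1, 1, 0, 0, -1]) (.leaf [4, -2, 0, 1, -2, -2, 1, 0,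 1])) (.node (.leaf [615, -292, 240, 396, -453, -358, 36, 93, 83, -34, 7, -2, -1]) (.leaf [-29928, 420, -8815, -8902, 14041, 14843, -4219, 901, 263, -742, -513, 134, -253, 0, 0, -1]))))) (.node (.node (.node (.node (.leaf [0, 0, 1, 1, 0, 0, -1]) (.leaf [32, -8, 9, 13, -19, -19, 6, 2, 1, 0, 1])) (.node (.leaf [589, -928, -16, 110, -688, -430, 256, 209, 168, 30, 55, 1, 1]) (.leaf [310, -344, -151, -27, -233, -229, 186, 37, 62, 35, 38, 1, -1]))) (.node (.node (.leaf [0, 0, 1]) (.leaf [-407, 694, 356, -206, 412, 377, -251, -118, -201, 34, -68, -5, 11])) (.node (.leaf [0, 0, 0, -1, 0, 0, 1]) (.leaf [-4, 2, 1, -2, 2, 2, 0, 0, -1])))) (.node (.node (.node (.leaf [0, 0, 1, 1, 0, 0, -1]) (.leaf [])) (.node (.leaf []) (.leaf [-10, 22, 2, -5, 10, 13, -4, -5, -3, -2, -1]))) (.node (.node (.leaf [2, 8, -16, 2, 11, -9, 7, -3, -2, 0, 1]) (.leaf [20348, 12146, 10314, 12646, -3620, -8516, -2796, -3312, -1472, -640, -622, -172, 145, -1, 0, 1])) (.node (.leaf [0, 0, 1]) (.leaf [4, -2,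 -1, 0, -2, -2, 2, 0, 1])))))) (.node (.node (.node (.node (.node (.leaf [0, 0, 0, -1, 0, 0, 1]) (.leaf [0, 0, 1, 1, 0, 0, -1])) (.node (.leaf [0, 0, 1]) (.leaf [0, 0, 1]))) (.node (.node (.leaf [163, -40, -216, 95, 54, -195, 76, -34, 14, 16, 28, -5, 1]) (.leaf [-180, 84, 46, -53, 86, 119, -58, -1, -26, -4, -11])) (.node (.leaf [0, 0, 1, 1, 0, 0, -1]) (.leaf [4, -2, 0, 1, -2, -2, 1, 0, 1])))) (.node (.node (.node (.leaf [0, 0, 1, 1, 0, 0, -1]) (.leaf [13064, 23294, -6365, 8841, 12232, -8556, 739, -7664, -3183, -262, -288, -418, 168, 0, -1, 1])) (.node (.leaf [0, 0, 0, -1, 0, 0, 1]) (.leaf []))) (.node (.node (.leaf []) (.leaf [154, 378, 159, 171, 86, -11, -92, -79, -40, -34, -36])) (.node (.leaf [-4, 0, -1, -1, 2, 2, -1]) (.leaf [-640, -70, -946, -487, 506, 178, 237, -104, 29, 29, 74, 8, -1]))))) (.node (.node (.node (.node (.leaf [0, 0, 1]) (.leaf [])) (.node (.leaf []) (.leaf []))) (.node (.node (.leaf []) (.leaf [0, 0, 1])) (.node (.leaf [1530, -696, -916, 273, -484,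 -1301, 870, 5, 164, 55, 100, 23, 1]) (.leaf [0, 0, 1])))) (.node (.node (.node (.leaf [0, 0, 1]) (.leaf [67, -104, -84, 36, -23, -93, 41, 11, 19, 8, 14])) (.node (.leaf [0, 0, 1]) (.leaf [42600, 74052, -29333, 21239, 44209, -35962, 11939, -23373, -14026, 786, -1019, -1032, 1638, 0, 1, 0, 1]))) (.node (.node (.leaf [0, 0, 1, 1, 0, 0, -1]) (.leaf [-2659, -176, 373, -966, 583, 1451, -461, 346, -181, -42, -65, 31, -1])) (.node (.leaf [-251, 150, 43, -129, 91, 205, -42, -13, -28, -24, -17, 8, -1]) (.leaf [0, 0, 0, -1, 0, 0, 1])))))))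

def twoL91 : Janko.Tree (List ℤ) :=
  (.node (.node (.node (.node (.node (.node (.leaf [0, 0, 0, 1]) (.leaf [-447, -570, -308, -407, -51, 161, 143, 125, 64, 53, 44, -1])) (.node (.leaf []) (.leaf []))) (.node (.node (.leaf []) (.leaf [-155, -60, 86, -11, -17, 65, -37, 54, -14, -9, -2, 1])) (.node (.leaf []) (.leaf [1099, -618, -370, 37, -593, -663, 489, 4, 163, 67, 73, 1, 1])))) (.node (.node (.node (.leaf [0, 0, 0, 1]) (.leaf [0, 0, 0, 1])) (.node (.leaf []) (.leaf [-838, -152, 526, -255, -23, 565, -303, 178, -68, -3, -31, 1, -1]))) (.node (.node (.leaf [0, 0, 0, 1]) (.leaf [])) (.node (.leaf [-111, -460, 136, 48, -243, 54, -71, 155, 95, -14, -5, 0, -1]) (.leaf [4600, -6694, -2327, 202, -3992, -3888, 2591, 915, 1107, 620, 777, -52, -20, -1]))))) (.node (.node (.node (.node (.leaf [0, 0, 0, 1]) (.leaf [0, 0, 0, 1])) (.node (.leaf [808, -690, 11, 287, -641, -523, 223, 136, 160, 6, 42, 0, 1]) (.leaf [0, 0, 0, 1]))) (.node (.node (.leaf []) (.leaf [])) (.node (.leaf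 [0, 0, 0, 1]) (.leaf [0, 0, 0, 1])))) (.node (.node (.node (.leaf [0, 0, 0, 1]) (.leaf [])) (.node (.leaf []) (.leaf [0, 0, 0, 1]))) (.node (.node (.leaf []) (.leaf [20098, 12226, 10418, 12566, -3532, -8334, -2893, -3302, -1500, -642, -642, -172, 145, -1, 0, 1])) (.node (.leaf [-344, 146, 253, -96, 70, 270, -144, 32, -59, -17, -31, 1, 1]) (.leaf [0, 0, 0, 1])))))) (.node (.node (.node (.node (.node (.leaf [0, 0, 0, 1]) (.leaf [0, 0, 0, 1])) (.node (.leaf []) (.leaf []))) (.node (.node (.leaf [0, 0, 0, 1]) (.leaf [0, 0, 0, 1])) (.node (.leaf [0, 0, 0, 1]) (.leaf [])))) (.node (.node (.node (.leaf [0, 0, 0, 1]) (.leaf [])) (.node (.leaf [0, 0, 0, 1]) (.leaf []))) (.node (.node (.leaf []) (.leaf [0, 0, 0, 1])) (.node (.leaf [0, 0, 0, 1]) (.leaf [0, 0, 0, 1]))))) (.node (.node (.node (.node (.leaf []) (.leaf [])) (.node (.leaf [-171, 18, -51, -66, 95, 99, -36, -7, 2, 1, -6, 1]) (.leaf [140, -68, -28, -27, -67, -108, 99, 18, 4, 12, -6, 6]))) (.node (.node (.leaf []) (.leaf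 [551, -308, -206, 83, -289, -401, 271, 18, 60, 25, 52, -1])) (.node (.leaf [0, 0, 0, 1]) (.leaf [196, 24, -205, 140, 43, -175, 61, -54, 27, -3, 28, -6, -4])))) (.node (.node (.node (.leaf [208, -104, -77, -8, -88, -161, 129, 14, 16, 15, 2, 5]) (.leaf [])) (.node (.leaf []) (.leaf [0, 0, 0, 1]))) (.node (.node (.leaf [0, 0, 0, 1]) (.leaf [-1415, 592, 352, -359, 682, 900, -497, -8, -189, -21, -77, 1, -2])) (.node (.leaf [0, 0, 0, 1]) (.leaf [0, 0, 0, 1])))))))

def twoL92 : Janko.Tree (List ℤ) :=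
  (.node (.node (.node (.node (.node (.node (.leaf []) (.leaf [])) (.node (.leaf [1, 0, 0, 1, 0, -1]) (.leaf [16, -6, -16, -6, -3, -13, 15, -1, 1, 2, 1]))) (.node (.node (.leaf [-1, -2, 0, 0, 0, 0, 0, 1]) (.leaf [1])) (.node (.leaf [0, 0, 0, -1, 0, 1]) (.leaf [173285, -149864, 42863, -22036, -164387, -106242, 82306, 35611, 2640, 20346, 13695, -634, 3274, 0, 0, 1, 1])))) (.node (.node (.node (.leaf [-70, 30, 33, -16, 27, 48, -28, 3, -11, -2, -5]) (.leaf [])) (.node (.leaf [-2, 0, -1, -1, 1, 1]) (.leaf [2773, -1088, -1030, 810, -1163, -1807, 961, -105, 382, 78, 249, -45, -15]))) (.node (.node (.leaf []) (.leaf [-2, 0, -1, -1, 1, 1])) (.node (.leaf [-494, 290, 306, -125, 176, 393, -220, 10, -84, -24, -47]) (.leaf [24254, 7058, 9905, 6852, -8703, -10546, 2522, -1986, -1752, 458, -377, -139, 267, 0, 0, -1]))))) (.node (.node (.node (.node (.leaf [-13, -2, -3, -8, 3, 8, 0, 1]) (.leaf [471, -634, -660, 179, -168, -555, 328, 40, 178, 16, 75, 11, -3])) (.node (.leaf [1]) (.leaf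 [-4, -2, -1, -2, 1, 2, 0, 1]))) (.node (.node (.leaf [-1, 0, 0, -1, 0, 1]) (.leaf [1, 0, 0, 1, 0, -1])) (.node (.leaf [-96, 28, 45, -35, 23, 69, -28, 9, -12, -4, -8, 1]) (.leaf [-228679, 295440, 48184, 83778, 233588, 179562, -181358, -60650, -14461, -36896, -31618, 33, -4128, 1, -1, -1, -1])))) (.node (.node (.node (.leaf [-2, -10, 8, -1, -8, 1, 0, 5]) (.leaf [-80, 18, 30, -20, 25, 55, -31, 5, -7, -2, -5])) (.node (.leaf [1]) (.leaf [5087, -1290, -2673, 1094, -1195, -3770, 2212, -415, 485, 221, 343, 11, 0, 0, 1]))) (.node (.node (.leaf [-25, 12, -11, -22, 14, 15, 7, -1, -4, 0, -1]) (.leaf [1244, -22, 71, 416, -499, -596, 196, -98, 82, 4, 35, -11, -1])) (.node (.leaf [1, 0, 0, 1, 0, -1]) (.leaf [-3403, 16, -996, -1960, 1348, 1748, 160, 216, -130, -26, -120, 58, -6, 1])))))) (.node (.node (.node (.node (.node (.leaf []) (.leaf [-10, 0, -5, -6, 5, 6])) (.node (.leaf [-1, 0, 0, -1, 0, 1]) (.leaf [11502, -17198, -6290, -3009, -11167, -8644, 8325, 2357, 2733, 1723, 1845,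 -47, -12, 0, -1]))) (.node (.node (.leaf [-3, -6, 3, 0, -3, 0, 0, 3]) (.leaf [-74, 32, 29, -20, 30, 51, -27, 2, -11, -2, -5])) (.node (.leaf [1]) (.leaf [-2, 0, -1, -1, 1, 1])))) (.node (.node (.node (.leaf [1, 4, -4, 1, 4, -1, 0, -2]) (.leaf [-2, 2, 12, -1, -3, 6, -5, 1, -1, 0, -1])) (.node (.leaf [1]) (.leaf [1]))) (.node (.node (.leaf [197, -120, -113, 45, -74, -146, 79, -5, 38, 10, 16, 1]) (.leaf [])) (.node (.leaf []) (.leaf [23325, -13452, -1352, 1797, -15578, -13815, 9002, 1346, 2040, 1560, 1832, -144, 92, 0, 1]))))) (.node (.node (.node (.node (.leaf [2, 0, 0, 1, 0, -1]) (.leaf [5917, -8792, -3423, -1650, -5850, -4687, 4725, 1312, 1283, 807, 995, 3, -4, 0, 1])) (.node (.leaf [1]) (.leaf [1, 0, 1, 0, -1]))) (.node (.node (.leaf [-3, -2, 0, -1, 0, 1, 0, 1]) (.leaf [0, -2, 1, 0, -1, 0, 0, 1])) (.node (.leaf [-14, -6, -3, -6, 3, 6, 0, 3]) (.leaf [64125, -285024, -38725, -90955, -179409, -66395, 111460, 66182, 30461, 21259, 22924, 1734, -48, 0, 0, -1, -1])))) (.node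 (.node (.node (.leaf []) (.leaf [72, -104, -81, 38, -26, -95, 41, 11, 19, 8, 14])) (.node (.leaf [2, -6, 5, 2, -5, -2, 0, 3]) (.leaf [0, 0, -1, 0, 1]))) (.node (.node (.leaf [-21, 30, -37, -10, 38, 9, 1, -14, -2, 0, 1]) (.leaf [1222, 1984, 1383, -2, 91, -473, 113, -323, -802, 173, -48, -49, 57])) (.node (.leaf [-3, -2, 0, -1, 0, 1, 0, 1]) (.leaf [-68, 10, 37, -34, 17, 50, -22, 8, -8, 2, -8, 1])))))))

def twoL93 : Janko.Tree (List ℤ) :=
  (.node (.node (.node (.node (.node (.node (.leaf [0, 1]) (.leaf [0, 1])) (.node (.leaf []) (.leaf [0, 1]))) (.node (.node (.leaf []) (.leaf [219, -35, -89, 26, -76, -155, 119, -9, 10, 1, 12, 3, 1])) (.node (.leaf []) (.leaf [-463, 186, 110, -161, 178, 329, -128, 7, -52, -19, -28, -1])))) (.node (.node (.node (.leaf []) (.leaf [0, 1])) (.node (.leaf [-280, 576, 241, 115, 328, 244, -257, -82, -91, -50, -64, 0, -1]) (.leaf [0, 1]))) (.node (.node (.leaf [0, 1]) (.leaf [-742, -130, -39, -305, 208, 398, -119, 78, -16, 12, -10, 0, 1]))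 (.node (.leaf [0, 1]) (.leaf [0, 1]))))) (.node (.node (.node (.node (.leaf [0, 1]) (.leaf [0, 1])) (.node (.leaf []) (.leaf [0, 1]))) (.node (.node (.leaf [-2, -5, 4, -4, -4, 2, 0, 2, 0, 1]) (.leaf [-946, 450, 179, -279, 520, 594, -315, -34, -139, -1, -52, 2, -1])) (.node (.leaf [0, 1]) (.leaf [0, 1])))) (.node (.node (.node (.leaf [0, 1]) (.leaf [0, 1])) (.node (.leaf []) (.leaf [0, 1]))) (.node (.node (.leaf [0, 2, 2, 0, 0, 0, 0, 0, -1]) (.leaf [])) (.node (.leaf []) (.leaf [])))))) (.node (.node (.node (.node (.node (.leaf [0, 1]) (.leaf [])) (.node (.leaf [-2, -1, -2, -2, 2, 0, 0, 0, 0, 1]) (.leaf [-8422, 13439, 4434, 2456, 9070, 5944, -6060, -1818, -2115, -1317, -1616, 138, 9, 1, -1]))) (.node (.node (.leaf [0, 1]) (.leaf [])) (.node (.leaf [-724, -416, 916, -106, -323, 607, -493, 263, -22, 9, -29, -14, 1, 0, 0, 0, 1]) (.leaf [-80657, 34321, 14493, 5606, 39514, 60583, -44923, -3872, 3768, -9321, -6423, 575, -1887, 1, -1, 0, -1])))) (.node (.node (.node (.leaf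 [0, 1]) (.leaf [])) (.node (.leaf []) (.leaf []))) (.node (.node (.leaf []) (.leaf [0, 1])) (.node (.leaf [0, 1]) (.leaf [-7547, -78679, -41238, -10055, -27539, -3874, 16125, 12048, 21864, 60, 6526, 906, -2064, 0, 0, 0, -1]))))) (.node (.node (.node (.node (.leaf []) (.leaf [])) (.node (.leaf []) (.leaf [-23634, 46251, -830, 6822, 35476, 15834, -15696, -10170, -5993, -3294, -3482, -186, 0, 0, -1, 1]))) (.node (.node (.leaf []) (.leaf [0, 1])) (.node (.leaf [0, 1]) (.leaf [0, 2, 0, 2, 0, 0, 0, 0, 0, -1])))) (.node (.node (.node (.leaf [0, 1]) (.leaf [0, 2, 2, 0, 0, 0, 0, 0, -1])) (.node (.leaf [371, 55, -194, 37, -46, -195, 146, -80, 31, 7, 16, -1]) (.leaf [61, -24, -37, 16, -19, -44, 26, -4, 10, 1, 5]))) (.node (.node (.leaf [0, 1]) (.leaf [])) (.node (.leaf [0, 1]) (.leaf [0, 1])))))))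

def twoL94 : Janko.Tree (List ℤ) :=
  (.node (.node (.node (.node (.node (.node (.leaf []) (.leaf [])) (.node (.leaf [-2, 2, 2, -2, 0, 2, 0, 0, -1]) (.leaf [65, -24, -31, 10, -25, -47, 33, -2, 7, 2, 5]))) (.node (.node (.leaf [0, 0, 0, -1, 0, 0, 1]) (.leaf [])) (.node (.leaf [368, -100, -165, 147, -104, -272, 125, -22, 38, 8, 34, -8, 0, 0, 0, 1]) (.leaf [0, 0, 1])))) (.node (.node (.node (.leaf [0, 0, 1]) (.leaf [2, -2, 0, -1, -2, 0, 1, 0, 1])) (.node (.leaf [0, 0, 0, -1, 0, 0, 1]) (.leaf [138, 946, 711, 218, 243, 228, -410, -173, -153, -26, -129, -2, 10]))) (.node (.node (.leaf []) (.leaf [0, 0, 0, -1, 0, 0, 1])) (.node (.leaf []) (.leaf [-24854, 89594, 113064, -3741, 11158, 41584, -39425, -615, -31540, -1888, -13433, 104, 2575, 0, 0, 0, 1]))))) (.node (.node (.node (.node (.leaf []) (.leaf [-63, -162, -338, 119, 131, -149, 58, 17, 66, -22, 12, 11, -3])) (.node (.leaf []) (.leaf [61, -118, -104, 48, -7, -99, 31, 9, 26, 10, 14]))) (.node (.node (.leaf [0, 0, 1, 1,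 0, 0, -1]) (.leaf [62, 314, 454, 15, -8, 62, -129, -14, -131, 21, -38, -6, 11])) (.node (.leaf []) (.leaf [2160, -1498, -671, 437, -1174, -1562, 857, 118, 335, 129, 162, 8, -3])))) (.node (.node (.node (.leaf []) (.leaf [21, -48, -5, 0, -27, -25, 17, 12, 5, 4, 3])) (.node (.leaf [1152, -790, -814, 312, -355, -1117, 641, 48, 183, 53, 82, 30, -1]) (.leaf [-21, 12, 30, -30, 1, 31, -11, 0, -5, 3, -6, 1, 1]))) (.node (.node (.leaf [0, 0, 1]) (.leaf [0, 0, 1])) (.node (.leaf [-630, 2, -238, -221, 304, 258, -27, 18, -31, 1, 17, -1, -5]) (.leaf [-17277, 20810, -1352, 2156, 18720, 10141, -8177, -3846, -2413, -2104, -2086, 140, -96, 1, -1])))))) (.node (.node (.node (.node (.node (.leaf []) (.leaf [-191, 70, 40, -62, 83, 129, -59, 1, -21, -4, -11])) (.node (.leaf [0, 0, 1, 1, 0, 0, -1]) (.leaf [0, 0, 1, 1, 0, 0, -1]))) (.node (.node (.leaf []) (.leaf [0, 0, 1])) (.node (.leaf [848, -642, -420, 178, -421, -647, 361, 26, 157, 55, 84, 0, -1]) (.leaf [0, 0, 0, -1, 0, 0, 1])))) (.node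 (.node (.node (.leaf []) (.leaf [0, 0, 0, -1, 0, 0, 1])) (.node (.leaf [-5, 2, 0, -1, 3, 2, -1, 0, -1]) (.leaf [-205, 164, 80, 24, 141, 131, -119, -13, -31, -18, -20]))) (.node (.node (.leaf [0, 0, 1]) (.leaf [])) (.node (.leaf [2, -2, 0, -1, -2, 0, 1, 0, 1]) (.leaf [0, 0, 1]))))) (.node (.node (.node (.node (.leaf [-4, 0, -1, -1, 2, 2, -1]) (.leaf [0, 0, 1])) (.node (.leaf [16, 10, -22, 4, 7, -17, 13, -6, -2, 0, 3]) (.leaf [0, 0, 1]))) (.node (.node (.leaf [0, 0, 1]) (.leaf [869, -544, -479, 194, -352, -679, 385, -1, 141, 50, 82])) (.node (.leaf [-13, -2, 12, -8, -3, 13, -5, 3, -1, 0, -1]) (.leaf [-186, 164, 8, -21, 141, 145, -90, -38, -17, -13, -10, -2, -2])))) (.node (.node (.node (.leaf []) (.leaf [0, 0, 1])) (.node (.leaf [0, 0, 1, 1, 0, 0, -1]) (.leaf [0, 0, 1]))) (.node (.node (.leaf [-5, 10, -19, -2, 15, -1, 3, -6, 0, 0, 1]) (.leaf [0, 0, 1])) (.node (.leaf [20200, 26612, 10137, 16063, 3563, -7331, -4304, -6370, -2785, -2329, -1937, 91, 24, -1, 0, 1]) (.leaf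 [18253, -74258, 26855, 925, -63113, 1817, -1014, 17849, 17041, 74, 3103, 570, -1508, 0, -1, 0, -1])))))))

def twoL95 : Janko.Tree (List ℤ) :=
  (.node (.node (.node (.node (.node (.node (.leaf []) (.leaf [])) (.node (.leaf [0, 0, 0, 1]) (.leaf []))) (.node (.node (.leaf [0, 0, 0, 1]) (.leaf [-70, 12, 35, -39, 21, 53, -24, 5, -8, 4, -8, 1])) (.node (.leaf [0, 0, 0, 1]) (.leaf [])))) (.node (.node (.node (.leaf []) (.leaf [])) (.node (.leaf [0, 0, 0, 1]) (.leaf [1880, 796, -308, 815, -32, -975, 220, -429, 40, -1, 21, -28, -1]))) (.node (.node (.leaf []) (.leaf [0, 0, 0, 1])) (.node (.leaf []) (.leaf []))))) (.node (.node (.node (.node (.leaf []) (.leaf [-1027, 874, 648, -61, 523, 759, -513, -15, -216, -94, -114, 1, 1])) (.node (.leaf [213, -48, -137, 55, -21, -151, 70, -33, 30, 14, 14, -1]) (.leaf []))) (.node (.node (.leaf [0, 0, 0, 1]) (.leaf [0, 0, 0, 1])) (.node (.leaf [74, -8, -33, 39, -23, -52, 24, -7, 8, -4, 8, -1]) (.leaf [106, -6, 132, 33, -127, -21, 11, 22,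 -8, -10, 0, -1])))) (.node (.node (.node (.leaf [-1096, 524, 285, -311, 543, 711, -368, -16, -166, -17, -64, 1]) (.leaf [])) (.node (.leaf [1149, -736, -832, 321, -314, -1107, 627, 28, 182, 51, 78, 30, -1]) (.leaf [-21, 10, 20, -40, 1, 31, -1, 0, -4, 4, -6, 1]))) (.node (.node (.leaf [-1029, 762, 713, -198, 438, 879, -553, -17, -194, -44, -106, -21, 1]) (.leaf [-1112, -632, 50, -552, -114, 577, -8, 281, 12, -13, 31, 12, -7])) (.node (.leaf [0, 0, 0, 1]) (.leaf [0, 0, 0, 1])))))) (.node (.node (.node (.node (.node (.leaf []) (.leaf [0, 0, 0, 1])) (.node (.leaf [0, 0, 0, 1]) (.leaf [0, 0, 0, 1]))) (.node (.node (.leaf []) (.leaf [8398, -30636, 6761, -7540, -24323, -4391, 7731, 8324, 3287, 1851, 1607, 227, 22, 1, 0, -1])) (.node (.leaf [-1985, 1090, 1168, -211, 761, 1413, -937, 82, -318, -131, -177, 0, -1]) (.leaf [0, 0, 0, 1])))) (.node (.node (.node (.leaf [-609, 150, 166, -159, 234, 355, -184, 39, -72, -13, -36, 7]) (.leaf [0, 0, 0, 1])) (.node (.leaf []) (.leaf [-196,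 134, 70, -120, 85, 193, -65, -19, -21, -4, -23, 1, -1]))) (.node (.node (.leaf [56, -60, -162, 11, 33, -81, 49, -21, 24, 10, 16, 1]) (.leaf [])) (.node (.leaf []) (.leaf []))))) (.node (.node (.node (.node (.leaf [0, 0, 0, 1]) (.leaf [-2299, 0, -263, -742, 949, 1030, -298, 192, -149, -14, -48, 16, 3])) (.node (.leaf []) (.leaf [532, -300, -338, 20, -249, -387, 329, 1, 85, 14, 45, 6, -1]))) (.node (.node (.leaf []) (.leaf [])) (.node (.leaf []) (.leaf [0, 0, 0, 1])))) (.node (.node (.node (.leaf []) (.leaf [310, -822, -630, -368, -305, -277, 437, 53, 172, 108, 82, 1, -5])) (.node (.leaf [0, 0, 0, 1]) (.leaf [-5435, 3888, 382, -1267, 3649, 3378, -1507, -374, -758, -396, -510, 88, 6, 1]))) (.node (.node (.leaf []) (.leaf [-309, -86, 197, 7, 4, 149, -134, 86, -28, -6, -4, -4, -1])) (.node (.leaf [-8684, 30704, -6407, 7413, 24265, 4687, -7871, -8266, -3323, -1873, -1649, -219, -22, -1, 0, 1]) (.leaf [16, 2, 7, 10, -7, -7, 0, 0, 0, 0, 0, -1])))))))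

def twoL96 : Janko.Tree (List ℤ) :=
  (.node (.node (.node (.node (.node (.node (.leaf [-2, 0, -1, -1, 1, 1]) (.leaf [1])) (.node (.leaf [309, -262, 159, 122, -281, -178, 28, 71, 41, 14, 5, -1, 1]) (.leaf [588, 1104, 172, 755, 482, -288, -335, -328, -102, -58, -56, -7, -1]))) (.node (.node (.leaf [1103, -546, -317, 315, -543, -735, 388, 21, 168, 17, 68, -1]) (.leaf [1, 0, 1, 0, -1])) (.node (.leaf [-1932, 1208, -2600, -1006, 2203, 549, 445, -587, -183, -10, 160, 17, -1, 0, 0, 1]) (.leaf [173357, -149944, 42860, -22029, -164456, -106289, 82338, 35627, 2654, 20350, 13701, -634, 3274, 0, 0, 1, 1])))) (.node (.node (.node (.leaf [-8, -2, 1, -7, -1, 7, 0, 1]) (.leaf [-2, 0, -1, -1, 1, 1])) (.node (.leaf [-4, -6, 2, -1, -2, 1, 0, 3]) (.leaf [-235, 88, 118, -66, 76, 164, -86, 16, -36, -6, -18]))) (.node (.node (.leaf [3, 0, 1, 1, -1, -1]) (.leaf [1])) (.node (.leaf [0, 0, -1, 0, 1]) (.leaf [132769, -19954, -54508, 45202, -29494, -91724, 41918, -13419, 12350, 3454, 8744,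 -1100, -52, 0, 0, -1, -1]))))) (.node (.node (.node (.node (.leaf [0, 0, -1, 0, 1]) (.leaf [29301, 308596, 57474, 115901, 154377, 19070, -96863, -76627, -37685, -16362, -20932, -3815, 1123, 0, 1, 0, 1])) (.node (.leaf [1, 0, 1, 0, -1]) (.leaf [0, 0, 0, -1, 0, 1]))) (.node (.node (.leaf [-3, -6, 3, -1, -3, 1, 0, 3]) (.leaf [])) (.node (.leaf [1]) (.leaf [-236, 140, 181, -20, 85, 176, -126, 15, -44, -14, -26, -1])))) (.node (.node (.node (.leaf [0, 0, -1, 0, 1]) (.leaf [1238, 588, -210, 463, 0, -572, 129, -326, 28, 12, 14, -21, -1])) (.node (.leaf [-177, 2, 66, -73, 31, 96, -29, 30, -22, -4, -12, 7]) (.leaf [-88, 28, 38, -23, 30, 63, -36, 4, -10, -2, -6]))) (.node (.node (.leaf [1, 0, 0, 1, 0, -1]) (.leaf [0, 0, 0, -1, 0, 1])) (.node (.leaf [-2, -6, 5, -2, -5, 2, 0, 3]) (.leaf [-142880, -124878, -206455, -132438, 78924, -8017, 88723, 20085, -453, 23989, 16941, -1039, 2916, 0, 0, 1, 1])))))) (.node (.node (.node (.node (.node (.leaf [1]) (.leaf [])) (.node (.leaf [5,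 4, 1, 0, -1, 0, 0, -2]) (.leaf [-8959, 18496, 122, 3638, 13982, 5410, -6012, -3688, -2510, -1518, -1532, 4, -4, 0, -1]))) (.node (.node (.leaf [0, 0, 0, -1, 0, 1]) (.leaf [2, -2, 3, 1, -3, -1, 0, 1])) (.node (.leaf [13, 10, -8, 7, 5, -6, -1, -7, 1, 0, 1]) (.leaf [1])))) (.node (.node (.node (.leaf [0, 0, -1, 0, 1]) (.leaf [-79, 28, -20, 15, 45, 40, -33, -7, 0, -11, 4])) (.node (.leaf [1, 0, 0, 1, 0, -1]) (.leaf [-194, 160, 91, 28, 130, 127, -119, -11, -31, -18, -20]))) (.node (.node (.leaf [-3, -6, 5, -2, -5, 2, 0, 3]) (.leaf [303, 194, -19, 110, -28, -143, 77, -60, -9, -22, -6])) (.node (.leaf [-2, 0, -1, -1, 1, 1]) (.leaf [23325, -13452, -1353, 1798, -15577, -13816, 9002, 1346, 2040, 1560, 1832, -144, 92, 0, 1]))))) (.node (.node (.node (.node (.leaf []) (.leaf [5741, -17544, 236, -4373, -12457, -3684, 5185, 3826, 2151, 1413, 1359, 15, 8, 0, 1])) (.node (.leaf [-15, 14, 19, -8, 4, 21, -13, -2, -2, 0, -3]) (.leaf [127, -72, -30, -34, -65, -101, 99, 20, 4, 12, -6,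 6]))) (.node (.node (.leaf [-1, -2, 1, 0, -1, 0, 0, 1]) (.leaf [0, 0, 0, -1, 0, 1])) (.node (.leaf [0, 0, 0, -1, 0, 1]) (.leaf [-8942, 14648, 5218, 2479, 9372, 6691, -6566, -1988, -2354, -1432, -1680, 108, 22, 0, -1])))) (.node (.node (.node (.leaf [1]) (.leaf [1, 0, 0, 1, 0, -1])) (.node (.leaf [4, 2, 13, 0, -6, 5, -5, 0, 0, 0, -1]) (.leaf [-4717, 3996, 405, -980, 3454, 2999, -1399, -454, -732, -402, -502, 88, 4, 1]))) (.node (.node (.leaf [233, 134, 95, 176, -31, -108, -34, -35, -4, -16, -11, -1]) (.leaf [3, 0, 1, 1, -1, -1])) (.node (.leaf [0, 0, -1, 0, 1]) (.leaf [-115611, -161448, -128142, -62330, -440, 31388, 29078, 26504, 38712, 3216, 14576, 1252, -3536, 0, 0, -1, -1])))))))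

def twoL97 : Janko.Tree (List ℤ) :=
  (.node (.node (.node (.node (.node (.node (.leaf []) (.leaf [482, 933, 457, 817, 262, -238, -369, -185, -110, -104, -66, -2, 1])) (.node (.leaf [0, 1]) (.leaf []))) (.node (.node (.leaf [0, 1]) (.leaf [])) (.node (.leaf [0, 1]) (.leaf [-17672, 14367, 3124, -1416, 12918, 11010, -7142, -1492, -2671, -1399, -1794, 158, 15, 1, -1])))) (.node (.node (.node (.leaf []) (.leaf [-738, 571, 53, -221, 542, 500, -273, -118, -124, -12, -40, 6, 3])) (.node (.leaf []) (.leaf [53404, -78016, -10130, -16082, -59590, -37574, 36580, 14384, 8220, 8424, 7866, -370, 484, 0, 1, -1]))) (.node (.node (.leaf []) (.leaf [-817, -384, -240, -675, 75, 502, 87, 109, 31, 42, 9, 2, -1])) (.node (.leaf []) (.leaf []))))) (.node (.node (.node (.node (.leaf []) (.leaf [2, -1, 0, 0, 0, -2, 0, 0, 0, 1])) (.node (.leaf []) (.leaf []))) (.node (.node (.leaf [0, 1]) (.leaf [0, 1])) (.node (.leaf [324, -64, -125, 89, -97, -209, 112, -27, 36, 5, 19, -1]) (.leaf [0, 1]))))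 (.node (.node (.node (.leaf []) (.leaf [])) (.node (.leaf [0, 1]) (.leaf [0, 1]))) (.node (.node (.leaf []) (.leaf [])) (.node (.leaf [0, 1]) (.leaf [0, 1])))))) (.node (.node (.node (.node (.node (.leaf []) (.leaf [0, 1])) (.node (.leaf [0, 1]) (.leaf [0, 1]))) (.node (.node (.leaf []) (.leaf [])) (.node (.leaf []) (.leaf [-679, 289, -238, -435, 455, 424, -55, -95, -75, 30, -7, 2, 1])))) (.node (.node (.node (.leaf []) (.leaf [0, 1])) (.node (.leaf []) (.leaf [0, 2, 2, 0, 0, 0, 0, 0, -1]))) (.node (.node (.leaf [0, 1]) (.leaf [0, 1])) (.node (.leaf [316, -249, 581, -43, -532, 100, -95, 80, 10, 60, 16, -38, -3]) (.leaf [-21259, -55227, -32891, -6262, -13288, 6859, 6171, 8888, 18146, -2270, 3964, 992, -2106, 1, 0, -1, -1]))))) (.node (.node (.node (.node (.leaf [0, 1]) (.leaf [0, 6, 6, 4, 0, 0, -2, 0, -2, -1])) (.node (.leaf [4, -10, 6, 0, -10, -2, 2, 4, 1]) (.leaf [0, -1, 0, -2, 0, 0, 0, 0, 0, 1]))) (.node (.node (.leaf []) (.leaf [273, -1449, -501, -958, -930, -153,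 803, 252, 167, 158, 152, 1, -5])) (.node (.leaf []) (.leaf [0, 1])))) (.node (.node (.node (.leaf []) (.leaf [-17488, 22377, 3136, 994, 17413, 11835, -9233, -3727, -3467, -1846, -2196, 43, 5, 1, -1])) (.node (.leaf [0, 1]) (.leaf [-728, -122, -35, -299, 200, 384, -107, 80, -22, 10, -8, 0, 1]))) (.node (.node (.leaf [0, 1]) (.leaf [16576, 9630, 74416, -14698, -33007, 3499, -1857, 10682, -17652, 4122, -4373, 157, 2249, -1, 1, 0, 1])) (.node (.leaf [10666, -16460, -480, -2028, -12969, -6597, 5821, 3009, 2329, 1456, 1490, -49, -5, -1, 1]) (.leaf [-135, 59, 61, -24, 55, 88, -56, 5, -21, -4, -9])))))))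

def twoL98 : Janko.Tree (List ℤ) :=
  (.node (.node (.node (.node (.node (.node (.leaf [0, 0, 0, -1, 0, 0, 1]) (.leaf [])) (.node (.leaf [96, -194, 296, 60, -261, -30, -24, 106, 3, -4, -9, 0, 1]) (.leaf [1796, 1622, 392, 1737, 430, -1074, -427, -497, -120, -114, -76, -3, -1]))) (.node (.node (.leaf []) (.leaf [0, 0, 1])) (.node (.leaf [-740, -120, -146, -246, 256, 319, -73, 79, -17, -6, -2, 5, 1]) (.leaf [0, 0, 1, 1, 0, 0, -1])))) (.node (.node (.node (.leaf [0, 0, 1, 1, 0, 0, -1]) (.leaf [0, 0, 0, -1, 0, 0, 1])) (.node (.leaf [0, 0, 1]) (.leaf [-2, -6, -3, 4, 1, -3, -1, 1, 1, 0, 1]))) (.node (.node (.leaf [0, 0, 0, -1, 0, 0, 1]) (.leaf [-5, 2, 0, -1, 3, 2, -1, 0, -1])) (.node (.leaf [0, 0, 1]) (.leaf [0, 0, 1]))))) (.node (.node (.node (.node (.leaf [0, 0, 1]) (.leaf [-18211, 74230, -26863, -930, 63090, -1852, 1042, -17843, -17040, -69, -3102, -569, 1508, 0, 1, 0, 1])) (.node (.leaf [0, 0, 1]) (.leaf [119, -100, -95, 21, -55, -109, 76, 7, 21, 6, 16]))) (.node (.node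 (.leaf []) (.leaf [])) (.node (.leaf [-3, -2, -1, -1, 1, 2, -1, 0, 1]) (.leaf [-57722, -45898, -32785, -13776, 4763, 29082, -5844, 8484, 16749, -3476, 2447, 1008, -2263, 0, -1, 0, -1])))) (.node (.node (.node (.leaf [0, 0, 1]) (.leaf [-2698, 244, -822, -909, 1274, 1434, -297, 42, 42, -132, -92, 45, -27])) (.node (.leaf [-318, 56, 119, -101, 89, 187, -84, 35, -41, -8, -21, 7]) (.leaf [-72, 26, 34, -21, 23, 49, -24, 5, -11, -2, -5]))) (.node (.node (.leaf [-159, -150, 118, -111, -58, 113, -46, 61, 2, 20, -10, 1, 1]) (.leaf [1, -2, 0, 0, -1, 0, 0, 0, 1])) (.node (.leaf [-15, -8, 14, -6, -5, 11, -5, 6, -1, 0, -1]) (.leaf [-21534, 38532, 10727, 9900, 25198, 17938, -19386, -6982, -4095, -4159, -3963, 144, -211, 0, -1, 1])))))) (.node (.node (.node (.node (.node (.leaf []) (.leaf [])) (.node (.leaf [-57194, 67180, 48623, 5809, 37242, 48284, -41877, -5342, -12926, -6644, -9214, 390, 146, -1, 0, 1]) (.leaf [0, 2, 1, -1, 0, 0, 1, 0, -1]))) (.node (.node (.leaf [-11, -2, 1, -6,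 1, 6, 0, 2, -1]) (.leaf [8848, -30784, 6374, -7369, -24351, -4793, 7926, 8270, 3345, 1877, 1659, 219, 22, 1, 0, -1])) (.node (.leaf [-163, 64, 88, -51, 51, 121, -62, 10, -23, -4, -15]) (.leaf [-5, 2, 0, -1, 3, 2, -1, 0, -1])))) (.node (.node (.node (.leaf [0, 0, 1]) (.leaf [-48367, 57882, 18949, 4834, 42435, 36008, -30864, -8721, -8934, -4940, -6297, -20, -29, 0, -1, 1])) (.node (.leaf [-2, 2, 0, 0, 2, 0, 0, 0, -1]) (.leaf [0, 0, 1]))) (.node (.node (.leaf []) (.leaf [101, 178, 33, 50, 31, -17, -1, -42, -15, -16, -16])) (.node (.leaf [0, 0, 0, -1, 0, 0, 1]) (.leaf [0, 0, 1, 1, 0, 0, -1]))))) (.node (.node (.node (.node (.leaf [6, 2, -2, 1, 0, -2, 1, -2, 1]) (.leaf [115, -48, -8, 31, -71, -84, 55, 14, 5, -2, 6, 0, 1])) (.node (.leaf [0, 0, 1]) (.leaf [740, -344, -411, 111, -303, -533, 380, -17, 107, 18, 61, 4, -1]))) (.node (.node (.leaf [0, 0, 1, 1, 0, 0, -1]) (.leaf [243, -86, -154, 79, -56, -193, 102, -17, 34, 6, 20])) (.node (.leaf [13, -8, 17, 5, -15, -1, -4, 3,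 2, 0, -1]) (.leaf [-17058, 3030, -6901, -4706, 10463, 8159, -2313, -424, -23, -607, -498, 140, -103, 0, -1])))) (.node (.node (.node (.leaf [-5, 2, 0, -1, 3, 2, -1, 0, -1]) (.leaf [332, -354, -189, -9, -221, -263, 200, 35, 66, 36, 40, 1, -1])) (.node (.leaf [-24, 2, -23, -10, 19, 7, 3, -2, 0, 0, 1]) (.leaf [0, 0, 0, -1, 0, 0, 1]))) (.node (.node (.leaf [-593, 600, -45, -204, 528, 386, -162, -131, -130, -8, -29, -1, -1]) (.leaf [0, 0, 0, -1, 0, 0, 1])) (.node (.leaf [0, 0, 1]) (.leaf [-103092, 233914, 124190, 84700, 112690, 120522, -139316, -38139, -17682, -31298, -28183, 1262, -2917, 0, 0, 0, -1])))))))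

def twoL99 : Janko.Tree (List ℤ) :=
  (.node (.node (.node (.node (.node (.node (.leaf [0, 0, 0, 1]) (.leaf [])) (.node (.leaf [1046, -578, -360, 72, -525, -636, 427, -8, 161, 70, 67, -2, 1]) (.leaf [0, 0, 0, 1]))) (.node (.node (.leaf [1082, -516, -313, 310, -525, -715, 378, 14, 164, 15, 66, -1]) (.leaf [])) (.node (.leaf []) (.leaf [0, 0, 0, 1])))) (.node (.node (.node (.leaf [0, 0, 0, 1]) (.leaf [0, 0, 0, 1])) (.node (.leaf []) (.leaf [0, 0, 0, 1]))) (.node (.node (.leaf [0, 0, 0, 1]) (.leaf [-4462, 4344, 806, -928, 3335, 3109, -1521, -527, -778, -408, -537, 73, 5, 1])) (.node (.leaf []) (.leaf [1282, -852, -576, 279, -717, -857, 530, 14, 230, 56, 158, -26, -6]))))) (.node (.node (.node (.node (.leaf []) (.leaf [0, 0, 0, 1])) (.node (.leaf [-96, 218, -272, -73, 253, 42, 29, -106, -11, 2, 7, 0, -1]) (.leaf [0, 0, 0, 1]))) (.node (.node (.leaf []) (.leaf [])) (.node (.leaf []) (.leaf [-228, 144, 183, -16, 83, 173, -126, 13, -44, -14, -26, -1])))) (.node (.node (.node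 (.leaf [-44, 50, 130, -4, -29, 59, -33, 20, -22, -10, -12, -1]) (.leaf [0, 0, 0, 1])) (.node (.leaf []) (.leaf [721946, 3606276, 1897398, 1703028, 1035578, 403064, -1451448, -737762, -406878, -313256, -331176, -11356, -2710, 1, 0, -1, -1]))) (.node (.node (.leaf [0, 0, 0, 1]) (.leaf [0, 0, 0, 1])) (.node (.leaf []) (.leaf [])))))) (.node (.node (.node (.node (.node (.leaf []) (.leaf [])) (.node (.leaf [-56908, 66840, 48453, 5783, 37016, 48068, -41690, -5304, -12862, -6616, -9174, 390, 146, -1, 0, 1]) (.leaf []))) (.node (.node (.leaf [0, 0, 0, 1]) (.leaf [0, 0, 0, 1])) (.node (.leaf [0, 0, 0, 1]) (.leaf [-54227, 197598, 229756, 85274, 30523, 122653, -153175, -19390, -21448, -26358, -30585, 501, -1519, 1, -1, -1, -1])))) (.node (.node (.node (.leaf [-499, 116, 155, -130, 178, 289, -149, 39, -62, -12, -30, 7]) (.leaf [86, -34, -106, 66, -7, -92, 41, -12, 18, -7, 18])) (.node (.leaf [0, 0, 0, 1]) (.leaf [978, -432, -398, 106, -447, -697, 499, -2, 86, 46, 86, -1, 1])))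 (.node (.node (.leaf []) (.leaf [-3420, 148, -968, -1996, 1380, 1800, 168, 197, -150, -39, -135, 58, -5, 1])) (.node (.leaf [0, 0, 0, 1]) (.leaf [0, 0, 0, 1]))))) (.node (.node (.node (.node (.leaf []) (.leaf [0, 0, 0, 1])) (.node (.leaf []) (.leaf [0, 0, 0, 1]))) (.node (.node (.leaf [0, 0, 0, 1]) (.leaf [0, 0, 0, 1])) (.node (.leaf [0, 0, 0, 1]) (.leaf [-16620, 2804, -7116, -4687, 10228, 7888, -2084, -434, 44, -594, -454, 140, -104, 0, -1])))) (.node (.node (.node (.leaf []) (.leaf [0, 0, 0, 1])) (.node (.leaf []) (.leaf [0, 0, 0, 1]))) (.node (.node (.leaf [357, 170, 13, 224, -27, -197, 16, -63, 2, -20, -3, -1]) (.leaf [0, 0, 0, 1])) (.node (.leaf []) (.leaf [0, 0, 0, 1])))))))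

def twoL100 : Janko.Tree (List ℤ) :=
  (.node (.node (.node (.node (.node (.node (.leaf []) (.leaf [1, 0, 1, 0, -1])) (.node (.leaf [-231, 452, 186, 25, 224, 231, -172, -65, -72, -42, -47]) (.leaf [18, -14, -2, 10, -7, -15, 1, 1, 3, 2, 1]))) (.node (.node (.leaf [-291, 34, 119, -69, 78, 212, -135, 18, -14, -4, -17]) (.leaf [-75, 8, 35, -40, 21, 54, -24, 7, -8, 4, -8, 1])) (.node (.leaf [13970, 19232, 12785, 11925, 1153, -3627, -5822, -4154, -2736, -1298, -1488, -106, 166, 0, 0, 1]) (.leaf [0, 0, -1, 0, 1])))) (.node (.node (.node (.leaf [-241, 92, 136, -76, 68, 186, -98, 13, -34, -6, -19]) (.leaf [1])) (.node (.leaf [-2, -6, 3, 0, -3, 0, 0, 3]) (.leaf [-86611, -37152, -11160, -26934, 8079, 50413, -13699, 12876, 10859, -4143, -269, 1453, -2200, 0, 0, -1, -1]))) (.node (.node (.leaf [-193, 56, 145, -72, -1, 158, -56, 31, -30, -16, -14, 1]) (.leaf [-4325, 4320, 786, -887, 3277, 3034, -1487, -535, -764, -410, -531, 73, 7, 1])) (.node (.leaf [2, 0, 0, 1, 0, -1]) (.leaf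 [-237529, 286222, 38061, 76763, 236035, 181065, -177872, -59215, -13310, -35822, -30608, 38, -4194, 0, 0, -1, -1]))))) (.node (.node (.node (.node (.leaf [2, 0, 0, 1, 0, -1]) (.leaf [0, 0, -1, 0, 1])) (.node (.leaf [248, -48, -121, 42, -49, -150, 78, -37, 32, 16, 14, -1]) (.leaf [85, -116, -78, 36, -37, -99, 43, 12, 22, 10, 14]))) (.node (.node (.leaf [0, 0, -1, 0, 1]) (.leaf [-51, 22, 9, 9, 22, 28, -23, 0, -6, -6, 2, -1])) (.node (.leaf [1, 0, 0, 1, 0, -1]) (.leaf [-239193, 327152, 41733, 90689, 258882, 185482, -189707, -69047, -17964, -38870, -33333, -205, -4157, 0, -1, 0, -1])))) (.node (.node (.node (.leaf []) (.leaf [12, -2, -8, 6, -1, -11, 5, -1, 1, 0, 1])) (.node (.leaf [-15, -4, -7, -5, 7, 5, 0, 2]) (.leaf [22, 54, -34, 1, 21, 2, 9, -23, 1, -6, 1]))) (.node (.node (.leaf [-15, -6, -3, -6, 3, 6, 0, 3]) (.leaf [507, -168, -96, 153, -247, -286, 139, -15, 66, 5, 36, -8])) (.node (.leaf [0, 0, 0, -1, 0, 1]) (.leaf [0, 0, -1, 0, 1])))))) (.node (.node (.node (.node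 (.node (.leaf [1, 0, 1, 0, -1]) (.leaf [1])) (.node (.leaf [0, 0, -1, 0, 1]) (.leaf [1, -2, 1, 1, -1, -1, 0, 1]))) (.node (.node (.leaf []) (.leaf [1])) (.node (.leaf [79773, 46256, 23593, 2948, -11619, -51322, 31278, -6832, -23240, 5310, -1604, 20, 3218, 0, 0, 1, 1]) (.leaf [-53432, -56374, 42786, -18889, -34999, 46848, -23319, 21318, 10548, -1730, -1359, 833, -1423, 1, -1, -1, -1])))) (.node (.node (.node (.leaf []) (.leaf [217, -96, -166, 89, -67, -180, 101, -13, 38, -5, 28])) (.node (.leaf [2098, -728, 57, 561, -1173, -1080, 453, 1, 232, 53, 98, -21, 1]) (.leaf [-145, 46, 78, -125, 17, 154, -37, 1, -13, 4, -15, 1, -1]))) (.node (.node (.leaf [0, 0, 0, -1, 0, 1]) (.leaf [-94, 30, -10, -43, 51, 72, -29, -9, -1, 0, -5])) (.node (.leaf [1]) (.leaf [6114, -8972, -4367, -1663, -5509, -4909, 4856, 1112, 1464, 876, 1052, -12, -6, 0, 1]))))) (.node (.node (.node (.node (.leaf [-2, 0, -1, -1, 1, 1]) (.leaf [812, -768, -520, 68, -492, -643, 461, 57, 162, 55, 108, -3, 5]))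 (.node (.leaf [1, 0, 0, 1, 0, -1]) (.leaf [-6, -2, -2, -3, 2, 3, 0, 1]))) (.node (.node (.leaf [-9, -4, -1, -5, 1, 5, 0, 2]) (.leaf [533, -310, -316, 121, -193, -426, 245, -7, 82, 30, 50])) (.node (.leaf []) (.leaf [1])))) (.node (.node (.node (.leaf [1, 0, 0, 1, 0, -1]) (.leaf [-7, -2, -1, -4, 1, 4, 0, 1])) (.node (.leaf [3, 0, 1, 1, -1, -1]) (.leaf [0, -4, 3, 0, -3, 0, 0, 2]))) (.node (.node (.leaf [1]) (.leaf [-64, 20, 27, -33, 29, 47, -24, 1, -8, 4, -8, 1])) (.node (.leaf [2, 0, 0, 1, 0, -1]) (.leaf [0, 0, -1, 0, 1])))))))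

def twoL101 : Janko.Tree (List ℤ) :=
  (.node (.node (.node (.node (.node (.node (.leaf [0, 1]) (.leaf [])) (.node (.leaf [0, 1]) (.leaf [0, 1]))) (.node (.node (.leaf []) (.leaf [0, -1, 0, -2, 0, 0, 0, 0, 0, 1])) (.node (.leaf [-1158, 16, -109, -373, 472, 534, -163, 92, -75, -10, -26, 10, 1]) (.leaf [-71, 25, 33, -22, 23, 50, -26, 4, -10, -1, -5])))) (.node (.node (.node (.leaf [0, 1]) (.leaf [47994, 70018, -29836, 22324, 40474, -39310, 13578, -22973, -13254, 1192, -486, -1120, 1632, -1, 1, 0, 1])) (.node (.leaf [139, -778, 28, -93, -442, -171, 132, 182, 87, 65, 54, 1]) (.leaf []))) (.node (.node (.leaf [0, 1]) (.leaf [-239438, 284719, 36944, 74670, 235192, 183322, -177568, -59104, -12561, -36019, -30482, 48, -4241, 1, 0, -1, -1])) (.node (.leaf [-531, 283, 308, -79, 202, 381, -244, 21, -85, -30, -48, 1]) (.leaf [0, -1, 0, -2, 0, 0, 0, 0, 0, 1]))))) (.node (.node (.node (.node (.leaf []) (.leaf [-69, 45, 25, -16, 35, 48, -26, -2, -12, -3, -5])) (.node (.leaf [0,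 -1, 0, -2, 0, 0, 0, 0, 0, 1]) (.leaf []))) (.node (.node (.leaf []) (.leaf [])) (.node (.leaf [8, -231, -203, -209, -120, -44, 225, 52, 34, 5, 16, 10, -1]) (.leaf [644, -958, -417, -181, -570, -594, 559, 158, 133, 85, 80, 22, 1])))) (.node (.node (.node (.leaf [0, 1]) (.leaf [0, 1])) (.node (.leaf [0, 1]) (.leaf [23015, -37054, -10729, -8880, -24765, -18640, 19236, 6465, 4028, 4095, 3892, -162, 209, 0, 1, -1]))) (.node (.node (.leaf [0, 1]) (.leaf [0, 1])) (.node (.leaf []) (.leaf [425, 1035, 254, 667, 463, -174, -373, -286, -108, -51, -63, -8, -1])))))) (.node (.node (.node (.node (.node (.leaf []) (.leaf [])) (.node (.leaf [324, -62, -127, 89, -95, -209, 112, -28, 36, 5, 19, -1]) (.leaf [-687, 508, 501, 114, 344, 445, -433, 18, -141, -65, -68, -1, 3]))) (.node (.node (.leaf [0, 1]) (.leaf [24442, -37058, -9730, -7630, -25338, -19428, 18742, 6428, 4023, 4124, 3920, -186, 220, 0, 1, -1])) (.node (.leaf [0, 1]) (.leaf [-18620, 20693, -122, 1676, 18568, 11562, -9142,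 -3733, -2463, -2041, -2102, 80, -87, 1, -1])))) (.node (.node (.node (.leaf [0, 1]) (.leaf [0, 1])) (.node (.leaf [0, 1]) (.leaf [-13546, 15973, -768, 204, 13955, 8091, -5607, -2871, -2339, -1378, -1432, 53, -19, 1, -1]))) (.node (.node (.leaf []) (.leaf [])) (.node (.leaf []) (.leaf [0, 1]))))) (.node (.node (.node (.node (.leaf [-1710, -265, -53, -811, 390, 904, -147, 202, -86, 10, -10, 16, 1]) (.leaf [0, 1])) (.node (.leaf []) (.leaf [0, 1]))) (.node (.node (.leaf []) (.leaf [])) (.node (.leaf [0, 1]) (.leaf [33848, 835678, 305286, 336988, 348006, 133730, -325640, -182450, -91596, -67475, -71254, -4088, -976, -1, 0, 1, 1])))) (.node (.node (.node (.leaf []) (.leaf [0, 1])) (.node (.leaf []) (.leaf []))) (.node (.node (.leaf []) (.leaf [0, 1])) (.node (.leaf []) (.leaf [1, 1, -7, -2, 3, -2, 2, -2, 0, 1, 1])))))))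

def twoL102 : Janko.Tree (List ℤ) :=
  (.node (.node (.node (.node (.node (.node (.leaf []) (.leaf [0, 0, 1])) (.node (.leaf []) (.leaf [6, -2, -10, 0, 0, -7, 7, -1, 1, 0, 1]))) (.node (.node (.leaf [-250, -22, 82, -67, 49, 171, -100, 28, -2, -2, -13]) (.leaf [0, 0, 1, 1, 0, 0, -1])) (.node (.leaf [0, 0, 0, -1, 0, 0, 1]) (.leaf [0, 0, 1])))) (.node (.node (.node (.leaf [-345, 232, 244, -90, 127, 290, -168, 1, -64, -16, -37]) (.leaf [-5, 2, 0, -1, 3, 2, -1, 0, -1])) (.node (.leaf [0, 0, 1, 1, 0, 0, -1]) (.leaf [0, 0, 1]))) (.node (.node (.leaf []) (.leaf [-4, 2, 0, -2, 2, 2, 0, 0, -1])) (.node (.leaf [-4, 0, -1, -1, 2, 2, -1]) (.leaf [1284, -872, -593, 268, -719, -865, 541, 16, 232, 60, 160, -26, -6]))))) (.node (.node (.node (.node (.leaf [-4, 0, -1, -1, 2, 2, -1]) (.leaf [0, 0, 1])) (.node (.leaf [-1014, 550, 329, -42, 525, 600, -424, 6, -151, -68, -63, 2, -1]) (.leaf [0, 0, 1]))) (.node (.node (.leaf [0, 0, 1]) (.leaf [0, 0, 1])) (.node (.leaf [0, -2, -1, 0, 0,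 0, 0, 0, 1]) (.leaf [450, -162, -756, 85, 16, -378, 321, -126, 133, 3, 88, -6, -11])))) (.node (.node (.node (.leaf [2, 2, 5, -3, -4, 2, 1, 0, -1]) (.leaf [4, -2, -10, 2, 2, -7, 5, -1, 1, 0, 1])) (.node (.leaf []) (.leaf [0, 0, 0, -1, 0, 0, 1]))) (.node (.node (.leaf []) (.leaf [-44454, 42724, 15397, 961, 33517, 32457, -25538, -5783, -6662, -3891, -4977, 0, -49, 0, -1, 1])) (.node (.leaf [-173, 70, 65, -43, 69, 111, -60, 6, -28, -4, -9]) (.leaf [0, 0, 1])))))) (.node (.node (.node (.node (.node (.leaf [0, 0, 1]) (.leaf [-5922, -1976, 2440, -2908, -207, 3675, -1125, 1372, -315, 67, -248, 103, 9])) (.node (.leaf [0, 0, 1]) (.leaf [246, -454, -184, -17, -230, -243, 176, 66, 71, 42, 48]))) (.node (.node (.leaf [-232, 1298, 1019, 727, 416, 460, -855, -194, -181, -145, -108, -20, -1]) (.leaf [-702, 666, 404, 48, 473, 501, -433, -54, -139, -57, -82, 0, -1])) (.node (.leaf []) (.leaf [0, -2, -2, 0, 0, 0, 0, 0, 1])))) (.node (.node (.node (.leaf [-2, -2, 7, -5, -6, 4, 1, 2,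 -1]) (.leaf [-14736, 57672, 18281, 13583, 30841, 15207, -20554, -10237, -9044, -4333, -5437, 18, 197, 0, -1, 1])) (.node (.leaf [184, -54, -231, 61, 26, -178, 95, -40, 31, 13, 25, -1, -1]) (.leaf [-854, -136, -35, -371, 255, 493, -166, 72, -6, 22, -20, 1, -1]))) (.node (.node (.leaf [-524, -34, -239, -194, 245, 207, -5, 18, -13, -3, 16, 2, -3]) (.leaf [-12, -8, 26, -3, -9, 15, -12, 6, 1, 0, -3])) (.node (.leaf [-5, 2, 0, -1, 3, 2, -1, 0, -1]) (.leaf [-425, -266, -165, -197, 85, 164, -5, 72, 26, 18, 16, 0, 1]))))) (.node (.node (.node (.node (.leaf [0, 0, 0, -1, 0, 0, 1]) (.leaf [])) (.node (.leaf [0, 0, 1, 1, 0, 0, -1]) (.leaf [-31486, 19608, 12345, -2527, 17147, 22755, -16304, -1292, -3567, -1985, -2983, 67, -44, -1, 0, 1]))) (.node (.node (.leaf [122, -134, -108, 23, -61, -116, 73, 9, 29, 10, 19]) (.leaf [0, 0, 0, -1, 0, 0, 1])) (.node (.leaf [902, 140, 347, 352, -362, -375, 27, -61, 7, 4, -14, -7, 1]) (.leaf [-2332, 1450, -693, 1326, 2257, 1151, -1559, -329, 330,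 -452, -267, 58, -65, 0, -1])))) (.node (.node (.node (.leaf [-8, -2, 2, -4, 0, 4, 0, 2, -1]) (.leaf [])) (.node (.leaf [0, 0, 0, -1, 0, 0, 1]) (.leaf [-81, 34, 26, -18, 37, 49, -27, 3, -13, -2, -5]))) (.node (.node (.leaf [-5, -6, -1, -3, -1, 2, 1, 2, 1]) (.leaf [])) (.node (.leaf [-4, 0, -1, -1, 2, 2, -1]) (.leaf [0, 0, 1])))))))

def twoL103 : Janko.Tree (List ℤ) :=
  (.node (.node (.node (.node (.node (.node (.leaf []) (.leaf [])) (.node (.leaf []) (.leaf []))) (.node (.node (.leaf [0, 0, 0, 1]) (.leaf [0, 0, 0, 1])) (.node (.leaf [0, 0, 0, 1]) (.leaf [])))) (.node (.node (.node (.leaf []) (.leaf [])) (.node (.leaf [0, 0, 0, 1]) (.leaf [-1940, -4336, -1355, -2302, -1249, 225, 1351, 1170, 353, 341, 282, 30, -8]))) (.node (.node (.leaf [837, -448, -593, 26, -279, -575, 420, -67, 150, 66, 76, -1]) (.leaf [0, 0, 0, 1])) (.node (.leaf [0, 0, 0, 1]) (.leaf [0, 0, 0, 1]))))) (.node (.node (.node (.node (.leaf [0, 0, 0, 1]) (.leaf [])) (.node (.leaf [0, 0, 0, 1]) (.leaf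 [-28570, -1560, 13301, -6620, 2415, 19819, -10343, 4750, -397, -1847, -2145, 563, -144, 1, 0, -1]))) (.node (.node (.leaf []) (.leaf [-38, 22, 10, 15, 17, 23, -23, -2, -4, -6, 2, -1])) (.node (.leaf [0, 0, 0, 1]) (.leaf [0, 0, 0, 1])))) (.node (.node (.node (.leaf []) (.leaf [])) (.node (.leaf [343, -354, -97, -17, -291, -247, 204, 55, 48, 31, 44, -1]) (.leaf [0, 0, 0, 1]))) (.node (.node (.leaf []) (.leaf [387, -140, -50, 89, -217, -197, 111, -7, 52, 5, 26, -6])) (.node (.leaf [0, 0, 0, 1]) (.leaf [60, -10, -40, 30, -17, -45, 25, -6, 8, -4, 8, -1])))))) (.node (.node (.node (.node (.node (.leaf []) (.leaf [-40, -46, 21, -51, -18, 0, 33, 32, -10, 4, -8, 5])) (.node (.leaf []) (.leaf [0, 0, 0, 1]))) (.node (.node (.leaf [-368, 1288, 1092, 684, 426, 538, -889, -164, -200, -145, -114, -20, -1]) (.leaf [716, 560, 576, 651, -71, -283, -279, -120, -69, -33, -47, -14, 3])) (.node (.leaf []) (.leaf [0, 0, 0, 1])))) (.node (.node (.node (.leaf []) (.leaf [-77, 48, 38, 29, 23,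 83, -77, -15, 4, -13, 4, -4])) (.node (.leaf [634, 2, 243, 223, -306, -260, 28, -18, 29, -1, -17, 1, 5]) (.leaf [0, 0, 0, 1]))) (.node (.node (.leaf [0, 0, 0, 1]) (.leaf [0, 0, 0, 1])) (.node (.leaf []) (.leaf [-427, -266, -165, -193, 83, 164, -4, 74, 26, 16, 16, 0, 1]))))) (.node (.node (.node (.node (.leaf [0, 0, 0, 1]) (.leaf [156, -46, -99, 55, -33, -119, 60, -15, 20, 5, 16, -3])) (.node (.leaf [0, 0, 0, 1]) (.leaf [28709, 1414, -13437, 6687, -2452, -19974, 10408, -4743, 431, 1859, 2165, -563, 144, -1, 0, 1]))) (.node (.node (.leaf [0, 0, 0, 1]) (.leaf [0, 0, 0, 1])) (.node (.leaf [-634, 190, 141, -202, 286, 377, -183, 23, -78, -3, -44, 7]) (.leaf [-2519, 3556, -1444, 1792, 3762, 1130, -1638, -892, 126, -622, -370, 76, -96, 0, -1])))) (.node (.node (.node (.leaf [0, 0, 0, 1]) (.leaf [])) (.node (.leaf [0, 0, 0, 1]) (.leaf [0, 0, 0, 1]))) (.node (.node (.leaf [415, 252, -14, 262, -26, -121, -37, -118, 52, -39, -8, -8, -5]) (.leaf [-66, 20, 27, -33, 29, 48, -24,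 1, -8, 4, -8, 1])) (.node (.leaf [0, 0, 0, 1]) (.leaf [-30513, -1328, 15519, -7499, 2365, 21544, -11411, 5090, -762, -1749, -2347, 559, -127, 1, 0, -1])))))))

def twoL104 : Janko.Tree (List ℤ) :=
  (.node (.node (.node (.node (.node (.node (.leaf [1]) (.leaf [-1, 0, 0, -1, 0, 1])) (.node (.leaf [0, 0, -1, 0, 1]) (.leaf [1]))) (.node (.node (.leaf []) (.leaf [0, 0, -1, 0, 1])) (.node (.leaf [4, -2, 2, 3, -2, -3, 0, 1]) (.leaf [2, 0, 0, 1, 0, -1])))) (.node (.node (.node (.leaf [3, 0, 1, 1, -1, -1]) (.leaf [1, 0, 0, 1, 0, -1])) (.node (.leaf [10, 2, 15, 4, -8, 1, -5, 0, 0, 0, -1]) (.leaf [-235811, 280192, 35735, 74795, 232194, 180562, -175853, -58550, -11891, -35489, -29903, -19, -4244, 0, 0, -1, -1]))) (.node (.node (.leaf [1]) (.leaf [75, -32, -42, 21, -24, -55, 30, -4, 12, 2, 6])) (.node (.leaf []) (.leaf [924, -426, -173, 304, -505, -584, 296, 31, 135, -6, 55, -3, 1]))))) (.node (.node (.node (.node (.leaf [-2, 0, -1, -1, 1, 1]) (.leaf [2, 0, 0, 1, 0, -1])) (.node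 (.leaf [-4, -2, 0, -3, 0, 3, 0, 1]) (.leaf [-6, -2, -1, -3, 1, 3, 0, 1]))) (.node (.node (.leaf [2, 0, 0, 1, 0, -1]) (.leaf [0, 0, 0, -1, 0, 1])) (.node (.leaf [76, -20, -32, 40, -27, -55, 23, -4, 10, -3, 8, -1]) (.leaf [-2877, -2660, 771, -1873, -833, 1595, -130, 1036, 112, 154, -22, 44, 6, 0, -1])))) (.node (.node (.node (.leaf [-268, 158, 133, -55, 110, 188, -103, 6, -50, -14, -20, -1]) (.leaf [1])) (.node (.leaf [0, 0, -1, 0, 1]) (.leaf [73540, -313044, -17195, -89536, -206648, -62547, 104167, 72420, 36081, 22919, 24063, 1345, -306, 0, 0, -1, -1]))) (.node (.node (.leaf [0, 0, 0, -1, 0, 1]) (.leaf [1])) (.node (.leaf []) (.leaf [58, -10, -39, 31, -16, -44, 23, -6, 8, -4, 8, -1])))))) (.node (.node (.node (.node (.node (.leaf [-1, 0, 0, -1, 0, 1]) (.leaf [-262, 1312, 1123, 703, 391, 512, -889, -181, -194, -141, -118, -21, -1])) (.node (.leaf [2, 0, 0, 1, 0, -1]) (.leaf [-207, 730, 555, 387, 261, 173, -372, -44, -159, -98, -68, -1, 5]))) (.node (.node (.leaf [1])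 (.leaf [-136, -8, 57, -136, -32, 143, -7, 13, -9])) (.node (.leaf [97, -222, 71, 156, -120, -133, -35, 63, 28, 5, 14, 1]) (.leaf [1, -4, 0, 9, 2, -3, -6, 0, 2])))) (.node (.node (.node (.leaf [-247, 28, 90, -85, 61, 138, -55, 33, -32, -6, -16, 7]) (.leaf [1])) (.node (.leaf [-1122, 810, 550, -214, 650, 765, -499, -21, -208, -58, -150, 25, 7]) (.leaf [13, -2, 9, 6, -9, -6, 0, 1]))) (.node (.node (.leaf [-124, 14, 46, -29, 37, 84, -51, 11, -7, -2, -9]) (.leaf [120584, -22324, 45442, 1300, -70848, -66848, 37228, 6225, -13122, 12416, 3899, -1568, 3312, 0, 0, 1, 1])) (.node (.leaf [1, 0, 0, 1, 0, -1]) (.leaf [-14, -2, -5, -8, 5, 8, 0, 1]))))) (.node (.node (.node (.node (.leaf [8, -2, 5, 5, -5, -5, 0, 1]) (.leaf [108309, 811016, 301120, 346407, 309729, 85286, -295533, -180181, -89676, -63759, -67571, -3910, -411, -1, 1, 1, 1])) (.node (.leaf []) (.leaf [0, 0, -1, 0, 1]))) (.node (.node (.leaf []) (.leaf [1])) (.node (.leaf [-73, 28, 36, -22, 23, 53, -27, 4, -11, -2, -5])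 (.leaf [-13902, 18852, -1424, 2781, 16424, 8263, -7236, -3724, -2058, -1892, -1740, 72, -84, 0, -1])))) (.node (.node (.node (.leaf []) (.leaf [105257, -158826, 14036, 12422, -132668, -58692, 36114, 31602, 32285, 5550, 10448, 1002, -1474, 1, -1, -1, -1])) (.node (.leaf [1]) (.leaf [-3185, -3834, 289, -2988, -1539, 1978, 390, 1193, 245, 283, 169, 11, 16, 0, 1]))) (.node (.node (.leaf []) (.leaf [1])) (.node (.leaf []) (.leaf [2, 0, 0, 1, 0, -1])))))))

def twoL105 : Janko.Tree (List ℤ) :=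
  (.node (.node (.node (.node (.node (.node (.leaf []) (.leaf [0, 2, 0, 2, 0, 0, 0, 0, 0, -1])) (.node (.leaf []) (.leaf []))) (.node (.node (.leaf [0, 1]) (.leaf [173, -130, 48, 17, -133, -118, 57, 32, 8, 15, 3, 4, 3])) (.node (.leaf [-129, 55, 69, -18, 47, 80, -52, 10, -23, -5, -9]) (.leaf [129452, -95658, 66699, -13633, -127318, -71038, 49751, 28117, -4567, 14762, 6819, -484, 3182, 0, 0, 0, 1])))) (.node (.node (.node (.leaf []) (.leaf [])) (.node (.leaf [0, 1]) (.leaf [0, -1, 0, -2, 0, 0, 0, 0, 0, 1]))) (.node (.node (.leaf []) (.leaf [0, 1])) (.node (.leaf [0, 1]) (.leaf [173221, -91620, -37570, 5413, -95098, -124695, 87950, 9772, 6601, 13936, 13771, -257, 1987, -1, 1, 0, 1]))))) (.node (.node (.node (.node (.leaf []) (.leaf [])) (.node (.leaf [0, 1]) (.leaf [-182351, -3661, 35613, -40788, 38628, 120136, -57848, 18351, 3503, -11039, -9273, 2716, -2427, 1, -1, -1, -1]))) (.node (.node (.leaf [-371, 156, 86, -131, 140, 265, -96, 6, -43, -18, -22, -1]) (.leaf []))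 (.node (.leaf [0, 1]) (.leaf [0, 1])))) (.node (.node (.node (.leaf []) (.leaf [])) (.node (.leaf []) (.leaf [0, 1]))) (.node (.node (.leaf []) (.leaf [])) (.node (.leaf [0, 1]) (.leaf [-86676, 32165, 16608, 2676, 39410, 64222, -46046, -2542, 3496, -9228, -6610, 674, -1872, 1, -1, 0, -1])))))) (.node (.node (.node (.node (.node (.leaf [-4, -14, 2, -4, -6, 2, 0, 4, 2, 1]) (.leaf [0, 1])) (.node (.leaf []) (.leaf [0, 1]))) (.node (.node (.leaf []) (.leaf [0, 1])) (.node (.leaf []) (.leaf [0, 1])))) (.node (.node (.node (.leaf []) (.leaf [38050, 300466, 60740, 115480, 145710, 8834, -88722, -72193, -38994, -16322, -21250, -2854, 1380, -1, 1, 0, 1])) (.node (.leaf [0, 1]) (.leaf [0, 1]))) (.node (.node (.leaf []) (.leaf [0, 1])) (.node (.leaf []) (.leaf [0, 1]))))) (.node (.node (.node (.node (.leaf []) (.leaf [0, 1])) (.node (.leaf [0, 1]) (.leaf []))) (.node (.node (.leaf [0, 1]) (.leaf [830, 383, 237, 679, -80, -512, -81, -109, -31, -42, -8, -2, 1])) (.node (.leaf [])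 (.leaf [-4002, -1137, -2039, -929, 1518, 2036, -571, 208, 691, -263, -62, 78, -83])))) (.node (.node (.node (.leaf [0, 1]) (.leaf [0, 1])) (.node (.leaf []) (.leaf [0, 1]))) (.node (.node (.leaf [0, 1]) (.leaf [-1108, 533, 299, -319, 545, 733, -382, -19, -164, -17, -67, 1])) (.node (.leaf [0, 1]) (.leaf [-11703, -21984, 15484, -9201, -16219, 9814, -2057, 8828, 1700, 284, -258, 484, -46, 0, 1, -1])))))))

def twoL106 : Janko.Tree (List ℤ) :=
  (.node (.node (.node (.node (.node (.node (.leaf []) (.leaf [0, 0, 1, 1, 0, 0, -1])) (.node (.leaf [0, 0, 1]) (.leaf [-405, -594, -238, -348, -85, 127, 109, 134, 59, 56, 48]))) (.node (.node (.leaf []) (.leaf [0, 0, 1])) (.node (.leaf [0, 0, 1]) (.leaf [-4, 0, -1, -1, 2, 2, -1])))) (.node (.node (.node (.leaf [0, 0, 0, -1, 0, 0, 1]) (.leaf [-2, 2, 0, 0, 2, 0, 0, 0, -1])) (.node (.leaf [0, -2, 15, 4, -5, 3, -7, 2, 0, 0, -1]) (.leaf [-2492, 1084, 444, -559, 1293, 1435, -738, 24, -333, -89, -164, 22, -2]))) (.node (.node (.leaf [-5,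 2, 0, -1, 3, 2, -1, 0, -1]) (.leaf [87, -30, -42, 23, -29, -67, 40, -3, 9, 2, 7])) (.node (.leaf [-447, 242, 289, -109, 139, 360, -203, 15, -71, -24, -41]) (.leaf [0, 0, 1]))))) (.node (.node (.node (.node (.leaf [0, 0, 0, -1, 0, 0, 1]) (.leaf [-4, 0, -1, -1, 2, 2, -1])) (.node (.leaf []) (.leaf [31594, -19636, -12362, 2529, -17207, -22807, 16350, 1288, 3577, 1987, 2989, -67, 44, 1, 0, -1]))) (.node (.node (.leaf [-4, 0, -1, -1, 2, 2, -1]) (.leaf [1, -2, 0, 0, -1, 0, 0, 0, 1])) (.node (.leaf [-30066, 18436, 11313, -2383, 16447, 21615, -15492, -1260, -3285, -1889, -2803, 65, -46, -1, 0, 1]) (.leaf [])))) (.node (.node (.node (.leaf [0, 0, 0, -1, 0, 0, 1]) (.leaf [313, -384, -228, 6, -203, -275, 193, 35, 71, 38, 48])) (.node (.leaf [0, 0, 1]) (.leaf [1456, 2686, 142, 1468, 1051, -499, -587, -846, -157, -185, -149, -9, 3]))) (.node (.node (.leaf [-11, -2, 1, -6, 1, 6, 0, 2, -1]) (.leaf [-3556, -772, -4310, -2314, 2397, 1159, 777, -388, 145, 258, 440, -52, -17, 0, 0, 1]))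 (.node (.leaf [-23, -826, -210, -266, -363, -143, 261, 180, 85, 66, 74, 11, -3]) (.leaf [0, 0, 0, -1, 0, 0, 1])))))) (.node (.node (.node (.node (.node (.leaf [0, 0, 1, 1, 0, 0, -1]) (.leaf [-102, 1322, 1055, 729, 356, 418, -821, -204, -183, -141, -111, -21, -1])) (.node (.leaf [-4, 0, -1, -1, 2, 2, -1]) (.leaf [-300, 822, 614, 377, 311, 257, -426, -53, -174, -108, -80, -1, 5]))) (.node (.node (.leaf [1696, -986, -110, 370, -1080, -988, 494, 84, 234, 72, 113, -11, 1]) (.leaf [-221, 126, 138, -70, 74, 179, -93, 4, -39, -8, -20])) (.node (.leaf [0, 0, 1]) (.leaf [11, -6, -12, -3, -1, -11, 10, -1, 1, 2, 1])))) (.node (.node (.node (.leaf [0, 0, 0, -1, 0, 0, 1]) (.leaf [])) (.node (.leaf []) (.leaf []))) (.node (.node (.leaf [6, 4, 10, 7, -1, 1, -8, -2, 1, 0, -1]) (.leaf [])) (.node (.leaf [-2, 2, 0, 0, 2, 0, 0, 0, -1]) (.leaf [-39462, 57190, 10442, 11958, 42178, 29143, -28197, -10325, -5926, -6346, -5892, 288, -394, 0, 0, 1]))))) (.node (.node (.node (.node (.leaf [0,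 0, 1]) (.leaf [0, -2, -3, -1, 0, 0, 1, 0, 1])) (.node (.leaf []) (.leaf [0, 0, 1]))) (.node (.node (.leaf []) (.leaf [])) (.node (.leaf [0, 0, 1]) (.leaf [-3244, -746, -1100, -293, 1110, 1714, -789, 230, 543, -311, -84, 64, -69])))) (.node (.node (.node (.leaf [852, -414, 100, 424, -516, -536, 134, 78, 118, -12, 22, 0, 1]) (.leaf [-632, -166, 341, -75, 28, 464, -329, 130, 43, -27, -60, 0, -3])) (.node (.leaf [-5, -6, 1, -1, -1, 2, -1, 2, 1]) (.leaf [2092, -4838, 744, -3044, -4367, -905, 2419, 1153, -20, 748, 521, -84, 101, 0, 1]))) (.node (.node (.leaf []) (.leaf [-3, -2, -1, -1, 1, 2, -1, 0, 1])) (.node (.leaf [435, -152, -200, 118, -146, -295, 163, -24, 63, 11, 30, -3, -1]) (.leaf [-31325, -592, 15776, -7622, 2915, 22054, -11670, 5054, -928, -1821, -2449, 573, -133, 1, 0, -1])))))))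

def twoL107 : Janko.Tree (List ℤ) :=
  (.node (.node (.node (.node (.node (.node (.leaf []) (.leaf [0, 0, 0, 1])) (.node (.leaf []) (.leaf [-4395, -580, -418, -2560, 1055, 2689, -281, 385, -102, 73, -69, 10, -7, 1]))) (.node (.node (.leaf []) (.leaf [-70, 10, 34, -38, 21, 51, -23, 6, -8, 4, -8, 1])) (.node (.leaf []) (.leaf [0, 0, 0, 1])))) (.node (.node (.node (.leaf [0, 0, 0, 1]) (.leaf [0, 0, 0, 1])) (.node (.leaf []) (.leaf [0, 0, 0, 1]))) (.node (.node (.leaf []) (.leaf [])) (.node (.leaf []) (.leaf [84, -56, -69, 38, -33, -73, 42, 1, 19, -2, 11, -1]))))) (.node (.node (.node (.node (.leaf [0, 0, 0, 1]) (.leaf [0, 0, 0, 1])) (.node (.leaf [-155, 92, 95, -57, 61, 129, -68, 0, -26, -3, -18, 1]) (.leaf [0, 0, 0, 1]))) (.node (.node (.leaf [0, 0, 0, 1]) (.leaf [0, 0, 0, 1])) (.node (.leaf [-30980, 18912, 11889, -2519, 16777, 22331, -15983, -1246, -3417, -1929, -2879, 61, -46, -1, 0, 1]) (.leaf [])))) (.node (.node (.node (.leaf [0, 0, 0, 1]) (.leaf [])) (.node (.leaf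 [-427, -336, 352, -252, -251, 283, -45, 189, -36, 6, 8, 1]) (.leaf [962, 28, -596, 288, -39, -679, 361, -166, 92, 16, 45, -1]))) (.node (.node (.leaf [0, 0, 0, 1]) (.leaf [363, -140, -55, 60, -212, -184, 123, -3, 48, 6, 24, -5])) (.node (.leaf [-591, 296, 158, -170, 301, 381, -199, -12, -96, -7, -34, 1]) (.leaf [0, 0, 0, 1])))))) (.node (.node (.node (.node (.node (.leaf [0, 0, 0, 1]) (.leaf [288, -94, -107, 99, -110, -198, 98, -12, 35, 1, 23, -1, 1])) (.node (.leaf [0, 0, 0, 1]) (.leaf [-324, 354, 186, 7, 217, 259, -193, -35, -66, -36, -40, -1, 1]))) (.node (.node (.leaf [120, -322, 15, 171, -117, -179, -37, 68, 62, 12, 8, 12, -1]) (.leaf [])) (.node (.leaf [-401, 498, 442, 183, 255, 309, -363, -18, -102, -65, -65, 1]) (.leaf [])))) (.node (.node (.node (.leaf [0, 0, 0, 1]) (.leaf [160, -40, -56, 14, -55, -107, 75, -7, 11, 8, 7, 1])) (.node (.leaf []) (.leaf []))) (.node (.node (.leaf [0, 0, 0, 1]) (.leaf [])) (.node (.leaf [0, 0, 0, 1]) (.leaf [-19358, 32632, 5064,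 9541, 23716, 14705, -16329, -6450, -2625, -3842, -3283, 202, -318, -1, 0, 1]))))) (.node (.node (.node (.node (.leaf []) (.leaf [-105683, 158428, -13230, -12325, 132349, 59053, -36515, -31331, -32244, -5585, -10533, -996, 1475, -1, 1, 1, 1])) (.node (.leaf []) (.leaf [-14487, 57324, 17976, 13376, 30628, 14974, -20184, -10172, -8990, -4312, -5417, 32, 197, 0, -1, 1]))) (.node (.node (.leaf []) (.leaf [])) (.node (.leaf []) (.leaf [0, 0, 0, 1])))) (.node (.node (.node (.leaf [1044, -782, -60, 362, -732, -692, 301, 132, 186, 14, 58, 0, 1]) (.leaf [733, -550, -350, 148, -365, -560, 309, 21, 127, 51, 75, 0, 1])) (.node (.leaf [-5334, 3758, 342, -1246, 3564, 3302, -1468, -360, -731, -388, -494, 88, 6, 1]) (.leaf [-904, -2196, -403, -1617, -1152, 560, 771, 559, 213, 141, 183, 6, -4, 0, 1]))) (.node (.node (.leaf []) (.leaf [])) (.node (.leaf []) (.leaf [0, 0, 0, 1])))))))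

def twoL108 : Janko.Tree (List ℤ) :=
  (.node (.node (.node (.node (.node (.node (.leaf [1, 0, 1, 0, -1]) (.leaf [])) (.node (.leaf [2, 0, 0, 1, 0, -1]) (.leaf [-30, -86, -7, 8, -10, -15, -13, 18, 5, 10, 10]))) (.node (.node (.leaf [35, -54, -145, 1, 36, -64, 41, -18, 20, 10, 14, 1]) (.leaf [671, 1042, 569, 889, 227, -313, -384, -217, -123, -108, -85, 10, 2, -1])) (.node (.leaf [6, -2, 3, 4, -3, -4, 0, 1]) (.leaf [-2, 0, -1, -1, 1, 1])))) (.node (.node (.node (.leaf []) (.leaf [3, 0, 1, 1, -1, -1])) (.node (.leaf [3, 0, 1, 1, -1, -1]) (.leaf [-189811, 231008, -44571, 29991, 207483, 106817, -76028, -44830, -19079, -31023, -21205, 3791, -3158, 0, 0, -1, -1]))) (.node (.node (.leaf [1, 0, 0, 1, 0, -1]) (.leaf [214, -132, -135, 67, -76, -176, 93, -1, 39, 8, 20])) (.node (.leaf [-2, 0, -1, -1, 1, 1]) (.leaf [0, 0, 0, -1, 0, 1]))))) (.node (.node (.node (.node (.leaf []) (.leaf [])) (.node (.leaf [0, 0, -1, 0, 1]) (.leaf [-842, 518, 489, -200, 324, 659, -367, 10, -143,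 -46, -80]))) (.node (.node (.leaf []) (.leaf [19710, 38912, -49559, -518, 39186, -32959, 25789, -14236, -10770, 2926, 1706, -438, 1356, 0, 0, 0, 1])) (.node (.leaf [0, 0, 0, -1, 0, 1]) (.leaf [-231, 142, 183, -17, 84, 174, -127, 14, -44, -14, -26, -1])))) (.node (.node (.node (.leaf [0, 6, -5, -1, 5, 1, 0, -3]) (.leaf [228, -364, -205, -14, -172, -221, 163, 39, 63, 36, 44])) (.node (.leaf []) (.leaf [1117, 80, -1250, 206, 236, -993, 685, -259, 90, 53, 78, 1, -3]))) (.node (.node (.leaf []) (.leaf [0, 0, 9, 6, -5, -2, 0, 4, -2, -2])) (.node (.leaf [-75, 22, 38, -20, 21, 51, -27, 7, -11, -2, -5]) (.leaf [62, -16, -35, 34, -21, -48, 24, -3, 8, -4, 8, -1])))))) (.node (.node (.node (.node (.node (.leaf [6, -2, 4, 3, -4, -3, 0, 1]) (.leaf [-1346, -2, 1226, -282, -104, 1107, -721, 257, -116, -58, -88, 3, 3])) (.node (.leaf []) (.leaf [0, 0, -1, 0, 1]))) (.node (.node (.leaf [-439, 288, 242, -33, 214, 321, -232, -4, -68, -28, -44]) (.leaf [718, 222, -441, 200, 60, -449, 245,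 -181, 50, 3, 18, -1])) (.node (.leaf [-1225, -1310, -1362, -74, 258, 575, -169, 129, 650, -136, 42, 25, -55]) (.leaf [-99, -170, -27, -57, -28, 20, 1, 40, 13, 18, 14])))) (.node (.node (.node (.leaf [-13, -6, -3, -5, 3, 5, 0, 3]) (.leaf [1, 0, 1, 0, -1])) (.node (.leaf [0, 0, -1, 0, 1]) (.leaf [1]))) (.node (.node (.leaf []) (.leaf [51106, 716, 68888, -7692, -48332, -18350, 10874, 10125, -15576, 5078, -2491, 154, 2352, 0, 1, 0, 1])) (.node (.leaf [114, -136, 125, 1, -153, -68, 29, 55, -2, 11, -4, 3, 5]) (.leaf [-34374, -100190, -72086, -19567, -17982, 2519, 20796, 14529, 28202, -222, 9238, 1152, -2804, 0, 0, -1, -1]))))) (.node (.node (.node (.node (.leaf [19, -78, -24, -29, -40, -55, 68, 33, -2, 3, 0, 5]) (.leaf [14684, 18884, 12607, 12111, 790, -4102, -5565, -4135, -2645, -1280, -1440, -111, 169, 0, 0, 1])) (.node (.leaf [-216, 142, -223, -54, 243, 68, -2, -57, -17, -6, 9, 1, -1]) (.leaf [-100, 30, 41, -37, 27, 71, -28, 8, -12, -4, -8, 1]))) (.node (.node (.leaf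 []) (.leaf [1, 0, 1, 0, -1])) (.node (.leaf [4, -2, 5, 1, -5, -1, 0, 1]) (.leaf [1])))) (.node (.node (.node (.leaf [77, -80, -46, 2, -52, -60, 46, 8, 16, 6, 10]) (.leaf [-849, 526, 487, -189, 335, 665, -380, 6, -140, -48, -81])) (.node (.leaf [53, -42, -12, 7, -36, -25, 14, 2, 15, 2, 2, 0, 0, 1]) (.leaf [1]))) (.node (.node (.leaf [85, -22, -185, 12, 62, -67, 31, -47, 40, 11, 6, 1]) (.leaf [1, 0, 0, 1, 0, -1])) (.node (.leaf [-2, 0, -1, -1, 1, 1]) (.leaf [24051, 5236, 8820, 5482, -9542, -10587, 3597, -1662, -1560, 630, -150, -148, 272, 0, 0, -1])))))))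

def twoL109 : Janko.Tree (List ℤ) :=
  (.node (.node (.node (.node (.node (.node (.leaf [4, -2, -2, 0, -2, -2, 2, 0, 1]) (.leaf [0, 1])) (.node (.leaf [-463, 182, 108, -163, 178, 329, -128, 7, -51, -18, -28, -1]) (.leaf [-6, 7, -4, 0, 8, 2, -2, -2, -1]))) (.node (.node (.leaf []) (.leaf [0, 1])) (.node (.leaf []) (.leaf [684, 154, 65, 293, -182, -362, 95, -76, 6, -12, 6, 0, -1])))) (.node (.node (.node (.leaf [0, 1]) (.leaf [])) (.node (.leaf []) (.leaf [0, 1]))) (.node (.node (.leaf [-44, 31, 1, -15, 36, 36, -25, -10, -3, 1, -4, 0, 1]) (.leaf [])) (.node (.leaf [-880, 636, 491, -99, 434, 642, -421, -6, -159, -60, -92, 0, -1]) (.leaf [88958, -39336, -20726, -3640, -42832, -66866, 49222, 3654, -2030, 9532, 7402, -686, 1796, -1, 1, 0, 1]))))) (.node (.node (.node (.node (.leaf [0, 1]) (.leaf [0, 1])) (.node (.leaf []) (.leaf [0, 1]))) (.node (.node (.leaf [0, 1]) (.leaf [0, 1])) (.node (.leaf []) (.leaf [24475, 8751, 13356, 10895, -8729, -10254, -597, -2080, -1727,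 -160, -546, -120, 258, 0, -1, 1])))) (.node (.node (.node (.leaf [0, 1]) (.leaf [-4, 3, 2, 0, 2, 2, -2, 0, -1])) (.node (.leaf [0, 1]) (.leaf [0, 1]))) (.node (.node (.leaf [0, 1]) (.leaf [0, 1])) (.node (.leaf []) (.leaf [0, 1])))))) (.node (.node (.node (.node (.node (.leaf [0, 1]) (.leaf [0, 1])) (.node (.leaf [0, 1]) (.leaf [-67, 37, 33, -14, 27, 46, -26, 2, -12, -3, -5]))) (.node (.node (.leaf []) (.leaf [])) (.node (.leaf [0, 1]) (.leaf [])))) (.node (.node (.node (.leaf []) (.leaf [])) (.node (.leaf [16570, -23816, -3062, -2040, -17948, -11278, 9394, 4136, 3612, 1970, 2198, -6, -2, -1, 1]) (.leaf []))) (.node (.node (.leaf [0, 1]) (.leaf [0, 1])) (.node (.leaf [0, 1]) (.leaf [0, 1]))))) (.node (.node (.node (.node (.leaf []) (.leaf [])) (.node (.leaf []) (.leaf [0, 1]))) (.node (.node (.leaf [0, 1]) (.leaf [])) (.node (.leaf []) (.leaf [])))) (.node (.node (.node (.leaf [0, 1]) (.leaf [])) (.node (.leaf [1502, 228, -17, 1243, -118, -1064, -87, -176, 92, -49,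 16, 0, 3]) (.leaf [-2476, -5683, -1547, -4204, -2481, 1456, 1808, 1274, 619, 461, 479, -3, 12, 0, 1]))) (.node (.node (.leaf []) (.leaf [-736, 573, 55, -219, 540, 500, -273, -118, -124, -13, -40, 6, 3])) (.node (.leaf [-218, 1, 127, -137, -8, 162, -23, 48, -23, -8, -24, 8, -1]) (.leaf [0, 1])))))))

def twoL110 : Janko.Tree (List ℤ) :=
  (.node (.node (.node (.node (.node (.node (.leaf [0, 0, 1]) (.leaf [-4, 2, -1, -3, 2, 2, 1, 0, -1])) (.node (.leaf [-4, 0, -1, -1, 2, 2, -1]) (.leaf [0, 0, 1]))) (.node (.node (.leaf [0, 0, 1]) (.leaf [5, -4, -2, 0, -3, -2, 2, 0, 2])) (.node (.leaf [0, 0, 1, 1, 0, 0, -1]) (.leaf [0, 0, 0, -1, 0, 0, 1])))) (.node (.node (.node (.leaf []) (.leaf [0, 0, 0, -1, 0, 0, 1])) (.node (.leaf [0, 0, 0, -1, 0, 0, 1]) (.leaf [0, -2, -2, -1, 0, 0, 1, 0, 1]))) (.node (.node (.leaf [-162, 126, -52, -11, 130, 108, -53, -32, -7, -15, -2, -4, -3]) (.leaf [0, 0, 0, -1, 0, 0, 1])) (.node (.leaf [0, 0, 0, -1, 0, 0, 1]) (.leaf [-652, 470, 73, -258, 453,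 471, -221, -84, -103, 1, -52, 0, 3]))))) (.node (.node (.node (.node (.leaf []) (.leaf [2, -2, 0, -1, -2, 0, 1, 0, 1])) (.node (.leaf [0, 0, 1]) (.leaf [-529, 284, 326, -124, 174, 421, -241, 15, -81, -28, -48]))) (.node (.node (.leaf [6, 2, -4, 3, 2, -4, 1, -2, 1]) (.leaf [80870, -39464, -19134, -7881, -41108, -62046, 48227, 4714, -2916, 9666, 7084, -656, 1840, 0, 0, 0, 1])) (.node (.leaf [-1, 2, 1, 0, 1, 0, 0, 0, -1]) (.leaf [0, 0, 1])))) (.node (.node (.node (.leaf []) (.leaf [0, 0, 1])) (.node (.leaf [-297, 310, 172, 17, 209, 218, -179, -26, -62, -28, -39]) (.leaf [-530917, -2846182, -1475253, -1300308, -838171, -326647, 1125691, 579009, 333662, 241145, 259788, 9070, 417, 0, 0, 0, -1]))) (.node (.node (.leaf [1150, -790, -815, 311, -354, -1116, 641, 48, 183, 53, 82, 30, -1]) (.leaf [-5498, 10116, -12146, 3252, 12362, -232, 296, -3438, 222, -1670, -184, 306, -294, 0, 0, 1])) (.node (.leaf [0, 0, 1]) (.leaf [-47488, -135896, 45667, -55248, -84867, 37900, 2942, 41999,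 14185, 7152, 4561, 668, -617, 0, -1, 0, -1])))))) (.node (.node (.node (.node (.node (.leaf []) (.leaf [])) (.node (.leaf [2, -2, 0, -1, -2, 0, 1, 0, 1]) (.leaf [0, 0, 1]))) (.node (.node (.leaf [208, -162, -89, -23, -137, -136, 123, 11, 31, 18, 21]) (.leaf [0, 0, 0, -1, 0, 0, 1])) (.node (.leaf []) (.leaf [0, 0, 0, -1, 0, 0, 1])))) (.node (.node (.node (.leaf [71, -44, -62, 21, -15, -62, 33, -4, 15, 4, 7]) (.leaf [0, 0, 1])) (.node (.leaf [0, 0, 1]) (.leaf [-8, -6, 23, -2, -10, 11, -9, 5, -1, 0, -1]))) (.node (.node (.leaf []) (.leaf [253344, -311224, 33518, -71750, -281321, -166060, 152394, 70081, 14466, 39246, 28357, -1420, 4882, 0, 1, 0, 1])) (.node (.leaf [146, 6, 55, 57, -94, -68, 29, 2, -5, -7, 9, -3, 1]) (.leaf [-218, 1308, 1032, 740, 409, 453, -857, -194, -184, -148, -108, -20]))))) (.node (.node (.node (.node (.leaf [0, 0, 1, 1, 0, 0, -1]) (.leaf [0, 0, 0, -1, 0, 0, 1])) (.node (.leaf [0, 0, 1]) (.leaf []))) (.node (.node (.leaf []) (.leaf [0, 0, 1])) (.node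 (.leaf [0, 0, 1, 1, 0, 0, -1]) (.leaf [1401, 462, -780, 546, 149, -885, 355, -356, 89, 7, 44, -20, 5, 0, -1])))) (.node (.node (.node (.leaf [283, -242, -142, -14, -181, -198, 164, 17, 49, 24, 31]) (.leaf [0, 0, 1])) (.node (.leaf [-4, 2, -7, -2, 6, 2, 0, -2, 1]) (.leaf [11148, 8322, 2280, 7862, -15, -4817, -1241, -2782, -20, -948, -457, 81, -35, 0, 0, 1]))) (.node (.node (.leaf [0, 0, 0, -1, 0, 0, 1]) (.leaf [0, -2, -1, 0, 0, 0, 0, 0, 1])) (.node (.leaf [0, 0, 0, -1, 0, 0, 1]) (.leaf [94038, 484382, 175011, 228614, 173930, 37531, -175885, -112147, -45938, -41890, -38976, -1626, -1614, 0, 0, 0, 1])))))))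

def twoL111 : Janko.Tree (List ℤ) :=
  (.node (.node (.node (.node (.node (.node (.leaf []) (.leaf [])) (.node (.leaf [0, 0, 0, 1]) (.leaf []))) (.node (.node (.leaf [338, -186, -174, 79, -129, -239, 127, -12, 62, 16, 26, 1]) (.leaf [3131, -274, 961, 1867, -1323, -1640, -230, -157, 161, 56, 131, -58, 4, -1])) (.node (.leaf [0, 0, 0, 1]) (.leaf [0, 0, 0, 1])))) (.node (.node (.node (.leaf []) (.leaf [0, 0, 0, 1])) (.node (.leaf [0, 0, 0, 1]) (.leaf [-468, 250, 20, -145, 315, 269, -142, -38, -74, 7, -22, 2]))) (.node (.node (.leaf [0, 0, 0, 1]) (.leaf [0, 0, 0, 1])) (.node (.leaf [0, 0, 0, 1]) (.leaf [0, 0, 0, 1]))))) (.node (.node (.node (.node (.leaf []) (.leaf [])) (.node (.leaf [155, 54, -90, 10, 17, -65, 37, -54, 16, 10, 2, -1]) (.leaf []))) (.node (.node (.leaf []) (.leaf [19123, 40540, -48298, -24, 39695, -32126, 24847, -14444, -11048, 2768, 1570, -472, 1356, 0, 0, 0, 1])) (.node (.leaf [0, 0, 0, 1]) (.leaf [-224, 146, 184, -13, 83, 171, -127, 12, -44, -14, -26,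 -1])))) (.node (.node (.node (.leaf []) (.leaf [])) (.node (.leaf [-1073, 28, -222, -453, 441, 542, -77, 60, -39, -17, -29, 14, -3]) (.leaf [289, -1298, -1056, -712, -428, -493, 879, 184, 190, 142, 112, 20, 1]))) (.node (.node (.leaf [-892, 1052, -130, -58, 892, 524, -277, -186, -154, -113, -92, 16, 3]) (.leaf [16, 2, 7, 14, -5, -11, -2, -1, 0, -1, 0, 1])) (.node (.leaf []) (.leaf [66, -12, -35, 36, -21, -49, 24, -5, 8, -4, 8, -1])))))) (.node (.node (.node (.node (.node (.leaf []) (.leaf [])) (.node (.leaf []) (.leaf []))) (.node (.node (.leaf [0, 0, 0, 1]) (.leaf [0, 0, 0, 1])) (.node (.leaf [4, 376, 295, -2, 97, 51, -89, -52, -142, 25, -14, -10, 5]) (.leaf [0, 0, 0, 1])))) (.node (.node (.node (.leaf [0, 0, 0, 1]) (.leaf [287, -58, -103, 98, -107, -192, 100, -22, 26, -4, 28, 0, 1])) (.node (.leaf []) (.leaf [8437, -343274, -46351, -110350, -191535, -35916, 103478, 81959, 43777, 19433, 24507, 3041, -1080, 1, -1, 0, -1]))) (.node (.node (.leaf []) (.leaf [])) (.node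 (.leaf [118, -22, 119, 39, -128, -38, 14, 22, -7, -7, 3, -1, 1]) (.leaf [-532230, -2845818, -1475484, -1299760, -837071, -326238, 1125015, 579053, 333792, 240942, 259572, 9144, 406, 0, 0, 0, -1]))))) (.node (.node (.node (.node (.leaf [0, 0, 0, 1]) (.leaf [0, 0, 0, 1])) (.node (.leaf [-225, 24, 94, -29, 45, 123, -67, 37, -26, -14, -10, 1]) (.leaf [-88, 34, 43, -29, 25, 64, -28, 6, -12, -4, -8, 1]))) (.node (.node (.leaf []) (.leaf [])) (.node (.leaf [0, 0, 0, 1]) (.leaf [1828, 1744, -79, 1800, 754, -1110, -427, -617, -17, -119, -107, -12, 0, 0, -1])))) (.node (.node (.node (.leaf []) (.leaf [])) (.node (.leaf [0, 0, 0, 1]) (.leaf [-5955, 3846, 1128, -1715, 3351, 4060, -1741, -238, -813, -396, -570, 80, 14, 1]))) (.node (.node (.leaf [0, 0, 0, 1]) (.leaf [0, 0, 0, 1])) (.node (.leaf [0, 0, 0, 1]) (.leaf [602872, 3354478, 1756050, 1539181, 982717, 414390, -1348567, -681831, -385046, -290010, -307860, -10298, -2194, 0, 0, 0, 1])))))))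

def twoL112 : Janko.Tree (List ℤ) :=
  (.node (.node (.node (.node (.node (.node (.leaf [-1, 0, 0, -1, 0, 1]) (.leaf [1517, -704, -939, 269, -473, -1301, 874, 5, 167, 55, 101, 23, 1])) (.node (.leaf []) (.leaf [-3440, 68, -952, -1983, 1359, 1786, 149, 215, -148, -29, -125, 58, -5, 1]))) (.node (.node (.leaf [-71, -34, 4, -22, 7, 45, -23, 11, 7, 0, -1]) (.leaf [-68, 10, 35, -37, 20, 50, -23, 6, -8, 4, -8, 1])) (.node (.leaf [3, 0, 1, 1, -1, -1]) (.leaf [16411, 70150, 39352, 9573, 20067, -1624, -11641, -10975, -20463, 758, -5483, -969, 2057, 0, 1, 0, 1])))) (.node (.node (.node (.leaf []) (.leaf [68, -10, -35, 38, -19, -50, 22, -6, 8, -4, 8, -1])) (.node (.leaf [1]) (.leaf [13479, -104402, -121645, -5813, -12056, -38622, 43631, 4114, 33120, 3131, 14565, -79, -2650, 0, 0, -1, -1]))) (.node (.node (.leaf [60, -22, -20, 6, -27, -33, 23, -3, 9, 2, 3]) (.leaf [1])) (.node (.leaf [2, -6, 6, 1, -6, -1, 0, 3]) (.leaf [84518, -41886, -22017, -7748, -42485, -64828, 50362, 4605,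 -2198, 9904, 7429, -636, 1839, 0, 0, 0, 1]))))) (.node (.node (.node (.node (.leaf [1]) (.leaf [-2, 0, -1, -1, 1, 1])) (.node (.leaf []) (.leaf [318, -230, -153, 72, -148, -237, 121, 3, 60, 21, 30, 1]))) (.node (.node (.leaf [-2, 0, -1, -1, 1, 1]) (.leaf [1])) (.node (.leaf []) (.leaf [-31624, -65154, -38602, -12681, -12699, 11370, 6655, 10769, 19761, -1504, 4719, 989, -2157, 0, -1, 0, -1])))) (.node (.node (.node (.leaf [0, 0, -1, 0, 1]) (.leaf [1, 0, 0, 1, 0, -1])) (.node (.leaf [-1, 6, -7, -1, 7, 1, 0, -3]) (.leaf [14518, -295090, -48292, -102846, -164652, -38924, 100654, 70118, 34836, 18904, 22033, 2378, -724, 1, 0, -1, -1]))) (.node (.node (.leaf [1]) (.leaf [156316, -255384, 24627, -47771, -201710, -94642, 79839, 50611, 22756, 32090, 23038, -3631, 2828, 0, 0, 1, 1])) (.node (.leaf [2, 6, -5, 1, 5, -1, 0, -3]) (.leaf [45741, 287786, 217039, 149147, 57176, 66928, -152095, -51978, -27728, -30108, -32197, -747, -1135, 0, -1, 0, -1])))))) (.node (.node (.node (.node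 (.node (.leaf [0, 0, -1, 0, 1]) (.leaf [-259, 104, 84, -80, 106, 182, -90, 4, -32, -6, -18])) (.node (.leaf [-2, 0, -1, -1, 1, 1]) (.leaf [2, 0, 0, 1, 0, -1]))) (.node (.node (.leaf []) (.leaf [-218, -268, 76, -217, -147, 166, 11, 84, 14, 20, 16])) (.node (.leaf [-397, 216, -39, -71, 253, 228, -115, -39, -50, -15, 2, -5, -1]) (.leaf [1])))) (.node (.node (.node (.leaf []) (.leaf [153, -40, -52, 15, -53, -106, 73, -5, 9, 8, 7, 1])) (.node (.leaf [2, 0, 0, 1, 0, -1]) (.leaf [-69, 22, 42, -18, 17, 49, -27, 7, -11, -2, -5]))) (.node (.node (.leaf [1112, -538, -303, 320, -548, -739, 387, 21, 164, 17, 68, -1]) (.leaf [1])) (.node (.leaf [-64, -78, 210, -76, -106, 71, -31, 63, -22, 6, -20, 7, 5]) (.leaf [1]))))) (.node (.node (.node (.node (.leaf []) (.leaf [-3, 2, -3, -3, 3, 3, 0, -1])) (.node (.leaf [1, -6, 7, 0, -7, 0, 0, 3]) (.leaf [-19692, -317798, -60086, -115725, -161768, -25323, 101318, 77606, 39292, 17375, 22136, 3650, -1160, 0, -1, 0, -1]))) (.node (.node (.leaf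 [1]) (.leaf [-1, 0, 0, -1, 0, 1])) (.node (.leaf []) (.leaf [69, -12, -35, 39, -20, -52, 23, -5, 8, -4, 8, -1])))) (.node (.node (.node (.leaf [43, -82, -69, 23, -19, -63, 32, 9, 17, 4, 11]) (.leaf [-55, -2, 51, -31, 5, 43, -24, 11, -8, 5, -8, 1])) (.node (.leaf []) (.leaf [476, -8, -211, 151, -122, -326, 205, -44, 32, -15, 31, -1, 1]))) (.node (.node (.leaf [127, -20, -153, 44, 29, -92, 36, -40, 36, 6, 8]) (.leaf [0, 0, 0, -1, 0, 1])) (.node (.leaf [3, 0, 1, 1, -1, -1]) (.leaf [-56217, -95796, 45041, -31101, -59745, 46919, -14446, 32327, 15578, -520, 679, 1516, -1682, 0, 0, -1, -1])))))))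

def twoL113 : Janko.Tree (List ℤ) :=
  (.node (.node (.node (.node (.node (.node (.leaf []) (.leaf [])) (.node (.leaf [0, 1]) (.leaf [-8738, -2033, -420, -4702, 1649, 4883, -481, 1240, -169, 84, -204, 67, -1, 1, -1]))) (.node (.node (.leaf [0, 1]) (.leaf [])) (.node (.leaf []) (.leaf [0, -1, 0, -2, 0, 0, 0, 0, 0, 1])))) (.node (.node (.node (.leaf [0, 1]) (.leaf [0, 1])) (.node (.leaf []) (.leaf []))) (.node (.node (.leaf [0, 1]) (.leaf [-6, -12, -21, -9, -2, -6, 19, 5, 1, -1, 2, 0, -1])) (.node (.leaf []) (.leaf [0, 1]))))) (.node (.node (.node (.node (.leaf []) (.leaf [-648, -662, 329, -459, -362, 386, 3, 280, -16, 36, 32, 0, -1])) (.node (.leaf [0, 1]) (.leaf []))) (.node (.node (.leaf [364, -46, -149, 227, -40, -284, 63, -36, 46, -4, 16, 0, 1]) (.leaf [])) (.node (.leaf [0, 1]) (.leaf [])))) (.node (.node (.node (.leaf []) (.leaf [-28396, 16173, 1154, -4068, 18457, 17219, -9859, -1637, -2563, -1810, -2240, 237, -73, 1, -1])) (.node (.leaf []) (.leaf [30894, -29398,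 -26662, -2438, -16352, -24722, 21344, 780, 6295, 3490, 4716, -406, -176, 0, 1, -1]))) (.node (.node (.leaf []) (.leaf [0, 1])) (.node (.leaf [22302, -37032, -10258, -9030, -24699, -18167, 18949, 6597, 3950, 4075, 3845, -160, 209, 0, 1, -1]) (.leaf [41882, 249709, 204850, 130046, 40219, 65043, -137989, -43834, -23435, -26777, -29035, -703, -1070, 1, -1, 0, -1])))))) (.node (.node (.node (.node (.node (.leaf []) (.leaf [])) (.node (.leaf [54, 27, -13, -47, -46, 4, 57, -8, 4, -10, -2, 4, -1]) (.leaf []))) (.node (.node (.leaf [0, 1]) (.leaf [89740, -145695, 18828, 8856, -123466, -46338, 29478, 29798, 29696, 4588, 9352, 882, -1468, 1, 0, -1, -1])) (.node (.leaf []) (.leaf [84, -15, -61, 29, -12, -70, 41, -9, 9, 1, 8, 0, -1])))) (.node (.node (.node (.leaf [0, 1]) (.leaf [4, -5, -4, -2, -2, -2, 2, 0, 2, 1])) (.node (.leaf []) (.leaf [0, -1, -2, 0, 0, 0, 0, 0, 1]))) (.node (.node (.leaf []) (.leaf [878, -296, -249, 399, -284, -648, 215, -27, 104, 16, 54, 0, 1])) (.node (.leaf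 [0, 1]) (.leaf [-484, 67, 83, -305, 98, 356, -49, 33, -47, 0, -18, 0, -1]))))) (.node (.node (.node (.node (.leaf [0, 1]) (.leaf [-1647, 273, 86, -527, 655, 894, -327, 92, -149, -37, -59, 16, 1])) (.node (.leaf [0, 1]) (.leaf [3266, -2129, -1409, 873, -1440, -2486, 1229, 56, 547, 195, 270, 4, -7]))) (.node (.node (.leaf []) (.leaf [-21422, 32499, -66122, 54136, 58611, 17671, -38049, -26167, 27505, -12307, -708, -555, -4017, 1, 0, -1, -1])) (.node (.leaf [0, 1]) (.leaf [194550, -236558, 44710, -29276, -212012, -109926, 77602, 45784, 19923, 31507, 21772, -3862, 3155, -1, 0, 1, 1])))) (.node (.node (.node (.leaf []) (.leaf [-607, 313, 338, -99, 234, 437, -278, 21, -93, -31, -54, 1])) (.node (.leaf [0, 1]) (.leaf [0, 1]))) (.node (.node (.leaf [0, 1]) (.leaf [])) (.node (.leaf []) (.leaf [-16, -13, -15, -15, 8, 8, 1, 0, 4, 4, 0, 0, -1])))))))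

def twoL114 : Janko.Tree (List ℤ) :=
  (.node (.node (.node (.node (.node (.node (.leaf [0, 0, 1, 1, 0, 0, -1]) (.leaf [62, -32, -39, 9, -24, -45, 32, -2, 11, 2, 5])) (.node (.leaf [-208, 348, 183, 23, 171, 198, -153, -40, -59, -34, -41]) (.leaf [0, 0, 1, 1, 0, 0, -1]))) (.node (.node (.leaf [-199, -2, 76, -52, 42, 145, -89, 17, -3, -2, -11]) (.leaf [0, 0, 0, -1, 0, 0, 1])) (.node (.leaf [0, 0, 0, -1, 0, 0, 1]) (.leaf [188322, -199506, 32680, -38718, -193591, -121390, 103090, 45944, 7203, 25610, 18097, -712, 3611, 0, 1, 0, 1])))) (.node (.node (.node (.leaf []) (.leaf [])) (.node (.leaf [-3, -10, 3, 3, -3, -2, -1, 4, 1]) (.leaf [-1704, 468, 838, -617, 367, 1253, -546, 142, -235, -43, -96, -4, 2]))) (.node (.node (.leaf [-7, 4, 3, -4, 3, 9, -5, -2, 1, 0, -1]) (.leaf [])) (.node (.leaf [0, 0, 1]) (.leaf [80422, -49814, -23576, -11517, -45212, -63378, 51963, 6788, -1169, 10232, 7822, -526, 1760, 0, 0, 0, 1]))))) (.node (.node (.node (.node (.leaf []) (.leaf [0, 0, 0,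 -1, 0, 0, 1])) (.node (.leaf [224, -412, -192, -13, -199, -226, 163, 54, 67, 38, 47]) (.leaf [0, 0, 0, -1, 0, 0, 1]))) (.node (.node (.leaf [0, 0, 0, -1, 0, 0, 1]) (.leaf [894, -50, 38, 286, -349, -533, 207, -40, -1, 25, 46, -12, 7])) (.node (.leaf [762, -634, -753, 45, -306, -792, 655, 68, 115, 35, 88, 12, -1]) (.leaf [0, 0, 0, -1, 0, 0, 1])))) (.node (.node (.node (.leaf [0, 0, 1]) (.leaf [0, 0, 1, 1, 0, 0, -1])) (.node (.leaf [0, 0, 1]) (.leaf [-64214, -791810, -384250, -346962, -279059, -132071, 336765, 161861, 90309, 67562, 72601, 3210, 362, 1, 0, -1, -1]))) (.node (.node (.leaf [820, -760, -434, 264, -390, -700, 304, 53, 192, 54, 69, 13, -1]) (.leaf [])) (.node (.leaf [0, 0, 1, 1, 0, 0, -1]) (.leaf [-1178, 1062, 678, -169, 658, 980, -627, -86, -231, -69, -122, -22, -1])))))) (.node (.node (.node (.node (.node (.leaf [0, 0, 1]) (.leaf [-8, -2, -9, 0, 7, 1, -1, -1, 1, 0, 1])) (.node (.leaf [0, 0, 0, -1, 0, 0, 1]) (.leaf [-4, 0, -1, -1, 2, 2, -1]))) (.node (.node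 (.leaf []) (.leaf [-261, -76, 123, -151, -28, 197, -58, 50, -14, 6, -4])) (.node (.leaf [92, -46, -13, 19, -52, -49, 26, 1, 17, 2, 3]) (.leaf [])))) (.node (.node (.node (.leaf []) (.leaf [317, -70, -104, 91, -117, -216, 119, -18, 24, 2, 26, 0, 1])) (.node (.leaf [-4, 0, -1, -1, 2, 2, -1]) (.leaf [0, 0, 1]))) (.node (.node (.leaf [0, 0, 1]) (.leaf [])) (.node (.leaf []) (.leaf []))))) (.node (.node (.node (.node (.leaf []) (.leaf [0, 0, 1])) (.node (.leaf []) (.leaf [-1452, 594, 758, -115, 534, 1186, -939, -52, -121, -45, -58, -24, 3]))) (.node (.node (.leaf []) (.leaf [0, 0, 1, 1, 0, 0, -1])) (.node (.leaf []) (.leaf [0, 0, 1])))) (.node (.node (.node (.leaf [0, 0, 0, -1, 0, 0, 1]) (.leaf [0, 0, 1, 1, 0, 0, -1])) (.node (.leaf []) (.leaf [408, 30, -173, 137, -98, -274, 175, -43, 21, -19, 26, -1, 1]))) (.node (.node (.leaf []) (.leaf [-1, 2, 1, 0, 1, 0, 0, 0, -1])) (.node (.leaf [0, 0, 0, -1, 0, 0, 1]) (.leaf [0, 0, 0, -1, 0, 0, 1])))))))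

def twoL115 : Janko.Tree (List ℤ) :=
  (.node (.node (.node (.node (.node (.node (.leaf [0, 0, 0, 1]) (.leaf [0, 0, 0, 1])) (.node (.leaf []) (.leaf [0, 0, 0, 1]))) (.node (.node (.leaf []) (.leaf [0, 0, 0, 1])) (.node (.leaf [0, 0, 0, 1]) (.leaf [0, 0, 0, 1])))) (.node (.node (.node (.leaf []) (.leaf [70, -10, -35, 38, -21, -51, 24, -6, 8, -4, 8, -1])) (.node (.leaf []) (.leaf [0, 0, 0, 1]))) (.node (.node (.leaf []) (.leaf [-70, 10, 33, -39, 21, 51, -22, 6, -8, 4, -8, 1])) (.node (.leaf []) (.leaf [81621, -39726, -19068, -7586, -41559, -62390, 48309, 4712, -2799, 9656, 7116, -664, 1842, 0, 0, 0, 1]))))) (.node (.node (.node (.node (.leaf []) (.leaf [0, 0, 0, 1])) (.node (.leaf [1904, -1110, -1142, 193, -751, -1370, 913, -66, 314, 131, 175, 0, 1]) (.leaf [0, 0, 0, 1]))) (.node (.node (.leaf [0, 0, 0, 1]) (.leaf [45, -56, -134, 4, 29, -60, 33, -20, 24, 11, 12, 1])) (.node (.leaf [-208, 102, 77, 7, 88, 161, -129, -14, -16, -14, -2, -5]) (.leaf [0, 0, 0, 1])))) (.node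 (.node (.node (.leaf [-554, 582, -35, -248, 501, 381, -135, -128, -128, 2, -36, 0, -1]) (.leaf [0, 0, 0, 1])) (.node (.leaf [-7, 44, -6, -34, 21, 21, 9, -12, -6, 1, -6, 1]) (.leaf [0, 0, 0, 1]))) (.node (.node (.leaf [396, -442, -161, 219, -217, -367, 95, 52, 112, 16, 30, 12, -1]) (.leaf [])) (.node (.leaf [0, 0, 0, 1]) (.leaf [0, 0, 0, 1])))))) (.node (.node (.node (.node (.node (.leaf []) (.leaf [0, 0, 0, 1])) (.node (.leaf [0, 0, 0, 1]) (.leaf [0, 0, 0, 1]))) (.node (.node (.leaf []) (.leaf [0, 0, 0, 1])) (.node (.leaf [0, 0, 0, 1]) (.leaf [60, -10, -39, 31, -17, -45, 24, -6, 8, -4, 8, -1])))) (.node (.node (.node (.leaf []) (.leaf [0, 0, 0, 1])) (.node (.leaf [0, 0, 0, 1]) (.leaf [1294, -874, -541, 328, -652, -974, 524, 42, 209, 61, 125, -1, 1]))) (.node (.node (.leaf [1096, -524, -286, 311, -543, -711, 369, 16, 166, 17, 64, -1]) (.leaf [-4847, 4054, 462, -1017, 3503, 3092, -1447, -450, -751, -406, -512, 88, 4, 1])) (.node (.leaf []) (.leaf [-5101, 6984, 2560,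 -283, 4243, 4238, -2819, -912, -1182, -640, -830, 52, 20, 1]))))) (.node (.node (.node (.node (.leaf []) (.leaf [-56, 4, 24, -36, 23, 43, -23, 2, -4, 7, -8, 1])) (.node (.leaf []) (.leaf [0, 0, 0, 1]))) (.node (.node (.leaf []) (.leaf [0, 0, 0, 1])) (.node (.leaf []) (.leaf [74, -8, -34, 41, -21, -53, 23, -7, 8, -4, 8, -1])))) (.node (.node (.node (.leaf [0, 0, 0, 1]) (.leaf [0, 0, 0, 1])) (.node (.leaf []) (.leaf [859, 638, 182, 925, 137, -539, -223, -189, -10, -81, -39, -1, 1]))) (.node (.node (.leaf [-647, 654, 303, 28, 469, 477, -380, -69, -114, -63, -82, 1]) (.leaf [0, 0, 0, 1])) (.node (.leaf [0, 0, 0, 1]) (.leaf [0, 0, 0, 1])))))))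

def twoL116 : Janko.Tree (List ℤ) :=
  (.node (.node (.node (.node (.node (.node (.leaf []) (.leaf [])) (.node (.leaf [-2, 0, -1, -1, 1, 1]) (.leaf [-885, 670, 386, -78, 524, 656, -462, -53, -128, -60, -96, 2]))) (.node (.node (.leaf [0, 0, 0, -1, 0, 1]) (.leaf [])) (.node (.leaf [-94, 42, 45, -28, 23, 74, -32, 4, -10, -10, -8, 3]) (.leaf [110457, -78770, 13580, -24929, -90558, -77025, 66810, 19687, -7110, 14974, 9236, -360, 2958, 0, 0, 1, 1])))) (.node (.node (.node (.leaf [1]) (.leaf [1])) (.node (.leaf [1, 0, 0, 1, 0, -1]) (.leaf [-3770, 1954, 1871, -952, 1658, 2600, -1532, 93, -617, -130, -395, 58, 14]))) (.node (.node (.leaf [-8, 2, -4, -6, 4, 6, 0, -1]) (.leaf [1, 0, 1, 0, -1])) (.node (.leaf [2, -6, 5, 2, -5, -2, 0, 3]) (.leaf [0, 0, -1, 0, 1]))))) (.node (.node (.node (.node (.leaf [1, 0, 1, 0, -1]) (.leaf [1])) (.node (.leaf [238, -372, -208, -13, -180, -229, 170, 41, 64, 36, 45]) (.leaf [-248, 82, 156, -81, 55, 196, -103, 19, -34, -6, -20]))) (.node (.node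 (.leaf [1, -10, 9, 1, -9, -1, 0, 5]) (.leaf [0, 0, -1, 0, 1])) (.node (.leaf [1129, -514, -283, 310, -557, -723, 381, 13, 164, 16, 64, -1, 1]) (.leaf [-5154, 8094, 3580, 1711, 5067, 4138, -4315, -1107, -1240, -789, -933, 15, 7, 0, -1])))) (.node (.node (.node (.leaf [2, 0, 0, 1, 0, -1]) (.leaf [-4721, 8798, 3268, 2146, 5515, 3965, -4479, -1425, -1213, -813, -945, -9, 6, 0, -1])) (.node (.leaf []) (.leaf [-169, 732, 124, 175, 410, 151, -196, -131, -106, -65, -64, -1, 1]))) (.node (.node (.leaf [1]) (.leaf [56, -6, -23, 36, -24, -43, 23, -1, 4, -7, 8, -1])) (.node (.leaf [1]) (.leaf [67, -14, -33, 37, -22, -50, 23, -4, 8, -4, 8, -1])))))) (.node (.node (.node (.node (.node (.leaf [2, 0, 0, 1, 0, -1]) (.leaf [2326, -1862, -1196, 126, -1315, -1693, 1191, 85, 405, 183, 253, 3, 2, 0, 1])) (.node (.leaf [1]) (.leaf []))) (.node (.node (.leaf [1]) (.leaf [])) (.node (.leaf [0, 8, -7, -1, 7, 1, 0, -4]) (.leaf [1, 0, 1, 0, -1])))) (.node (.node (.node (.leaf []) (.leaf [0, 0,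 -1, 0, 1])) (.node (.leaf []) (.leaf [-94876, 185706, -7051, 84009, 148081, 79553, -104854, -49119, 2827, -25593, -17207, -53, -3708, 1, -1, 0, -1]))) (.node (.node (.leaf []) (.leaf [1, 0, 1, 0, -1])) (.node (.leaf [0, 0, 0, -1, 0, 1]) (.leaf [1, 0, 1, 0, -1]))))) (.node (.node (.node (.node (.leaf [3, 0, 1, 1, -1, -1]) (.leaf [-265, 718, 47, 120, 629, 132, -280, -166, -124, 4, -83, 1, 9])) (.node (.leaf [0, 0, 0, -1, 0, 1]) (.leaf []))) (.node (.node (.leaf [1, 0, 1, 0, -1]) (.leaf [])) (.node (.leaf [1]) (.leaf [0, 0, 0, -1, 0, 1])))) (.node (.node (.node (.leaf []) (.leaf [-529, 282, 332, -122, 171, 421, -243, 17, -82, -28, -48])) (.node (.leaf [1]) (.leaf [-86, -390, -250, -518, -275, 121, 337, 72, 40, 34, 53, -5, 1]))) (.node (.node (.leaf [1]) (.leaf [39632, 215488, 25578, 98742, 108790, -174, -66628, -57538, -19618, -14368, -14618, -1968, 366, 0, 1, 0, 1])) (.node (.leaf [-111, 20, 43, -41, 25, 75, -28, 13, -12, -4, -8, 1]) (.leaf [3, 0, 1, 1, -1, -1])))))))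

def twoL117 : Janko.Tree (List ℤ) :=
  (.node (.node (.node (.node (.node (.node (.leaf [0, 1]) (.leaf [0, 1])) (.node (.leaf [-180, 292, 137, 59, 174, 158, -159, -40, -41, -30, -36, 0, 1]) (.leaf [-49182, -69429, 30116, -22680, -39872, 40108, -13980, 22939, 13088, -1214, 412, 1122, -1632, 1, -1, 0, -1]))) (.node (.node (.leaf []) (.leaf [0, 1])) (.node (.leaf [0, 1]) (.leaf [750, -89, 143, 401, -306, -472, 69, -4, 32, 0, 16, 2, -1])))) (.node (.node (.node (.leaf []) (.leaf [-71, 51, 31, -14, 33, 50, -26, -1, -14, -5, -5])) (.node (.leaf [-566, -704, -553, -561, -28, 166, 279, 142, 94, 45, 58, 14, -1]) (.leaf [0, 1]))) (.node (.node (.leaf []) (.leaf [3153, -1049, -1791, 504, -905, -2136, 1352, -287, 425, 156, 247, -16, 0, 0, 0, 0, -1])) (.node (.leaf [-139, 775, -32, 93, 442, 171, -132, -182, -85, -65, -54, -1]) (.leaf [184186, -69562, -53018, 14314, -78555, -134097, 89819, 956, 4828, 13686, 14015, -738, 2034, -1, 0, 1, 1]))))) (.node (.node (.node (.node (.leaf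 []) (.leaf [-1739, 297, 122, -559, 673, 958, -345, 105, -159, -44, -67, 16, 1])) (.node (.leaf [0, 1]) (.leaf [97168, -148099, 18076, 10364, -127018, -50690, 31698, 29668, 30276, 4950, 9792, 810, -1446, 1, 0, -1, -1]))) (.node (.node (.leaf []) (.leaf [-92072, 145652, -19114, -9628, 124231, 47561, -29737, -29593, -29703, -4708, -9432, -835, 1445, -1, 0, 1, 1])) (.node (.leaf [-87536, 147632, -17132, -7918, 123085, 45527, -29633, -30155, -30229, -4562, -9444, -939, 1513, -1, 0, 1, 1]) (.leaf [0, 1])))) (.node (.node (.node (.leaf []) (.leaf [0, 1])) (.node (.leaf [0, 1]) (.leaf [0, 1]))) (.node (.node (.leaf []) (.leaf [])) (.node (.leaf [22404, -39032, -10906, -9660, -25593, -18499, 19559, 6953, 4222, 4243, 4041, -150, 207, 0, 1, -1]) (.leaf [12000, 21603, -15653, 9231, 15994, -10062, 2211, -8787, -1629, -254, 305, -484, 48, 0, -1, 1])))))) (.node (.node (.node (.node (.node (.leaf []) (.leaf [0, 1])) (.node (.leaf []) (.leaf [0, 1]))) (.node (.node (.leaf []) (.leaf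 [0, 1])) (.node (.leaf [0, 1]) (.leaf [-21528, 34441, 8212, 7952, 23618, 17274, -17370, -6280, -3418, -3902, -3594, 192, -218, 0, -1, 1])))) (.node (.node (.node (.leaf [0, 1]) (.leaf [])) (.node (.leaf [0, 1]) (.leaf [12038, -343675, -49477, -108796, -191781, -38730, 104986, 81322, 44317, 19395, 24929, 2985, -1110, 1, -1, 0, -1]))) (.node (.node (.leaf [0, 1]) (.leaf [375, -157, -86, 133, -142, -267, 96, -6, 44, 18, 22, 1])) (.node (.leaf []) (.leaf [-114, 99, 19, -31, 89, 79, -42, -13, -18, -4, -15, 1]))))) (.node (.node (.node (.node (.leaf []) (.leaf [0, 1])) (.node (.leaf []) (.leaf [0, 1]))) (.node (.node (.leaf []) (.leaf [0, 1])) (.node (.leaf []) (.leaf [-2650, 342682, 74660, 117838, 177911, 42971, -116779, -80271, -43859, -19525, -25196, -3649, 1159, -1, 0, 1, 1])))) (.node (.node (.node (.leaf [0, 1]) (.leaf [0, 1])) (.node (.leaf []) (.leaf [0, 1]))) (.node (.node (.leaf []) (.leaf [0, 1])) (.node (.leaf [0, 1]) (.leaf [-60346, -91641, 45596, -31852, -56441,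 49653, -15817, 31802, 14850, -916, 161, 1604, -1680, 1, 0, -1, -1])))))))

def twoL118 : Janko.Tree (List ℤ) :=
  (.node (.node (.node (.node (.node (.node (.leaf []) (.leaf [])) (.node (.leaf [0, 0, 0, -1, 0, 0, 1]) (.leaf [0, 0, 1]))) (.node (.node (.leaf [11, 2, 0, 6, -1, -6, 0, -2, 1]) (.leaf [])) (.node (.leaf []) (.leaf [0, 0, 0, -1, 0, 0, 1])))) (.node (.node (.node (.leaf []) (.leaf [-3, -2, -1, -1, 1, 2, -1, 0, 1])) (.node (.leaf [-2, -2, -5, 2, 4, -2, 0, 0, 1]) (.leaf [968, -516, 241, 244, -715, -465, 161, 70, 105, 48, 53, -17, -1]))) (.node (.node (.leaf [0, 0, 0, -1, 0, 0, 1]) (.leaf [0, 0, 1])) (.node (.leaf [0, 0, 1, 1, 0, 0, -1]) (.leaf [0, 0, 1]))))) (.node (.node (.node (.node (.leaf [0, 0, 1]) (.leaf [-5, 2, 0, -1, 3, 2, -1, 0, -1])) (.node (.leaf []) (.leaf [-537, 310, 313, -123, 196, 427, -244, 7, -82, -30, -50]))) (.node (.node (.leaf [0, 0, 1]) (.leaf [0, 0, 1])) (.node (.leaf [0, 0, 1]) (.leaf [757, 124, 37, 309, -211, -406, 119, -80, 19, -10,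 10, 0, -1])))) (.node (.node (.node (.leaf [-472, 586, -62, -217, 483, 337, -118, -142, -118, 0, -32, 0, -1]) (.leaf [])) (.node (.leaf []) (.leaf [-536, 1100, 358, 183, 639, 429, -410, -155, -184, -101, -110, -1, 1]))) (.node (.node (.leaf []) (.leaf [0, 0, 1])) (.node (.leaf [-706, -310, 484, -184, -111, 429, -253, 210, -43, 5, -16, 0, -1]) (.leaf [0, 0, 1])))))) (.node (.node (.node (.node (.node (.leaf [-4, 0, -1, -1, 2, 2, -1]) (.leaf [])) (.node (.leaf [-5, 2, 0, -1, 3, 2, -1, 0, -1]) (.leaf [4, -2, 0, 1, -2, -2, 1, 0, 1]))) (.node (.node (.leaf []) (.leaf [])) (.node (.leaf [70, -26, -59, 17, -13, -57, 36, -7, 11, 2, 7]) (.leaf [0, 0, 1])))) (.node (.node (.node (.leaf []) (.leaf [0, 0, 1])) (.node (.leaf [43, 54, 102, 46, -38, 45, -67, -16, 7, -10, -6, -3, 1]) (.leaf [906, -574, -344, 241, -454, -676, 357, 28, 135, 39, 85, -1, 1]))) (.node (.node (.leaf []) (.leaf [0, 0, 1])) (.node (.leaf [-48035, -4008, -69701, 7231, 45664, 16216, -8935, -9562, 16074, -4812,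 2748, -108, -2336, 0, -1, 0, -1]) (.leaf [0, 0, 1]))))) (.node (.node (.node (.node (.leaf [0, 0, 0, -1, 0, 0, 1]) (.leaf [-1145, 2, -104, -369, 471, 525, -170, 91, -72, -4, -27, 10, 1])) (.node (.leaf [-162, 126, -55, -12, 131, 107, -51, -32, -7, -15, -2, -4, -3]) (.leaf [28214, 1658, -13176, 6482, -2310, -19572, 10248, -4726, 358, 1836, 2118, -558, 143, -1, 0, 1]))) (.node (.node (.leaf [0, 0, 1]) (.leaf [-4, 2, -1, -3, 2, 2, 1, 0, -1])) (.node (.leaf [-438, -1042, -258, -674, -463, 177, 377, 290, 107, 51, 64, 8, 1]) (.leaf [934, 478, 1393, 152, -601, -421, 25, 90, -433, 107, -18, -28, 43])))) (.node (.node (.node (.leaf []) (.leaf [-237, 82, 162, -78, 48, 191, -101, 19, -34, -6, -20])) (.node (.leaf [-53, -2, 6, -22, 15, 33, -11, 6, -2, 0, -3]) (.leaf [-594, 11700, 8582, 3650, 2925, 3641, -5363, -1749, -1869, -1060, -1268, 31, 65, 0, 0, 1]))) (.node (.node (.leaf [16, 10, -22, 4, 7, -17, 13, -6, -2, 0, 3]) (.leaf [-52499, 218044, 16387, 74736, 146124, 51586, -89266,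 -54094, -19486, -16708, -16914, -1598, -222, 0, 1, 0, 1])) (.node (.leaf []) (.leaf [0, 0, 0, -1, 0, 0, 1])))))))

def twoL119 : Janko.Tree (List ℤ) :=
  (.node (.node (.node (.node (.node (.node (.leaf []) (.leaf [])) (.node (.leaf [0, 0, 0, 1]) (.leaf [-34, -8, -12, -17, 9, 15, 3, 4, 0, -1, 0, 1]))) (.node (.node (.leaf [0, 0, 0, 1]) (.leaf [])) (.node (.leaf [72, -10, -33, 42, -25, -53, 26, -4, 8, -6, 8, -1]) (.leaf [0, 0, 0, 1])))) (.node (.node (.node (.leaf []) (.leaf [])) (.node (.leaf [0, 0, 0, 1]) (.leaf [-282, 240, -32, -99, 256, 186, -95, -62, -49, 11, -13, -5, -2]))) (.node (.node (.leaf [0, 0, 0, 1]) (.leaf [])) (.node (.leaf [0, 0, 0, 1]) (.leaf []))))) (.node (.node (.node (.node (.leaf []) (.leaf [])) (.node (.leaf [-403, -18, -43, -239, 123, 249, -30, 24, -18, 11, -7, -1]) (.leaf [0, 0, 0, 1]))) (.node (.node (.leaf [-1094, 516, 284, -310, 543, 709, -371, -16, -164, -15, -64, 1]) (.leaf [38, -20, -10, -16, -17, -21, 23, 1, 4, 6, -2, 1])) (.node (.leaf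 []) (.leaf [-735, -124, -39, -301, 209, 394, -118, 76, -17, 12, -10, 0, 1])))) (.node (.node (.node (.leaf [0, 0, 0, 1]) (.leaf [])) (.node (.leaf []) (.leaf [-954, 1476, 600, 165, 891, 739, -637, -177, -268, -133, -160, -1, 1]))) (.node (.node (.leaf [1313, -1168, -821, 47, -729, -979, 702, 45, 270, 116, 154, -1]) (.leaf [56, -4, -24, 37, -23, -43, 23, -2, 4, -7, 8, -1])) (.node (.leaf [-4, -38, 38, -25, -33, 15, 3, 16, 4, 7, -5, 0, -3]) (.leaf [64, -14, -34, 37, -21, -49, 23, -4, 8, -4, 8, -1])))))) (.node (.node (.node (.node (.node (.leaf [0, 0, 0, 1]) (.leaf [])) (.node (.leaf []) (.leaf []))) (.node (.node (.leaf [-188, 360, 267, 67, 155, 185, -190, -33, -74, -30, -42, -1]) (.leaf [])) (.node (.leaf []) (.leaf [])))) (.node (.node (.node (.leaf []) (.leaf [146, -34, -51, 15, -47, -103, 70, -6, 7, 8, 7, 1])) (.node (.leaf []) (.leaf [0, 0, 0, 1]))) (.node (.node (.leaf []) (.leaf [])) (.node (.leaf [0, 0, 0, 1]) (.leaf [-41773, 49956, 22508, 4648, 33318, 34523,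 -29313, -6870, -6942, -4925, -6237, 73, -77, 1, 0, -1]))))) (.node (.node (.node (.node (.leaf [0, 0, 0, 1]) (.leaf [-1145, 2, -106, -369, 471, 525, -169, 91, -72, -4, -27, 10, 1])) (.node (.leaf [0, 0, 0, 1]) (.leaf [-31480, 19558, 12042, -2416, 17238, 22634, -16243, -1318, -3532, -2006, -2942, 64, -45, -1, 0, 1]))) (.node (.node (.leaf []) (.leaf [])) (.node (.leaf [-467, -1064, -272, -691, -464, 183, 389, 300, 106, 51, 66, 8, 1]) (.leaf [0, 0, 0, 1])))) (.node (.node (.node (.leaf []) (.leaf [])) (.node (.leaf []) (.leaf [-6728, 3862, 288, -2238, 3891, 4341, -1551, -329, -814, -377, -512, 89, 12, 1]))) (.node (.node (.leaf []) (.leaf [-76811, 251958, 6872, 77005, 177897, 62417, -96869, -60979, -24264, -19737, -19460, -1313, -226, 0, 1, 0, 1])) (.node (.leaf [-113, 20, 43, -41, 25, 76, -28, 13, -12, -4, -8, 1]) (.leaf [0, 0, 0, 1])))))))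

def twoL120 : Janko.Tree (List ℤ) :=
  (.node (.node (.node (.node (.node (.node (.leaf [1]) (.leaf [8, 6, -3, 5, 3, -5, 0, -3])) (.node (.leaf [-4, -6, 2, -1, -2, 1, 0, 3]) (.leaf [0, -2, 1, 0, -1, 0, 0, 1]))) (.node (.node (.leaf [1]) (.leaf [1])) (.node (.leaf [1]) (.leaf [3, 0, 1, 1, -1, -1])))) (.node (.node (.node (.leaf [1, 0, 1, 0, -1]) (.leaf [1, 0, 0, 1, 0, -1])) (.node (.leaf []) (.leaf [1374, -928, -635, 296, -755, -927, 569, 15, 250, 67, 168, -29, -7]))) (.node (.node (.leaf [178, -78, -113, 75, -49, -149, 70, -9, 26, 3, 20, -1]) (.leaf [-71, 10, 35, -38, 21, 52, -24, 6, -8, 4, -8, 1])) (.node (.leaf [2, 2, 11, 0, -4, 5, -5, 0, 0, 0, -1]) (.leaf [2, 0, 0, 1, 0, -1]))))) (.node (.node (.node (.node (.leaf [-1, 0, 0, -1, 0, 1]) (.leaf [1, 0, 0, 1, 0, -1])) (.node (.leaf [0, 0, -1, 0, 1]) (.leaf []))) (.node (.node (.leaf []) (.leaf [3571, -1846, 393, 1109, -2334, -1812, 479, 81, 437, 197, 293, -86, 1, -1])) (.node (.leaf [-63, 10, 35, -35, 21, 47, -24,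 5, -8, 5, -8, 1]) (.leaf [1])))) (.node (.node (.node (.leaf []) (.leaf [103, -36, 88, 10, -118, -32, 30, 22, -2, -4, 2])) (.node (.leaf [1]) (.leaf [89, -72, -61, 22, -37, -80, 46, 4, 16, 6, 10, 0, 0, 0, 1]))) (.node (.node (.leaf [1, 0, 1, 0, -1]) (.leaf [1])) (.node (.leaf [13, 10, -8, 7, 5, -6, -1, -7, 1, 0, 1]) (.leaf [-168276, 87056, 36950, -4443, 91325, 121480, -86345, -9206, -5751, -13524, -13225, 167, -1989, 0, -1, 0, -1])))))) (.node (.node (.node (.node (.node (.leaf []) (.leaf [1])) (.node (.leaf [1, 0, 0, 1, 0, -1]) (.leaf [-2, 0, -1, -1, 1, 1]))) (.node (.node (.leaf [1, 0, 1, 0, -1]) (.leaf [-128, 68, 99, -42, 32, 107, -57, 7, -25, -4, -12])) (.node (.leaf [0, 0, 0, -1, 0, 1]) (.leaf [77, -22, -39, 36, -21, -58, 24, -6, 10, 0, 8, -1])))) (.node (.node (.node (.leaf [1]) (.leaf [-100096, -12262, -4711, -52085, 29950, 54926, -11857, 8969, -6893, 4759, -453, -906, 655, -1, 1, 1, 1])) (.node (.leaf [-2, 0, -1, -1, 1, 1]) (.leaf [0, -6, 7, -2, -7, 2, 0, 3])))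 (.node (.node (.leaf [1]) (.leaf [-1366, 2894, -242, 28, 1935, 1055, -503, -566, -289, -342, -302, 56, -4, 1])) (.node (.leaf [-253467, 312156, -31954, 71808, 281187, 166649, -152973, -70079, -14777, -39244, -28480, 1375, -4873, 0, -1, 0, -1]) (.leaf [-4934, 6924, 2486, -234, 4181, 4113, -2747, -916, -1164, -638, -816, 52, 20, 1]))))) (.node (.node (.node (.node (.leaf [-186, 80, 46, 14, 92, 106, -90, -1, -20, -14, -4, -1]) (.leaf [-106404, 158710, -13500, -12566, 132924, 59348, -36634, -31410, -32335, -5562, -10536, -988, 1476, -1, 1, 1, 1])) (.node (.leaf [5, 6, -6, 1, 3, 0, -1, -5, 1, 0, 1]) (.leaf [272, -210, 581, -46, -509, 134, -108, 74, 6, 50, 15, -37, -3]))) (.node (.node (.leaf [-1, 0, 0, -1, 0, 1]) (.leaf [471, -234, -311, 110, -132, -379, 217, -22, 71, 26, 42])) (.node (.leaf [102, -50, -16, -33, -57, -46, 53, 2, 12, 12, -2, 1]) (.leaf [-9950, 10506, 2676, 851, 8650, 6291, -5306, -1315, -1780, -988, -1240, 60, 10, 0, -1])))) (.node (.node (.node (.leaf [-536,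 308, 314, -121, 194, 427, -246, 7, -82, -30, -49]) (.leaf [3, 0, 1, 1, -1, -1])) (.node (.leaf [-22, 2, 1, -6, 10, 11, -5, 2, -2, 0, -1]) (.leaf [-3954, 52542, 21727, 13140, 22525, 8705, -16077, -8957, -9794, -3182, -4636, -45, 343, 0, 0, 1]))) (.node (.node (.leaf [-15, 14, 19, -8, 4, 21, -13, -2, -2, 0, -3]) (.leaf [57197, 45694, 34055, 13756, -5206, -28301, 5113, -8320, -16774, 3510, -2469, -1056, 2262, 0, 1, 0, 1])) (.node (.leaf [1]) (.leaf [-9585, -14794, -9143, -9143, -1375, 1949, 4798, 3266, 1708, 1256, 1225, 15, -73, 0, 0, -1])))))))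

def twoL121 : Janko.Tree (List ℤ) :=
  (.node (.node (.node (.node (.node (.node (.leaf []) (.leaf [0, 1])) (.node (.leaf []) (.leaf [0, 1]))) (.node (.node (.leaf []) (.leaf [])) (.node (.leaf [-133, 55, 65, -22, 49, 84, -52, 9, -22, -5, -9]) (.leaf [55929, 32388, 41780, 4635, -15715, -27142, 8215, -3564, -17984, 5690, -1792, -1180, 2636, 0, 0, 0, 1])))) (.node (.node (.node (.leaf []) (.leaf [736, -572, -55, 219, -540, -500, 273, 118, 124, 13, 40, -6, -3])) (.node (.leaf [0, 1]) (.leaf []))) (.node (.node (.leaf [0, 1]) (.leaf [-235946, 267723, -31920, 61258, 248213, 155057, -137605, -60023, -9221, -36117, -25262, 1623, -4861, 1, 0, -1, -1])) (.node (.leaf [0, 1]) (.leaf []))))) (.node (.node (.node (.node (.leaf [0, -14, 4, -2, -8, 0, 0, 4, 2, 1]) (.leaf [])) (.node (.leaf []) (.leaf [0, 1]))) (.node (.node (.leaf [0, 1]) (.leaf [0, 1])) (.node (.leaf []) (.leaf [])))) (.node (.node (.node (.leaf [0, 1]) (.leaf [])) (.node (.leaf []) (.leaf [0, 1]))) (.node (.node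 (.leaf []) (.leaf [-1046, -12, -143, -323, 442, 454, -137, 85, -64, -6, -18, 8, 1])) (.node (.leaf []) (.leaf [-49377, -69575, 30158, -22949, -39900, 40249, -13948, 22986, 13073, -1166, 405, 1123, -1633, 1, -1, 0, -1])))))) (.node (.node (.node (.node (.node (.leaf [0, 1]) (.leaf [])) (.node (.leaf []) (.leaf [-742, -134, -41, -303, 208, 398, -121, 78, -14, 12, -10, 0, 1]))) (.node (.node (.leaf []) (.leaf [0, 1])) (.node (.leaf [6336, 19848, 80336, -15070, -26399, 11667, -7961, 9645, -19676, 3291, -5575, 128, 2263, 0, 0, 0, 1]) (.leaf [-25398, 19053, 2270, -1384, 18900, 15626, -10482, -2380, -2884, -2000, -2382, 198, -78, 1, -1])))) (.node (.node (.node (.leaf []) (.leaf [0, 1])) (.node (.leaf [-134, 104, 31, -5, 100, 90, -79, -22, -21, -4, -6, 0, 1]) (.leaf [0, 1]))) (.node (.node (.leaf [450, -360, -57, 155, -270, -330, 117, 47, 76, 28, 28, 0, 1]) (.leaf [0, 2, 0, 2, 0, 0, 0, 0, 0, -1])) (.node (.leaf [0, 1]) (.leaf [-13454, 20827, 7276, 2214, 13233, 10397, -9021,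 -2833, -3373, -1993, -2412, 157, 41, 1, -1]))))) (.node (.node (.node (.node (.leaf [0, 1]) (.leaf [0, 1])) (.node (.leaf []) (.leaf []))) (.node (.node (.leaf [2, 7, 4, 4, 0, -2, 0, 0, -2, -1]) (.leaf [])) (.node (.leaf [0, 1]) (.leaf [])))) (.node (.node (.node (.leaf []) (.leaf [])) (.node (.leaf [0, 2, 2, 0, 0, 0, 0, 0, -1]) (.leaf []))) (.node (.node (.leaf [4, -10, 6, 0, -10, -2, 2, 4, 1]) (.leaf [0, 1])) (.node (.leaf [124, -44, -77, 65, -45, -101, 52, -5, 18, -7, 17, -1]) (.leaf [-71, 53, 31, -12, 33, 50, -26, -1, -14, -6, -5])))))))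

def twoL122 : Janko.Tree (List ℤ) :=
  (.node (.node (.node (.node (.node (.node (.leaf []) (.leaf [86, -28, -51, 27, -21, -67, 36, -6, 11, 2, 7])) (.node (.leaf [0, 0, 1]) (.leaf [-166, -376, -145, -164, -84, 21, 79, 81, 41, 32, 34]))) (.node (.node (.leaf [4, -2, -13, 2, 2, -13, 11, 1, -3, 0, 3]) (.leaf [])) (.node (.leaf [-3, -2, -1, -1, 1, 2, -1, 0, 1]) (.leaf [0, 0, 0, -1, 0, 0, 1])))) (.node (.node (.node (.leaf [0, 0, 1]) (.leaf [0, -2, -1, 0, 0, 0, 0, 0, 1])) (.node (.leaf []) (.leaf [0, 0, 1]))) (.node (.node (.leaf []) (.leaf [0, 0, 1, 1, 0, 0, -1])) (.node (.leaf [-24, 2, -23, -10, 19, 7, 3, -2, 0, 0, 1]) (.leaf [0, 0, 1, 1, 0, 0, -1]))))) (.node (.node (.node (.node (.leaf [0, 0, 1, 1, 0, 0, -1]) (.leaf [-2, 2, 0, 0, 2, 0, 0, 0, -1])) (.node (.leaf [0, 0, 1]) (.leaf []))) (.node (.node (.leaf []) (.leaf [3695, -1772, 417, 1191, -2351, -1900, 509, 74, 418, 189, 294, -90, 1, -1])) (.node (.leaf [0, 0, 1, 1, 0, 0, -1]) (.leaf [116094, -83750, 20699, 17538,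 -98387, -63336, 35374, 15472, 14310, 4784, 6881, 462, -34, 0, -1, 0, -1])))) (.node (.node (.node (.leaf [-4, -10, 4, -3, -6, 2, 1, 4, 1]) (.leaf [0, 0, 1])) (.node (.leaf [136, -68, -105, 45, -32, -114, 61, -8, 25, 4, 13]) (.leaf [0, 2, 2, -1, 0, 0, 1, 0, -1]))) (.node (.node (.leaf [0, 0, 1]) (.leaf [-5168, 11486, -11596, 4490, 13097, -439, -467, -3736, 108, -1804, -323, 314, -302, 0, 0, 1])) (.node (.leaf [-163, 64, 88, -51, 51, 121, -62, 10, -23, -4, -15]) (.leaf [0, 0, 0, -1, 0, 0, 1])))))) (.node (.node (.node (.node (.node (.leaf [-4, -2, 5, -1, -2, 2, -1, 2, -1]) (.leaf [])) (.node (.leaf [-2, 2, 0, 0, 2, 0, 0, 0, -1]) (.leaf [0, 0, 0, -1, 0, 0, 1]))) (.node (.node (.leaf [0, 0, 1]) (.leaf [-146, 132, 99, -58, 61, 135, -61, -9, -33, -8, -16])) (.node (.leaf [-251, 70, 78, -77, 86, 153, -64, 21, -35, -6, -15]) (.leaf [0, 0, 1, 1, 0, 0, -1])))) (.node (.node (.node (.leaf []) (.leaf [-4, 2, 2, -1, 2, 2, -1, 0, -1])) (.node (.leaf [0, 0, 0, -1, 0, 0, 1]) (.leaf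 [-83, 32, 48, -12, 27, 63, -43, 4, -9, -4, -7]))) (.node (.node (.leaf []) (.leaf [0, 0, 1, 1, 0, 0, -1])) (.node (.leaf [-5, -48, 306, -232, -252, 77, 123, 101, -77, 6, -16, 5, 5]) (.leaf [8951, -13092, 11555, -1469, -16238, -2149, 2000, 4444, 1204, 575, 89, 185, 49, 1, 0, -1]))))) (.node (.node (.node (.node (.leaf []) (.leaf [-504, -228, 66, -282, 49, 179, 3, 128, -66, 37, 2, 8, 5])) (.node (.leaf [-119, 72, 92, -23, 45, 95, -64, 4, -21, -4, -15]) (.leaf [0, 0, 1]))) (.node (.node (.leaf [0, 0, 1, 1, 0, 0, -1]) (.leaf [0, 0, 1])) (.node (.leaf [129, -60, -15, -13, -69, -77, 64, 7, 9, 12, 1, 1]) (.leaf [0, 0, 1])))) (.node (.node (.node (.leaf [-233, 92, 141, -73, 63, 182, -97, 13, -34, -6, -19]) (.leaf [0, 0, 0, -1, 0, 0, 1])) (.node (.leaf [0, 0, 1]) (.leaf [0, 0, 1]))) (.node (.node (.leaf [0, 0, 1]) (.leaf [129083, -101122, 61533, 15166, -118561, -55213, 13051, 16816, 11256, 15218, 8991, -3462, 1742, 0, 1, 0, 1])) (.node (.leaf [-3, -2, -1, -1, 1, 2, -1, 0, 1])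 (.leaf [57270, 109802, 83059, 26770, 10604, -11766, -19434, -16931, -30378, 460, -9807, -1316, 3071, 0, 0, 0, 1])))))))

def twoL123 : Janko.Tree (List ℤ) :=
  (.node (.node (.node (.node (.node (.node (.leaf []) (.leaf [])) (.node (.leaf []) (.leaf []))) (.node (.node (.leaf []) (.leaf [387, -108, -96, 84, -125, -271, 141, -9, 30, 19, 10, 4])) (.node (.leaf []) (.leaf [0, 0, 0, 1])))) (.node (.node (.node (.leaf []) (.leaf [0, 0, 0, 1])) (.node (.leaf []) (.leaf [-527, -2, -253, -173, 268, 195, -4, 12, -24, -4, 22, -2, -3]))) (.node (.node (.leaf [61, -16, -63, 32, -9, -55, 32, -8, 10, -3, 10, -1]) (.leaf [0, 0, 0, 1])) (.node (.leaf []) (.leaf [0, 0, 0, 1]))))) (.node (.node (.node (.node (.leaf [0, 0, 0, 1]) (.leaf [0, 0, 0, 1])) (.node (.leaf [620, 658, 115, 320, 143, -199, -95, -236, -50, 4, -30, -16, -1]) (.leaf []))) (.node (.node (.leaf []) (.leaf [6231, -2592, 915, 1915, -3931, -2976, 822, 74, 694, 269, 408, -144, -5, -1])) (.node (.leaf [0, 0, 0, 1]) (.leaf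 [-54, 10, 41, -28, 15, 42, -24, 6, -8, 4, -8, 1])))) (.node (.node (.node (.leaf [-538, -16, 288, -81, 60, 314, -193, 104, -56, -17, -20, -2, -1]) (.leaf [-18, -14, 14, -17, -13, 15, 3, 9, 0, -1, -2, 1])) (.node (.leaf [856, 174, -586, 242, 47, -569, 319, -200, 76, 3, 33, 0, 1]) (.leaf []))) (.node (.node (.leaf [-615, -978, -556, -607, -151, 136, 317, 218, 111, 62, 83, 14, 1]) (.leaf [])) (.node (.leaf [0, 0, 0, 1]) (.leaf [0, 0, 0, 1])))))) (.node (.node (.node (.node (.node (.leaf []) (.leaf [-426, 104, 126, -118, 155, 241, -117, 33, -56, -11, -26, 8])) (.node (.leaf [0, 0, 0, 1]) (.leaf [0, 0, 0, 1]))) (.node (.node (.leaf []) (.leaf [])) (.node (.leaf [0, 0, 0, 1]) (.leaf [0, 0, 0, 1])))) (.node (.node (.node (.leaf []) (.leaf [217728, -48344, 42947, 53641, -113435, -123710, 47366, 3648, 2550, 9525, 6622, -562, 2389, -1, 1, 1, 1])) (.node (.leaf [0, 0, 0, 1]) (.leaf [40, -22, -82, 184, 93, -59, -119, -39, 52, -5, 1, 1, 1]))) (.node (.node (.leaf []) (.leaf [0,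 0, 0, 1])) (.node (.leaf []) (.leaf [0, 0, 0, 1]))))) (.node (.node (.node (.node (.leaf [44, 0, -72, 48, 8, -45, 16, -15, 12, -8, 12, -1]) (.leaf [55023, 830600, 309548, 340295, 335499, 122965, -320187, -182153, -91330, -66407, -70281, -4310, -819, -1, 1, 1, 1])) (.node (.leaf [0, 0, 0, 1]) (.leaf [-201, 60, 92, -76, 48, 141, -56, 17, -28, -9, -15, 4, 1]))) (.node (.node (.leaf [0, 0, 0, 1]) (.leaf [])) (.node (.leaf []) (.leaf [])))) (.node (.node (.node (.leaf [0, 0, 0, 1]) (.leaf [0, 0, 0, 1])) (.node (.leaf [-2494, -574, -631, -1494, 632, 1342, 20, 228, -26, 56, 19, 13, -3]) (.leaf [1100, 400, -341, 220, -107, -537, 319, -264, 17, 11, 48, -12]))) (.node (.node (.leaf []) (.leaf [])) (.node (.leaf []) (.leaf [0, 0, 0, 1])))))))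

def twoL124 : Janko.Tree (List ℤ) :=
  (.node (.node (.node (.node (.node (.node (.leaf [1, 0, 1, 0, -1]) (.leaf [0, 0, 0, -1, 0, 1])) (.node (.leaf [-2, -6, 3, 0, -3, 0, 0, 3]) (.leaf [0, 0, 0, -1, 0, 1]))) (.node (.node (.leaf [-123, 22, 34, -32, 43, 77, -41, 9, -11, -2, -7]) (.leaf [1, 0, 1, 0, -1])) (.node (.leaf [1, 0, 0, 1, 0, -1]) (.leaf [-96640, -36830, 47716, -57560, -13012, 65538, -15862, 24328, -6728, 2652, -3127, 856, 434, 0, 1, 0, 1])))) (.node (.node (.node (.leaf [-1, 0, 0, -1, 0, 1]) (.leaf [0, 0, 0, -1, 0, 1])) (.node (.leaf [1]) (.leaf [3, 0, 1, 1, -1, -1]))) (.node (.node (.leaf [1692, 422, 482, -11, -606, -901, 560, -126, -334, 172, 73, -39, 43]) (.leaf [-5203, -4434, -629, -4138, -846, 2875, 467, 1331, 251, 363, 237, 19, 16, 0, 1])) (.node (.leaf [3, 0, 1, 1, -1, -1]) (.leaf [5562, -3948, -445, 1300, -3696, -3469, 1557, 370, 778, 400, 520, -88, -6, -1]))))) (.node (.node (.node (.node (.leaf [1, 2, 0, -1, 0, 1, 0, -1]) (.leaf [63, -28, -50, 13,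 -16, -47, 30, -6, 12, 2, 6])) (.node (.leaf []) (.leaf [-410, 246, 295, -110, 132, 339, -193, 12, -75, -18, -42]))) (.node (.node (.leaf [1]) (.leaf [36, -20, -11, -17, -16, -20, 23, 1, 4, 6, -2, 1])) (.node (.leaf [3, 0, 1, 1, -1, -1]) (.leaf [138947, -117634, 19014, 10612, -125474, -78318, 50154, 22026, 17994, 8262, 10021, 376, 138, 0, -1, 0, -1])))) (.node (.node (.node (.leaf [2, 2, -1, 1, 1, -1, 0, -1]) (.leaf [0, -2, 1, 0, -1, 0, 0, 1])) (.node (.leaf [232, -148, -135, 69, -89, -191, 102, 3, 40, 10, 21]) (.leaf [5766, -9652, -3784, -3050, -6620, -3984, 5206, 1309, 1454, 957, 1149, -39, -4, 0, 1]))) (.node (.node (.leaf [970, -816, -621, 44, -495, -718, 500, 13, 198, 88, 110, -1]) (.leaf [14213, 19154, 12755, 12004, 1044, -3771, -5765, -4158, -2706, -1296, -1479, -106, 168, 0, 0, 1])) (.node (.leaf [-173848, 149528, -42677, 21712, 164321, 106588, -82400, -35466, -2650, -20310, -13698, 634, -3274, 0, 0, -1, -1]) (.leaf [1])))))) (.node (.node (.node (.node (.node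 (.leaf [-2, 0, -1, -1, 1, 1]) (.leaf [1, 0, 1, 0, -1])) (.node (.leaf [584, -52, -227, 83, -149, -318, 201, -75, 66, 15, 18, -1, 3]) (.leaf [1]))) (.node (.node (.leaf [-511, 704, 493, 86, 363, 440, -396, -57, -142, -64, -88, -1]) (.leaf [0, 0, 0, -1, 0, 1])) (.node (.leaf [-181, 58, 68, -59, 61, 120, -53, 13, -25, -4, -13]) (.leaf [0, 0, 0, -1, 0, 1])))) (.node (.node (.node (.leaf [1, 0, 1, 0, -1]) (.leaf [-1221, -1984, -1383, 2, -91, 473, -113, 323, 802, -173, 48, 49, -57])) (.node (.leaf [2, -2, 2, 1, -2, -1, 0, 1]) (.leaf [532, -374, -320, 302, -147, -445, 95, -22, 134, 22, 51, 1, 1]))) (.node (.node (.leaf [1, 0, 1, 0, -1]) (.leaf [-1, -4, 3, -1, -3, 1, 0, 2])) (.node (.leaf [-8527, -28408, -80027, 11239, 22197, -10153, 8746, -7686, 20576, -2350, 6230, -302, -2264, 0, -1, 0, -1]) (.leaf [1577, -906, -722, 81, -808, -1139, 872, 32, 174, 93, 154, -1, 1]))))) (.node (.node (.node (.node (.leaf [1]) (.leaf [-57, 2, 25, -36, 22, 43, -23, 3, -4, 7, -8, 1])) (.node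 (.leaf [-2219, 1664, 1406, -198, 1024, 1692, -1134, -6, -402, -180, -244, 2, -2, 0, -1]) (.leaf [0, 0, 0, -1, 0, 1]))) (.node (.node (.leaf [-3, -8, 7, -3, -7, 3, 0, 4]) (.leaf [-2, -2, 1, -1, -1, 1, 0, 1])) (.node (.leaf [11, 0, 3, 7, -3, -7]) (.leaf [-10086, 10570, 2733, 818, 8707, 6386, -5360, -1313, -1800, -992, -1250, 60, 10, 0, -1])))) (.node (.node (.node (.leaf []) (.leaf [1])) (.node (.leaf [1, 0, 0, 1, 0, -1]) (.leaf [-82, 74232, 127695, 777, -11030, 30072, -36501, 3092, -30743, 155, -12291, -281, 2952, 0, 0, 1, 1]))) (.node (.node (.leaf [1, 0, 0, 1, 0, -1]) (.leaf [69, -10, -33, 39, -20, -50, 21, -6, 8, -4, 8, -1])) (.node (.leaf [1, 0, 0, 1, 0, -1]) (.leaf [4541, -4884, -1302, 782, -3444, -3333, 1795, 580, 874, 458, 610, -72, -8, -1])))))))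

def twoL125 : Janko.Tree (List ℤ) :=
  (.node (.node (.node (.node (.node (.node (.leaf []) (.leaf [])) (.node (.leaf [-371, -58, 190, -37, 46, 195, -146, 80, -29, -7, -16, 1]) (.leaf [747, -317, -389, -4, -292, -445, 353, -56, 117, 50, 50, 1, -3]))) (.node (.node (.leaf [-14, 3, -4, -4, 8, 6, -2, 0, -1]) (.leaf [-23742, 46873, -784, 6964, 35843, 15899, -15803, -10279, -6090, -3345, -3537, -184, -1, 0, -1, 1])) (.node (.leaf [-1246, 40, -61, -401, 504, 598, -205, 96, -84, -9, -36, 12, 1]) (.leaf [0, 1])))) (.node (.node (.node (.leaf [0, 15, -4, 2, 8, 0, 0, -4, -2, -1]) (.leaf [])) (.node (.leaf []) (.leaf [-43284, -246830, -203218, -129696, -38931, -63437, 136569, 43422, 22966, 26544, 28745, 659, 1079, -1, 1, 0, 1]))) (.node (.node (.leaf []) (.leaf [])) (.node (.leaf []) (.leaf [0, 1]))))) (.node (.node (.node (.node (.leaf [0, 1]) (.leaf [0, 1])) (.node (.leaf [0, 1]) (.leaf [0, 1]))) (.node (.node (.leaf []) (.leaf [])) (.node (.leaf [282660, -299754, -21680,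 -58878, -258906, -196914, 169990, 56382, 18184, 40409, 32410, -2212, 4704, -1, 0, 1, 1]) (.leaf [6420, -2622, 696, 1910, -3964, -3148, 998, 54, 703, 264, 434, -142, -2, -1])))) (.node (.node (.node (.leaf []) (.leaf [0, 1])) (.node (.leaf []) (.leaf [742, 131, 39, 305, -208, -398, 119, -78, 16, -12, 10, 0, -1]))) (.node (.node (.leaf [0, -1, 0, -2, 0, 0, 0, 0, 0, 1]) (.leaf [])) (.node (.leaf [0, 1]) (.leaf [])))))) (.node (.node (.node (.node (.node (.leaf []) (.leaf [-4194, -24931, -80870, 13842, 22815, -13033, 9703, -8719, 20340, -2815, 6101, -176, -2265, 0, 0, 0, -1])) (.node (.leaf [0, 1]) (.leaf [641, -272, 234, 421, -431, -398, 43, 91, 73, -30, 5, -2, -1]))) (.node (.node (.leaf [4, 7, 4, 2, -2, -2, 2, 0, -2, -1]) (.leaf [21653, -33950, -8243, -7996, -23449, -17216, 17400, 6139, 3371, 3882, 3559, -192, 216, 0, 1, -1])) (.node (.leaf []) (.leaf [])))) (.node (.node (.node (.leaf []) (.leaf [-116340, 21738, -18542, -41880, 60986, 65298, -23632, -1580, -7032, 1145,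 -2364, -1028, -10, -1, 0, 1, 1])) (.node (.leaf [75, -34, -31, 18, -29, -52, 28, -2, 11, 3, 5]) (.leaf [0, 1]))) (.node (.node (.leaf []) (.leaf [0, 1])) (.node (.leaf [-252, 248, -89, 21, 274, 26, -9, -18, -69, -30, -18, 12, -1]) (.leaf [-6420, 1319, 818, -2520, 2186, 4078, -1232, 386, -544, -189, -338, 30, -4, 1, -1]))))) (.node (.node (.node (.node (.leaf []) (.leaf [])) (.node (.leaf [0, 1]) (.leaf []))) (.node (.node (.leaf [0, 1]) (.leaf [93140, -147721, 18156, 8838, -125536, -48352, 30908, 29872, 30020, 4917, 9666, 836, -1450, 1, 0, -1, -1])) (.node (.leaf [0, 1]) (.leaf [73, -50, -29, 14, -37, -50, 28, 2, 14, 4, 5])))) (.node (.node (.node (.leaf [0, 1]) (.leaf [])) (.node (.leaf []) (.leaf [0, -1, 0, -2, 0, 0, 0, 0, 0, 1]))) (.node (.node (.leaf []) (.leaf [])) (.node (.leaf [-154, 13, -65, -97, 88, 42, 39, 16, -22, 5, -8, 4, -1]) (.leaf [0, 1])))))))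

def twoL126 : Janko.Tree (List ℤ) :=
  (.node (.node (.node (.node (.node (.node (.leaf [0, 0, 1]) (.leaf [-169, 48, 24, -59, 72, 107, -44, 4, -17, -2, -9])) (.node (.leaf [0, 0, 1, 1, 0, 0, -1]) (.leaf [-44, -90, 22, 11, -20, 3, -30, 23, 6, 8, 8]))) (.node (.node (.leaf [0, 0, 1]) (.leaf [0, 0, 1])) (.node (.leaf [0, -2, -1, 0, 0, 0, 0, 0, 1]) (.leaf [-48658, -19618, 1822, -32498, 4187, 27460, -2346, 8388, -2886, 3750, 615, -498, 440, 0, 1, 0, 1])))) (.node (.node (.node (.leaf [0, 0, 1, 1, 0, 0, -1]) (.leaf [-1, 2, 1, 0, 1, 0, 0, 0, -1])) (.node (.leaf [159, -62, -86, 50, -49, -119, 61, -10, 22, 4, 15]) (.leaf [0, 0, 0, -1, 0, 0, 1]))) (.node (.node (.leaf [143, -54, -72, 21, -53, -93, 64, -8, 22, 4, 9]) (.leaf [0, 0, 1])) (.node (.leaf [0, 0, 0, -1, 0, 0, 1]) (.leaf [4, -2, -2, -1, -2, -2, 3, 0, 1]))))) (.node (.node (.node (.node (.leaf []) (.leaf [67, -30, -58, 15, -15, -53, 34, -7, 13, 2, 7])) (.node (.leaf [-2, -2, -2, -3, 0, 2, 1, 0, 1]) (.leaf [-502, 282,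 319, -132, 167, 403, -223, 14, -83, -24, -48]))) (.node (.node (.leaf [-5, 2, 0, -1, 3, 2, -1, 0, -1]) (.leaf [0, 0, 0, -1, 0, 0, 1])) (.node (.leaf [0, 0, 0, -1, 0, 0, 1]) (.leaf [0, 0, 1])))) (.node (.node (.node (.leaf [0, 0, 1]) (.leaf [246, -454, -183, -16, -230, -243, 175, 66, 71, 42, 48])) (.node (.leaf [0, 0, 1]) (.leaf [0, 0, 0, -1, 0, 0, 1]))) (.node (.node (.leaf [357, -834, -1003, -258, -181, -494, 586, 36, 189, 68, 109, 14, 1]) (.leaf [0, 0, 1])) (.node (.leaf []) (.leaf [35822, -337076, -86617, -107588, -179735, -65674, 126854, 74605, 43622, 21102, 27107, 3082, -980, 0, -1, 0, -1])))))) (.node (.node (.node (.node (.node (.leaf [0, 0, 0, -1, 0, 0, 1]) (.leaf [0, 0, 1])) (.node (.leaf [576, -46, -251, 81, -132, -320, 205, -80, 67, 15, 19, -1, 3]) (.leaf [-5, 2, 0, -1, 3, 2, -1, 0, -1]))) (.node (.node (.leaf [0, 0, 1, 1, 0, 0, -1]) (.leaf [-104, 66, 51, -8, 49, 63, -47, 0, -25, -7, -4, 0, 3])) (.node (.leaf [0, 0, 0, -1, 0, 0, 1]) (.leaf [-46760, -73104,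 30100, -22609, -42513, 38382, -13013, 23591, 13550, -816, 791, 1064, -1628, 0, -1, 0, -1])))) (.node (.node (.node (.leaf [0, 0, 1]) (.leaf [0, 0, 1])) (.node (.leaf [0, 0, 1]) (.leaf [302, -120, -116, 84, -131, -231, 139, 3, 25, 4, 28, -1, 1]))) (.node (.node (.leaf [0, 0, 1]) (.leaf [-81, 34, 27, -17, 37, 49, -28, 3, -13, -2, -5])) (.node (.leaf [0, 0, 0, -1, 0, 0, 1]) (.leaf [-2691, -1616, -1022, -2449, 69, 1486, 619, 464, 76, 169, 96, 8, -5, 1]))))) (.node (.node (.node (.node (.leaf [-5, 2, 0, -1, 3, 2, -1, 0, -1]) (.leaf [0, 0, 0, -1, 0, 0, 1])) (.node (.leaf []) (.leaf [1, -2, 0, 0, -1, 0, 0, 0, 1]))) (.node (.node (.leaf []) (.leaf [0, 0, 1, 1, 0, 0, -1])) (.node (.leaf []) (.leaf [0, 0, 1, 1, 0, 0, -1])))) (.node (.node (.node (.leaf []) (.leaf [-530, 302, 318, -121, 186, 424, -243, 9, -81, -30, -49])) (.node (.leaf [-1136, 650, -402, -391, 846, 606, -151, -150, -128, -36, -15, 7, -3]) (.leaf [-184, 2012, 1146, 1275, 1049, 259, -1180, -328, -259, -179, -242,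 8, -6]))) (.node (.node (.leaf [0, 0, 1, 1, 0, 0, -1]) (.leaf [0, 0, 1])) (.node (.leaf [0, -2, -1, 0, 0, 0, 0, 0, 1]) (.leaf [23926, -37522, -6389, -8746, -27156, -18057, 18127, 7023, 3506, 4302, 3894, -274, 310, 0, 0, -1])))))))

def twoL127 : Janko.Tree (List ℤ) :=
  (.node (.node (.node (.node (.node (.node (.leaf []) (.leaf [0, 0, 0, 1])) (.node (.leaf [0, 0, 0, 1]) (.leaf [0, 0, 0, 1]))) (.node (.node (.leaf []) (.leaf [744, -342, -408, 112, -305, -535, 381, -17, 106, 18, 61, 4, -1])) (.node (.leaf [0, 0, 0, 1]) (.leaf [-196952, 91276, 41265, -44891, 99914, 125806, -66533, -1060, -23046, -8272, -14341, 1017, 64, 0, 1, 0, 1])))) (.node (.node (.node (.leaf [0, 0, 0, 1]) (.leaf [0, 0, 0, 1])) (.node (.leaf []) (.leaf [0, 0, 0, 1]))) (.node (.node (.leaf [0, 0, 0, 1]) (.leaf [])) (.node (.leaf [0, 0, 0, 1]) (.leaf [4709, -3996, -408, 980, -3449, -2996, 1397, 454, 732, 402, 502, -88, -4, -1]))))) (.node (.node (.node (.node (.leaf []) (.leaf [])) (.node (.leaf [690,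 -312, -322, -19, -296, -394, 317, -44, 108, 49, 44, 0, -1]) (.leaf [105093, -158092, 13564, 12180, -132132, -58588, 36256, 31339, 32152, 5555, 10479, 996, -1475, 1, -1, -1, -1]))) (.node (.node (.leaf []) (.leaf [0, 0, 0, 1])) (.node (.leaf [0, 0, 0, 1]) (.leaf [-779, 180, 1070, -156, -103, 963, -765, 33, -77, 26, -25, -48, 1])))) (.node (.node (.node (.leaf []) (.leaf [])) (.node (.leaf [1008, 34, -642, 298, -37, -707, 381, -180, 100, 15, 49, -1]) (.leaf [0, 0, 0, 1]))) (.node (.node (.leaf [0, 0, 0, 1]) (.leaf [])) (.node (.leaf []) (.leaf [-1098, 360, 398, -247, 423, 724, -429, 40, -128, -28, -68, 4])))))) (.node (.node (.node (.node (.node (.leaf [0, 0, 0, 1]) (.leaf [])) (.node (.leaf [398, -222, 31, 71, -254, -232, 120, 40, 51, 15, -1, 5, 1]) (.leaf [-66723, 10632, -21868, -14812, 31043, 34679, -6751, 1037, 2002, -6402, -1797, 1261, -1417, 1, -1, -1, -1]))) (.node (.node (.leaf [0, 0, 0, 1]) (.leaf [0, 0, 0, 1])) (.node (.leaf [0, 0, 0, 1]) (.leaf [0, 0, 0, 1]))))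 (.node (.node (.node (.leaf []) (.leaf [-92, 50, 36, -26, 37, 59, -25, 3, -16, -7, -8, 3])) (.node (.leaf []) (.leaf [172, -66, -40, 54, -73, -135, 69, 5, 8, 7, 14, -1]))) (.node (.node (.leaf []) (.leaf [])) (.node (.leaf [0, 0, 0, 1]) (.leaf [0, 0, 0, 1]))))) (.node (.node (.node (.node (.leaf []) (.leaf [0, 0, 0, 1])) (.node (.leaf []) (.leaf [0, 0, 0, 1]))) (.node (.node (.leaf []) (.leaf [0, 0, 0, 1])) (.node (.leaf [207, -50, 43, 79, -119, -123, 44, 9, 6, 1, 10, -1]) (.leaf [0, 0, 0, 1])))) (.node (.node (.node (.leaf []) (.leaf [105150, -158154, 13561, 12200, -132179, -58630, 36270, 31349, 32163, 5558, 10485, 996, -1474, 1, -1, -1, -1])) (.node (.leaf [0, 0, 0, 1]) (.leaf [0, 0, 0, 1]))) (.node (.node (.leaf [0, 0, 0, 1]) (.leaf [70, -10, -34, 39, -21, -51, 23, -6, 8, -4, 8, -1])) (.node (.leaf [0, 0, 0, 1]) (.leaf [4500, -4850, -1296, 771, -3412, -3303, 1777, 573, 868, 458, 606, -72, -8, -1])))))))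

def twoL128 : Janko.Tree (List ℤ) :=
  (.node (.node (.node (.node (.node (.node (.leaf [-1, 0, 0, -1, 0, 1]) (.leaf [])) (.node (.leaf [10, 2, 15, 4, -8, 1, -5, 0, 0, 0, -1]) (.leaf [-46, 34, 94, 47, 23, 30, -77, 3, -14, 0, -6]))) (.node (.node (.leaf [1, 0, 0, 1, 0, -1]) (.leaf [338, -120, -112, 51, -119, -248, 155, 1, 28, 17, 10, 4])) (.node (.leaf [-113, 62, 12, 21, 67, 64, -59, -8, -10, -12, 0, -1]) (.leaf [1])))) (.node (.node (.node (.leaf [-8, -2, -1, -5, 1, 5, 0, 1]) (.leaf [-40851, 208980, 26009, 75374, 132970, 47789, -88211, -51789, -18891, -15486, -16334, -1831, -159, 0, 1, 0, 1])) (.node (.leaf [-168, 74, 21, -40, 88, 91, -43, 0, -28, -4, -5]) (.leaf [70, -8, -37, 37, -19, -51, 24, -7, 8, -4, 8, -1]))) (.node (.node (.leaf []) (.leaf [1351, 3370, -6, 1637, 1419, -552, -521, -961, -341, -231, -101, -47, -4, 0, 1])) (.node (.leaf [1]) (.leaf [-2, 0, -1, -1, 1, 1]))))) (.node (.node (.node (.node (.leaf [0, 0, -1, 0, 1]) (.leaf [95, -30, 10, 43, -51, -72,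 29, 9, 1, 0, 5])) (.node (.leaf [4, 2, -1, 3, 1, -3, 0, -1]) (.leaf [-98, 34, -16, -45, 57, 74, -29, -11, -1, 0, -5]))) (.node (.node (.leaf [1, 0, 0, 1, 0, -1]) (.leaf [-933, 430, 177, -302, 511, 586, -300, -30, -138, 6, -55, 3, -1])) (.node (.leaf [-30, 28, 1, -2, 13, 22, -6, -3, -4, -8, 0, 1]) (.leaf [-9, -6, -1, -5, 1, 3, 0, 2, 0, 0, 0, 1])))) (.node (.node (.node (.leaf [-1008, 502, 245, -297, 513, 659, -334, -25, -154, -15, -58, 1]) (.leaf [0, 0, 0, -1, 0, 1])) (.node (.leaf [67, -30, -39, 16, -22, -47, 27, -4, 12, 2, 5]) (.leaf [20463, -12648, 2238, 1437, -15344, -11711, 7266, 2004, 1434, 1490, 1382, -90, 104, 0, 1]))) (.node (.node (.leaf [-4, -2, 0, -3, 0, 3, 0, 1]) (.leaf [1, 0, 0, 1, 0, -1])) (.node (.leaf [-773, -198, 483, -222, -44, 501, -275, 183, -56, -3, -26, 1]) (.leaf [-98451, -740880, -346454, -343148, -253550, -103330, 310226, 158349, 78156, 63694, 65809, 3508, 924, 0, -1, 0, -1])))))) (.node (.node (.node (.node (.node (.leaf []) (.leaf [-153,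 0, 92, -39, 19, 88, -51, 29, -20, -3, -10, 4])) (.node (.leaf [-972, -2098, -1472, 82, -192, 313, -43, 315, 844, -164, 66, 45, -57]) (.leaf [-243204, 295236, 41426, 77097, 241261, 186102, -181751, -60601, -14740, -36624, -31553, 75, -4175, 1, -1, -1, -1]))) (.node (.node (.leaf []) (.leaf [-74, 26, 48, -17, 19, 52, -31, 7, -13, -2, -5])) (.node (.leaf [59747, 40324, 32169, 12524, -8472, -30195, 7287, -7613, -15949, 4078, -1792, -1135, 2249, 0, 1, 0, 1]) (.leaf [-50276, -1462, -69675, 7988, 48050, 17555, -10443, -10108, 15802, -5052, 2587, -143, -2355, 0, -1, 0, -1])))) (.node (.node (.node (.leaf [-1, 0, 0, -1, 0, 1]) (.leaf [53, -58, -9, 94, 9, -76, -38, 1, 7, 14, 11, -5, 1])) (.node (.leaf [4, -2, 3, 2, -3, -2, 0, 1]) (.leaf [-75, 18, 44, -22, 15, 53, -27, 9, -11, -2, -5]))) (.node (.node (.leaf [-1, 0, 0, -1, 0, 1]) (.leaf [0, 0, 0, -1, 0, 1])) (.node (.leaf [4, -2, 4, 1, -4, -1, 0, 1]) (.leaf [-46724, -242794, -202377, -130293, -36088, -60928, 135253, 42898, 22298,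 26138, 28217, 755, 1091, 0, 1, 0, 1]))))) (.node (.node (.node (.node (.leaf [1, 0, 0, 1, 0, -1]) (.leaf [-3, -4, -9, -6, 5, 2, 0, -2, 2, 2])) (.node (.leaf [47, -58, -51, 28, -28, -51, 27, 5, 14, -1, 12, -1]) (.leaf [1093, -364, -398, 241, -423, -720, 429, -39, 128, 29, 68, -4]))) (.node (.node (.leaf [0, 0, -1, 0, 1]) (.leaf [])) (.node (.leaf [0, 0, -1, 0, 1]) (.leaf [4804, -4050, -415, 992, -3498, -3077, 1441, 465, 733, 408, 505, -84, -2, -1])))) (.node (.node (.node (.leaf [1]) (.leaf [104623, -157854, 14247, 12343, -132059, -58259, 35856, 31447, 32051, 5500, 10399, 1002, -1472, 1, -1, -1, -1])) (.node (.leaf [-3, 6, -7, -2, 7, 2, 0, -3]) (.leaf [189960, -231786, 44600, -30082, -207930, -106996, 76166, 45013, 19164, 31088, 21260, -3790, 3158, 0, 0, 1, 1]))) (.node (.node (.leaf []) (.leaf [0, 0, 0, -1, 0, 1])) (.node (.leaf [371, -64, 32, 90, -195, -121, 35, -30, 48, 11, 16, -13]) (.leaf [-1, 0, -1, -1, 1, 1])))))))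

def twoL129 : Janko.Tree (List ℤ) :=
  (.node (.node (.node (.node (.node (.node (.leaf [2, -2, -6, -2, 2, 0, 0, -2, 2, 1]) (.leaf [0, 1])) (.node (.leaf [0, 1]) (.leaf []))) (.node (.node (.leaf []) (.leaf [0, 2, 0, 2, 0, 0, 0, 0, 0, -1])) (.node (.leaf [0, 1]) (.leaf [-104307, -24432, -12863, -58652, 27685, 54398, -6778, 11310, -5337, 5853, 727, -925, 588, -1, 1, 0, 1])))) (.node (.node (.node (.leaf [0, 1]) (.leaf [0, 1])) (.node (.leaf [0, 2, 2, 0, 0, 0, 0, 0, -1]) (.leaf [0, 1]))) (.node (.node (.leaf [0, 1]) (.leaf [6, -5, -2, -2, -4, -2, 2, 0, 2, 1])) (.node (.leaf []) (.leaf [-282, 34, 88, -48, 92, 188, -124, 17, -14, -2, -12, -4, -2]))))) (.node (.node (.node (.node (.leaf []) (.leaf [])) (.node (.leaf []) (.leaf []))) (.node (.node (.leaf []) (.leaf [0, 1])) (.node (.leaf [0, 1]) (.leaf [0, -1, 0, -2, 0, 0, 0, 0, 0, 1])))) (.node (.node (.node (.leaf []) (.leaf [-625, 574, 455, 136, 374, 413, -417, -12, -141, -68, -68, -1, 3])) (.node (.leaf [0, 1]) (.leaf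 [-238790, 295005, 41226, 78676, 239702, 183580, -180788, -60876, -14468, -36610, -31424, 54, -4178, 1, 0, -1, -1]))) (.node (.node (.leaf [0, 1]) (.leaf [-139, 55, 65, -16, 53, 84, -56, 10, -22, -6, -9])) (.node (.leaf []) (.leaf [-3866, -258265, -53390, -97642, -134966, -27100, 89242, 61074, 30491, 16428, 19818, 2074, -752, 0, 0, 0, -1])))))) (.node (.node (.node (.node (.node (.leaf [0, 1]) (.leaf [0, -1, 0, -2, 0, 0, 0, 0, 0, 1])) (.node (.leaf [0, 1]) (.leaf [-24776, 16471, -1398, -2434, 18308, 14744, -8698, -2422, -2131, -1867, -1876, 160, -99, 1, -1]))) (.node (.node (.leaf [0, 1]) (.leaf [])) (.node (.leaf [0, 1]) (.leaf [0, 1])))) (.node (.node (.node (.leaf [4, 7, 6, 4, -2, -2, 0, 0, -2, -1]) (.leaf [0, 1])) (.node (.leaf []) (.leaf []))) (.node (.node (.leaf [-2, 2, 0, 0, 0, 2, 0, 0, 0, -1]) (.leaf [])) (.node (.leaf [-135, 63, 65, -28, 51, 90, -52, 6, -23, -5, -9]) (.leaf [0, -1, 0, -2, 0, 0, 0, 0, 0, 1]))))) (.node (.node (.node (.node (.leaf []) (.leaf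 [0, 1])) (.node (.leaf []) (.leaf [0, 1]))) (.node (.node (.leaf []) (.leaf [0, 1])) (.node (.leaf []) (.leaf [0, 1])))) (.node (.node (.node (.leaf []) (.leaf [-782, 530, 477, 47, 418, 532, -475, -2, -129, -53, -82, 0, 1])) (.node (.leaf [0, 1]) (.leaf [0, 1]))) (.node (.node (.leaf [0, 1]) (.leaf [])) (.node (.leaf [0, 1]) (.leaf [76672, 16588, 20035, 10117, -22489, -44175, 19426, -4904, -11874, 6364, 1168, -1268, 2220, -1, 1, 0, 1])))))))

def twoL130 : Janko.Tree (List ℤ) :=
  (.node (.node (.node (.node (.node (.node (.leaf [0, 0, 1, 1, 0, 0, -1]) (.leaf [1317, -598, -869, 98, -424, -1229, 993, 77, 95, 39, 58, 33, -3])) (.node (.leaf [0, -2, 15, 4, -5, 3, -7, 2, 0, 0, -1]) (.leaf [0, 0, 0, -1, 0, 0, 1]))) (.node (.node (.leaf [0, 0, 1, 1, 0, 0, -1]) (.leaf [474, -186, -215, 75, -195, -343, 246, -1, 54, 8, 29, 4, -1])) (.node (.leaf []) (.leaf [-968, 786, -11, -272, 709, 656, -310, -159, -159, -39, -38, -1, 3])))) (.node (.node (.node (.leaf []) (.leaf [1447, 199298,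 33840, 83891, 109294, 25142, -77593, -51058, -17997, -13811, -14874, -2010, 101, 0, 1, 0, 1])) (.node (.leaf [0, 0, 1]) (.leaf []))) (.node (.node (.leaf []) (.leaf [0, 0, 1, 1, 0, 0, -1])) (.node (.leaf [-5, -6, 1, -1, -1, 2, -1, 2, 1]) (.leaf [0, 0, 0, -1, 0, 0, 1]))))) (.node (.node (.node (.node (.leaf [0, 0, 1]) (.leaf [0, 0, 0, -1, 0, 0, 1])) (.node (.leaf [0, 0, 1]) (.leaf [-12, -8, 26, -3, -9, 15, -12, 6, 1, 0, -3]))) (.node (.node (.leaf [-6, -2, 4, -4, -2, 4, 0, 2, -1]) (.leaf [-827, 364, 99, -265, 467, 508, -253, -32, -111, 4, -44, 2, -1])) (.node (.leaf []) (.leaf [-761, 184, 1077, -147, -109, 955, -766, 31, -77, 26, -25, -48, 1])))) (.node (.node (.node (.leaf [0, 0, 1, 1, 0, 0, -1]) (.leaf [244, -392, -222, -7, -182, -245, 176, 44, 66, 38, 48])) (.node (.leaf [83, -38, -45, 24, -29, -65, 37, -2, 12, 2, 7]) (.leaf [0, -2, -2, 0, 0, 0, 0, 0, 1]))) (.node (.node (.leaf []) (.leaf [0, 0, 1, 1, 0, 0, -1])) (.node (.leaf [0, 0, 1]) (.leaf [0, 0, 1])))))) (.node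 (.node (.node (.node (.node (.leaf []) (.leaf [0, 0, 1, 1, 0, 0, -1])) (.node (.leaf []) (.leaf [-4, 2, 0, -2, 2, 2, 0, 0, -1]))) (.node (.node (.leaf []) (.leaf [-240, 80, 142, -71, 63, 175, -92, 22, -35, -6, -21])) (.node (.leaf [5427, 31864, 82505, -10674, -19833, 13025, -11759, 7091, -21129, 2236, -6598, 197, 2271, 0, 1, 0, 1]) (.leaf [-1350, 1128, 717, -224, 731, 1115, -695, -91, -239, -76, -136, -21, -1])))) (.node (.node (.node (.leaf [0, 0, 1, 1, 0, 0, -1]) (.leaf [-315, 84, 142, -55, 123, 203, -154, 11, -35, -2, -21, 4, 1])) (.node (.leaf [0, 0, 1, 1, 0, 0, -1]) (.leaf [0, 0, 1]))) (.node (.node (.leaf [0, 0, 1, 1, 0, 0, -1]) (.leaf [-32, 22, 6, -11, 22, 27, -16, -5, -3, 0, -3])) (.node (.leaf [0, 0, 1]) (.leaf [18312, -68510, -20426, -24763, -37974, -20074, 30665, 13550, 7197, 6941, 6422, -104, 249, 1, 0, -1]))))) (.node (.node (.node (.node (.leaf [-6, -2, 2, -2, 0, 2, 0, 2, -1]) (.leaf [])) (.node (.leaf [0, 0, 1]) (.leaf [12206, -346656, -49155, -109927,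 -193579, -38699, 105406, 81949, 44610, 19787, 25159, 2928, -1105, 0, 0, 0, -1]))) (.node (.node (.leaf [0, 0, 1]) (.leaf [])) (.node (.leaf [0, 0, 1]) (.leaf [-4, 2, 3, 1, 2, 2, -3, 0, -1])))) (.node (.node (.node (.leaf []) (.leaf [-218, 146, 126, 95, 168, 154, -225, -26, -9, -13, -26, 0, 1])) (.node (.leaf []) (.leaf [0, -2, -2, -1, 0, 0, 1, 0, 1]))) (.node (.node (.leaf []) (.leaf [1, -2, 0, 0, -1, 0, 0, 0, 1])) (.node (.leaf [-30760, 18992, 11743, -2411, 16805, 22143, -15876, -1278, -3411, -1945, -2879, 63, -46, -1, 0, 1]) (.leaf [0, 0, 0, -1, 0, 0, 1])))))))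

def twoL131 : Janko.Tree (List ℤ) :=
  (.node (.node (.node (.node (.node (.node (.leaf [0, 0, 0, 1]) (.leaf [-273, 24, -69, -76, 154, 55, 11, 31, -38, -6, -10, 11])) (.node (.leaf []) (.leaf [0, 0, 0, 1]))) (.node (.node (.leaf [0, 0, 0, 1]) (.leaf [0, 0, 0, 1])) (.node (.leaf []) (.leaf [64, -20, -27, 32, -29, -46, 24, -1, 8, -4, 8, -1])))) (.node (.node (.node (.leaf []) (.leaf [-106877, 236814, 32, 65829, 182672, 78480, -101436, -56882, -21007, -19717, -19082, -1174, -545, 0, 1, 0, 1])) (.node (.leaf [-130, -1734, -765, -628, -566, -376, 680, 370, 188, 152, 147, 19, -9]) (.leaf [86, -12, -47, 41, -15, -64, 26, -11, 10, 0, 8, -1]))) (.node (.node (.leaf []) (.leaf [0, 0, 0, 1])) (.node (.leaf [104321, -158278, 13690, 11972, -132082, -58202, 36162, 31516, 32133, 5498, 10456, 1010, -1474, 1, -1, -1, -1]) (.leaf [0, 0, 0, 1]))))) (.node (.node (.node (.node (.leaf []) (.leaf [0, 0, 0, 1])) (.node (.leaf []) (.leaf [0, 0, 0, 1]))) (.node (.node (.leaf [0, 0, 0, 1])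 (.leaf [-845, 348, 189, -279, 419, 542, -268, -8, -117, 2, -52, 2, -1])) (.node (.leaf [154, -44, -79, 68, -45, -113, 52, -11, 20, 0, 16, -3]) (.leaf [0, 0, 0, 1])))) (.node (.node (.node (.leaf [0, 0, 0, 1]) (.leaf [0, 0, 0, 1])) (.node (.leaf []) (.leaf [0, 0, 0, 1]))) (.node (.node (.leaf [65, -12, -19, -15, -25, -29, 32, -6, 6, 5, 0, 1]) (.leaf [0, 0, 0, 1])) (.node (.leaf [-812, -58, 500, -243, 7, 557, -285, 154, -80, -15, -31, 1]) (.leaf [1345, -706, -180, 172, -795, -863, 565, 82, 115, 84, 93, -18, -3])))))) (.node (.node (.node (.node (.node (.leaf []) (.leaf [0, 0, 0, 1])) (.node (.leaf []) (.leaf [0, 0, 0, 1]))) (.node (.node (.leaf []) (.leaf [0, 0, 0, 1])) (.node (.leaf []) (.leaf [])))) (.node (.node (.node (.leaf [0, 0, 0, 1]) (.leaf [245, -144, -48, 129, -87, -203, 45, 13, 27, 22, 17, -8, 1])) (.node (.leaf [0, 0, 0, 1]) (.leaf [134966, 142316, 218149, 165838, -43237, 27592, -146698, -35730, 7366, -16819, -19428, -4502, -2045, 1, -1, -1, -1]))) (.node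 (.node (.leaf [0, 0, 0, 1]) (.leaf [0, 0, 0, 1])) (.node (.leaf []) (.leaf [0, 0, 0, 1]))))) (.node (.node (.node (.node (.leaf [0, 0, 0, 1]) (.leaf [591, -706, -390, -21, -438, -469, 373, 72, 138, 52, 84, 2, 5])) (.node (.leaf [171, -84, -114, 71, -51, -147, 73, -6, 26, 3, 20, -1]) (.leaf [1833, -660, -816, 389, -661, -1323, 829, -47, 206, 49, 118, 4]))) (.node (.node (.leaf []) (.leaf [])) (.node (.leaf [-847, 456, 610, -34, 277, 591, -427, 67, -152, -66, -78, 1]) (.leaf [4912, -3982, -441, 1004, -3520, -3112, 1485, 439, 735, 398, 505, -84, -2, -1])))) (.node (.node (.node (.leaf [-70, 94, 167, -9, -9, 101, -74, 4, -28, -8, -14, -1]) (.leaf [0, 0, 0, 1])) (.node (.leaf []) (.leaf [32, 1338, 148, 567, 793, 15, -424, -332, -170, -79, -88]))) (.node (.node (.leaf []) (.leaf [0, 0, 0, 1])) (.node (.leaf [-30864, 19372, 11881, -2315, 17001, 22267, -16031, -1346, -3459, -1979, -2921, 65, -46, -1, 0, 1]) (.leaf [0, 0, 0, 1])))))))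

def twoL132 : Janko.Tree (List ℤ) :=
  (.node (.node (.node (.node (.node (.node (.leaf [-7, -6, 0, -2, 0, 2, 0, 3]) (.leaf [15, 6, 3, 5, -3, -5, 0, -3])) (.node (.leaf [3, 0, 1, 1, -1, -1]) (.leaf [1]))) (.node (.node (.leaf []) (.leaf [-5, -2, 0, -3, 0, 3, 0, 1])) (.node (.leaf [0, 0, 0, -1, 0, 1]) (.leaf [-1479, 630, 406, -348, 692, 960, -554, -13, -195, -35, -78, 5, 1])))) (.node (.node (.node (.leaf [0, 0, -1, 0, 1]) (.leaf [236, -88, -118, 66, -76, -164, 86, -16, 36, 6, 18])) (.node (.leaf [1, 0, 0, 1, 0, -1]) (.leaf [1]))) (.node (.node (.leaf [-234, 222, -187, -104, 245, 126, 2, -70, -30, -12, 1, 1, -1]) (.leaf [2265, -1684, -1432, 217, -1048, -1723, 1154, 5, 410, 177, 251, -3, 2, 0, 1])) (.node (.leaf [104314, -158274, 13668, 11979, -132074, -58223, 36184, 31522, 32123, 5496, 10462, 1008, -1474, 1, -1, -1, -1]) (.leaf [1]))))) (.node (.node (.node (.node (.leaf [2, 0, 0, 1, 0, -1]) (.leaf [-48230, 266218, 16970, 82918, 170740, 45294, -87426, -62270, -29944,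 -19567, -20502, -1130, 304, 0, 1, 0, 1])) (.node (.leaf [-55, 14, 45, -25, 15, 41, -24, 7, -10, 3, -8, 1]) (.leaf [-189603, 231496, -44840, 30186, 207770, 106686, -75996, -45003, -19094, -31068, -21213, 3790, -3160, 0, 0, -1, -1]))) (.node (.node (.leaf [559, -398, 3, 104, -387, -344, 172, 60, 78, 34, 27, -1, 1]) (.leaf [1])) (.node (.leaf [1]) (.leaf [-4, -2, 0, -3, 0, 3, 0, 1])))) (.node (.node (.node (.leaf []) (.leaf [618, -620, -380, 7, -375, -486, 351, 44, 124, 64, 78])) (.node (.leaf [1]) (.leaf [3, 0, 1, 1, -1, -1]))) (.node (.node (.leaf [0, 0, -1, 0, 1]) (.leaf [-66546, -218236, -195932, -125004, -18082, -45228, 120590, 38471, 20210, 23094, 25616, 841, 886, -1, 1, 1, 1])) (.node (.leaf [49, 534, -140, 158, 378, -67, -55, -161, -68, -16, -20, 1, -3]) (.leaf [-1839, 656, 816, -394, 661, 1327, -829, 48, -206, -48, -118, -4])))))) (.node (.node (.node (.node (.node (.leaf [-18, -2, -11, -5, 11, 5, 0, 1]) (.leaf [2, -2, 0, 3, 0, -3, 0, 1])) (.node (.leaf [0, 0,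 -1, 0, 1]) (.leaf [3, 0, -18, 5, 8, -11, 6, -2, 0, 0, 2]))) (.node (.node (.leaf [1]) (.leaf [-120060, 22386, -45323, -1156, 70665, 66574, -37130, -6257, 13108, -12398, -3900, 1568, -3314, 0, 0, -1, -1])) (.node (.leaf [1]) (.leaf [-50116, -134672, 46356, -55955, -83548, 39461, 2150, 42033, 13762, 7082, 4369, 700, -610, 0, -1, 0, -1])))) (.node (.node (.node (.leaf [-15, -2, -7, -7, 7, 7, 0, 1]) (.leaf [58523, 2728, 26252, 17365, -22047, -28916, 759, -2852, -4107, 5097, 199, -1127, 1426, 0, 0, 1, 1])) (.node (.leaf [3, 0, 1, 1, -1, -1]) (.leaf [322, -132, -203, 229, -2, -276, 13, -46, 72, 15, 23, 1, 1]))) (.node (.node (.leaf []) (.leaf [])) (.node (.leaf [6, -2, 5, 2, -5, -2, 0, 1]) (.leaf [0, 0, -1, 0, 1]))))) (.node (.node (.node (.node (.leaf []) (.leaf [63, -30, -34, 11, -25, -42, 27, -3, 11, 2, 5])) (.node (.leaf []) (.leaf [1]))) (.node (.node (.leaf [2, 0, 0, 1, 0, -1]) (.leaf [1])) (.node (.leaf []) (.leaf [556, 2166, 565, 1520, 1199, -376, -858, -485, -254,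 -142, -201, -3, 2, 0, -1])))) (.node (.node (.node (.leaf [1, 0, 1, 0, -1]) (.leaf [-61, 26, 38, -14, 19, 43, -25, 5, -11, -2, -5])) (.node (.leaf [348, -244, -132, 122, -169, -219, 81, 3, 86, 17, 25, -8, -1, 1]) (.leaf [24152, -123690, -87271, -80867, -39533, -61057, 92648, 23115, -2162, 22802, 16254, -1150, 2986, 0, 0, 1, 1]))) (.node (.node (.leaf [-1235, 34, -9, -406, 409, 628, -174, 121, -77, -40, -37, 15, 1]) (.leaf [80867, -51070, -16989, 5170, -50929, -54920, 38918, 5894, 7604, 5165, 6621, -24, 275, 0, 1, -1])) (.node (.leaf [0, 0, 0, -1, 0, 1]) (.leaf [90, -22, -39, 40, -25, -66, 28, -6, 10, 0, 8, -1])))))))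

def twoL133 : Janko.Tree (List ℤ) :=
  (.node (.node (.node (.node (.node (.node (.leaf [0, 1]) (.leaf [])) (.node (.leaf []) (.leaf [-628, 271, -237, -417, 426, 388, -37, -91, -73, 30, -4, 2, 1]))) (.node (.node (.leaf [0, 1]) (.leaf [0, 1])) (.node (.leaf []) (.leaf [222409, -70650, 6317, 39378, -119114, -137743, 74765, 6374, 6257, 9979, 10894, -44, 1865, -1, 1, 1, 1])))) (.node (.node (.node (.leaf []) (.leaf [])) (.node (.leaf []) (.leaf [-60, 45, 95, -35, 7, 71, -44, 3, -16, 3, -13, 1]))) (.node (.node (.leaf []) (.leaf [0, 1])) (.node (.leaf [-256, 196, 117, -205, 64, 268, -39, -14, -48, -13, -24, 0, 1]) (.leaf [83905, -34106, -15313, -4748, -40159, -62500, 45830, 3407, -3686, 9478, 6623, -653, 1884, -1, 1, 0, 1]))))) (.node (.node (.node (.node (.leaf []) (.leaf [0, 1])) (.node (.leaf []) (.leaf [0, 1]))) (.node (.node (.leaf [0, 1]) (.leaf [])) (.node (.leaf [-96268, 147276, -18812, -9902, 126587, 50061, -31411, -29659, -29875, -4996, -9730, -801, 1423, -1,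 0, 1, 1]) (.leaf [0, 1])))) (.node (.node (.node (.leaf [0, 1]) (.leaf [])) (.node (.leaf []) (.leaf [-282842, 299775, 21748, 58792, 258951, 197033, -170029, -56358, -18204, -40408, -32427, 2214, -4704, 1, 0, -1, -1]))) (.node (.node (.leaf []) (.leaf [0, 1])) (.node (.leaf [0, 1]) (.leaf [0, -1, 0, -2, 0, 0, 0, 0, 0, 1])))))) (.node (.node (.node (.node (.node (.leaf []) (.leaf [0, 1])) (.node (.leaf [-92310, 145720, -18914, -9600, 124322, 47708, -29920, -29576, -29744, -4702, -9446, -838, 1446, -1, 0, 1, 1]) (.leaf [0, 1]))) (.node (.node (.leaf []) (.leaf [0, 1])) (.node (.leaf [49150, 70092, -29896, 22776, 40139, -40009, 13841, -23068, -13223, 1185, -451, -1121, 1632, -1, 1, 0, 1]) (.leaf [-49230, -69629, 30034, -22876, -39950, 40120, -13868, 22978, 13095, -1177, 430, 1122, -1633, 1, -1, 0, -1])))) (.node (.node (.node (.leaf [0, 1]) (.leaf [0, 1])) (.node (.leaf []) (.leaf [129714, 127461, 227628, 128788, -83783, 21037, -95905, -15749, -1464, -25833, -19557, 1822,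 -2949, 1, -1, -1, -1]))) (.node (.node (.leaf [0, 1]) (.leaf [0, 1])) (.node (.leaf []) (.leaf [-3, 0, -3, 2, 1, 0, 0, 0, 0, -1, 1]))))) (.node (.node (.node (.node (.leaf [0, 1]) (.leaf [])) (.node (.leaf [0, 1]) (.leaf []))) (.node (.node (.leaf []) (.leaf [-1377, -49, -441, -544, 628, 601, -85, 59, -46, 0, -2, 17, -3])) (.node (.leaf [0, 1]) (.leaf [0, 1])))) (.node (.node (.node (.leaf []) (.leaf [0, 1])) (.node (.leaf [0, 1]) (.leaf []))) (.node (.node (.leaf []) (.leaf [0, 1])) (.node (.leaf []) (.leaf [0, 1])))))))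

def twoL134 : Janko.Tree (List ℤ) :=
  (.node (.node (.node (.node (.node (.node (.leaf []) (.leaf [70, -30, -41, 15, -23, -51, 32, -3, 11, 2, 5])) (.node (.leaf [0, 0, 0, -1, 0, 0, 1]) (.leaf []))) (.node (.node (.leaf []) (.leaf [28588, 1540, -13317, 6629, -2415, -19845, 10352, -4748, 399, 1851, 2147, -563, 144, -1, 0, 1])) (.node (.leaf [-1, 2, 1, 0, 1, 0, 0, 0, -1]) (.leaf [0, 0, 1])))) (.node (.node (.node (.leaf [0, 0, 1]) (.leaf [81, -30, -51, 24, -21, -61, 33, -7, 13, 2, 7])) (.node (.leaf [-562, 322, 130, -145, 320, 350, -189, -24, -98, -8, -31, 1, -1]) (.leaf [-5, 2, 1, -1, 3, 2, -1, 0, -1]))) (.node (.node (.leaf [0, 0, 1]) (.leaf [-6, 2, 0, -1, 4, 2, -1, 0, -1])) (.node (.leaf [-4, 2, -7, -2, 6, 2, 0, -2, 1]) (.leaf [7101, 61898, -49621, 5499, 57235, -24576, 16241, -19208, -12907, 606, -252, -420, 1232, 0, 0, 0, 1]))))) (.node (.node (.node (.node (.leaf [-4, 0, -1, -1, 2, 2, -1]) (.leaf [47739, 135832, -45747, 55346, 84773, -38077, -2857, -42009, -14161,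 -7154, -4540, -669, 617, 0, 1, 0, 1])) (.node (.leaf [0, 0, 1, 1, 0, 0, -1]) (.leaf []))) (.node (.node (.leaf [102, -244, 244, 88, -241, -68, -26, 108, 16, 2, -5, 0, 1]) (.leaf [])) (.node (.leaf [1031, 162, 181, 512, -329, -473, 37, -102, 65, -28, -6, -7, -3]) (.leaf [2229, 47778, 22275, 13315, 17060, 6044, -14225, -8434, -8884, -2672, -4004, -228, 333, -1, 0, 1])))) (.node (.node (.node (.leaf []) (.leaf [0, 0, 0, -1, 0, 0, 1])) (.node (.leaf [-5, -6, -1, -3, -1, 2, 1, 2, 1]) (.leaf [0, 0, 0, -1, 0, 0, 1]))) (.node (.node (.leaf [0, 0, 1]) (.leaf [-4, 2, 3, 1, 2, 2, -3, 0, -1])) (.node (.leaf []) (.leaf [1873, -894, -453, 315, -957, -1281, 812, 68, 171, 96, 131, -16, -3])))))) (.node (.node (.node (.node (.node (.leaf [0, 0, 0, -1, 0, 0, 1]) (.leaf [])) (.node (.leaf [0, 0, 1]) (.leaf [3, 2, -8, 5, 5, -9, 4, -1, -1, 0, 1]))) (.node (.node (.leaf []) (.leaf [])) (.node (.leaf []) (.leaf [0, 0, 0, -1, 0, 0, 1])))) (.node (.node (.node (.leaf []) (.leaf [588, -28,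 -295, 99, -103, -349, 216, -92, 65, 15, 24, 0, 2])) (.node (.leaf [0, 0, 0, -1, 0, 0, 1]) (.leaf [135398, 129968, 225168, 131861, -83127, 17450, -94983, -17248, -1246, -25921, -19326, 1714, -2957, 1, -1, -1, -1]))) (.node (.node (.leaf [0, 2, 1, -1, 0, 0, 1, 0, -1]) (.leaf [114, -48, -190, 34, 45, -101, 41, -40, 41, 11, 10, 1, 1])) (.node (.leaf [0, 0, 1, 1, 0, 0, -1]) (.leaf [0, 0, 1]))))) (.node (.node (.node (.node (.leaf [496, -554, 58, 238, -474, -346, 114, 130, 118, -4, 32, 0, 1]) (.leaf [199, -48, -59, 90, -79, -123, 47, -15, 27, -4, 19, -3])) (.node (.leaf []) (.leaf [56009, -273624, -20406, -82650, -176113, -50939, 91575, 63024, 31347, 20252, 21434, 1064, -309, 0, -1, 0, -1]))) (.node (.node (.leaf [-4, 0, -1, -1, 2, 2, -1]) (.leaf [-38251, 55380, 9379, 11976, 41217, 28086, -27370, -10131, -5534, -6230, -5679, 284, -400, 0, 0, 1])) (.node (.leaf [54, -86, -68, 31, -15, -80, 33, 10, 14, 8, 11]) (.leaf [-50144, 276382, 20614, 86323, 175944, 47480, -91299, -64020,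 -31401, -20440, -21518, -1102, 290, 0, 0, 0, 1])))) (.node (.node (.node (.leaf [0, 0, 1]) (.leaf [-2, 4, 11, 0, -1, 5, -5, 0, -1, 0, -1])) (.node (.leaf [680, 510, 207, 859, 142, -454, -273, -150, -5, -67, -34, 0, 1]) (.leaf [-398, 704, -176, -201, 531, 275, -40, -178, -131, -17, -26]))) (.node (.node (.leaf [0, 0, 1]) (.leaf [81941, -55934, -19254, 4082, -53049, -56428, 40736, 6655, 8404, 5518, 7103, 10, 277, 0, 1, -1])) (.node (.leaf [-1, 2, 1, 0, 1, 0, 0, 0, -1]) (.leaf [-25671, 88110, -22072, 2208, 71819, 3920, -5328, -19918, -19113, -1436, -4624, -492, 1528, 0, 0, 0, 1])))))))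

def twoL135 : Janko.Tree (List ℤ) :=
  (.node (.node (.node (.node (.node (.node (.leaf []) (.leaf [0, 0, 0, 1])) (.node (.leaf [0, 0, 0, 1]) (.leaf []))) (.node (.node (.leaf []) (.leaf [-31570, 19612, 12335, -2491, 17215, 22767, -16351, -1288, -3571, -1985, -2985, 67, -44, -1, 0, 1])) (.node (.leaf [0, 0, 0, 1]) (.leaf [-195, 438, -160, -64, 331, 145, -47, -137, -64, -18, -1, -2, 3])))) (.node (.node (.node (.leaf []) (.leaf [0, 0, 0, 1])) (.node (.leaf [0, 0, 0, 1]) (.leaf []))) (.node (.node (.leaf [-155, -66, 84, -11, -17, 65, -39, 54, -12, -8, -2, 1]) (.leaf [])) (.node (.leaf [0, 0, 0, 1]) (.leaf [-68, 10, 37, -37, 19, 51, -24, 6, -8, 4, -8, 1]))))) (.node (.node (.node (.node (.leaf [0, 0, 0, 1]) (.leaf [])) (.node (.leaf [0, 0, 0, 1]) (.leaf []))) (.node (.node (.leaf [1012, -560, -330, 42, -525, -602, 423, -4, 152, 70, 63, -2, 1]) (.leaf [98, -30, -43, 36, -25, -70, 28, -8, 12, 4, 8, -1])) (.node (.leaf []) (.leaf [28308, 1618, -13216, 6515, -2339, -19640,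 10274, -4731, 370, 1841, 2126, -559, 144, -1, 0, 1])))) (.node (.node (.node (.leaf []) (.leaf [0, 0, 0, 1])) (.node (.leaf [375, -1304, -1096, -680, -436, -551, 899, 170, 200, 145, 116, 20, 1]) (.leaf [0, 0, 0, 1]))) (.node (.node (.leaf [1021, -746, -678, 40, -467, -735, 529, -18, 198, 84, 110, -1]) (.leaf [175662, -276112, 24768, -49250, -220580, -106515, 89096, 54279, 25278, 34146, 25164, -3727, 2916, -1, 1, 1, 1])) (.node (.leaf [-454, 656, 27, 4, 541, 241, -185, -108, -130, -33, -60, 4, -1]) (.leaf [0, 0, 0, 1])))))) (.node (.node (.node (.node (.node (.leaf [0, 0, 0, 1]) (.leaf [-205, 34, 132, -45, 41, 128, -81, 30, -30, -5, -16, 4])) (.node (.leaf []) (.leaf []))) (.node (.node (.leaf []) (.leaf [])) (.node (.leaf []) (.leaf [0, 0, 0, 1])))) (.node (.node (.node (.leaf []) (.leaf [-974, -2124, -1501, 89, -185, 287, -25, 324, 841, -157, 72, 40, -58])) (.node (.leaf [0, 0, 0, 1]) (.leaf [0, 0, 0, 1]))) (.node (.node (.leaf []) (.leaf [116, -50, -198, 24, 43,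 -101, 51, -40, 42, 12, 10, 1])) (.node (.leaf [0, 0, 0, 1]) (.leaf [-514, -4710, 13807, -5014, -8637, 4831, -2279, 2894, -1286, 1156, -484, -250, 325, 1, 0, -1]))))) (.node (.node (.node (.node (.leaf [634, -906, -78, 182, -662, -476, 249, 186, 178, 22, 66, 0, 1]) (.leaf [0, 0, 0, 1])) (.node (.leaf []) (.leaf [1010, -324, -349, 224, -392, -658, 389, -37, 116, 26, 60, -3]))) (.node (.node (.leaf [0, 0, 0, 1]) (.leaf [])) (.node (.leaf [952, -756, -574, 243, -391, -810, 415, 28, 177, 75, 97, 0, 1]) (.leaf [])))) (.node (.node (.node (.leaf []) (.leaf [])) (.node (.leaf [734, 336, 84, 542, -17, -426, -51, -127, 10, -33, -19, 0, 1]) (.leaf [0, 0, 0, 1]))) (.node (.node (.leaf [-1051, 864, 648, -77, 531, 779, -523, -15, -212, -90, -116, 1]) (.leaf [46615, -57068, -18608, -5251, -41554, -34906, 30278, 8683, 8692, 4889, 6219, 20, 31, 0, 1, -1])) (.node (.leaf [0, 0, 0, 1]) (.leaf [-2, -2, -1, 0, 1, -1, 0, 0, 0, 0, 0, 1])))))))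

def twoL136 : Janko.Tree (List ℤ) :=
  (.node (.node (.node (.node (.node (.node (.leaf [0, 0, -1, 0, 1]) (.leaf [-247, 56, 32, -87, 96, 182, -83, 0, -6, -6, -16, 1, -1])) (.node (.leaf [1]) (.leaf [1, 0, 1, 0, -1]))) (.node (.node (.leaf [275, -46, -106, 66, -69, -177, 95, -25, 28, 9, 12, -1]) (.leaf [0, 0, 0, -1, 0, 1])) (.node (.leaf []) (.leaf [65, -20, -27, 33, -29, -47, 24, -1, 8, -4, 8, -1])))) (.node (.node (.node (.leaf [2, 0, 0, 1, 0, -1]) (.leaf [190291, 30836, -48849, 50242, -20046, -127085, 58467, -27350, -5993, 9685, 8737, -2967, 2470, 0, 0, 1, 1])) (.node (.leaf [1, 6, -5, 0, 5, 0, 0, -3]) (.leaf [1, 0, 0, 1, 0, -1]))) (.node (.node (.leaf [148, -58, -54, 20, -65, -87, 59, -5, 23, 4, 7]) (.leaf [5072, -8070, -3631, -1731, -4997, -4097, 4292, 1095, 1242, 786, 930, -14, -4, 0, 1])) (.node (.leaf []) (.leaf [-5, -2, -1, -4, 1, 2, 0, 0, 0, 0, 0, 1]))))) (.node (.node (.node (.node (.leaf []) (.leaf [1])) (.node (.leaf []) (.leaf [-8149, -13224, -8228, -7708,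 -1208, 1338, 4266, 2903, 1554, 1120, 1103, 4, -72, 0, 0, -1]))) (.node (.node (.leaf [1, 6, -4, -1, 4, 1, 0, -3]) (.leaf [1, 0, 1, 0, -1])) (.node (.leaf [1, 0, 0, 1, 0, -1]) (.leaf [144, -86, -105, 22, -42, -145, 99, 7, 14, 7, 10, 5])))) (.node (.node (.node (.leaf [3, 0, 1, 1, -1, -1]) (.leaf [1])) (.node (.leaf []) (.leaf [68, -10, -35, 38, -19, -50, 22, -6, 8, -4, 8, -1]))) (.node (.node (.leaf []) (.leaf [])) (.node (.leaf [-633, -8, -251, -223, 305, 256, -23, 19, -28, 1, 18, -1, -5]) (.leaf [-2, -2, 0, -1, 0, 1, 0, 1])))))) (.node (.node (.node (.node (.node (.leaf []) (.leaf [0, 0, -1, 0, 1])) (.node (.leaf [2, 0, 0, 1, 0, -1]) (.leaf [223, -376, -197, -15, -180, -220, 163, 45, 63, 36, 44]))) (.node (.node (.leaf [1, 0, 1, 0, -1]) (.leaf [1169, -2070, 1986, 514, -2144, -410, -216, 790, 282, 62, -93, -4, -2, 0, 0, -1])) (.node (.leaf [1, 0, 1, 0, -1]) (.leaf [3, 0, 1, 1, -1, -1])))) (.node (.node (.node (.leaf [0, 0, -1, 0, 1]) (.leaf [-88, 28, 34, -34, 30, 62,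 -28, 4, -10, -2, -8, 2])) (.node (.leaf [-94, 42, 47, -30, 21, 76, -32, 4, -10, -10, -8, 3]) (.leaf [126481, 138682, 209169, 131091, -66648, 18284, -95315, -21615, -2051, -25325, -18645, 1202, -2907, 1, -1, -1, -1]))) (.node (.node (.leaf [-226, -6, 106, -51, 41, 174, -119, 19, -1, -2, -13]) (.leaf [3, -6, 7, 1, -7, -1, 0, 3])) (.node (.leaf [3, 0, 1, 1, -1, -1]) (.leaf [-4540, 4884, 1302, -782, 3444, 3333, -1795, -580, -874, -458, -610, 72, 8, 1]))))) (.node (.node (.node (.node (.leaf [-67, 74, 39, -2, 47, 52, -38, -7, -15, -6, -9]) (.leaf [35023, -176782, -229887, -83764, -11669, -110830, 143940, 15688, 18917, 24304, 28459, -409, 1432, 0, 0, 1, 1])) (.node (.leaf [1]) (.leaf [-8, 4, -5, -4, 3, 6, 2, 0, 0, -2]))) (.node (.node (.leaf []) (.leaf [-980, 1228, -2538, -684, 1866, 66, 594, -667, -138, 2, 179, 12, -2, 0, 0, 1])) (.node (.leaf [1, 6, -7, 1, 7, -1, 0, -3]) (.leaf [-90025, 365812, 53123, 87885, 228690, 83272, -123981, -79414, -50794, -22132, -29110, -2444,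 988, 0, 0, 0, 1])))) (.node (.node (.node (.leaf [73, 58, 151, 30, -75, 12, -28, 2, -18, -6, -6, -1]) (.leaf [3, -6, 6, 2, -6, -2, 0, 3])) (.node (.leaf [-26, 2, -14, -22, 11, 19, 3, -1, 1, 0, -1]) (.leaf [251, 432, -441, 4, 248, -174, 202, -194, -43, -12, 37, -6, 2]))) (.node (.node (.leaf [1, -6, 7, 0, -7, 0, 0, 3]) (.leaf [-169347, 161706, -10643, -1418, 157925, 100808, -71898, -29865, -22508, -13202, -14734, -94, -450, 0, 0, 1, 1])) (.node (.leaf []) (.leaf [7, 0, 4, 3, -4, -3])))))))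

def twoL137 : Janko.Tree (List ℤ) :=
  (.node (.node (.node (.node (.node (.node (.leaf []) (.leaf [0, 1])) (.node (.leaf []) (.leaf []))) (.node (.node (.leaf []) (.leaf [])) (.node (.leaf [0, 1]) (.leaf [57356, 46066, 32959, 13749, -4594, -28850, 5653, -8484, -16804, 3463, -2469, -1003, 2264, 0, 1, 0, 1])))) (.node (.node (.node (.leaf []) (.leaf [0, 1])) (.node (.leaf [0, 1]) (.leaf [-278, 125, 53, -75, 142, 164, -81, -2, -44, -3, -12, 0, -1]))) (.node (.node (.leaf [0, 1]) (.leaf [-592, 723, 665, 69, 300, 500, -415, -10, -182, -74, -92, -2, -1])) (.node (.leaf [0, 1]) (.leaf [71, -52, -31, 12, -33, -50, 26, 1, 14, 6, 5]))))) (.node (.node (.node (.node (.leaf [0, 1]) (.leaf [-542, 457, -289, -141, 498, 346, -101, -125, -17, -57, -34, 8, -3])) (.node (.leaf [0, 1]) (.leaf [0, 1]))) (.node (.node (.leaf []) (.leaf [-131586, -140030, -206692, -133448, 66656, -14986, 94018, 22722, 1743, 25390, 18342, -1106, 2924, -1, 1, 1, 1])) (.node (.leaf [168, 994, 903, 39, 90,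 86, -177, -94, -363, 17, -66, -12, 21]) (.leaf [-83547, 261168, 43302, 80936, 171218, 79800, -116692, -59843, -26743, -19911, -21976, -1916, -195, -1, 0, 1, 1])))) (.node (.node (.node (.leaf []) (.leaf [692, -290, 235, 439, -460, -434, 61, 95, 75, -30, 8, -2, -1])) (.node (.leaf [0, 1]) (.leaf [0, 1]))) (.node (.node (.leaf [0, 1]) (.leaf [0, 1])) (.node (.leaf []) (.leaf [0, 1])))))) (.node (.node (.node (.node (.node (.leaf [0, 1]) (.leaf [-831, 394, 610, -109, 203, 770, -541, -2, -84, -41, -51, -18, -1])) (.node (.leaf []) (.leaf []))) (.node (.node (.leaf []) (.leaf [0, 1])) (.node (.leaf []) (.leaf [-172228, 91175, 37397, -5103, 94565, 124073, -87634, -9741, -6460, -13936, -13718, 254, -1986, 1, -1, 0, -1])))) (.node (.node (.node (.leaf []) (.leaf [])) (.node (.leaf [0, 1]) (.leaf []))) (.node (.node (.leaf []) (.leaf [])) (.node (.leaf []) (.leaf []))))) (.node (.node (.node (.node (.leaf [0, 1]) (.leaf [0, 1])) (.node (.leaf [-382, 337, 25, -131, 242, 278,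 -85, -47, -68, -30, -22, 0, -1]) (.leaf [0, 1]))) (.node (.node (.leaf [0, 1]) (.leaf [])) (.node (.leaf []) (.leaf [0, 1])))) (.node (.node (.node (.leaf [2, -6, 0, 0, -2, 0, -2, 0, 2, 1]) (.leaf [])) (.node (.leaf [0, 1]) (.leaf [0, 1]))) (.node (.node (.leaf [0, 1]) (.leaf [0, 1])) (.node (.leaf [0, 1]) (.leaf [0, 1])))))))

def twoL138 : Janko.Tree (List ℤ) :=
  (.node (.node (.node (.node (.node (.node (.leaf [0, 0, 1]) (.leaf [-280, 90, 43, -105, 128, 200, -91, -4, -18, -2, -21, 1, -1])) (.node (.leaf [-3, -10, 3, 3, -3, -2, -1, 4, 1]) (.leaf [0, 0, 1]))) (.node (.node (.leaf [0, 0, 1]) (.leaf [25023, -188152, 27777, -53435, -132743, -11227, 38642, 47525, 21943, 13038, 11598, 351, -379, 0, -1, 0, -1])) (.node (.leaf [1240, -18, 75, 407, -500, -588, 197, -98, 81, 5, 34, -12, -1]) (.leaf [33, 266, -299, -19, 231, -27, 56, -133, -12, -4, 17, -2, 1])))) (.node (.node (.node (.leaf [-4, 0, -1, -1, 2, 2, -1]) (.leaf [])) (.node (.leaf []) (.leaf [-2, 2, 1, 0, 2, 0,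 0, 0, -1]))) (.node (.node (.leaf [140, -58, -58, 18, -60, -85, 59, -5, 23, 4, 7]) (.leaf [0, 0, 0, -1, 0, 0, 1])) (.node (.leaf []) (.leaf [7288, 61758, -49663, 5510, 57064, -24672, 16346, -19180, -12867, 594, -240, -420, 1234, 0, 0, 0, 1]))))) (.node (.node (.node (.node (.leaf [-6, 2, 1, -3, 2, 4, -1, 0, -1]) (.leaf [])) (.node (.leaf []) (.leaf [1301, -10936, -7586, -3022, -3171, -3746, 5032, 1675, 1744, 978, 1181, -48, -62, 0, 0, -1]))) (.node (.node (.leaf [0, 0, 1]) (.leaf [0, 0, 1])) (.node (.leaf [1582, -182, -292, 585, -478, -1068, 475, -64, 113, -1, 38, 8, -3]) (.leaf [0, 0, 0, -1, 0, 0, 1])))) (.node (.node (.node (.leaf [0, 0, 0, -1, 0, 0, 1]) (.leaf [])) (.node (.leaf []) (.leaf []))) (.node (.node (.leaf [135, -136, -98, 57, -59, -130, 57, 10, 33, 8, 17]) (.leaf [-24258, 32806, -5093, 2275, 29800, 13294, -10665, -6940, -4535, -2440, -2476, -2, -10, 0, -1, 1])) (.node (.leaf [92, -46, -13, 19, -52, -49, 26, 1, 17, 2, 3]) (.leaf [-25889, 17620, 10163,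 -1069, 15124, 18616, -13933, -1365, -2986, -1860, -2652, 92, -39, -1, 0, 1])))))) (.node (.node (.node (.node (.node (.leaf []) (.leaf [0, 0, 1])) (.node (.leaf [-4, 0, -1, -1, 2, 2, -1]) (.leaf [0, 0, 0, -1, 0, 0, 1]))) (.node (.node (.leaf [0, 0, 1]) (.leaf [-379, 102, 150, -156, 113, 276, -120, 20, -38, -8, -33, 8, 0, 0, 0, -1])) (.node (.leaf [0, 0, 1]) (.leaf [0, 0, 0, -1, 0, 0, 1])))) (.node (.node (.node (.leaf [0, 0, 1]) (.leaf [0, 0, 1])) (.node (.leaf []) (.leaf [129, -26, -138, 209, 84, -130, -77, -51, 57, -3, 8, 1, 1]))) (.node (.node (.leaf [-193, -2, 77, -53, 38, 143, -86, 17, -3, -2, -11]) (.leaf [-1, -8, 19, 1, -11, 3, -4, 6, -1, 0, -1])) (.node (.leaf [0, 0, 0, -1, 0, 0, 1]) (.leaf [69726, -31972, 3401, 15890, -44616, -40526, 20976, 4034, 6778, 1502, 3344, 330, -2, 1, 0, -1]))))) (.node (.node (.node (.node (.leaf [-32, 68, 58, -18, 13, 52, -26, -8, -13, -4, -9]) (.leaf [-1970, -1076, -66, -1202, 15, 1043, 3, 436, 16, 66, 8, 12])) (.node (.leaf [])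 (.leaf [68305, -244392, -1772, -77020, -172674, -55750, 91422, 60256, 22750, 19140, 18516, 1288, 246, 0, -1, 0, -1]))) (.node (.node (.leaf [18, 2, 4, 7, -6, -8, 1, -2, 1]) (.leaf [0, 0, 1])) (.node (.leaf [0, 0, 1]) (.leaf [-8100, 336704, 44996, 107557, 188277, 35755, -101908, -80895, -42776, -18683, -23979, -3092, 1073, 0, 0, 0, 1])))) (.node (.node (.node (.leaf [0, 0, 1, 1, 0, 0, -1]) (.leaf [0, 0, 0, -1, 0, 0, 1])) (.node (.leaf [-11, 8, -3, -6, 9, 11, -5, -4, 1, 0, -1]) (.leaf [465, 6, -211, 160, -111, -317, 193, -49, 33, -18, 31, -1, 1]))) (.node (.node (.leaf []) (.leaf [])) (.node (.leaf [-6236, -1850, 2267, -3001, 64, 3756, -1123, 1354, -355, 63, -258, 112, 9]) (.leaf [-5, -2, 4, 7, 4, 5, -12, -1, 3, 0, -1])))))))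

def twoL139 : Janko.Tree (List ℤ) :=
  (.node (.node (.node (.node (.node (.node (.leaf []) (.leaf [-932, 790, 449, -149, 518, 778, -476, -74, -158, -54, -87, -21, -1])) (.node (.leaf []) (.leaf []))) (.node (.node (.leaf [363, -64, 7, 93, -180, -129, 41, -32, 48, 11, 18, -13]) (.leaf [0, 0, 0, 1])) (.node (.leaf [46, -6, -75, 45, 6, -45, 17, -15, 14, -7, 12, -1]) (.leaf [0, 0, 0, 1])))) (.node (.node (.node (.leaf [0, 0, 0, 1]) (.leaf [])) (.node (.leaf []) (.leaf [0, 0, 0, 1]))) (.node (.node (.leaf []) (.leaf [0, 0, 0, 1])) (.node (.leaf []) (.leaf [0, 0, 0, 1]))))) (.node (.node (.node (.node (.leaf []) (.leaf [-70, 10, 33, -39, 21, 51, -22, 6, -8, 4, -8, 1])) (.node (.leaf []) (.leaf []))) (.node (.node (.leaf []) (.leaf [-245, 144, 48, -128, 87, 203, -45, -13, -27, -22, -17, 8, -1])) (.node (.leaf [0, 0, 0, 1]) (.leaf [0, 0, 0, 1])))) (.node (.node (.node (.leaf [0, 0, 0, 1]) (.leaf [])) (.node (.leaf []) (.leaf [70, -10, -35, 38, -21, -51, 24, -6, 8, -4, 8,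 -1]))) (.node (.node (.leaf [-33, -286, -42, -39, -111, -46, 41, 68, 26, 19, 27, 0, 3]) (.leaf [])) (.node (.leaf [0, 0, 0, 1]) (.leaf [-21417, 16286, -27019, -4889, 28898, 7774, -1496, -7531, -385, 143, 467, -563, -274, -1, 0, 1])))))) (.node (.node (.node (.node (.node (.leaf []) (.leaf [-83263, 41320, 21802, 8105, 41809, 64050, -49951, -4568, 2372, -9894, -7362, 632, -1840, 0, 0, 0, -1])) (.node (.leaf [0, 0, 0, 1]) (.leaf [0, 0, 0, 1]))) (.node (.node (.leaf []) (.leaf [])) (.node (.leaf []) (.leaf [0, 0, 0, 1])))) (.node (.node (.node (.leaf []) (.leaf [-1123, -2042, -1423, 32, -128, 407, -88, 320, 820, -164, 56, 46, -57])) (.node (.leaf [72, -10, -31, 40, -27, -51, 26, -4, 8, -6, 8, -1]) (.leaf [0, 0, 0, 1]))) (.node (.node (.leaf [0, 0, 0, 1]) (.leaf [0, 0, 0, 1])) (.node (.leaf [0, 0, 0, 1]) (.leaf [0, 0, 0, 1]))))) (.node (.node (.node (.node (.leaf []) (.leaf [964, -784, -548, 144, -547, -745, 498, 48, 172, 50, 120, -4, 6])) (.node (.leaf []) (.leaf [8, 10,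 1, 4, 1, -1, -2, -5, 0, -1, 0, 1]))) (.node (.node (.leaf []) (.leaf [])) (.node (.leaf [-55, 56, 50, -34, 29, 57, -27, -4, -14, 1, -12, 1]) (.leaf [-13262, 346550, 48778, 109423, 194023, 39195, -105441, -81905, -44624, -19775, -25158, -2915, 1102, 0, 0, 0, 1])))) (.node (.node (.node (.leaf [0, 0, 0, 1]) (.leaf [0, 0, 0, 1])) (.node (.leaf []) (.leaf [647, 658, -182, 175, 130, -252, 125, -269, -53, -13, 17, -11]))) (.node (.node (.leaf []) (.leaf [])) (.node (.leaf [-171, 110, 73, -25, 72, 157, -101, -18, -14, -12, -8, -3]) (.leaf [-5270, 4164, 596, -1210, 3608, 3435, -1565, -428, -780, -420, -544, 86, 4, 1])))))))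

def twoL140 : Janko.Tree (List ℤ) :=
  (.node (.node (.node (.node (.node (.node (.leaf [2, 0, 0, 1, 0, -1]) (.leaf [1])) (.node (.leaf [1, 0, 0, 1, 0, -1]) (.leaf [-1, 0, 0, -1, 0, 1]))) (.node (.node (.leaf [-4, -6, 3, -2, -3, 2, 0, 3]) (.leaf [-201017, 199734, -17080, 43260, 191270, 133712, -114906, -43230, -5510, -28337, -20094, 1342, -4038, 0, -1, 0, -1])) (.node (.leaf [260, -104, -84, 80, -106, -182, 90, -4, 32, 6, 18]) (.leaf [67232, -44722, -22945, -5513, -38483, -49411, 38892, 3905, 3247, 7955, 7193, -767, 828, -1, 1, 0, 1])))) (.node (.node (.node (.leaf []) (.leaf [9132, 28288, 79035, -11165, -22042, 9326, -8037, 7659, -20519, 2320, -6222, 355, 2263, 0, 1, 0, 1])) (.node (.leaf [0, 0, 0, -1, 0, 1]) (.leaf [0, 0, 0, -1, 0, 1]))) (.node (.node (.leaf [0, 0, 0, -1, 0, 1]) (.leaf [3999, -8550, -3198, -3055, -5629, -2764, 4283, 1237, 1233, 843, 1037, -77, 2, 0, 1])) (.node (.leaf [1]) (.leaf [-23391, 334354, 84714, 109538, 175806, 51252, -117326, -72430, -45842,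 -20920, -27173, -2230, 1418, -1, 0, 1, 1]))))) (.node (.node (.node (.node (.leaf [-2, 0, -1, -1, 1, 1]) (.leaf [1, 0, 1, 0, -1])) (.node (.leaf [3, 0, 1, 1, -1, -1]) (.leaf [1]))) (.node (.node (.leaf [3, 6, -3, 0, 3, 0, 0, -3]) (.leaf [-75, 6, 35, -39, 21, 53, -24, 8, -8, 4, -8, 1])) (.node (.leaf [1, 2, -2, 0, 2, 0, 0, -1]) (.leaf [290, -144, -185, 54, -95, -246, 164, 0, 36, 10, 22, 4])))) (.node (.node (.node (.leaf [477, -228, -123, 154, -245, -324, 172, 17, 68, 0, 30, -1]) (.leaf [1, 0, 1, 0, -1])) (.node (.leaf [-24, 6, 21, -40, -2, 31, 1, 3, -4, 3, -6, 1]) (.leaf [1]))) (.node (.node (.leaf [225, -128, -152, 71, -70, -187, 100, -5, 40, 8, 21]) (.leaf [-62, 30, 34, -11, 25, 42, -27, 3, -11, -2, -5])) (.node (.leaf [0, 8, -7, -1, 7, 1, 0, -4]) (.leaf [-596, 200, 159, -160, 257, 368, -192, 20, -74, -12, -38, 4])))))) (.node (.node (.node (.node (.node (.leaf [1]) (.leaf [-19021, -40592, 48313, 12, -39788, 32101, -24809, 14450, 11066, -2768, -1568, 472, -1356,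 0, 0, 0, -1])) (.node (.leaf []) (.leaf [1]))) (.node (.node (.leaf [-1, 0, 0, -1, 0, 1]) (.leaf [1])) (.node (.leaf [-1, 0, 0, -1, 0, 1]) (.leaf [62, -14, -37, 34, -19, -48, 24, -4, 8, -4, 8, -1])))) (.node (.node (.node (.leaf [2, 0, 0, 1, 0, -1]) (.leaf [79385, 45338, 23897, 2490, -12157, -51204, 31508, -6436, -23231, 5362, -1605, 29, 3212, 0, 0, 1, 1])) (.node (.leaf [1]) (.leaf [993, -818, -494, 164, -534, -823, 503, 69, 170, 56, 92, 21, 1]))) (.node (.node (.leaf []) (.leaf [133, -592, -358, -473, -417, -66, 459, 99, 76, 44, 81, -5, 1])) (.node (.leaf [-106, 58, 39, -38, 35, 86, -34, -2, -12, -10, -8, 3]) (.leaf [32020, -30572, -27310, -2404, -17080, -25596, 21962, 875, 6534, 3602, 4858, -405, -178, 0, 1, -1]))))) (.node (.node (.node (.node (.leaf [7, 2, 2, 3, -2, -3, 0, -1]) (.leaf [-24261, -7060, -9909, -6854, 8706, 10551, -2525, 1985, 1753, -458, 378, 139, -267, 0, 0, 1])) (.node (.leaf [1, 0, 1, 0, -1]) (.leaf [51031, -266956, -43453, -90425, -162760, -60334,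 107665, 62595, 27760, 19748, 21576, 1861, -62, 0, 0, -1, -1]))) (.node (.node (.leaf [-2, 0, -1, -1, 1, 1]) (.leaf [1, 0, 0, 1, 0, -1])) (.node (.leaf []) (.leaf [-10077, 10570, 2737, 819, 8701, 6383, -5358, -1313, -1800, -992, -1250, 60, 10, 0, -1])))) (.node (.node (.node (.leaf [1]) (.leaf [25, 2, -37, 11, 8, -30, 19, -6, 0, 0, 5])) (.node (.leaf [-2, 6, -6, -2, 6, 2, 0, -3]) (.leaf [-374, 2068, 1343, 1226, 1047, 423, -1275, -295, -288, -193, -264, 11, -5]))) (.node (.node (.leaf [0, 0, 0, -1, 0, 1]) (.leaf [71724, 66220, 1632, 32730, 18751, -43239, 5569, -20516, -13669, 2089, -1395, -1707, 2088, 0, 0, 1, 1])) (.node (.leaf [589, -334, -95, 154, -351, -357, 187, 31, 98, 8, 30, -1, 1]) (.leaf [6, 0, 3, 3, -3, -3])))))))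

def twoL141 : Janko.Tree (List ℤ) :=
  (.node (.node (.node (.node (.node (.node (.leaf []) (.leaf [])) (.node (.leaf [1270, -1076, -419, 405, -710, -1036, 467, 126, 220, 79, 110, 2, 1]) (.leaf [-19444, 21019, 358, 1522, 18815, 12197, -9561, -3707, -2563, -2079, -2160, 83, -83, 1, -1]))) (.node (.node (.leaf [0, 1]) (.leaf [0, 1])) (.node (.leaf []) (.leaf [0, 1])))) (.node (.node (.node (.leaf [0, 1]) (.leaf [0, -1, 0, -2, 0, 0, 0, 0, 0, 1])) (.node (.leaf [21814, -34292, -8288, -8042, -23664, -17314, 17488, 6194, 3438, 3912, 3580, -192, 214, 0, 1, -1]) (.leaf []))) (.node (.node (.leaf []) (.leaf [])) (.node (.leaf []) (.leaf [0, 1]))))) (.node (.node (.node (.node (.leaf []) (.leaf [])) (.node (.leaf []) (.leaf [-886, 640, 483, -101, 442, 642, -419, -7, -160, -60, -92, 0, -1]))) (.node (.node (.leaf []) (.leaf [0, -1, 0, -2, 0, 0, 0, 0, 0, 1])) (.node (.leaf []) (.leaf [0, 1])))) (.node (.node (.node (.leaf [0, 1]) (.leaf [])) (.node (.leaf []) (.leaf [-57, 39,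 37, -10, 23, 42, -26, 1, -12, -3, -5]))) (.node (.node (.leaf [0, 1]) (.leaf [])) (.node (.leaf [0, 1]) (.leaf [0, 1])))))) (.node (.node (.node (.node (.node (.leaf []) (.leaf [])) (.node (.leaf [0, 1]) (.leaf [1534, -748, -245, 391, -814, -938, 471, 41, 227, 39, 68, 0, -1]))) (.node (.node (.leaf [-8, 6, -8, -2, 8, 4, 0, -2, 0, -1]) (.leaf [-410, 436, 219, -81, 252, 344, -185, -37, -86, -38, -56, 0, -1])) (.node (.leaf [2, 2, 2, 2, -2, 0, 0, 0, 0, -1]) (.leaf [0, 1])))) (.node (.node (.node (.leaf []) (.leaf [0, 1])) (.node (.leaf [143, -62, -61, 24, -59, -92, 58, -5, 22, 5, 9]) (.leaf [0, 1]))) (.node (.node (.leaf [0, 1]) (.leaf [0, 1])) (.node (.leaf [0, 1]) (.leaf [0, 1]))))) (.node (.node (.node (.node (.leaf []) (.leaf [])) (.node (.leaf []) (.leaf [0, 1]))) (.node (.node (.leaf [-192, 719, 177, -59, 348, 236, -151, -158, -150, -14, -38, 0, 1]) (.leaf [0, -1, 0, -2, 0, 0, 0, 0, 0, 1])) (.node (.leaf [0, 1]) (.leaf [0, 1])))) (.node (.node (.node (.leaf [])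 (.leaf [])) (.node (.leaf []) (.leaf []))) (.node (.node (.leaf []) (.leaf [62433, 52250, 5215, 21142, 12570, -38168, 7570, -15865, -14271, 4253, -717, -1836, 2311, -1, 1, 1, 1])) (.node (.leaf [14292, -16732, 462, -392, -14581, -8527, 6075, 2939, 2481, 1460, 1524, -55, 17, -1, 1]) (.leaf [0, 1])))))))

def twoL142 : Janko.Tree (List ℤ) :=
  (.node (.node (.node (.node (.node (.node (.leaf [-4, 0, -1, -1, 2, 2, -1]) (.leaf [12337, -344484, -49326, -108826, -192316, -38908, 104998, 81424, 44356, 19570, 25094, 2926, -1128, 0, -1, 0, -1])) (.node (.leaf [-2, -2, -5, 2, 4, -2, 0, 0, 1]) (.leaf [0, 0, 1, 1, 0, 0, -1]))) (.node (.node (.leaf [-17, -4, 8, -6, 1, 11, -5, 4, -1, 0, -1]) (.leaf [2203, -1446, -846, 270, -1174, -1621, 1073, 107, 293, 137, 184, 5, -3])) (.node (.leaf [95, -38, -33, 32, -37, -71, 35, -1, 11, 2, 7]) (.leaf [89554, -64912, -23337, -13463, -57109, -68987, 56902, 9668, 828, 11599, 9186, -583, 1758, -1, 1, 0, 1])))) (.node (.node (.node (.leaf [10, -2,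 2, 5, -4, -6, 1, 0, 1]) (.leaf [138853, 38308, -29264, 41239, -6377, -91729, 37070, -22917, -7979, 6966, 5032, -2489, 2233, 0, 1, 0, 1])) (.node (.leaf [-1, 6, -1, -2, 3, 2, 0, -2, -1]) (.leaf [1, -2, -1, 0, -1, 0, 0, 0, 1]))) (.node (.node (.leaf [11, 2, 0, 6, -1, -6, 0, -2, 1]) (.leaf [6, -2, 0, 0, -4, -2, 2, 0, 1])) (.node (.leaf [-53, -2, 6, -22, 15, 33, -11, 6, -2, 0, -3]) (.leaf [-38472, 43656, -57163, -4952, 67078, 5009, 155, -16577, -5649, 518, 504, -734, 110, -1, 0, 1, 1]))))) (.node (.node (.node (.node (.leaf [0, 0, 0, -1, 0, 0, 1]) (.leaf [0, 0, 1])) (.node (.leaf [0, 0, 0, -1, 0, 0, 1]) (.leaf []))) (.node (.node (.leaf [0, 0, 1, 1, 0, 0, -1]) (.leaf [-65, 52, 7, -101, -7, 81, 38, 1, -7, -14, -11, 6, -1])) (.node (.leaf [0, 0, 0, -1, 0, 0, 1]) (.leaf [-80835, 55188, 19028, -3824, 52370, 55638, -40262, -6530, -8244, -5484, -7044, -12, -280, 0, -1, 1])))) (.node (.node (.node (.leaf []) (.leaf [0, 0, 1])) (.node (.leaf [0, 0, 0, -1, 0, 0, 1]) (.leaf [3,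 -2, 1, 3, -1, -2, -1, 0, 1]))) (.node (.node (.leaf []) (.leaf [0, 0, 0, -1, 0, 0, 1])) (.node (.leaf [70, -26, -59, 17, -13, -57, 36, -7, 11, 2, 7]) (.leaf [64041, -2340, 18988, 27560, -32312, -31012, 6120, -1192, 3258, -1636, 438, 396, -94, 0, 0, 1])))))) (.node (.node (.node (.node (.node (.leaf [219, -102, -137, 64, -67, -174, 98, -8, 34, 6, 19]) (.leaf [0, 0, 0, -1, 0, 0, 1])) (.node (.leaf [1194, 306, 308, 736, -280, -577, -83, -144, 43, -26, -14, -11, -1]) (.leaf []))) (.node (.node (.leaf [0, 0, 1, 1, 0, 0, -1]) (.leaf [])) (.node (.leaf [0, 0, 1, 1, 0, 0, -1]) (.leaf [])))) (.node (.node (.node (.leaf [-4, 0, -1, -1, 2, 2, -1]) (.leaf [-684, -740, -343, -481, -107, 219, 200, 216, 67, 15, 56, 14, 2])) (.node (.leaf [-3, -2, -1, -1, 1, 2, -1, 0, 1]) (.leaf [70, -54, -118, 182, 85, -93, -93, -37, 57, 0, 5, 1, 1]))) (.node (.node (.leaf []) (.leaf [-734, -290, -193, -765, -6, 488, 197, 105, -22, 40, 22, -1, 1])) (.node (.leaf []) (.leaf [81152, -40356, 2396, 17092,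 -53001, -47295, 25111, 4884, 8268, 2339, 4480, 208, -1, 0, 1, -1]))))) (.node (.node (.node (.node (.leaf [0, 0, 0, -1, 0, 0, 1]) (.leaf [0, 0, 1])) (.node (.leaf [0, 0, 1]) (.leaf []))) (.node (.node (.leaf [0, 0, 0, -1, 0, 0, 1]) (.leaf [0, 0, 1, 1, 0, 0, -1])) (.node (.leaf []) (.leaf [-1921, 438, 2289, -451, -103, 2192, -1663, 82, -184, 48, -78, -88, 1])))) (.node (.node (.node (.leaf []) (.leaf [-18, -6, -16, -9, 9, 3, 6, 2, 0, 0, 1])) (.node (.leaf [0, 0, 0, -1, 0, 0, 1]) (.leaf [0, 0, 1]))) (.node (.node (.leaf [540, 206, -115, 302, -53, -223, 25, -128, 71, -37, 6, -10, -5]) (.leaf [0, 0, 1])) (.node (.leaf [0, 0, 1]) (.leaf [352, -302, -201, 7, -204, -269, 202, 19, 61, 30, 41])))))))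

def twoL143 : Janko.Tree (List ℤ) :=
  (.node (.node (.node (.node (.node (.node (.leaf [0, 0, 0, 1]) (.leaf [-508, 186, 257, -111, 168, 376, -233, 19, -62, -13, -34, -3])) (.node (.leaf [0, 0, 0, 1]) (.leaf [0, 0, 0, 1]))) (.node (.node (.leaf []) (.leaf [])) (.node (.leaf [0, 0, 0, 1]) (.leaf [139588, -73690, 6539, 6885, -92671, -91240, 59868, 13401, 2465, 10287, 8735, 25, 1932, -1, 1, 0, 1])))) (.node (.node (.node (.leaf []) (.leaf [0, 0, 0, 1])) (.node (.leaf [0, 0, 0, 1]) (.leaf [0, 0, 0, 1]))) (.node (.node (.leaf [0, 0, 0, 1]) (.leaf [0, 0, 0, 1])) (.node (.leaf []) (.leaf [102907, 883842, 411133, 379083, 307127, 119772, -349402, -182332, -105946, -71506, -78917, -3654, 434, -1, 0, 1, 1]))))) (.node (.node (.node (.node (.leaf [0, 0, 0, 1]) (.leaf [])) (.node (.leaf [0, 0, 0, 1]) (.leaf [-73344, -66794, -163320, -24665, 55337, -5900, 39357, 358, 28311, -3746, 9124, 2472, -3122, 1, -1, -1, -1]))) (.node (.node (.leaf [0, 0, 0, 1]) (.leaf [0, 0, 0, 1])) (.node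 (.leaf [0, 0, 0, 1]) (.leaf [550, -242, -317, 152, -175, -459, 272, -7, 64, 15, 46, 3])))) (.node (.node (.node (.leaf [533, -276, -159, 164, -271, -359, 190, 15, 86, 4, 34, -1]) (.leaf [])) (.node (.leaf [0, 0, 0, 1]) (.leaf [-4385, 4348, 810, -901, 3302, 3073, -1508, -533, -774, -412, -535, 73, 7, 1]))) (.node (.node (.leaf [712, -326, -517, 71, -205, -499, 348, -64, 126, 41, 61, -1]) (.leaf [0, 0, 0, 1])) (.node (.leaf []) (.leaf [-526, 174, 105, -130, 243, 315, -168, 11, -60, -11, -30, 3])))))) (.node (.node (.node (.node (.node (.leaf []) (.leaf [0, 0, 0, 1])) (.node (.leaf []) (.leaf [-70, 10, 33, -39, 21, 51, -22, 6, -8, 4, -8, 1]))) (.node (.node (.leaf [0, 0, 0, 1]) (.leaf [])) (.node (.leaf [0, 0, 0, 1]) (.leaf [72, -14, -33, 38, -21, -53, 22, -6, 8, -2, 8, -1])))) (.node (.node (.node (.leaf [0, 0, 0, 1]) (.leaf [-6864, -366, 8, -2430, 1951, 3829, -1196, 642, -180, -155, -178, 78, -24])) (.node (.leaf []) (.leaf [-1444, 1148, 671, -266, 773, 1143, -681,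 -92, -252, -89, -132, -12, 3]))) (.node (.node (.leaf []) (.leaf [-1769, -1640, -414, -1729, -437, 1047, 443, 497, 124, 116, 79, 3, 1])) (.node (.leaf [64, -2, -41, 34, -17, -45, 26, -8, 8, -6, 8, -1]) (.leaf [21233, -37610, -10496, -9519, -24521, -17704, 18865, 6762, 3978, 4119, 3886, -152, 212, 0, 1, -1]))))) (.node (.node (.node (.node (.leaf [0, 0, 0, 1]) (.leaf [188, -2020, -1146, -1276, -1051, -261, 1178, 328, 260, 181, 242, -8, 7])) (.node (.leaf []) (.leaf []))) (.node (.node (.leaf [0, 0, 0, 1]) (.leaf [0, 0, 0, 1])) (.node (.leaf []) (.leaf [-217, 42, 65, -45, 89, 144, -104, 0, -12, 0, -12, 4, -1])))) (.node (.node (.node (.leaf []) (.leaf [0, 0, 0, 1])) (.node (.leaf [0, 0, 0, 1]) (.leaf [-127, 2002, 1217, 1329, 982, 237, -1188, -312, -260, -190, -240, 6, -5]))) (.node (.node (.leaf [0, 0, 0, 1]) (.leaf [974, 2124, 1501, -88, 185, -287, 25, -324, -841, 157, -72, -40, 58])) (.node (.leaf []) (.leaf [21102, -16038, 27166, 4896, -28702, -7553, 1317, 7513, 337,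 -168, -501, 564, 274, 1, 0, -1])))))))

def twoL144 : Janko.Tree (List ℤ) :=
  (.node (.node (.node (.node (.node (.node (.leaf []) (.leaf [79, -30, -36, 21, -28, -57, 32, -3, 10, 2, 6])) (.node (.leaf []) (.leaf []))) (.node (.node (.leaf [0, 0, 0, -1, 0, 1]) (.leaf [-56817, -46304, -33771, -13693, 4642, 28160, -5083, 8475, 16881, -3474, 2488, 1045, -2263, 0, -1, 0, -1])) (.node (.leaf [14016, -20852, 242, -4096, -17413, -8503, 8419, 4050, 2305, 2081, 1981, -81, 90, 0, 1]) (.leaf [80268, 45422, 22952, 2704, -12038, -51882, 31896, -6720, -23172, 5408, -1460, 6, 3227, 0, 0, 1, 1])))) (.node (.node (.node (.leaf [-2, 0, -1, -1, 1, 1]) (.leaf [0, 0, -1, 0, 1])) (.node (.leaf []) (.leaf [5325, -10096, 12290, -3310, -12350, 358, -364, 3472, -250, 1670, 168, -306, 294, 0, 0, -1]))) (.node (.node (.leaf [1]) (.leaf [0, 0, 0, -1, 0, 1])) (.node (.leaf [-20, 2, 3, -6, 8, 11, -5, 2, -2, 0, -1]) (.leaf [4563, -4996, -1270, 606, -3544, -3276, 1860, 604, 903, 478, 586, -61, -12,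 -1]))))) (.node (.node (.node (.node (.leaf [-5, -6, 2, -2, -2, 2, 0, 3]) (.leaf [-71, 10, 35, -38, 21, 52, -24, 6, -8, 4, -8, 1])) (.node (.leaf [-108, -28, -115, -32, 89, 16, 6, -1, 8, 4, 2, 1]) (.leaf [1, 0, 1, 0, -1]))) (.node (.node (.leaf [15, 6, 5, 4, -4, -1, -3, -4, 2, 0, -1]) (.leaf [-4, -2, 0, -3, 0, 3, 0, 1])) (.node (.leaf [59, -2, -31, 33, -21, -41, 24, -5, 6, -7, 8, -1]) (.leaf [-5390, 16456, 1119, 4422, 11095, 3720, -5310, -3360, -2092, -1424, -1360, 8, 0, 0, -1])))) (.node (.node (.node (.leaf [1]) (.leaf [-1, 0, 0, -1, 0, 1])) (.node (.leaf [1134, -404, -671, 236, -277, -812, 456, -104, 162, 62, 84, -2]) (.leaf [-4532, 4380, 842, -940, 3366, 3160, -1556, -527, -788, -410, -543, 73, 5, 1]))) (.node (.node (.leaf [0, 0, -1, 0, 1]) (.leaf [-19, 14, 20, 57, -7, 14, -33, 2, 2, -15, 8, -4])) (.node (.leaf [0, 0, 0, -1, 0, 1]) (.leaf [139465, 6888, 15128, 55518, -50138, -78650, 24366, -7789, 3128, -1594, 1834, 617, 360, 0, -1, 1])))))) (.node (.node (.node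 (.node (.node (.leaf [276, -166, -200, 88, -86, -240, 132, -4, 48, 10, 29]) (.leaf [-2, 2, -1, -3, 1, 3, 0, -1])) (.node (.leaf [-2, 0, -1, -1, 1, 1]) (.leaf [1, 0, 1, 0, -1]))) (.node (.node (.leaf [2, -10, 10, 1, -10, -1, 0, 5]) (.leaf [1, 0, 1, 0, -1])) (.node (.leaf []) (.leaf [1])))) (.node (.node (.node (.leaf []) (.leaf [217955, -276368, -41734, -80397, -221989, -170914, 173023, 57828, 11633, 34939, 29579, 67, 4138, 0, 0, 1, 1])) (.node (.leaf [1, 0, 0, 1, 0, -1]) (.leaf [1267, -856, -549, 319, -633, -954, 517, 37, 208, 59, 124, -1, 1]))) (.node (.node (.leaf [-7, -4, -1, -3, 1, 3, 0, 2]) (.leaf [1])) (.node (.leaf [1]) (.leaf [222, -218, -105, -7, -148, -142, 103, 10, 51, 25, 25, -1, -1]))))) (.node (.node (.node (.node (.leaf []) (.leaf [-95, 112, 102, -27, 34, 107, -60, -8, -23, -10, -15])) (.node (.leaf [-1, 0, 0, -1, 0, 1]) (.leaf [44, -2, -51, 24, -8, -35, 27, -7, 8, -7, 8, -1]))) (.node (.node (.leaf [-11, -8, 3, -7, -3, 7, 0, 4]) (.leaf [0, 0, -1, 0,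 1])) (.node (.leaf [1]) (.leaf [1, 2, -1, 0, 1, 0, 0, -1])))) (.node (.node (.node (.leaf [1, 0, 1, 0, -1]) (.leaf [])) (.node (.leaf [158, -314, -325, -73, -147, -187, 244, 35, 60, 9, 54, -1]) (.leaf [1010, -566, -479, 55, -467, -657, 470, -27, 174, 58, 70, 14, -6, 0, 1]))) (.node (.node (.leaf [29, 2, 6, 17, -9, -16, -1, -3, 1, 0, 1]) (.leaf [236678, -286224, -38849, -76995, -235280, -180934, 177897, 59170, 13315, 35839, 30611, -13, 4190, 0, 0, 1, 1])) (.node (.leaf [-61, 6, 39, -33, 17, 45, -24, 7, -8, 5, -8, 1]) (.leaf [69, -10, -33, 39, -20, -50, 21, -6, 8, -4, 8, -1])))))))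

def twoL145 : Janko.Tree (List ℤ) :=
  (.node (.node (.node (.node (.node (.node (.leaf [0, 1]) (.leaf [0, 1])) (.node (.leaf [0, 1]) (.leaf [0, 1]))) (.node (.node (.leaf []) (.leaf [-666, 129, 1023, -113, -138, 872, -725, 34, -65, 34, -16, -52, 1])) (.node (.leaf [0, 1]) (.leaf [0, 1])))) (.node (.node (.node (.leaf [-378, 327, 23, -135, 242, 276, -87, -48, -66, -26, -22, 0, -1]) (.leaf [-423, -49, 280, -55, 11, 258, -175, 96, -38, -13, -19, 0, -1])) (.node (.leaf [0, 1]) (.leaf [0, 1]))) (.node (.node (.leaf []) (.leaf [])) (.node (.leaf [0, 2, 2, 0, 0, 0, 0, 0, -1]) (.leaf [0, 1]))))) (.node (.node (.node (.node (.leaf []) (.leaf [0, 2, 0, 2, 0, 0, 0, 0, 0, -1])) (.node (.leaf [0, 1]) (.leaf [-619, 315, 334, -105, 238, 443, -276, 22, -94, -32, -54, 1]))) (.node (.node (.leaf [0, 1]) (.leaf [0, 1])) (.node (.leaf [0, 1]) (.leaf [-37462, 58741, 6238, 13188, 44580, 26318, -26574, -11182, -5830, -6422, -5892, 356, -400, 0, -1, 1])))) (.node (.node (.node (.leaf [])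 (.leaf [-24174, 18503, 2498, -818, 18080, 14962, -10306, -2274, -2714, -2025, -2344, 184, -78, 1, -1])) (.node (.leaf [0, 1]) (.leaf [-742, -136, -43, -307, 208, 398, -119, 78, -14, 13, -10, 0, 1]))) (.node (.node (.leaf []) (.leaf [0, 1])) (.node (.leaf [19818, -34820, -9254, -9450, -23097, -16393, 17851, 6373, 3406, 3959, 3635, -172, 209, 0, 1, -1]) (.leaf [72446, -4701, 16112, 24980, -34410, -38872, 12374, -1046, 1360, 249, 1278, 186, 324, 0, 0, 1])))))) (.node (.node (.node (.node (.node (.leaf [-8, -10, 0, -6, -4, 4, 2, 4, 1]) (.leaf [930, 129, -848, 384, 155, -701, 313, -257, 122, 7, 69, -4, -1, 0, 0, 0, -1])) (.node (.leaf [-246, 80, 93, -23, 110, 152, -127, 0, -27, -6, -12, 4, 1]) (.leaf [-22119, 35407, 8631, 8142, 24225, 17722, -17836, -6399, -3583, -3986, -3707, 192, -220, 0, -1, 1]))) (.node (.node (.leaf [0, 1]) (.leaf [601, -318, -336, 97, -228, -427, 264, -24, 98, 34, 52, -1])) (.node (.leaf [0, 1]) (.leaf [-1, -14, -9, 0, -1, -2, 0, 1, 4, 1, 1])))) (.node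 (.node (.node (.leaf [0, 1]) (.leaf [0, 1])) (.node (.leaf [220, -60, 19, 73, -110, -122, 41, 2, 20, 3, 4, 0, 1]) (.leaf []))) (.node (.node (.leaf [0, 1]) (.leaf [])) (.node (.leaf [-139, 63, 59, -30, 55, 92, -52, 5, -22, -5, -9]) (.leaf [0, 1]))))) (.node (.node (.node (.node (.leaf [0, 1]) (.leaf [])) (.node (.leaf [-2, 2, 0, 0, 0, 2, 0, 0, 0, -1]) (.leaf []))) (.node (.node (.leaf []) (.leaf [51, -40, -37, 6, -23, -38, 26, 0, 12, 3, 5])) (.node (.leaf []) (.leaf [0, 1])))) (.node (.node (.node (.leaf []) (.leaf [0, 1])) (.node (.leaf [0, 1]) (.leaf [650, 661, -329, 459, 362, -388, -3, -280, 16, -35, -32, 0, 1]))) (.node (.node (.leaf []) (.leaf [0, 2, 0, 2, 0, 0, 0, 0, 0, -1])) (.node (.leaf []) (.leaf [-84211, 159081, -24980, 79415, 136833, 69074, -93365, -46614, 8662, -23474, -14026, -208, -3880, 0, 0, 0, -1])))))))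

def twoL146 : Janko.Tree (List ℤ) :=
  (.node (.node (.node (.node (.node (.node (.leaf []) (.leaf [83, -32, -44, 23, -27, -63, 36, -4, 11, 2, 7])) (.node (.leaf []) (.leaf [-4, 2, 1, -1, 2, 2, -1, 0, -1]))) (.node (.node (.leaf [1, -2, -3, -1, -1, -5, 6, 2, -2, 0, 1]) (.leaf [0, 0, 0, -1, 0, 0, 1])) (.node (.leaf []) (.leaf [-197, 170, 301, 150, 79, 149, -233, 20, -35, -33, -37, 1, -1])))) (.node (.node (.node (.leaf [0, 0, 0, -1, 0, 0, 1]) (.leaf [0, 0, 1])) (.node (.leaf [100, 322, 23, 155, 164, -48, -59, -76, -29, -21, -32, 0, -3]) (.leaf [23080, -28532, -7181, -4754, -20802, -18062, 15900, 4960, 2738, 3442, 3110, -178, 194, 0, 0, -1]))) (.node (.node (.leaf [-63, 26, 33, -14, 22, 41, -23, 5, -11, -2, -5]) (.leaf [12373, 16282, 11726, 10105, 433, -3232, -4929, -3400, -2466, -1042, -1303, -84, 154, 0, 0, 1])) (.node (.leaf [0, 0, 1]) (.leaf [28488, -16072, -526, 4092, -18699, -17057, 9675, 1695, 2524, 1799, 2172, -233, 79, -1, 1]))))) (.node (.node (.node (.node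 (.leaf [0, 0, 1]) (.leaf [0, 0, 1, 1, 0, 0, -1])) (.node (.leaf []) (.leaf [0, 0, 1]))) (.node (.node (.leaf [173, -70, -63, 44, -69, -111, 59, -6, 28, 4, 9]) (.leaf [-8538, 30664, -6781, 7519, 24403, 4447, -7762, -8322, -3301, -1853, -1607, -227, -22, -1, 0, 1])) (.node (.leaf []) (.leaf [0, 0, 1])))) (.node (.node (.node (.leaf [-5, 2, 0, -1, 3, 2, -1, 0, -1]) (.leaf [0, 0, 1, 1, 0, 0, -1])) (.node (.leaf []) (.leaf [4, -2, 1, 2, -2, -2, 0, 0, 1]))) (.node (.node (.leaf [0, 0, 1]) (.leaf [-14231, 13358, 2679, 40, 11433, 8930, -6616, -1739, -2316, -1312, -1447, 120, 15, 0, -1, 1])) (.node (.leaf [-251, 70, 78, -77, 86, 153, -64, 21, -35, -6, -15]) (.leaf [0, 0, 1])))))) (.node (.node (.node (.node (.node (.leaf [0, 0, 1]) (.leaf [0, 0, 1])) (.node (.leaf [0, 0, 0, -1, 0, 0, 1]) (.leaf [0, 0, 1]))) (.node (.node (.leaf []) (.leaf [0, 0, 1])) (.node (.leaf [0, 2, 1, -1, 0, 0, 1, 0, -1]) (.leaf [3, -2, 1, 3, -1, -2, -1, 0, 1])))) (.node (.node (.node (.leaf [12, -2,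 2, 7, -4, -8, 1, 0, 1]) (.leaf [-698, -716, -345, -481, -89, 235, 188, 208, 67, 13, 54, 14, 2])) (.node (.leaf [0, -2, -1, 0, 0, 0, 0, 0, 1]) (.leaf [-94765, 184044, -6864, 83511, 147063, 79399, -104486, -48658, 3002, -25471, -17154, -37, -3704, 1, -1, 0, -1]))) (.node (.node (.leaf [-89, 26, 25, -19, 37, 53, -30, 5, -11, -2, -5]) (.leaf [464, 806, -1138, 590, 820, -672, 210, -397, -27, -66, 85, 6, -4, 0, 0, 1])) (.node (.leaf [-3, -2, -1, -1, 1, 2, -1, 0, 1]) (.leaf [70247, -31888, 3362, 16191, -44738, -40832, 21047, 3979, 6800, 1486, 3368, 314, -3, 1, 0, -1]))))) (.node (.node (.node (.node (.leaf []) (.leaf [0, 0, 1])) (.node (.leaf [0, 0, 1, 1, 0, 0, -1]) (.leaf [0, 0, 1]))) (.node (.node (.leaf [0, 0, 1]) (.leaf [0, 0, 1])) (.node (.leaf [313, -384, -235, 7, -200, -278, 195, 34, 71, 38, 49]) (.leaf [4252, 21356, 10860, 11940, 6354, 2498, -9590, -4570, -1726, -2272, -1958, -24, -128, -1, 0, 1])))) (.node (.node (.node (.leaf [0, 0, 1]) (.leaf [])) (.node (.leaf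 []) (.leaf [0, 2, 1, -2, 0, 0, 2, 0, -1]))) (.node (.node (.leaf [-147, 76, 82, -45, 55, 117, -64, 2, -21, -4, -15]) (.leaf [-234, -136, 206, 13, -53, 123, -122, 90, -11, -3, -4, -4])) (.node (.leaf [0, 0, 1, 1, 0, 0, -1]) (.leaf [0, 0, 1])))))))

def twoL147 : Janko.Tree (List ℤ) :=
  (.node (.node (.node (.node (.node (.node (.leaf []) (.leaf [])) (.node (.leaf []) (.leaf []))) (.node (.node (.leaf [0, 0, 0, 1]) (.leaf [0, 0, 0, 1])) (.node (.leaf []) (.leaf [-1419, 598, 369, -358, 680, 910, -508, -8, -190, -22, -79, 1, -1])))) (.node (.node (.node (.leaf [0, 0, 0, 1]) (.leaf [-70, 10, 32, -40, 21, 51, -21, 6, -8, 4, -8, 1])) (.node (.leaf [-753, 954, 482, -22, 557, 618, -431, -94, -184, -79, -117, 0, -3]) (.leaf [13320, 2810, 11940, 2207, -8127, -4405, 691, 349, -1844, 577, -664, -79, 256, 0, 0, -1]))) (.node (.node (.leaf []) (.leaf [0, 0, 0, 1])) (.node (.leaf [728, -938, -215, -140, -694, -590, 534, 184, 114, 76, 73, 21, 1]) (.leaf [5955, -3846, -1128, 1716,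 -3351, -4060, 1741, 238, 813, 396, 570, -80, -14, -1]))))) (.node (.node (.node (.node (.leaf []) (.leaf [0, 0, 0, 1])) (.node (.leaf [12, -44, -27, 2, -11, -25, 18, 9, 8, 2, 2, 1]) (.leaf []))) (.node (.node (.leaf []) (.leaf [-8324, 30598, -6782, 7561, 24287, 4342, -7706, -8323, -3276, -1849, -1602, -227, -22, -1, 0, 1])) (.node (.leaf [58, 0, -33, 34, -19, -41, 24, -6, 6, -7, 8, -1]) (.leaf [-15, 6, 19, -2, -1, 16, -12, 2, -2, -2, -2, 0, 1])))) (.node (.node (.node (.leaf []) (.leaf [0, 0, 0, 1])) (.node (.leaf [-106, 14, 31, -32, 29, 65, -28, 11, -10, -3, -6, 1]) (.leaf [0, 0, 0, 1]))) (.node (.node (.leaf [-1116, 610, -255, -294, 853, 555, -219, -96, -126, -32, -62, 12, -1]) (.leaf [-232, 80, 56, -24, 93, 144, -89, 5, -22, -15, -8])) (.node (.leaf [0, 0, 0, 1]) (.leaf [165225, -19158, 12422, 51736, -73023, -95833, 38849, -3281, 5626, 1497, 4610, 487, 640, 0, 0, 1])))))) (.node (.node (.node (.node (.node (.leaf []) (.leaf [])) (.node (.leaf [0, 0, 0, 1]) (.leaf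 []))) (.node (.node (.leaf [138, -32, -213, 33, 49, -117, 60, -48, 40, 11, 12, 1]) (.leaf [])) (.node (.leaf []) (.leaf [-285355, 363984, 19674, 45730, 290165, 188063, -150243, -63409, -40184, -42382, -36624, 3597, -2990, 1, -1, -1, -1])))) (.node (.node (.node (.leaf []) (.leaf [1108, 1340, 1395, 43, -223, -497, 137, -120, -661, 131, -48, -26, 54])) (.node (.leaf [0, 0, 0, 1]) (.leaf [0, 0, 0, 1]))) (.node (.node (.leaf []) (.leaf [-6660, 3984, 512, -2084, 3924, 4300, -1672, -327, -846, -375, -547, 92, 11, 1])) (.node (.leaf []) (.leaf [507, -584, -328, -39, -357, -385, 311, 47, 117, 59, 71, -1, -1]))))) (.node (.node (.node (.node (.leaf []) (.leaf [30062, -18436, -11313, 2382, -16445, -21613, 15491, 1260, 3285, 1889, 2803, -65, 46, 1, 0, -1])) (.node (.leaf [0, 0, 0, 1]) (.leaf [44, 0, -52, 25, -7, -35, 27, -8, 8, -7, 8, -1]))) (.node (.node (.leaf [-512, 162, 95, -158, 248, 289, -139, 17, -66, -3, -36, 7]) (.leaf [])) (.node (.leaf [-609, 230, 224, -190, 217, 411,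 -189, 28, -90, -17, -37, 0, 1]) (.leaf [3709, 49176, 22952, 16121, 17814, 5075, -15567, -8862, -8681, -2920, -4231, -206, 312, -1, 0, 1])))) (.node (.node (.node (.leaf [-1158, 818, 564, -371, 484, 906, -401, -18, -232, -62, -92, -6, 1]) (.leaf [])) (.node (.leaf [147, 172, -27, 88, 27, -61, 22, -51, -6, -23, -5, -1]) (.leaf [0, 0, 0, 1]))) (.node (.node (.leaf [0, 0, 0, 1]) (.leaf [0, 0, 0, 1])) (.node (.leaf [0, 0, 0, 1]) (.leaf [70, -10, -34, 39, -21, -51, 23, -6, 8, -4, 8, -1])))))))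

def twoL148 : Janko.Tree (List ℤ) :=
  (.node (.node (.node (.node (.node (.node (.leaf [-2, 0, -1, -1, 1, 1]) (.leaf [43, -32, -58, 1, -11, -42, 37, -2, 9, 2, 7])) (.node (.leaf [1]) (.leaf [-20, -90, 1, 10, -20, -19, -11, 20, 5, 10, 10]))) (.node (.node (.leaf [-21, -2, -1, -7, 8, 12, -5, 2, 0, 0, -1]) (.leaf [3, 0, 1, 1, -1, -1])) (.node (.leaf [1]) (.leaf [-50474, 267668, 43941, 90801, 162811, 60235, -107890, -62766, -27845, -19767, -21650, -1870, 64, 0, 0, 1, 1])))) (.node (.node (.node (.leaf [2, 2, -1, 1, 1, -1, 0, -1]) (.leaf [-105034, 158318, -13395, -12027, 132237, 58581, -36418, -31405, -32209, -5532, -10477, -1010, 1474, -1, 1, 1, 1])) (.node (.leaf [88, -18, -18, 24, -31, -49, 21, -7, 11, 2, 3]) (.leaf [-14382, -19030, -12671, -12042, -940, 3921, 5657, 4138, 2692, 1290, 1453, 110, -168, 0, 0, -1]))) (.node (.node (.leaf [6, 2, -24, 0, 7, -13, 13, -3, -1, 0, 3]) (.leaf [-1813, 1172, -2619, -918, 2144, 443, 487, -573, -174, -26, 167, 19, 1, 0, 0, 1])) (.node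 (.leaf [1, 0, 0, 1, 0, -1]) (.leaf [1]))))) (.node (.node (.node (.node (.leaf [-7, -6, 1, -3, -1, 3, 0, 3]) (.leaf [3683, -2748, -1953, 82, -1944, -2571, 1837, 16, 611, 349, 421, -21, -2, 0, 1])) (.node (.leaf [1]) (.leaf [-189585, 164582, -39658, 21212, 176985, 116517, -89249, -37274, -5301, -21770, -15476, 792, -3262, 1, -1, -1, -1]))) (.node (.node (.leaf [329, 212, 21, 216, 5, -170, -4, -74, -4, -20, -7, -1]) (.leaf [0, 0, -1, 0, 1])) (.node (.leaf []) (.leaf [-2712, -2784, 584, -1861, -896, 1461, -16, 1026, 154, 158, 4, 44, 6, 0, -1])))) (.node (.node (.node (.leaf [1, 0, 0, 1, 0, -1]) (.leaf [])) (.node (.leaf [1]) (.leaf [-96498, -534644, -197474, -244404, -192950, -43212, 191608, 121206, 54788, 44908, 43324, 1800, 1296, 1, 0, -1, -1]))) (.node (.node (.leaf []) (.leaf [-165, 50, 22, -7, 65, 96, -59, 4, -12, -15, -2])) (.node (.leaf [-181, 58, 68, -59, 61, 120, -53, 13, -25, -4, -13]) (.leaf [-56644, 41544, 6101, -3870, 40883, 37404, -25416, -6098, -5864, -3918,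 -4751, 28, -169, 0, -1, 1])))))) (.node (.node (.node (.node (.node (.leaf [1, 0, 0, 1, 0, -1]) (.leaf [-297, 60, 108, -71, 99, 164, -91, 29, -40, -7, -18, 6])) (.node (.leaf [0, 2, -2, -1, 2, 1, 0, -1]) (.leaf [-71, 10, 35, -38, 21, 52, -24, 6, -8, 4, -8, 1]))) (.node (.node (.leaf [0, 0, -1, 0, 1]) (.leaf [-1, 0, 0, -1, 0, 1])) (.node (.leaf [3, 6, -5, 1, 5, -1, 0, -3]) (.leaf [28726, 229564, 191494, 118191, 38571, 67920, -131661, -39591, -20520, -25418, -27446, -571, -1236, 1, -1, -1, -1])))) (.node (.node (.node (.leaf [-2, 0, -1, -1, 1, 1]) (.leaf [1, -2, 1, 1, -1, -1, 0, 1])) (.node (.leaf [462, -116, -174, 123, -153, -276, 143, -39, 62, 12, 30, -7]) (.leaf [0, 8, -11, 3, 11, -3, 0, -4]))) (.node (.node (.leaf [0, 0, 0, -1, 0, 1]) (.leaf [-68, 28, 54, -15, 16, 49, -30, 8, -14, -2, -6])) (.node (.leaf [1, 0, 0, 1, 0, -1]) (.leaf [80200, 46112, 23510, 3038, -11806, -51606, 31436, -6834, -23208, 5328, -1580, 20, 3218, 0, 0, 1, 1]))))) (.node (.node (.node (.node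 (.leaf [-227, 362, 202, 15, 172, 217, -160, -38, -64, -36, -43]) (.leaf [-65, 76, 39, -2, 47, 52, -38, -8, -15, -6, -9])) (.node (.leaf []) (.leaf [1]))) (.node (.node (.leaf []) (.leaf [2, 0, 0, 1, 0, -1])) (.node (.leaf [237, -372, -203, -15, -183, -229, 172, 43, 62, 36, 45]) (.leaf [0, 0, -1, 0, 1])))) (.node (.node (.node (.leaf [-1, 0, 0, -1, 0, 1]) (.leaf [43, -30, -20, 16, -23, -43, 27, 7, 3, 0, 5])) (.node (.leaf [-1160, 664, -438, -399, 878, 612, -149, -158, -128, -36, -14, 7, -3]) (.leaf [12298, -203724, -123630, -121668, -65982, -67660, 122812, 38302, 6212, 31880, 24090, -1720, 3098, 0, 1, 0, 1]))) (.node (.node (.leaf [0, 0, 0, 0, 0, 0, 0, 0, 0, 0, 0, 0, 0, 0, 1, 0, 0]) (.leaf [-1275, -1894, -1577, -26, 31, 496, -78, 272, 806, -174, 65, 37, -59])) (.node (.leaf [3, 0, 1, 1, -1, -1]) (.leaf [86111, -411044, -70103, -96058, -247139, -88152, 136210, 89264, 60350, 22324, 31908, 3418, -1742, 0, 0, -1, -1])))))))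

def twoL149 : Janko.Tree (List ℤ) :=
  (.node (.node (.node (.node (.node (.node (.leaf []) (.leaf [7394, -343895, -47220, -111016, -191181, -35721, 103833, 82124, 43809, 19473, 24563, 3067, -1088, 1, -1, 0, -1])) (.node (.leaf []) (.leaf []))) (.node (.node (.leaf []) (.leaf [])) (.node (.leaf []) (.leaf [0, 1])))) (.node (.node (.node (.leaf []) (.leaf [0, 1])) (.node (.leaf [0, 1]) (.leaf [0, 1]))) (.node (.node (.leaf [2, 7, 0, 4, 4, -2, -2, -2, -1]) (.leaf [0, 1])) (.node (.leaf []) (.leaf [-152, 11, -63, -95, 86, 40, 39, 17, -22, 5, -8, 4, -1]))))) (.node (.node (.node (.node (.leaf []) (.leaf [])) (.node (.leaf []) (.leaf [0, 2, 0, 2, 0, 0, 0, 0, 0, -1]))) (.node (.node (.leaf [0, 1]) (.leaf [])) (.node (.leaf [0, 1]) (.leaf [0, -1, 0, -2, 0, 0, 0, 0, 0, 1])))) (.node (.node (.node (.leaf [602, -486, 219, 161, -510, -408, 147, 124, 25, 57, 44, -10, 3]) (.leaf [0, 1])) (.node (.leaf []) (.leaf []))) (.node (.node (.leaf [0, 1]) (.leaf [0, 1])) (.node (.leaf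 []) (.leaf [0, 1])))))) (.node (.node (.node (.node (.node (.leaf []) (.leaf [])) (.node (.leaf [69, -26, -37, 10, -23, -44, 28, -6, 11, 3, 5]) (.leaf [-10324, 13703, 4616, 1080, 9327, 7849, -6519, -1917, -2161, -1281, -1568, 59, 17, 1, -1]))) (.node (.node (.leaf []) (.leaf [0, 2, 0, 2, 0, 0, 0, 0, 0, -1])) (.node (.leaf [897, -628, 167, 236, -646, -573, 207, 116, 79, 71, 54, -9, 3]) (.leaf [42420, 293535, 218646, 149188, 60543, 69801, -154057, -52848, -28594, -30678, -32859, -675, -1113, 1, -1, 0, -1])))) (.node (.node (.node (.leaf [-410, -966, -491, -797, -290, 184, 399, 184, 120, 106, 72, 2, -1]) (.leaf [0, 1])) (.node (.leaf [0, 1]) (.leaf [0, 1]))) (.node (.node (.leaf []) (.leaf [0, 1])) (.node (.leaf [-1310, 656, 7, -137, 838, 728, -467, -74, -112, -91, -80, 26, 3]) (.leaf [463, -185, -110, 161, -178, -329, 128, -7, 52, 19, 28, 1]))))) (.node (.node (.node (.node (.leaf []) (.leaf [118, -102, -19, 31, -91, -81, 42, 13, 19, 5, 15, -1])) (.node (.leaf [0, 1])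 (.leaf [1050, -232, -1201, 267, 40, -1156, 847, -63, 108, -24, 50, 46, -1]))) (.node (.node (.leaf [0, 1]) (.leaf [])) (.node (.leaf []) (.leaf [])))) (.node (.node (.node (.leaf [-4, -3, 10, 2, -6, 2, -2, 4, -1, -1]) (.leaf [0, 1])) (.node (.leaf []) (.leaf [0, 1]))) (.node (.node (.leaf [0, 1]) (.leaf [0, 1])) (.node (.leaf [10540, -13682, -4722, -956, -9304, -8004, 6534, 1866, 2176, 1297, 1586, -68, -16, -1, 1]) (.leaf [0, 1])))))))

def twoL150 : Janko.Tree (List ℤ) :=
  (.node (.node (.node (.node (.node (.node (.leaf [0, 0, 0, -1, 0, 0, 1]) (.leaf [0, 0, 0, -1, 0, 0, 1])) (.node (.leaf [159, -62, -86, 50, -49, -119, 61, -10, 22, 4, 15]) (.leaf [0, 0, 1]))) (.node (.node (.leaf [0, 0, 0, -1, 0, 0, 1]) (.leaf [0, 0, 0, -1, 0, 0, 1])) (.node (.leaf [-23098, 28532, 7190, 4742, 20803, 18083, -15909, -4959, -2737, -3442, -3112, 177, -193, 0, 0, 1]) (.leaf [-2031, 636, 728, -479, 766, 1324, -757, 90, -241, -43, -123, 3, -4])))) (.node (.node (.node (.leaf [0, 0, 1])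 (.leaf [-592, 36, 313, -96, 101, 359, -227, 92, -66, -17, -26, 0, -1])) (.node (.leaf [3, 8, 3, 2, 3, 3, -5, -4, 1, 0, -1]) (.leaf [-194, 50, 81, -76, 57, 139, -63, 12, -20, -4, -17, 4, 0, 0, 0, -1]))) (.node (.node (.leaf [0, 0, 1]) (.leaf [474, -678, -471, -98, -341, -399, 365, 50, 141, 64, 82, 1, 1])) (.node (.leaf [-2482, 1734, 1118, -489, 1204, 1882, -1073, -80, -412, -156, -215, -7, 3]) (.leaf [30641, 1476, -15503, 7698, -2279, -21642, 11334, -5140, 758, 1737, 2339, -559, 127, -1, 0, 1]))))) (.node (.node (.node (.node (.leaf [0, 0, 1, 1, 0, 0, -1]) (.leaf [0, 0, 1])) (.node (.leaf [-5, 2, 0, -1, 3, 2, -1, 0, -1]) (.leaf [0, 0, 1, 1, 0, 0, -1]))) (.node (.node (.leaf [-763, 602, 55, -276, 542, 524, -228, -108, -140, -8, -43, -1, -1]) (.leaf [0, 0, 1])) (.node (.leaf []) (.leaf [-757, -126, -38, -309, 211, 406, -119, 80, -18, 10, -10, 0, 1])))) (.node (.node (.node (.leaf [-596, 34, 302, -99, 106, 362, -227, 90, -63, -17, -26, 0, -1]) (.leaf [-4, 2, -1, -3, 2,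 2, 1, 0, -1])) (.node (.leaf [157, -132, -119, 62, -56, -149, 71, 6, 34, 8, 18]) (.leaf [-533056, -2896088, -1499244, -1315168, -856056, -333187, 1141523, 587825, 342779, 244030, 264024, 9300, 86, 1, 0, -1, -1]))) (.node (.node (.leaf [-4, -2, -4, -3, 2, 2, 1, 0, 1]) (.leaf [6176, -1614, 5041, 875, -5392, -2864, 1155, 909, -615, 265, 96, 35, 117, 0, 0, 1])) (.node (.leaf [0, 0, 0, -1, 0, 0, 1]) (.leaf [578, -130, 32, 161, -289, -311, 140, 2, 43, 10, 15, -6, 1])))))) (.node (.node (.node (.node (.node (.leaf [0, 0, 1, 1, 0, 0, -1]) (.leaf [0, 0, 1, 1, 0, 0, -1])) (.node (.leaf [0, 0, 1]) (.leaf [0, 0, 1, 1, 0, 0, -1]))) (.node (.node (.leaf [0, 0, 1]) (.leaf [0, 0, 1, 1, 0, 0, -1])) (.node (.leaf [72, -28, -47, 17, -19, -51, 30, -6, 13, 2, 5]) (.leaf [4, -2, 1, 2, -2, -2, 0, 0, 1])))) (.node (.node (.node (.leaf [0, 0, 0, -1, 0, 0, 1]) (.leaf [])) (.node (.leaf []) (.leaf [72, -18, -41, 25, -13, -51, 22, -9, 11, 2, 5]))) (.node (.node (.leaf [6, 14, 0, 13, 8, -5, -8,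 -7, -3, 0, 3]) (.leaf [4, -2, 2, 7, -1, -7, 0, 1, -1, 0, 1])) (.node (.leaf [0, -2, -1, 0, 0, 0, 0, 0, 1]) (.leaf [0, 0, 1]))))) (.node (.node (.node (.node (.leaf [-234, 390, 219, 11, 179, 236, -171, -44, -66, -38, -47]) (.leaf [30954, -18904, -11906, 2541, -16745, -22337, 15972, 1246, 3415, 1927, 2879, -61, 46, 1, 0, -1])) (.node (.leaf [0, 2, 1, -1, 0, 0, 1, 0, -1]) (.leaf [-49705, -674, -71228, 7904, 48779, 16725, -9461, -10388, 15740, -5150, 2569, -80, -2354, 0, -1, 0, -1]))) (.node (.node (.leaf []) (.leaf [-4, 0, -1, -1, 2, 2, -1])) (.node (.leaf [0, 0, 1]) (.leaf [0, 0, 1])))) (.node (.node (.node (.leaf [-1094, 646, 607, -316, 378, 828, -390, 36, -210, -58, -88, -4, 1]) (.leaf [75, -50, -4, 18, -50, -41, 19, 5, 15, 2, 3])) (.node (.leaf [53, 2, -6, 21, -15, -33, 12, -6, 2, 0, 3]) (.leaf [-16399, -181380, -116385, -115972, -45608, -46790, 103526, 34730, 5186, 28214, 21156, -1488, 2892, 0, 1, 0, 1]))) (.node (.node (.leaf []) (.leaf [605, -542, 10, 151, -495,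 -403, 226, 125, 108, 20, 25, -4, -3])) (.node (.leaf [0, 0, 0, -1, 0, 0, 1]) (.leaf [18358, -102684, -187150, -2004, 16654, -69721, 70937, -1330, 34630, 1856, 17648, 1036, -2498, 0, 0, 0, -1])))))))

def twoL151 : Janko.Tree (List ℤ) :=
  (.node (.node (.node (.node (.node (.node (.leaf [0, 0, 0, 1]) (.leaf [0, 0, 0, 1])) (.node (.leaf []) (.leaf []))) (.node (.node (.leaf [0, 0, 0, 1]) (.leaf [0, 0, 0, 1])) (.node (.leaf [88, -40, -49, 27, -21, -71, 34, -3, 10, 8, 8, -3]) (.leaf [-155, 184, 278, 171, 81, 113, -217, 12, -38, -34, -33, 1])))) (.node (.node (.node (.leaf []) (.leaf [-105716, 158886, -13015, -12371, 132491, 59204, -36600, -31419, -32351, -5572, -10557, -1014, 1470, -1, 1, 1, 1])) (.node (.leaf []) (.leaf []))) (.node (.node (.leaf []) (.leaf [])) (.node (.leaf [0, 0, 0, 1]) (.leaf [31071, 1040, -15571, 7674, -2671, -21828, 11473, -5112, 852, 1781, 2399, -573, 133, -1, 0, 1]))))) (.node (.node (.node (.node (.leaf [0, 0, 0, 1]) (.leaf [])) (.node (.leaf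 []) (.leaf [0, 0, 0, 1]))) (.node (.node (.leaf [393, 164, -7, 246, -31, -227, 24, -68, 6, -20, 1, -1]) (.leaf [98, -28, -44, 37, -23, -70, 27, -9, 12, 4, 8, -1])) (.node (.leaf []) (.leaf [0, 0, 0, 1])))) (.node (.node (.node (.leaf [0, 0, 0, 1]) (.leaf [])) (.node (.leaf []) (.leaf [0, 0, 0, 1]))) (.node (.node (.leaf [242, -1308, -1032, -725, -420, -474, 867, 196, 182, 145, 110, 20, 1]) (.leaf [703, -222, -182, 219, -309, -431, 215, -26, 88, 5, 50, -6])) (.node (.leaf [0, 0, 0, 1]) (.leaf [456, -118, 68, 85, -263, -227, 125, 16, 29, 12, 5, -4, 1])))))) (.node (.node (.node (.node (.node (.leaf [0, 0, 0, 1]) (.leaf [0, 0, 0, 1])) (.node (.leaf []) (.leaf [0, 0, 0, 1]))) (.node (.node (.leaf [-480, 678, 486, 100, 341, 409, -379, -50, -140, -64, -84, -1]) (.leaf [0, 0, 0, 1])) (.node (.leaf [0, 0, 0, 1]) (.leaf [0, 0, 0, 1])))) (.node (.node (.node (.leaf [0, 0, 0, 1]) (.leaf [-547, 312, 211, -81, 287, 399, -270, -18, -62, -25, -52, 1])) (.node (.leaf []) (.leaf [])))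 (.node (.node (.leaf [0, 0, 0, 1]) (.leaf [-4948, 3708, 212, -1056, 3510, 3018, -1402, -406, -704, -368, -464, 80, 8, 1])) (.node (.leaf [0, 0, 0, 1]) (.leaf []))))) (.node (.node (.node (.node (.leaf [0, 0, 0, 1]) (.leaf [0, 0, 0, 1])) (.node (.leaf []) (.leaf []))) (.node (.node (.leaf []) (.leaf [0, 0, 0, 1])) (.node (.leaf [143, -166, -294, -168, -59, -107, 211, -20, 38, 33, 33, -1]) (.leaf [2324, 17778, -13334, 3465, 15809, -4012, 1079, -6786, -1925, 36, 88, -362, 60, 0, -1, 1])))) (.node (.node (.node (.leaf [0, 0, 0, 1]) (.leaf [-64780, -74144, -142717, -20882, 39229, -5832, 35726, 4672, 28690, -4285, 8216, 2804, -3025, 1, -1, -1, -1])) (.node (.leaf [0, 0, 0, 1]) (.leaf [-16731, -181214, -116194, -116017, -45483, -46519, 103337, 34729, 5144, 28205, 21134, -1497, 2892, 0, 1, 0, 1]))) (.node (.node (.leaf []) (.leaf [597, -542, 2, 145, -485, -401, 227, 125, 108, 22, 23, -4, -3])) (.node (.leaf [0, 0, 0, 1]) (.leaf [])))))))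

def twoL152 : Janko.Tree (List ℤ) :=
  (.node (.node (.node (.node (.node (.node (.leaf []) (.leaf [])) (.node (.leaf [-168, 74, 21, -40, 88, 91, -43, 0, -28, -4, -5]) (.leaf [-6, -2, -1, -3, 1, 3, 0, 1]))) (.node (.node (.leaf []) (.leaf [58, -12, -37, 29, -19, -43, 24, -5, 8, -4, 8, -1])) (.node (.leaf [-23253, 28580, 7277, 4676, 20840, 18205, -15965, -4949, -2755, -3446, -3128, 181, -193, 0, 0, 1]) (.leaf [71864, -33334, -15011, 787, -36871, -49128, 34257, 1707, 1814, 6891, 6104, -744, 895, -1, 1, 1, 1])))) (.node (.node (.node (.leaf [-74, 14, 38, -37, 22, 53, -24, 7, -10, 3, -8, 1]) (.leaf [-72, 10, 33, -39, 22, 52, -23, 6, -8, 4, -8, 1])) (.node (.leaf [2, 6, -4, 0, 4, 0, 0, -3]) (.leaf [69, -10, -33, 39, -20, -50, 21, -6, 8, -4, 8, -1]))) (.node (.node (.leaf [1, 0, 0, 1, 0, -1]) (.leaf [5869, -27242, 3872, -11791, -19320, -4467, 8934, 7072, 864, 3428, 2023, -136, 370, 0, 0, 1])) (.node (.leaf [-3, 6, -7, -2, 7, 2, 0, -3]) (.leaf [4323, -4320, -786, 886, -3276,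 -3032, 1486, 535, 764, 410, 531, -73, -7, -1]))))) (.node (.node (.node (.node (.leaf [-529, 290, 334, -120, 176, 424, -248, 14, -82, -28, -49]) (.leaf [7117, -9536, -2168, -1493, -7251, -4402, 4123, 1230, 1517, 987, 1135, -97, -4, 0, 1])) (.node (.leaf [1, 0, 0, 1, 0, -1]) (.leaf [-1, -4, 3, -1, -3, 1, 0, 2]))) (.node (.node (.leaf [1]) (.leaf [3, 0, 1, 1, -1, -1])) (.node (.leaf [-25, 38, -1, 1, 14, 22, -5, -6, -4, -10, 0, 1]) (.leaf [-13161, 50826, 9076, 15286, 29304, 12956, -18000, -10242, -5460, -5264, -4590, 283, -140, 0, -1, 1])))) (.node (.node (.node (.leaf [62, -26, -26, 14, -23, -35, 17, -5, 13, 2, 3]) (.leaf [218, -348, -191, -18, -170, -209, 159, 39, 59, 34, 42])) (.node (.leaf [218, 268, -76, 216, 147, -165, -11, -84, -14, -20, -16]) (.leaf [97968, -148432, 19959, 11414, -128072, -50403, 30505, 29720, 30411, 5001, 9843, 691, -1450, 0, 0, -1, -1]))) (.node (.node (.leaf [4, 2, -1, 3, 1, -3, 0, -1]) (.leaf [5455, -16470, -1085, -4378, -11129, -3764, 5310,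 3367, 2092, 1424, 1360, -8, 0, 0, 1])) (.node (.leaf [6068, -12924, -2637, -5222, -9050, -4457, 6623, 2495, 987, 1662, 1452, -227, 93, 0, 0, -1]) (.leaf [-40716, -133826, -112202, -114699, -12099, -31226, 91589, 26449, -3895, 25727, 17191, -1619, 3060, 0, 0, 1, 1])))))) (.node (.node (.node (.node (.node (.leaf []) (.leaf [114, -42, 77, 29, -103, -23, -2, 9, 14, 1, 0, -3])) (.node (.leaf [2, 2, -1, 0, 1, 0, 0, -1]) (.leaf [-5028, -70, 1879, -1844, 738, 3405, -1445, 685, -337, -77, -255, 13, 6, 0, -1]))) (.node (.node (.leaf []) (.leaf [182, -58, -68, 59, -61, -120, 53, -13, 25, 4, 13])) (.node (.leaf [617, -870, -288, 189, -454, -631, 310, 154, 138, 62, 77, 3, 1]) (.leaf [65308, 218274, 195870, 124607, 18581, 45820, -120791, -38374, -20294, -23104, -25651, -829, -885, 1, -1, -1, -1])))) (.node (.node (.node (.leaf [-11, -2, -3, -7, 3, 7, 0, 1]) (.leaf [0, 0, -1, 0, 1])) (.node (.leaf [0, 0, 0, -1, 0, 1]) (.leaf [-36735, -829910, -305345, -333839, -343140, -132208,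 322687, 181251, 91403, 66635, 70621, 4170, 875, 1, -1, -1, -1]))) (.node (.node (.leaf [6, 14, -2, 13, 9, -6, -7, -7, -3, 0, 3]) (.leaf [52477, 89252, 51843, 23616, 14044, -20541, -7775, -15362, -24989, 795, -6625, -1003, 2558, 0, 0, 1, 1])) (.node (.leaf [344, -62, -132, 109, -97, -212, 101, -34, 40, 8, 24, -7]) (.leaf [188530, -230844, 45441, -30199, -207271, -105979, 75466, 45044, 18918, 30984, 21104, -3788, 3160, 0, 0, 1, 1]))))) (.node (.node (.node (.node (.leaf []) (.leaf [-69, 72, 51, -10, 38, 65, -43, -7, -13, -6, -10])) (.node (.leaf [-105, 12, 33, -45, 19, 65, -18, 13, -13, -5, -5, 3, 1]) (.leaf [29748, -40910, -84429, 19414, 3514, -33983, 21697, -7754, 23224, -966, 8549, -434, -2164, 0, -1, 0, -1]))) (.node (.node (.leaf [1]) (.leaf [])) (.node (.leaf [1, 2, -17, 4, 10, -5, 1, -4, 2, 0, 1]) (.leaf [-120, 310, 105, 88, 180, 75, -109, -41, -60, -27, -27, 1, -1])))) (.node (.node (.node (.leaf [-5, 2, -4, -3, 4, 3, 0, -1]) (.leaf [1])) (.node (.leaf [40, -22,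 -2, 12, -27, -29, 17, 5, 3, 0, 3]) (.leaf [-561, -874, 319, -398, -461, 284, 16, 319, 36, 38, 33, 17, -6, 0, 1]))) (.node (.node (.leaf [-9, -26, -7, 28, -4, -11, -9, 7, 4, -3, 6, -1]) (.leaf [3, 0, 1, 1, -1, -1])) (.node (.leaf [-26, 20, 9, 2, 5, 18, -6, 1, -4, -8, 0, 1]) (.leaf [-61579, 25096, -63629, 49449, 67981, 41911, -52918, -21984, 30789, -14807, -2132, -40, -4374, 0, 0, -1, -1])))))))

def twoL153 : Janko.Tree (List ℤ) :=
  (.node (.node (.node (.node (.node (.node (.leaf [0, 1]) (.leaf [0, 1])) (.node (.leaf [0, 2, 2, 0, 0, 0, 0, 0, -1]) (.leaf [-15976, 13651, 2464, -1194, 12188, 9920, -6432, -1558, -2454, -1315, -1666, 158, 10, 1, -1]))) (.node (.node (.leaf [0, 1]) (.leaf [0, 1])) (.node (.leaf []) (.leaf [0, 1])))) (.node (.node (.node (.leaf []) (.leaf [])) (.node (.leaf []) (.leaf []))) (.node (.node (.leaf []) (.leaf [2210, 688, 569, 1385, -426, -1160, -103, -260, 17, -52, -40, -12, 3])) (.node (.leaf [0, 1]) (.leaf [0, 1]))))) (.node (.node (.node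 (.node (.leaf [0, 1]) (.leaf [4, -5, -4, -2, -2, -2, 2, 0, 2, 1])) (.node (.leaf [-90, 14, 59, -31, 14, 72, -41, 10, -9, -1, -8, 0, 1]) (.leaf [0, 1]))) (.node (.node (.leaf []) (.leaf [26762, -17450, -1712, 2610, -18535, -16323, 10143, 1967, 2677, 1921, 2296, -215, 79, -1, 1])) (.node (.leaf []) (.leaf [79166, 829874, 300466, 345774, 330700, 103446, -307682, -183120, -91244, -66343, -69804, -3732, -694, -1, 0, 1, 1])))) (.node (.node (.node (.leaf [0, 1]) (.leaf [])) (.node (.leaf [4, -2, -2, 0, -2, -2, 2, 0, 1]) (.leaf [0, 1]))) (.node (.node (.leaf []) (.leaf [])) (.node (.leaf [0, 1]) (.leaf [0, 1])))))) (.node (.node (.node (.node (.node (.leaf [0, 1]) (.leaf [0, 1])) (.node (.leaf []) (.leaf []))) (.node (.node (.leaf [0, 1]) (.leaf [-12295, -20940, -10207, -13402, -4105, 3400, 6546, 4806, 2260, 1763, 1676, 18, -53, 0, 1, -1])) (.node (.leaf [0, 1]) (.leaf [0, 1])))) (.node (.node (.node (.leaf []) (.leaf [])) (.node (.leaf []) (.leaf []))) (.node (.node (.leaf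 []) (.leaf [0, 1])) (.node (.leaf [0, 1]) (.leaf [-13714, 13175, 2884, -178, 11074, 8648, -6178, -1542, -2283, -1309, -1616, 154, 9, 1, -1]))))) (.node (.node (.node (.node (.leaf [0, 1]) (.leaf [0, 1])) (.node (.leaf []) (.leaf []))) (.node (.node (.leaf []) (.leaf [0, 1])) (.node (.leaf [0, 1]) (.leaf [0, 1])))) (.node (.node (.node (.leaf [0, 1]) (.leaf [])) (.node (.leaf [0, 1]) (.leaf [0, 1]))) (.node (.node (.leaf []) (.leaf [146511, -110208, 63523, -12500, -140104, -81719, 56817, 29690, -1896, 16175, 8609, -643, 3169, -1, 1, 0, 1])) (.node (.leaf [0, 1]) (.leaf [0, 2, 0, 2, 0, 0, 0, 0, 0, -1])))))))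

def twoL154 : Janko.Tree (List ℤ) :=
  (.node (.node (.node (.node (.node (.node (.leaf []) (.leaf [])) (.node (.leaf [0, 0, 1]) (.leaf [0, 0, 1, 1, 0, 0, -1]))) (.node (.node (.leaf []) (.leaf [])) (.node (.leaf [0, 0, 1]) (.leaf [-98251, -10610, -3334, -51991, 29574, 54088, -11461, 8721, -7635, 4937, -463, -964, 709, -1, 1, 1, 1])))) (.node (.node (.node (.leaf [0, 0, 1, 1, 0, 0, -1]) (.leaf [0, 0, 0, -1, 0, 0, 1])) (.node (.leaf [0, 0, 0, -1, 0, 0, 1]) (.leaf [0, 0, 1]))) (.node (.node (.leaf [0, 0, 1, 1, 0, 0, -1]) (.leaf [0, 0, 0, -1, 0, 0, 1])) (.node (.leaf []) (.leaf [0, -2, -4, -3, 0, 0, 3, 0, 1]))))) (.node (.node (.node (.node (.leaf [-65, 38, 64, -24, 11, 60, -32, 4, -14, -2, -7]) (.leaf [0, 0, 1, 1, 0, 0, -1])) (.node (.leaf [638, -278, -264, -39, -284, -338, 281, -44, 99, 49, 36, 0, -1]) (.leaf [-79, 34, 29, -17, 35, 49, -28, 3, -13, -2, -5]))) (.node (.node (.leaf [-5, -6, -1, -3, -1, 2, 1, 2, 1]) (.leaf [0, 0, 0, -1, 0, 0, 1])) (.node (.leaf [0, 0,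 1]) (.leaf [0, 0, 1])))) (.node (.node (.node (.leaf [3, 4, 7, 2, -1, 3, -5, -2, 1, 0, -1]) (.leaf [0, 0, 1])) (.node (.leaf [0, 0, 1]) (.leaf [-545286, -2815022, -1479603, -1294716, -814752, -317170, 1117330, 571837, 331057, 237733, 257339, 9428, 117, 0, 0, 0, -1]))) (.node (.node (.leaf [0, 0, 1]) (.leaf [0, 0, 1])) (.node (.leaf [-9962, -14636, -9021, -9242, -1219, 2193, 4673, 3273, 1653, 1244, 1204, 17, -73, 0, 0, -1]) (.leaf [250, -892, -191, -395, -657, -185, 486, 218, 111, 39, 70, 8])))))) (.node (.node (.node (.node (.node (.leaf []) (.leaf [])) (.node (.leaf [0, 0, 1, 1, 0, 0, -1]) (.leaf [0, 0, 1]))) (.node (.node (.leaf [4, -2, 7, 1, -6, -2, 1, 2, -1]) (.leaf [177, -58, -71, 57, -58, -119, 54, -13, 25, 4, 13])) (.node (.leaf [973, -966, -356, 305, -583, -843, 386, 131, 184, 72, 92, 3, 1]) (.leaf [1178, -1062, -677, 169, -658, -980, 627, 86, 231, 69, 122, 22, 1])))) (.node (.node (.node (.leaf [0, 0, 1]) (.leaf [0, 0, 1])) (.node (.leaf [-1, 2, 1, 0, 1, 0,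 0, 0, -1]) (.leaf [0, 0, 0, -1, 0, 0, 1]))) (.node (.node (.leaf [0, 0, 0, -1, 0, 0, 1]) (.leaf [])) (.node (.leaf []) (.leaf [0, 0, 1, 1, 0, 0, -1]))))) (.node (.node (.node (.node (.leaf []) (.leaf [-65, 92, 75, -36, 19, 87, -35, -9, -17, -8, -12])) (.node (.leaf [74, -30, -25, 9, -34, -41, 28, -3, 13, 2, 3]) (.leaf [0, 0, 1]))) (.node (.node (.leaf [-5, 2, 0, -1, 3, 2, -1, 0, -1]) (.leaf [4, -2, 0, 1, -2, -2, 1, 0, 1])) (.node (.leaf [-1, -6, -9, 4, 3, -5, 1, 0, 2, 0, 1]) (.leaf [54, 214, -29, 118, 117, -57, -19, -53, -28, -21, -5, 1, -1])))) (.node (.node (.node (.leaf []) (.leaf [-32, 22, 5, -12, 22, 27, -15, -5, -3, 0, -3])) (.node (.leaf [24, -2, 6, 6, -14, -11, 5, -1, 1, 0, 1]) (.leaf [-12485, 344524, 49368, 108763, 192382, 38964, -105005, -81401, -44389, -19570, -25111, -2919, 1128, 0, 1, 0, 1]))) (.node (.node (.leaf [0, 0, 1]) (.leaf [0, 0, 0, -1, 0, 0, 1])) (.node (.leaf []) (.leaf [276, -1220, 70, -225, -745, -207, 210, 264, 145, 129, 90, -16, -2])))))))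

def twoL155 : Janko.Tree (List ℤ) :=
  (.node (.node (.node (.node (.node (.node (.leaf []) (.leaf [])) (.node (.leaf [-108, 438, 327, -10, 146, 114, -124, -50, -164, 16, -15, -11, 5]) (.leaf [0, 0, 0, 1]))) (.node (.node (.leaf []) (.leaf [10, 4, 3, 7, -3, -4, 0, -1, 0, 0, 0, -1])) (.node (.leaf []) (.leaf [66456, -10830, 21925, 14793, -31031, -34593, 6669, -953, -1996, 6411, 1798, -1262, 1417, -1, 1, 1, 1])))) (.node (.node (.node (.leaf [0, 0, 0, 1]) (.leaf [0, 0, 0, 1])) (.node (.leaf [0, 0, 0, 1]) (.leaf [70, -10, -34, 39, -21, -51, 23, -6, 8, -4, 8, -1]))) (.node (.node (.leaf [0, 0, 0, 1]) (.leaf [0, 0, 0, 1])) (.node (.leaf []) (.leaf [4525, -4380, -846, 938, -3362, -3157, 1556, 527, 788, 410, 543, -73, -5, -1]))))) (.node (.node (.node (.node (.leaf []) (.leaf [0, 0, 0, 1])) (.node (.leaf [0, 0, 0, 1]) (.leaf []))) (.node (.node (.leaf [-309, -108, 234, -6, -26, 167, -141, 96, -24, -5, -8, -4, -1]) (.leaf [0, 0, 0, 1])) (.node (.leaf [-18, 38, 4, 5, 9, 19,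 -5, -6, -4, -10, 0, 1]) (.leaf [8945, 65046, 21328, 23074, 24779, 2881, -16499, -12805, -9364, -5043, -5626, 129, 186, 0, -1, 1])))) (.node (.node (.node (.leaf []) (.leaf [])) (.node (.leaf []) (.leaf []))) (.node (.node (.leaf []) (.leaf [-2307, -6, -271, -748, 951, 1032, -294, 194, -148, -14, -48, 16, 3])) (.node (.leaf []) (.leaf [55644, 13000, -16218, 22929, -3937, -36369, 13963, -9296, 1330, -200, 1727, -100, 39, 0, -1, 1])))))) (.node (.node (.node (.node (.node (.leaf []) (.leaf [-712, 164, 593, -53, 67, 477, -319, 142, -106, -61, -66, 8, 1])) (.node (.leaf [0, 0, 0, 1]) (.leaf []))) (.node (.node (.leaf []) (.leaf [0, 0, 0, 1])) (.node (.leaf [643, -866, -276, 197, -467, -641, 313, 153, 138, 62, 76, 3, 1]) (.leaf [-172, 66, 40, -53, 73, 135, -69, -5, -8, -7, -14, 1])))) (.node (.node (.node (.leaf [-389, 60, -37, -100, 200, 131, -35, 32, -48, -11, -16, 13]) (.leaf [-917, -138, -62, -394, 285, 523, -171, 74, -6, 20, -20, 1])) (.node (.leaf [0, 0, 0, 1]) (.leaf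 [0, 0, 0, 1]))) (.node (.node (.leaf [0, 0, 0, 1]) (.leaf [])) (.node (.leaf []) (.leaf [0, 0, 0, 1]))))) (.node (.node (.node (.node (.leaf []) (.leaf [])) (.node (.leaf [0, 0, 0, 1]) (.leaf []))) (.node (.node (.leaf []) (.leaf [])) (.node (.leaf []) (.leaf [-58067, 72918, 9624, 5586, 58761, 39595, -33225, -12961, -10396, -5859, -7124, -59, -60, 0, -1, 1])))) (.node (.node (.node (.leaf []) (.leaf [])) (.node (.leaf []) (.leaf []))) (.node (.node (.leaf [17, -12, -20, 39, 1, -29, -1, 0, 4, -3, 6, -1]) (.leaf [0, 0, 0, 1])) (.node (.leaf [154, -44, -79, 68, -45, -113, 52, -11, 20, 0, 16, -3]) (.leaf [0, 0, 0, 1])))))))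

def twoL156 : Janko.Tree (List ℤ) :=
  (.node (.node (.node (.node (.node (.node (.leaf [1]) (.leaf [1])) (.node (.leaf [1, 0, 0, 1, 0, -1]) (.leaf []))) (.node (.node (.leaf [1]) (.leaf [1])) (.node (.leaf [-75, 8, 35, -40, 21, 54, -24, 7, -8, 4, -8, 1]) (.leaf [-670, 562, 21, -180, 519, 452, -252, -124, -116, -18, -31, 5, 3])))) (.node (.node (.node (.leaf []) (.leaf [0, 0, -1, 0, 1])) (.node (.leaf [-498, 194, 367, -5, 135, 319, -250, 61, -86, -33, -40, 1]) (.leaf [0, 0, 0, -1, 0, 1]))) (.node (.node (.leaf []) (.leaf [3, 0, 1, 1, -1, -1])) (.node (.leaf [107687, -159096, 13482, 13058, -133637, -59993, 36891, 31415, 32534, 5521, 10577, 980, -1479, 1, -1, -1, -1]) (.leaf [-43908, -45926, -10637, -11990, -9459, 27782, -8436, 10537, 14586, -2578, 1518, 738, -1838, 0, 0, -1, -1]))))) (.node (.node (.node (.node (.leaf [3, 0, 1, 1, -1, -1]) (.leaf [9151, -18566, -44, -3575, -14142, -5509, 6060, 3712, 2516, 1513, 1543, -5, 4, 0, 1])) (.node (.leaf [-49, 26, 36, -4, 19,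 35, -27, 3, -9, -2, -5]) (.leaf [0, 0, 0, -1, 0, 1]))) (.node (.node (.leaf []) (.leaf [55, -34, -41, 27, -19, -49, 24, 0, 10, 0, 8, -1])) (.node (.leaf [0, 0, 0, -1, 0, 1]) (.leaf [-21380, 66002, 22473, 13788, 36129, 20332, -24870, -11291, -10894, -4786, -6191, -58, 219, 0, -1, 1])))) (.node (.node (.node (.leaf [2, 2, 0, 0, 0, 0, 0, -1]) (.leaf [0, 2, -1, -1, 1, 1, 0, -1])) (.node (.leaf [1, 0, 0, 1, 0, -1]) (.leaf [0, 0, -1, 0, 1]))) (.node (.node (.leaf [-75, 14, 37, -37, 23, 53, -24, 7, -10, 3, -8, 1]) (.leaf [6505, -17974, -282, -4223, -12692, -4267, 5514, 3773, 2286, 1470, 1440, 14, 4, 0, 1])) (.node (.leaf [1]) (.leaf [58925, 12624, 24674, 32402, -23920, -26428, -546, -3572, 1162, -3108, -1188, 472, -78, 0, 0, 1])))))) (.node (.node (.node (.node (.node (.leaf [1]) (.leaf [-415, 370, 246, -7, 248, 317, -242, -25, -76, -34, -50])) (.node (.leaf [3, 0, 1, 1, -1, -1]) (.leaf [1044, 4538, 170, 2533, 2449, -638, -1099, -1127, -459, -367, -285, -15, -16, 0, -1])))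 (.node (.node (.leaf [-600, 730, 407, 59, 448, 470, -399, -72, -142, -64, -86, -1]) (.leaf [-1, -4, 3, -1, -3, 1, 0, 2])) (.node (.leaf [57600, 45592, 33901, 13839, -5365, -28555, 5292, -8332, -16730, 3512, -2446, -1062, 2262, 0, 1, 0, 1]) (.leaf [1])))) (.node (.node (.node (.leaf []) (.leaf [])) (.node (.leaf []) (.leaf [-1, -2, 1, -1, -1, 1, 0, 1]))) (.node (.node (.leaf []) (.leaf [121074, -22772, 44881, 1157, -71111, -67227, 37678, 6226, -13011, 12453, 3975, -1569, 3312, 0, 0, 1, 1])) (.node (.leaf [0, 0, 0, -1, 0, 1]) (.leaf [0, 0, -1, 0, 1]))))) (.node (.node (.node (.node (.leaf [1]) (.leaf [3, 0, 1, 1, -1, -1])) (.node (.leaf []) (.leaf [1, 0, 0, 1, 0, -1]))) (.node (.node (.leaf [1, 0, 0, 1, 0, -1]) (.leaf [-2, 0, -1, -1, 1, 1])) (.node (.leaf [1]) (.leaf [-856, 214, 1119, -184, -85, 1024, -792, 39, -89, 22, -33, -47, 1])))) (.node (.node (.node (.leaf [0, 0, -1, 0, 1]) (.leaf [-1, -10, 12, 0, -9, 3, -3, 5, 1, 0, -1])) (.node (.leaf [1]) (.leaf [69, -10,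 -33, 39, -20, -50, 21, -6, 8, -4, 8, -1]))) (.node (.node (.leaf []) (.leaf [-164, 40, 52, -19, 57, 110, -73, 7, -11, -8, -7, -1])) (.node (.leaf [1]) (.leaf [5, 4, -3, 4, 3, -4, 0, -2])))))))

def twoL157 : Janko.Tree (List ℤ) :=
  (.node (.node (.node (.node (.node (.node (.leaf []) (.leaf [])) (.node (.leaf []) (.leaf [0, 1]))) (.node (.node (.leaf []) (.leaf [-54, 21, 35, -33, 17, 43, -18, 3, -10, 3, -7, 1])) (.node (.leaf [0, 3, -2, 0, 0, 0, 2, 0, 0, -1]) (.leaf [96974, 17916, 17782, 17366, -27619, -57359, 25081, -6510, -11673, 6431, 1769, -1257, 2282, -1, 1, 0, 1])))) (.node (.node (.node (.leaf [0, 1]) (.leaf [28922, -16496, -874, 4158, -18907, -17435, 9913, 1709, 2621, 1840, 2236, -235, 77, -1, 1])) (.node (.leaf [0, 1]) (.leaf []))) (.node (.node (.leaf [0, 1]) (.leaf [])) (.node (.leaf [0, 1]) (.leaf [746, 123, 37, 303, -210, -400, 119, -78, 18, -10, 10, 0, -1]))))) (.node (.node (.node (.node (.leaf []) (.leaf [0, 1])) (.node (.leaf [0, 1]) (.leaf [])))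 (.node (.node (.leaf [0, 1]) (.leaf [0, 1])) (.node (.leaf []) (.leaf [0, 1])))) (.node (.node (.node (.leaf []) (.leaf [-11252, 16325, 750, 1692, 12921, 7039, -5935, -2891, -2353, -1460, -1520, 57, 5, 1, -1])) (.node (.leaf [90836, -147863, 17688, 7996, -124760, -47184, 30728, 30066, 30018, 4824, 9618, 870, -1464, 1, 0, -1, -1]) (.leaf [349, -1317, -1092, -699, -443, -536, 903, 178, 198, 145, 117, 20, 1]))) (.node (.node (.leaf []) (.leaf [0, -5, -6, -4, 0, 0, 2, 0, 2, 1])) (.node (.leaf [49916, 69704, -30030, 22988, 39723, -40499, 14091, -23038, -13113, 1199, -411, -1121, 1632, -1, 1, 0, 1]) (.leaf [])))))) (.node (.node (.node (.node (.node (.leaf []) (.leaf [0, 1])) (.node (.leaf []) (.leaf [4, -5, -4, -2, -2, -2, 2, 0, 2, 1]))) (.node (.node (.leaf []) (.leaf [0, 1])) (.node (.leaf [2, -1, 0, 0, 0, -2, 0, 0, 0, 1]) (.leaf [-107, -131, 163, -64, -86, 97, -63, 59, 2, 15, -10, -1, 1])))) (.node (.node (.node (.leaf [0, 1]) (.leaf [0, 1])) (.node (.leaf [0, 1]) (.leaf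 [905, -1907, -817, -840, -1234, -641, 1087, 270, 273, 201, 214, 1, -5]))) (.node (.node (.leaf [0, 1]) (.leaf [])) (.node (.leaf []) (.leaf [-61, 25, 37, -16, 19, 44, -26, 4, -10, -1, -5]))))) (.node (.node (.node (.node (.leaf []) (.leaf [])) (.node (.leaf [0, 1]) (.leaf [-145, 63, 61, -26, 57, 94, -56, 6, -22, -6, -9]))) (.node (.node (.leaf []) (.leaf [-146440, 110191, -63565, 12535, 140082, 81662, -56787, -29694, 1904, -16178, -8600, 642, -3169, 1, -1, 0, -1])) (.node (.leaf []) (.leaf [-9156, -28561, -78739, 11175, 21806, -9306, 7991, -7524, 20530, -2313, 6205, -353, -2264, 0, -1, 0, -1])))) (.node (.node (.node (.leaf []) (.leaf [0, -1, -2, 0, 0, 0, 0, 0, 1])) (.node (.leaf []) (.leaf []))) (.node (.node (.leaf [0, 1]) (.leaf [0, 1])) (.node (.leaf [12754, -15268, 372, -500, -13065, -7733, 5497, 2685, 2183, 1412, 1398, -61, 17, -1, 1]) (.leaf [0, 1])))))))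

def twoL158 : Janko.Tree (List ℤ) :=
  (.node (.node (.node (.node (.node (.node (.leaf []) (.leaf [])) (.node (.leaf [-1100, 498, 322, -299, 522, 714, -383, -4, -164, -16, -65, 1, -1]) (.leaf []))) (.node (.node (.leaf []) (.leaf [-3, -2, -1, -1, 1, 2, -1, 0, 1])) (.node (.leaf [0, 0, 1, 1, 0, 0, -1]) (.leaf [0, 0, 1])))) (.node (.node (.node (.leaf []) (.leaf [0, 0, 1])) (.node (.leaf []) (.leaf [1, -2, 0, 0, -1, 0, 0, 0, 1]))) (.node (.node (.leaf []) (.leaf [0, 0, 0, -1, 0, 0, 1])) (.node (.leaf [1132, -594, -81, 367, -706, -698, 343, 80, 165, -3, 58, -2, -1]) (.leaf [0, 0, 0, -1, 0, 0, 1]))))) (.node (.node (.node (.node (.leaf [0, 0, 0, -1, 0, 0, 1]) (.leaf [-4, 2, 2, -1, 2, 2, -1, 0, -1])) (.node (.leaf [4, 4, 13, 4, -3, 1, -5, 0, -1, 0, -1]) (.leaf [-32, 22, 6, -11, 22, 27, -16, -5, -3, 0, -3]))) (.node (.node (.leaf []) (.leaf [])) (.node (.leaf [1, -2, 0, 0, -1, 0, 0, 0, 1]) (.leaf [-298, 308, 318, 109, 207, 243, -318, -33, -69, -10, -35, -8, 1])))) (.node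 (.node (.node (.leaf [0, 0, 0, -1, 0, 0, 1]) (.leaf [0, 0, 1, 1, 0, 0, -1])) (.node (.leaf [0, 0, 1, 1, 0, 0, -1]) (.leaf [0, 0, 1]))) (.node (.node (.leaf [0, 0, 1, 1, 0, 0, -1]) (.leaf [-1057, -34, -192, -343, 441, 436, -91, 98, -66, -8, -14, 6, 1])) (.node (.leaf []) (.leaf [0, 0, 1])))))) (.node (.node (.node (.node (.node (.leaf []) (.leaf [])) (.node (.leaf [0, 0, 0, -1, 0, 0, 1]) (.leaf [0, 0, 1, 1, 0, 0, -1]))) (.node (.node (.leaf [0, 0, 0, -1, 0, 0, 1]) (.leaf [-95, 34, 21, -25, 43, 57, -28, 3, -13, -2, -5])) (.node (.leaf [49721, 672, 71228, -7899, -48786, -16736, 9467, 10388, -15740, 5150, -2568, 80, 2354, 0, 1, 0, 1]) (.leaf [-200642, 207760, -29219, 41096, 201204, 129895, -110431, -46656, -7345, -27474, -19599, 1027, -3833, 0, -1, 0, -1])))) (.node (.node (.node (.leaf []) (.leaf [148, -144, -116, 31, -69, -138, 83, 9, 30, 12, 21])) (.node (.leaf [-1590, -3498, 49, -1573, -1504, 590, 515, 1038, 307, 197, 170, 44, -7]) (.leaf [569, -316, -328, 149, -204,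 -443, 242, -13, 93, 26, 52]))) (.node (.node (.leaf []) (.leaf [0, 0, 1])) (.node (.leaf [-1, 2, 1, 0, 1, 0, 0, 0, -1]) (.leaf [0, 0, 1]))))) (.node (.node (.node (.node (.leaf []) (.leaf [0, 0, 0, -1, 0, 0, 1])) (.node (.leaf []) (.leaf [0, 0, 1, 1, 0, 0, -1]))) (.node (.node (.leaf [-18, -2, -4, -8, 6, 8, 0, 2, -1]) (.leaf [0, 0, 0, -1, 0, 0, 1])) (.node (.leaf [-5, -6, -1, -3, -1, 2, 1, 2, 1]) (.leaf [0, 0, 1])))) (.node (.node (.node (.leaf [0, 0, 1]) (.leaf [0, 0, 1])) (.node (.leaf [-35, 22, 81, -2, -10, 37, -31, 11, -13, -2, -7]) (.leaf [0, 0, 1]))) (.node (.node (.leaf []) (.leaf [])) (.node (.leaf [454, -234, -593, 44, -9, -499, 391, -24, 63, 30, 46, 5, -3]) (.leaf [-28574, 15888, 9038, -3468, 15206, 20065, -13337, -906, -2868, -1682, -2540, 98, -46, 0, 0, 1])))))))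

def twoL159 : Janko.Tree (List ℤ) :=
  (.node (.node (.node (.node (.node (.node (.leaf []) (.leaf [-469, 122, 202, -135, 147, 304, -161, 37, -60, -10, -34, 6])) (.node (.leaf [0, 0, 0, 1]) (.leaf []))) (.node (.node (.leaf []) (.leaf [])) (.node (.leaf [0, 0, 0, 1]) (.leaf [918, 2138, 1569, -96, 188, -246, -5, -308, -855, 157, -80, -42, 59])))) (.node (.node (.node (.leaf []) (.leaf [])) (.node (.leaf [-998, -58, 639, -290, 27, 691, -376, 186, -98, -13, -47, 1]) (.leaf [0, 0, 0, 1]))) (.node (.node (.leaf []) (.leaf [0, 0, 0, 1])) (.node (.leaf [-299, 136, 196, -212, 3, 256, -11, 41, -72, -15, -21, 0, -1]) (.leaf [0, 0, 0, 1]))))) (.node (.node (.node (.node (.leaf [0, 0, 0, 1]) (.leaf [])) (.node (.leaf []) (.leaf [0, 0, 0, 1]))) (.node (.node (.leaf []) (.leaf [-115, 18, 41, -39, 27, 74, -28, 14, -12, -4, -8, 1])) (.node (.leaf [0, 0, 0, 1]) (.leaf [-532, 300, 338, -19, 249, 387, -329, -1, -85, -14, -45, -6, 1])))) (.node (.node (.node (.leaf [0, 0, 0, 1]) (.leaf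 [0, 0, 0, 1])) (.node (.leaf [0, 0, 0, 1]) (.leaf [-70, 10, 32, -40, 21, 51, -21, 6, -8, 4, -8, 1]))) (.node (.node (.leaf [0, 0, 0, 1]) (.leaf [0, 0, 0, 1])) (.node (.leaf []) (.leaf [-81619, 39290, -2668, -17786, 52537, 47478, -24721, -4584, -8162, -2287, -4414, -200, 2, 0, -1, 1])))))) (.node (.node (.node (.node (.node (.leaf [-393, 54, -12, -109, 186, 145, -42, 36, -48, -10, -18, 13]) (.leaf [])) (.node (.leaf [0, 0, 0, 1]) (.leaf [0, 0, 0, 1]))) (.node (.node (.leaf [0, 0, 0, 1]) (.leaf [])) (.node (.leaf [0, 0, 0, 1]) (.leaf [-66, 12, 35, -35, 21, 49, -24, 5, -8, 4, -8, 1])))) (.node (.node (.node (.leaf []) (.leaf [1234, 38, -86, 1087, -71, -942, -109, -131, 109, -21, 21, 0, 3])) (.node (.leaf [425, -108, -131, 117, -154, -245, 121, -32, 56, 11, 26, -7]) (.leaf [0, 0, 0, 1]))) (.node (.node (.leaf []) (.leaf [1138, 396, -318, 233, -135, -551, 322, -262, 18, 10, 48, -12])) (.node (.leaf [0, 0, 0, 1]) (.leaf [-5074, 4044, 523, -1049, 3578, 3236, -1559, -435,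 -754, -400, -519, 84, 2, 1]))))) (.node (.node (.node (.node (.leaf [-164, 102, 155, -35, 33, 141, -80, 16, -34, -12, -20, -1]) (.leaf [0, 0, 0, 1])) (.node (.leaf []) (.leaf [0, 0, 0, 1]))) (.node (.node (.leaf [0, 0, 0, 1]) (.leaf [0, 0, 0, 1])) (.node (.leaf [625, -296, -278, -40, -282, -339, 283, -40, 102, 49, 38, 0, -1]) (.leaf [48604, 19204, -2089, 32292, -4314, -27510, 2537, -8316, 2944, -3716, -571, 497, -440, 0, -1, 0, -1])))) (.node (.node (.node (.leaf []) (.leaf [-174, 14, -59, -66, 118, 88, -40, -8, 3, 7, -11, 3, -1])) (.node (.leaf [-3952, 1712, -310, -1320, 2323, 2085, -549, -17, -420, -207, -311, 100, -1, 1]) (.leaf [70, -10, -34, 39, -21, -51, 23, -6, 8, -4, 8, -1]))) (.node (.node (.leaf []) (.leaf [-160, 40, 54, -15, 55, 107, -73, 7, -11, -8, -7, -1])) (.node (.leaf []) (.leaf [-45357, 54758, 4674, 4519, 46380, 30273, -25851, -10405, -7499, -4134, -5005, -238, -98, -1, 0, 1])))))))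

def twoL160 : Janko.Tree (List ℤ) :=
  (.node (.node (.node (.node (.node (.node (.leaf [1, 0, 1, 0, -1]) (.leaf [1, 0, 1, 0, -1])) (.node (.leaf [1, 6, -5, 0, 5, 0, 0, -3]) (.leaf [1]))) (.node (.node (.leaf [1, 0, 1, 0, -1]) (.leaf [1, 0, 0, 1, 0, -1])) (.node (.leaf [-4, 2, -4, -3, 4, 3, 0, -1]) (.leaf [0, 0, 0, -1, 0, 1])))) (.node (.node (.node (.leaf [3, 0, 1, 1, -1, -1]) (.leaf [2, 0, 0, 1, 0, -1])) (.node (.leaf [-582, 336, 96, -151, 350, 354, -187, -32, -98, -8, -30, 1, -1]) (.leaf [-10730, 57110, 116573, -10570, -12893, 32246, -30224, 6778, -28786, 1663, -10821, -268, 2879, 0, 0, 0, 1]))) (.node (.node (.leaf [240, -48, -83, 50, -71, -148, 82, -20, 26, 8, 10]) (.leaf [-364, 162, 121, -110, 145, 266, -126, 4, -44, -14, -26, -1])) (.node (.leaf [-28, 2, -16, -22, 13, 19, 3, -1, 1, 0, -1]) (.leaf [3, 0, 1, 1, -1, -1]))))) (.node (.node (.node (.node (.leaf []) (.leaf [9712, -9568, -2611, -665, -8047, -6065, 5014, 1096, 1656, 936, 1174, -70, -8, 0, 1])) (.node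 (.leaf [9, -2, 4, 6, -4, -6, 0, 1]) (.leaf []))) (.node (.node (.leaf [-1101, 530, 295, -318, 542, 727, -377, -19, -164, -17, -66, 1]) (.leaf [1])) (.node (.leaf [-67, 34, 30, -16, 29, 47, -27, 1, -11, -2, -5]) (.leaf [-44890, 263944, 41686, 92345, 159777, 56754, -106039, -62698, -26499, -19685, -21245, -1877, 32, 0, 0, 1, 1])))) (.node (.node (.node (.leaf [70, -42, -95, 37, -11, -79, 50, -3, 14, -3, 14, -1]) (.leaf [])) (.node (.leaf []) (.leaf [-72, 10, 33, -39, 22, 52, -23, 6, -8, 4, -8, 1]))) (.node (.node (.leaf []) (.leaf [-80206, 142986, -15283, -10603, 115926, 42388, -25761, -29381, -30523, -3575, -8577, -1096, 1659, -1, 1, 1, 1])) (.node (.leaf [1, 0, 1, 0, -1]) (.leaf [-40512, -134578, -112768, -114949, -12355, -31618, 92075, 26579, -3809, 25795, 17273, -1609, 3060, 0, 0, 1, 1])))))) (.node (.node (.node (.node (.node (.leaf [1, 0, 1, 0, -1]) (.leaf [0, 0, -1, 0, 1])) (.node (.leaf [-100, 54, 35, -36, 33, 82, -32, -2, -10, -10, -8, 3]) (.leaf [90, -20, -36,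 45, -30, -65, 28, -5, 10, -3, 9, -1, 0, 0, -1]))) (.node (.node (.leaf [-4, 6, -7, -3, 7, 3, 0, -3]) (.leaf [0, 0, 0, -1, 0, 1])) (.node (.leaf [0, 0, -1, 0, 1]) (.leaf [-94201, -29492, 9424, -23838, 5443, 61631, -24609, 14176, 9627, -6154, -2465, 1853, -2291, 0, -1, 0, -1])))) (.node (.node (.node (.leaf [1]) (.leaf [1, -2, 3, -1, -3, 1, 0, 1])) (.node (.leaf [-165, 60, 76, -34, 62, 116, -74, 6, -20, -4, -12]) (.leaf [636, 360, 195, 409, -103, -329, 4, -91, -37, -40, -10, -1, -1]))) (.node (.node (.leaf [1]) (.leaf [36960, 77846, -43095, 21815, 53456, -36580, 14345, -25442, -12968, -375, -723, -753, 1338, 0, 0, 1, 1])) (.node (.leaf []) (.leaf [-4802, 4048, 414, -992, 3497, 3077, -1441, -465, -732, -408, -505, 84, 2, 1]))))) (.node (.node (.node (.node (.leaf [1, 0, 1, 0, -1]) (.leaf [1])) (.node (.leaf [6, 4, -1, 3, 1, -3, 0, -2]) (.leaf [5307, -3960, -1008, 1380, -3292, -3690, 1720, 387, 794, 356, 504, -53, -8, -1]))) (.node (.node (.leaf []) (.leaf [1])) (.node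 (.leaf []) (.leaf [1])))) (.node (.node (.node (.leaf [2, 0, 0, 1, 0, -1]) (.leaf [1, 0, 0, 1, 0, -1])) (.node (.leaf [12, 6, -28, 6, 11, -19, 13, -5, -1, 0, 3]) (.leaf [0, 0, 0, -1, 0, 1]))) (.node (.node (.leaf [1]) (.leaf [1])) (.node (.leaf [1, 0, 0, 1, 0, -1]) (.leaf [-68487, 189740, 98116, 89769, 88582, 92337, -121234, -34730, -6956, -28670, -22748, 1262, -3028, 0, 0, -1, -1])))))))

def twoL161 : Janko.Tree (List ℤ) :=
  (.node (.node (.node (.node (.node (.node (.leaf [4, -2, -2, 0, -2, -2, 2, 0, 1]) (.leaf [1322, -2007, -1792, -448, -735, -1507, 1467, 231, 348, 195, 181, 48, 1, 0, 0, 0, -1])) (.node (.leaf [0, 1]) (.leaf [955, -1201, -429, 72, -714, -805, 497, 161, 224, 94, 98, 23, 1]))) (.node (.node (.leaf []) (.leaf [196, -207, 625, -85, -488, 188, -139, 82, -2, 57, 6, -36, -3])) (.node (.leaf [0, 1]) (.leaf [6177, 201982, 21764, 87519, 114723, 18766, -73917, -53465, -16896, -14319, -14446, -1922, 57, -1, 1, 0, 1])))) (.node (.node (.node (.leaf []) (.leaf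 [])) (.node (.leaf []) (.leaf [0, 1]))) (.node (.node (.leaf []) (.leaf [0, 1])) (.node (.leaf [0, 1]) (.leaf [27525, -17788, -2163, 2598, -18810, -16775, 10489, 1888, 2806, 1978, 2356, -214, 80, -1, 1]))))) (.node (.node (.node (.node (.leaf [0, 1]) (.leaf [792, -965, -597, -49, -536, -624, 487, 66, 204, 96, 120, -2, -1])) (.node (.leaf []) (.leaf [0, 1]))) (.node (.node (.leaf []) (.leaf [16234, -13750, -2496, 1256, -12322, -10072, 6514, 1562, 2486, 1319, 1676, -158, -10, -1, 1])) (.node (.leaf [203, -88, -103, 36, -77, -134, 84, -11, 33, 7, 15]) (.leaf [0, 1])))) (.node (.node (.node (.leaf [0, 1]) (.leaf [0, 1])) (.node (.leaf [0, 1]) (.leaf []))) (.node (.node (.leaf [0, 1]) (.leaf [0, 1])) (.node (.leaf []) (.leaf [0, 1])))))) (.node (.node (.node (.node (.node (.leaf []) (.leaf [])) (.node (.leaf [0, 1]) (.leaf [0, 1]))) (.node (.node (.leaf [0, 1]) (.leaf [])) (.node (.leaf [-65, 45, 27, -14, 33, 46, -26, -2, -12, -3, -5]) (.leaf [-24581, 46447, -169, 6616,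 35633, 16494, -16090, -10027, -6124, -3325, -3562, -184, -1, 0, -1, 1])))) (.node (.node (.node (.leaf []) (.leaf [])) (.node (.leaf []) (.leaf [0, 1]))) (.node (.node (.leaf []) (.leaf [0, 2, 0, 2, 0, 0, 0, 0, 0, -1])) (.node (.leaf [0, 1]) (.leaf [-750, -122, -39, -305, 212, 402, -119, 78, -18, 10, -10, 0, 1]))))) (.node (.node (.node (.node (.leaf []) (.leaf [])) (.node (.leaf [0, 1]) (.leaf [0, 1]))) (.node (.node (.leaf [0, 1]) (.leaf [415, 963, 488, 799, 287, -190, -395, -183, -120, -106, -71, -2, 1])) (.node (.leaf [0, 1]) (.leaf [288, -243, 581, -45, -524, 110, -95, 85, 6, 56, 16, -38, -3])))) (.node (.node (.node (.leaf []) (.leaf [])) (.node (.leaf [-4, 11, -6, 0, 10, 2, -2, -4, -1]) (.leaf []))) (.node (.node (.leaf [-1370, -263, -137, -641, 342, 686, -99, 159, -50, 10, -4, 16, 1]) (.leaf [28182, -15886, -1032, 4104, -18284, -17050, 9716, 1602, 2514, 1779, 2212, -238, 74, -1, 1])) (.node (.leaf [-4276, 1562, 2203, -1245, 1436, 2976, -1643, 278, -609, -121,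 -406, 60, 17]) (.leaf [0, 1])))))))

def twoL162 : Janko.Tree (List ℤ) :=
  (.node (.node (.node (.node (.node (.node (.leaf [0, 0, 1]) (.leaf [0, 0, 1])) (.node (.leaf []) (.leaf [-237142, 326144, 41967, 91440, 257863, 183972, -189292, -68883, -17828, -38758, -33301, -162, -4140, 0, -1, 0, -1]))) (.node (.node (.leaf [0, 0, 1]) (.leaf [0, -2, -1, 0, 0, 0, 0, 0, 1])) (.node (.leaf []) (.leaf [1, -2, 0, 0, -1, 0, 0, 0, 1])))) (.node (.node (.node (.leaf [0, 0, 0, -1, 0, 0, 1]) (.leaf [-4, 0, -1, -1, 2, 2, -1])) (.node (.leaf [173, -70, -64, 43, -69, -111, 60, -6, 28, 4, 9]) (.leaf [58237, 107310, 81990, 26330, 9459, -12916, -18328, -16481, -30002, 666, -9629, -1280, 3071, 0, 0, 0, 1]))) (.node (.node (.leaf [0, 0, 1]) (.leaf [])) (.node (.leaf [-13, 8, -5, -6, 11, 11, -5, -4, 1, 0, -1]) (.leaf [0, 0, 0, -1, 0, 0, 1]))))) (.node (.node (.node (.node (.leaf []) (.leaf [0, 0, 0, -1, 0, 0, 1])) (.node (.leaf [0, 0, 0, -1, 0, 0, 1]) (.leaf [40, 44, -270, 20, 105, -55, 61,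 -66, 33, -5, 24, -3, -5]))) (.node (.node (.leaf [0, 0, 0, -1, 0, 0, 1]) (.leaf [5922, 1976, -2439, 2908, 207, -3675, 1125, -1372, 315, -67, 248, -103, -9])) (.node (.leaf [0, 0, 1]) (.leaf [-6222, -1664, -261, -1781, 1227, 3631, -1440, 744, 423, -217, -130, 68, -56])))) (.node (.node (.node (.leaf []) (.leaf [])) (.node (.leaf []) (.leaf [0, 0, 0, -1, 0, 0, 1]))) (.node (.node (.leaf []) (.leaf [0, 2, 4, 1, 0, 0, -1, 0, -1])) (.node (.leaf [0, 0, 1]) (.leaf [-639, -670, 167, -175, -130, 240, -117, 269, 55, 15, -15, 11])))))) (.node (.node (.node (.node (.node (.leaf [0, 0, 1]) (.leaf [0, 0, 1])) (.node (.leaf []) (.leaf [-4, 2, 2, -1, 2, 2, -1, 0, -1]))) (.node (.node (.leaf []) (.leaf [-164, 94, 32, -37, 94, 99, -54, -7, -29, -4, -7])) (.node (.leaf [0, 0, 1]) (.leaf [0, 0, 1])))) (.node (.node (.node (.leaf [-5, 2, 0, -1, 3, 2, -1, 0, -1]) (.leaf [0, 0, 1])) (.node (.leaf [-60, 22, 27, -16, 21, 35, -15, 7, -11, -2, -5]) (.leaf [983, 204, 80, 425, -279, -547, 170,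 -94, 0, -22, 16, -1, -1]))) (.node (.node (.leaf []) (.leaf [1092, 412, -327, 222, -107, -525, 311, -264, 16, 8, 46, -12])) (.node (.leaf [-2864, 1610, 1927, -345, 1016, 2556, -1871, -96, -345, -109, -194, -64, 3]) (.leaf [0, 0, 0, -1, 0, 0, 1]))))) (.node (.node (.node (.node (.leaf [0, 0, 1]) (.leaf [-73, 94, 58, -35, 32, 82, -31, -10, -18, -8, -11])) (.node (.leaf [80, -30, -49, 21, -23, -61, 36, -5, 11, 2, 7]) (.leaf [-4, 2, 3, 1, 2, 2, -3, 0, -1]))) (.node (.node (.leaf [1192, -514, -28, 480, -652, -744, 274, 60, 160, -6, 42, 0, 1]) (.leaf [-5, 2, 0, -1, 3, 2, -1, 0, -1])) (.node (.leaf []) (.leaf [-91489, -20248, -16382, -16486, 24093, 54297, -23905, 6751, 11645, -5842, -1319, 1118, -2229, 0, -1, 0, -1])))) (.node (.node (.node (.leaf [-4, 0, -1, -1, 2, 2, -1]) (.leaf [-114, 26, -114, -37, 126, 36, -13, -22, 5, 7, -3, 1, -1])) (.node (.leaf [0, 0, 1]) (.leaf [1, -2, 0, 0, -1, 0, 0, 0, 1]))) (.node (.node (.leaf []) (.leaf [2012, 324, -1100, 952, -110, -1277,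 507, -434, 205, -43, 158, -37, -11])) (.node (.leaf [36, -130, -502, -67, 158, -278, 289, 6, 7, 19, 24, 12, -3]) (.leaf [-276, 1216, -70, 224, 745, 207, -211, -264, -144, -128, -90, 16, 2])))))))

def twoL163 : Janko.Tree (List ℤ) :=
  (.node (.node (.node (.node (.node (.node (.leaf []) (.leaf [])) (.node (.leaf []) (.leaf []))) (.node (.node (.leaf []) (.leaf [0, 0, 0, 1])) (.node (.leaf [-72, 4, 27, -45, 25, 53, -24, 4, -6, 7, -8, 1]) (.leaf [0, 0, 0, 1])))) (.node (.node (.node (.leaf [0, 0, 0, 1]) (.leaf [0, 0, 0, 1])) (.node (.leaf [0, 0, 0, 1]) (.leaf [177150, -249364, 34136, -42621, -209720, -103414, 82136, 49099, 20992, 32607, 22641, -3748, 3091, 0, 0, 0, 1]))) (.node (.node (.leaf [619, -154, -127, 157, -260, -343, 175, -35, 72, 13, 34, -7]) (.leaf [-364, 162, 121, -108, 145, 265, -126, 4, -44, -14, -26, -1])) (.node (.leaf []) (.leaf [0, 0, 0, 1]))))) (.node (.node (.node (.node (.leaf []) (.leaf [0, 0, 0, 1])) (.node (.leaf [0, 0, 0, 1]) (.leaf [-106, 6,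 -132, -32, 127, 21, -11, -22, 8, 10, 0, 1]))) (.node (.node (.leaf [0, 0, 0, 1]) (.leaf [])) (.node (.leaf []) (.leaf [-56464, 32594, 9296, -387, 34801, 38203, -28253, -4051, -3046, -4524, -4419, 200, -457, 0, -1, 1])))) (.node (.node (.node (.leaf [225, -128, -153, 74, -85, -179, 106, -2, 44, 1, 22, -1]) (.leaf [])) (.node (.leaf []) (.leaf [0, 0, 0, 1]))) (.node (.node (.leaf []) (.leaf [-134423, -142620, -218478, -165699, 43052, -28026, 146938, 35719, -7282, 16847, 19479, 4500, 2047, -1, 1, 1, 1])) (.node (.leaf []) (.leaf [-587, -660, 195, -145, -156, 218, -120, 267, 54, 12, -15, 11, 1])))))) (.node (.node (.node (.node (.node (.leaf []) (.leaf [])) (.node (.leaf [68, -2, -39, 36, -19, -47, 26, -8, 8, -6, 8, -1]) (.leaf []))) (.node (.node (.leaf []) (.leaf [0, 0, 0, 1])) (.node (.leaf []) (.leaf [])))) (.node (.node (.node (.leaf []) (.leaf [79, 78, 54, 46, -11, -27, -7, -15, -12, -7, -6, 1])) (.node (.leaf [0, 0, 0, 1]) (.leaf [975, 200, 72, 419, -277, -545,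 175, -92, 0, -22, 16, -1, -1]))) (.node (.node (.leaf []) (.leaf [0, 0, 0, 1])) (.node (.leaf [429, -146, -241, 85, -130, -327, 215, -19, 48, 11, 30, 3]) (.leaf [0, 0, 0, 1]))))) (.node (.node (.node (.node (.leaf []) (.leaf [])) (.node (.leaf []) (.leaf [3579, -5184, -1186, -28, -3440, -2623, 1790, 731, 850, 512, 580, -69, -12, -1]))) (.node (.node (.leaf [962, -766, -26, 342, -710, -648, 281, 144, 172, 12, 54, 0, 1]) (.leaf [-3655, 5220, 1224, 11, 3470, 2681, -1826, -731, -860, -514, -586, 69, 12, 1])) (.node (.leaf []) (.leaf [27176, 1850, -12905, 6427, -1987, -18877, 9769, -4674, 342, 1736, 2066, -548, 153, -1, 0, 1])))) (.node (.node (.node (.leaf [0, 0, 0, 1]) (.leaf [0, 0, 0, 1])) (.node (.leaf []) (.leaf [0, 0, 0, 1]))) (.node (.node (.leaf []) (.leaf [])) (.node (.leaf [0, 0, 0, 1]) (.leaf [-136704, 57196, -88144, 24784, 123511, 78928, -64907, -28164, 23128, -14660, -4160, -544, -4198, 0, 0, 0, -1])))))))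

def twoL164 : Janko.Tree (List ℤ) :=
  (.node (.node (.node (.node (.node (.node (.leaf [-1, 0, 0, -1, 0, 1]) (.leaf [-558, 158, 248, -158, 179, 377, -207, 37, -68, -12, -42, 6])) (.node (.leaf [0, 0, 0, -1, 0, 1]) (.leaf [-254149, 312164, -33030, 71878, 281968, 166718, -153020, -70213, -14624, -39312, -28457, 1402, -4878, 0, -1, 0, -1]))) (.node (.node (.leaf [-1, 0, 0, -1, 0, 1]) (.leaf [-138, 114, 123, -40, 67, 162, -122, -23, -16, 4, -18, -4])) (.node (.leaf [0, 0, -1, 0, 1]) (.leaf [-13968, -67232, -22162, -24774, -24048, 4, 15606, 13488, 9966, 4888, 5580, -62, -244, 0, 1, -1])))) (.node (.node (.node (.leaf [415, -88, -158, 118, -128, -254, 130, -37, 50, 10, 28, -7]) (.leaf [])) (.node (.leaf [172, -94, -28, 38, -99, -101, 55, 7, 29, 4, 7]) (.leaf [132446, -18702, -54339, 45226, -28711, -91652, 41782, -13633, 11986, 3434, 8676, -1084, -28, 0, 0, -1, -1]))) (.node (.node (.leaf [-6, -2, -1, -4, 1, 4, 0, 1]) (.leaf [1])) (.node (.leaf [-2, 6, -6, -2, 6, 2, 0,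 -3]) (.leaf [-70, 6, 35, -34, 21, 48, -24, 8, -8, 4, -8, 1]))))) (.node (.node (.node (.node (.leaf []) (.leaf [10177, -15184, -5842, -2519, -9923, -7426, 7201, 1914, 2525, 1505, 1781, -109, -24, 0, 1])) (.node (.leaf [141, -38, 129, 47, -153, -55, 28, 31, -6, -9, 4, -1]) (.leaf [3, -6, 7, 1, -7, -1, 0, 3]))) (.node (.node (.leaf [-681, 328, 61, -194, 383, 414, -196, -28, -94, -12, -30]) (.leaf [1, 0, 0, 1, 0, -1])) (.node (.leaf [-204, 80, 42, 2, 97, 115, -87, 1, -22, -14, -4, -1]) (.leaf [-42897, 59592, 19922, 6588, 41224, 32914, -29830, -9280, -9436, -4762, -6244, -96, 22, 0, -1, 1])))) (.node (.node (.node (.leaf [22, 2, 1, 7, -8, -12, 5, -2, 0, 0, 1]) (.leaf [-6437, 8662, 4202, 1508, 5529, 5007, -4831, -1033, -1429, -859, -1027, 11, 6, 0, -1])) (.node (.leaf [553, -700, -375, -65, -428, -436, 375, 73, 132, 62, 82, 1]) (.leaf [-6951, 12362, 2221, 4560, 9141, 4856, -6458, -2344, -939, -1625, -1419, 240, -94, 0, 0, 1]))) (.node (.node (.leaf [3, 0, 1, 1, -1, -1])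 (.leaf [375, -2068, -1343, -1226, -1047, -423, 1275, 295, 288, 193, 264, -11, 5])) (.node (.leaf [-1, 0, 0, -1, 0, 1]) (.leaf [6, -2, 2, 5, -2, -5, 0, 1])))))) (.node (.node (.node (.node (.node (.leaf [-474, 118, 184, -126, 156, 292, -156, 38, -60, -12, -32, 7]) (.leaf [2, 0, 0, 1, 0, -1])) (.node (.leaf [1]) (.leaf [-5801, 9070, 2579, 2305, 6675, 3789, -4474, -1327, -1342, -870, -1056, 52, 8, 0, -1]))) (.node (.node (.leaf [0, 0, -1, 0, 1]) (.leaf [])) (.node (.leaf [2, 0, 0, 1, 0, -1]) (.leaf [-75, 12, 33, -38, 21, 54, -22, 7, -8, 2, -8, 1])))) (.node (.node (.node (.leaf [1, 0, 0, 1, 0, -1]) (.leaf [])) (.node (.leaf []) (.leaf [0, 0, -1, 0, 1]))) (.node (.node (.leaf [1, 0, 1, 0, -1]) (.leaf [78337, 46310, 24315, 2732, -11267, -50476, 30684, -6607, -23352, 5282, -1726, 36, 3212, 0, 0, 1, 1])) (.node (.leaf [192, -92, -118, 34, -72, -136, 90, -10, 32, 6, 18]) (.leaf [43589, 74092, -29498, 21659, 43915, -36564, 12185, -23468, -13969, 756, -969, -1033, 1637, 0, 1,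 0, 1]))))) (.node (.node (.node (.node (.leaf [179, -30, 143, 68, -155, -66, 16, 26, 2, -8, -4, -1]) (.leaf [1, 0, 0, 1, 0, -1])) (.node (.leaf [0, 0, 0, -1, 0, 1]) (.leaf []))) (.node (.node (.leaf []) (.leaf [-5456, 4268, 1340, -1274, 3450, 3830, -1950, -405, -862, -366, -564, 57, 6, 1])) (.node (.leaf [-180, 78, 115, -74, 50, 151, -73, 9, -26, -3, -20, 1]) (.leaf [5656, -4478, -718, 1191, -3941, -3646, 1815, 488, 860, 422, 571, -93, -9, -1])))) (.node (.node (.node (.leaf []) (.leaf [2, -6, 7, 0, -7, 0, 0, 3])) (.node (.leaf [-3971, 1716, -324, -1321, 2341, 2090, -553, -19, -420, -207, -311, 100, -1, 1]) (.leaf [-58547, -13864, -24833, -32810, 23089, 26146, 1024, 3823, -1002, 3207, 1291, -458, 71, 0, 1, -1]))) (.node (.node (.leaf [1, 0, 1, 0, -1]) (.leaf [1, 0, 0, 1, 0, -1])) (.node (.leaf [3, -2, 2, 2, -2, -2, 0, 1]) (.leaf [2659, -73850, -128041, 417, 10575, -31607, 36894, -3457, 30860, -174, 12374, 270, -2948, 0, 0, -1, -1])))))))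

def twoL165 : Janko.Tree (List ℤ) :=
  (.node (.node (.node (.node (.node (.node (.leaf []) (.leaf [0, 2, 0, 2, 0, 0, 0, 0, 0, -1])) (.node (.leaf [0, 0, 0, 0, 0, 0, 0, 0, 0, 0, 0, 0, 0, 0, 0, 0, 1]) (.leaf []))) (.node (.node (.leaf [-2, 2, 0, 0, 0, 2, 0, 0, 0, -1]) (.leaf [0, 1])) (.node (.leaf [-1645, 259, 78, -531, 647, 888, -317, 96, -148, -37, -57, 16, 1]) (.leaf [0, 1])))) (.node (.node (.node (.leaf [0, 1]) (.leaf [0, 1])) (.node (.leaf [0, 1]) (.leaf [0, 1]))) (.node (.node (.leaf [0, 1]) (.leaf [57, -38, -37, 10, -23, -42, 26, -1, 12, 3, 5])) (.node (.leaf []) (.leaf [0, 1]))))) (.node (.node (.node (.node (.leaf [0, 1]) (.leaf [])) (.node (.leaf [0, 1]) (.leaf []))) (.node (.node (.leaf [0, 1]) (.leaf [5776, 2043, -1995, 2889, 66, -3382, 897, -1342, 299, -83, 224, -112, -7])) (.node (.leaf []) (.leaf [])))) (.node (.node (.node (.leaf []) (.leaf [0, 1])) (.node (.leaf []) (.leaf [0, 1]))) (.node (.node (.leaf []) (.leaf [9326, 13951, 8452, 8656, 1226, -1992,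 -4398, -3130, -1566, -1201, -1146, -4, 72, 0, 0, 1])) (.node (.leaf [2, 2, 2, 2, -2, 0, 0, 0, 0, -1]) (.leaf [0, 1])))))) (.node (.node (.node (.node (.node (.leaf [2, -2, -8, 4, 6, -4, -2, -2, 2, 1]) (.leaf [-116, 101, 41, -33, 81, 89, -50, -11, -19, -4, -17, 1])) (.node (.leaf [139, -58, -61, 16, -59, -84, 58, -7, 22, 5, 9]) (.leaf [-648, 959, 419, 179, 572, 596, -561, -158, -134, -84, -80, -22, -1]))) (.node (.node (.leaf []) (.leaf [0, 1])) (.node (.leaf []) (.leaf [0, -1, 0, -2, 0, 0, 0, 0, 0, 1])))) (.node (.node (.node (.leaf []) (.leaf [0, 1])) (.node (.leaf [0, 1]) (.leaf [-67, 37, 33, -14, 27, 46, -26, 2, -12, -3, -5]))) (.node (.node (.leaf []) (.leaf [0, 1])) (.node (.leaf []) (.leaf [0, -1, 0, -2, 0, 0, 0, 0, 0, 1]))))) (.node (.node (.node (.node (.leaf [-6, -10, -4, 0, 2, 0, -2, 2, 2, 1]) (.leaf [630, -549, -347, -17, -374, -444, 341, 24, 121, 61, 70, 0, -1])) (.node (.leaf []) (.leaf [0, 1]))) (.node (.node (.leaf [0, 1]) (.leaf [])) (.node (.leaf [])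 (.leaf [0, 1])))) (.node (.node (.node (.leaf [0, 1]) (.leaf [0, 1])) (.node (.leaf []) (.leaf [0, 1]))) (.node (.node (.leaf []) (.leaf [-1418, -1557, -1131, -1469, 44, 222, 855, 468, 61, 141, 54, 54, 1])) (.node (.leaf []) (.leaf [0, -1, 0, -2, 0, 0, 0, 0, 0, 1])))))))

def twoL166 : Janko.Tree (List ℤ) :=
  (.node (.node (.node (.node (.node (.node (.leaf [0, 0, 1, 1, 0, 0, -1]) (.leaf [0, 0, 1, 1, 0, 0, -1])) (.node (.leaf [-1, 6, -1, -2, 3, 2, 0, -2, -1]) (.leaf [0, 0, 1]))) (.node (.node (.leaf [0, 0, 1, 1, 0, 0, -1]) (.leaf [-30426, 18720, 11631, -2413, 16567, 21923, -15702, -1254, -3359, -1923, -2843, 65, -46, -1, 0, 1])) (.node (.leaf [0, 0, 1]) (.leaf [47273, -57132, -18727, -5098, -41756, -35218, 30392, 8590, 8776, 4908, 6238, 22, 32, 0, 1, -1])))) (.node (.node (.node (.leaf []) (.leaf [163, 1700, 749, 638, 541, 357, -673, -370, -177, -153, -142, -19, 11])) (.node (.leaf [164, -94, -32, 36, -94, -99, 55, 7, 29, 4, 7]) (.leaf []))) (.node (.node (.leaf [2,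 -8, -28, -2, 5, -13, 15, 0, 1, 0, 3]) (.leaf [3, -2, 1, 3, -1, -2, -1, 0, 1])) (.node (.leaf [0, 0, 0, -1, 0, 0, 1]) (.leaf [41033, -52418, -17113, 14284, -39031, -24690, 14610, 5812, 17469, -872, 5030, 502, -1732, 0, 0, 0, -1]))))) (.node (.node (.node (.node (.leaf []) (.leaf [4, -2, -2, 0, -2, -2, 2, 0, 1])) (.node (.leaf []) (.leaf [-1, -8, 19, 1, -11, 3, -4, 6, -1, 0, -1]))) (.node (.node (.leaf []) (.leaf [4510, -1558, -2330, 1391, -1424, -3146, 1659, -332, 633, 131, 430, -68, -15])) (.node (.leaf [0, 0, 1, 1, 0, 0, -1]) (.leaf [0, 0, 1])))) (.node (.node (.node (.leaf [21, 6, -4, 7, -3, -13, 6, -4, 0, 0, 1]) (.leaf [])) (.node (.leaf [0, 0, 1]) (.leaf [-120, 52, 213, -22, -45, 111, -63, 40, -41, -13, -12, -1, 1]))) (.node (.node (.leaf [0, 0, 0, -1, 0, 0, 1]) (.leaf [0, 0, 1])) (.node (.leaf [0, 0, 1, 1, 0, 0, -1]) (.leaf [-60, 40, 46, -9, 26, 49, -36, 0, -11, -2, -7])))))) (.node (.node (.node (.node (.node (.leaf [0, 0, 1, 1, 0, 0, -1]) (.leaf [-4, 0, -1,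 -1, 2, 2, -1])) (.node (.leaf [-3, -2, -1, -1, 1, 2, -1, 0, 1]) (.leaf [0, 0, 0, -1, 0, 0, 1]))) (.node (.node (.leaf [0, 0, 1]) (.leaf [-585, 308, 134, -158, 319, 365, -193, -18, -97, -7, -32, 1, -1])) (.node (.leaf [-4, 0, -1, -1, 2, 2, -1]) (.leaf [0, 0, 1, 1, 0, 0, -1])))) (.node (.node (.node (.leaf [-12, 2, -2, -8, 4, 8, 0, 0, -1]) (.leaf [])) (.node (.leaf []) (.leaf [0, 0, 1]))) (.node (.node (.leaf [0, 0, 1]) (.leaf [0, 2, 3, 1, 0, 0, -1, 0, -1])) (.node (.leaf [67, -30, -49, 12, -21, -51, 35, -5, 11, 2, 7]) (.leaf [43536, 74140, -29398, 21636, 43921, -36510, 12148, -23459, -13991, 756, -983, -1032, 1639, 0, 1, 0, 1]))))) (.node (.node (.node (.node (.leaf [0, 0, 1, 1, 0, 0, -1]) (.leaf [-1188, 726, 474, -99, 604, 780, -525, -10, -187, -77, -88, 0, -1])) (.node (.leaf [-165, 86, 86, -23, 74, 103, -68, 9, -31, -6, -15]) (.leaf [30506, -340114, -86773, -111205, -179992, -62414, 126703, 75608, 43759, 21308, 27232, 3110, -960, 0, 0, 0, -1]))) (.node (.node (.leaf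 []) (.leaf [-4, 2, 0, -2, 2, 2, 0, 0, -1])) (.node (.leaf [0, 0, 0, -1, 0, 0, 1]) (.leaf [5448, -2890, -2845, 1771, -1962, -4246, 1967, -244, 735, 345, 700, -76, -15, -1, 0, 1])))) (.node (.node (.node (.leaf [0, 10, -5, 1, 8, 0, -1, -4, -1]) (.leaf [-1, -8, 20, 2, -11, 3, -5, 6, -1, 0, -1])) (.node (.leaf [0, 0, 1, 1, 0, 0, -1]) (.leaf [-56217, -11718, -24042, -30800, 23449, 25048, 462, 3219, -1126, 3054, 1121, -480, 71, 0, 1, -1]))) (.node (.node (.leaf [0, 0, 1]) (.leaf [84, 890, 552, 351, 214, 246, -433, -190, -99, -81, -74, -8, 7])) (.node (.leaf [0, 0, 0, -1, 0, 0, 1]) (.leaf [1360, 44, -1155, 282, 75, -1063, 689, -266, 112, 54, 86, -6, -2])))))))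

def twoL167 : Janko.Tree (List ℤ) :=
  (.node (.node (.node (.node (.node (.node (.leaf [0, 0, 0, 1]) (.leaf [0, 0, 0, 1])) (.node (.leaf [0, 0, 0, 1]) (.leaf []))) (.node (.node (.leaf [0, 0, 0, 1]) (.leaf [-30474, 18680, 11415, -2411, 16701, 21817, -15633, -1258, -3355, -1917, -2841, 77, -46, -1, 0, 1])) (.node (.leaf [-138, 26, 72, -72, 41, 107, -53, 8, -14, 6, -16, 3]) (.leaf [47819, -57374, -19046, -4947, -41929, -35675, 30663, 8583, 8840, 4923, 6284, 25, 32, 0, 1, -1])))) (.node (.node (.node (.leaf [609, -156, -168, 160, -234, -355, 182, -39, 74, 14, 36, -7]) (.leaf [])) (.node (.leaf []) (.leaf []))) (.node (.node (.leaf []) (.leaf [-4202, 4334, 810, -802, 3233, 2959, -1487, -542, -766, -418, -524, 71, 12, 1])) (.node (.leaf [0, 0, 0, 1]) (.leaf [-66, 10, 35, -32, 21, 47, -24, 6, -8, 4, -8, 1]))))) (.node (.node (.node (.node (.leaf []) (.leaf [0, 0, 0, 1])) (.node (.leaf [154, -56, 49, 40, -135, -73, 50, 18, 8, -7, 10, -1]) (.leaf [0, 0, 0, 1]))) (.node (.node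 (.leaf [-489, 206, -25, -146, 299, 285, -134, -31, -52, -3, -18, 1]) (.leaf [0, 0, 0, 1])) (.node (.leaf [0, 0, 0, 1]) (.leaf [15273, 31012, 9456, 17264, 8569, -5336, -6397, -6971, -3212, -2997, -2558, 276, -44, 0, -1, 1])))) (.node (.node (.node (.leaf [0, 0, 0, 1]) (.leaf [])) (.node (.leaf [438, -676, -442, -107, -345, -381, 363, 63, 132, 62, 80, 1]) (.leaf []))) (.node (.node (.leaf [0, 0, 0, 1]) (.leaf [-23096, 28530, 7220, 4746, 20791, 18081, -15911, -4951, -2742, -3441, -3114, 177, -194, 0, 0, 1])) (.node (.leaf [0, 0, 0, 1]) (.leaf [191321, 55614, -71216, 118562, 6328, -125289, 24895, -39863, 16872, -7356, 4268, -584, -1144, 1, -1, -1, -1])))))) (.node (.node (.node (.node (.node (.leaf [0, 0, 0, 1]) (.leaf [0, 0, 0, 1])) (.node (.leaf []) (.leaf [0, 0, 0, 1]))) (.node (.node (.leaf [-554, 518, 11, -270, 445, 401, -141, -108, -118, 6, -38, 0, -1]) (.leaf [-239, 130, 124, -74, 103, 175, -99, 0, -44, -2, -20, 1])) (.node (.leaf [0, 0, 0, 1]) (.leaf [0, 0, 0,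 1])))) (.node (.node (.node (.leaf [0, 0, 0, 1]) (.leaf [])) (.node (.leaf []) (.leaf []))) (.node (.node (.leaf []) (.leaf [])) (.node (.leaf [0, 0, 0, 1]) (.leaf [0, 0, 0, 1]))))) (.node (.node (.node (.node (.leaf [0, 0, 0, 1]) (.leaf [0, 0, 0, 1])) (.node (.leaf [0, 0, 0, 1]) (.leaf []))) (.node (.node (.leaf []) (.leaf [0, 0, 0, 1])) (.node (.leaf [0, 0, 0, 1]) (.leaf [6580, -3958, -456, 2047, -3901, -4231, 1633, 331, 836, 377, 536, -91, -10, -1])))) (.node (.node (.node (.leaf []) (.leaf [])) (.node (.leaf [0, 0, 0, 1]) (.leaf [12297, -12510, -2374, -525, -10460, -7752, 6026, 1712, 2054, 1257, 1363, -118, -13, 0, 1, -1]))) (.node (.node (.leaf []) (.leaf [0, 0, 0, 1])) (.node (.leaf [0, 0, 0, 1]) (.leaf [0, 0, 0, 1])))))))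

def twoL168 : Janko.Tree (List ℤ) :=
  (.node (.node (.node (.node (.node (.node (.leaf []) (.leaf [9, 2, 4, 3, -4, -3, 0, -1])) (.node (.leaf []) (.leaf [1, 0, 0, 1, 0, -1]))) (.node (.node (.leaf []) (.leaf [0, 0, 0, -1, 0, 1])) (.node (.leaf [-105126, 158664, -14176, -12256, 132665, 58481, -36081, -31583, -32254, -5541, -10423, -1004, 1473, -1, 1, 1, 1]) (.leaf [48214, 3946, 69615, -7155, -45716, -16356, 8999, 9556, -16054, 4816, -2731, 104, 2336, 0, 1, 0, 1])))) (.node (.node (.node (.leaf [1]) (.leaf [-2, 0, -1, -1, 1, 1])) (.node (.leaf [1]) (.leaf [-37087, -60404, -10368, 11818, -17165, 30045, -24659, 9432, 27119, -5745, 2253, 419, -3276, 0, 0, -1, -1]))) (.node (.node (.leaf [0, 0, 0, -1, 0, 1]) (.leaf [-4157, 4270, 748, -807, 3219, 2916, -1455, -542, -748, -408, -518, 71, 10, 1])) (.node (.leaf [-318, 230, 151, -73, 149, 237, -120, -3, -60, -21, -30, -1]) (.leaf [-145614, 281988, -1991, 63408, 202920, 96771, -91309, -54647, -25806, -35252, -26106, 3715, -2898,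 0, 0, -1, -1]))))) (.node (.node (.node (.node (.leaf [1]) (.leaf [0, 0, -1, 0, 1])) (.node (.leaf [-173, 94, 137, -25, 62, 134, -97, 10, -30, -6, -21]) (.leaf [-534, 364, 328, -303, 139, 446, -95, 27, -134, -22, -51, -1, -1]))) (.node (.node (.leaf [1]) (.leaf [])) (.node (.leaf [-58, 52, 2, 38, 35, 59, -61, -20, 4, -12, 8, -6]) (.leaf [-41852, 266632, 42640, 93421, 159919, 55050, -105647, -63358, -27295, -19553, -21251, -1949, 90, 0, 0, 1, 1])))) (.node (.node (.node (.leaf []) (.leaf [-1166, 578, 733, -186, 357, 864, -518, 75, -180, -80, -104, 2, -2, 0, -1])) (.node (.leaf [-3, 2, -3, -2, 3, 2, 0, -1]) (.leaf [5905, -9130, -2596, -2269, -6741, -3866, 4517, 1337, 1352, 871, 1067, -53, -9, 0, 1]))) (.node (.node (.leaf [176, -360, -269, -66, -147, -180, 184, 33, 74, 30, 42, 1]) (.leaf [-1161, 2, -109, -372, 477, 530, -170, 93, -73, -6, -27, 11, 1])) (.node (.leaf []) (.leaf [-15, 18, 13, -3, 7, 15, -8, -1, -4, -2, -2])))))) (.node (.node (.node (.node (.node (.leaf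 [9, -2, 7, 4, -7, -4, 0, 1]) (.leaf [])) (.node (.leaf [1, 0, 0, 1, 0, -1]) (.leaf [-11742, 17366, 6434, 2935, 11261, 8864, -8443, -2367, -2767, -1737, -1871, 47, 12, 0, -1]))) (.node (.node (.leaf [2, 0, 0, 1, 0, -1]) (.leaf [-1, -6, 5, -1, -5, 1, 0, 3])) (.node (.leaf []) (.leaf [0, 0, -1, 0, 1])))) (.node (.node (.node (.leaf []) (.leaf [1])) (.node (.leaf [1]) (.leaf [2, 0, 0, 1, 0, -1]))) (.node (.node (.leaf [-1, 0, 0, -1, 0, 1]) (.leaf [1690, 1154, 75, 1140, 127, -889, -83, -435, -40, -72, -18, -11, -1])) (.node (.leaf [-4955, 1132, 2794, -1124, 1019, 3689, -2149, 478, -489, -205, -347, -7, 4, 0, -1]) (.leaf [62916, 156388, -62007, 65521, 99313, -49961, 200, -50903, -15364, -7354, -4047, -1184, 658, 0, 0, 1, 1]))))) (.node (.node (.node (.node (.leaf [1]) (.leaf [-89, 48, 31, -28, 42, 65, -33, -2, -13, -2, -7])) (.node (.leaf [-119, 66, 80, -21, 47, 84, -55, 7, -23, -4, -13]) (.leaf [-62, 30, 36, -13, 23, 44, -27, 3, -11, -2, -5]))) (.node (.node (.leaf [1])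 (.leaf [])) (.node (.leaf [1056, -520, -523, 102, -417, -698, 456, -52, 158, 72, 84, -2]) (.leaf [])))) (.node (.node (.node (.leaf [-2, 0, -1, -1, 1, 1]) (.leaf [0, 0, 0, -1, 0, 1])) (.node (.leaf [1066, -1256, -718, -78, -751, -855, 685, 114, 235, 121, 155, 1, 2, 0, 1]) (.leaf [528653, 2899594, 1499251, 1314284, 859381, 335816, -1142732, -588241, -343420, -244374, -264452, -9232, -78, 0, 0, 1, 1]))) (.node (.node (.leaf [-1, 0, 0, -1, 0, 1]) (.leaf [116, -18, -9, 52, -51, -68, 20, -8, 8, -2, 11, -1, 1])) (.node (.leaf [61, -6, -27, 35, -25, -43, 24, -3, 6, -7, 8, -1]) (.leaf [23326, -13452, -1352, 1798, -15578, -13816, 9002, 1346, 2040, 1560, 1832, -144, 92, 0, 1])))))))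

def twoL169 : Janko.Tree (List ℤ) :=
  (.node (.node (.node (.node (.node (.node (.leaf [0, 1]) (.leaf [0, 1])) (.node (.leaf [0, 1]) (.leaf [0, -1, 0, -2, 0, 0, 0, 0, 0, 1]))) (.node (.node (.leaf [0, 1]) (.leaf [])) (.node (.leaf [0, 1]) (.leaf [-69, 51, 31, -12, 35, 48, -28, -2, -14, -4, -5])))) (.node (.node (.node (.leaf []) (.leaf [6, -23, 9, -11, -20, 2, 3, 6, 3, 2, 0, 0, 1])) (.node (.leaf []) (.leaf [4594, -4914, -1315, 808, -3466, -3364, 1796, 577, 887, 459, 613, -72, -7, -1]))) (.node (.node (.leaf []) (.leaf [598, -728, -667, -71, -304, -502, 417, 10, 184, 75, 92, 2, 1])) (.node (.leaf [0, 1]) (.leaf [135, -58, -61, 24, -55, -88, 56, -5, 21, 4, 9]))))) (.node (.node (.node (.node (.leaf []) (.leaf [8670, -16932, 252, -2586, -12740, -5586, 5280, 3422, 2170, 1462, 1428, -22, 6, -1, 1])) (.node (.leaf []) (.leaf [0, 1]))) (.node (.node (.leaf []) (.leaf [0, 1])) (.node (.leaf [0, 1]) (.leaf [0, 1])))) (.node (.node (.node (.leaf [0, 1]) (.leaf [])) (.node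 (.leaf [0, 1]) (.leaf [-586, 721, 663, 67, 296, 498, -411, -10, -181, -74, -92, -2, -1]))) (.node (.node (.leaf [0, 1]) (.leaf [0, 1])) (.node (.leaf [0, 1]) (.leaf [0, 1])))))) (.node (.node (.node (.node (.node (.leaf [0, 1]) (.leaf [0, 1])) (.node (.leaf [-194, 88, 147, -33, 54, 192, -143, -6, -14, -5, -16, -4, 1]) (.leaf []))) (.node (.node (.leaf []) (.leaf [])) (.node (.leaf [0, 1]) (.leaf [-437, -1062, -278, -683, -471, 166, 397, 296, 108, 51, 67, 8, 1])))) (.node (.node (.node (.leaf [0, 1]) (.leaf [])) (.node (.leaf []) (.leaf []))) (.node (.node (.leaf [2, 2, 2, 2, -2, 0, 0, 0, 0, -1]) (.leaf [])) (.node (.leaf [0, 1]) (.leaf [746, 123, 37, 303, -210, -400, 119, -78, 18, -10, 10, 0, -1]))))) (.node (.node (.node (.node (.leaf []) (.leaf [0, 1])) (.node (.leaf []) (.leaf []))) (.node (.node (.leaf []) (.leaf [0, 1])) (.node (.leaf [0, 1]) (.leaf [0, 1])))) (.node (.node (.node (.leaf [-98, 169, -53, -25, 118, 72, -13, -42, -21, -16, -4, 0, -1]) (.leaf []))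 (.node (.leaf [0, 1]) (.leaf [0, 1]))) (.node (.node (.leaf [-2, 2, 0, 0, 0, 2, 0, 0, 0, -1]) (.leaf [165804, -170046, 52862, -26850, -178092, -99604, 80170, 42454, 5587, 20387, 13840, -348, 3103, -1, 1, 0, 1])) (.node (.leaf [0, 1]) (.leaf [-55152, -29063, -21717, -8675, 8225, 31339, -10892, 6104, 13736, -4876, 578, 1112, -2122, 1, -1, 0, -1])))))))

def twoL170 : Janko.Tree (List ℤ) :=
  (.node (.node (.node (.node (.node (.node (.leaf []) (.leaf [])) (.node (.leaf [-1266, 394, 763, -187, 322, 852, -541, 136, -181, -61, -90, 0, -1]) (.leaf [0, 0, 1, 1, 0, 0, -1]))) (.node (.node (.leaf [0, 2, 1, -1, 0, 0, 1, 0, -1]) (.leaf [-1, 2, 1, 0, 1, 0, 0, 0, -1])) (.node (.leaf [-11, -4, -1, -6, 1, 6, 0, 2]) (.leaf [51127, 33378, 22468, 7937, -5045, -28493, 9460, -6662, -14486, 4458, -1089, -1044, 2134, 0, 1, 0, 1])))) (.node (.node (.node (.leaf [-5, 2, 0, -1, 3, 2, -1, 0, -1]) (.leaf [0, 0, 0, -1, 0, 0, 1])) (.node (.leaf [-77, 26, 35, -26, 22, 51, -21, 7, -13, -2, -5])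 (.leaf [0, 0, 1]))) (.node (.node (.leaf [288, -150, -203, 47, -107, -211, 144, -18, 50, 10, 33]) (.leaf [4, -2, 1, 2, -2, -2, 0, 0, 1])) (.node (.leaf []) (.leaf [-176946, 249330, -34270, 42666, 209680, 103286, -82054, -49129, -20962, -32602, -22625, 3744, -3091, 0, 0, 0, -1]))))) (.node (.node (.node (.node (.leaf []) (.leaf [0, 0, 1])) (.node (.leaf [18, 6, 8, 11, -3, -9, -2, -2, 0, 0, -1]) (.leaf [-123, 54, 127, -203, -70, 126, 81, 43, -60, 0, -8, -1, -1]))) (.node (.node (.leaf [244, -78, -138, 72, -65, -177, 93, -22, 34, 6, 21]) (.leaf [5026, -2258, -2560, 1830, -1586, -3888, 1668, -322, 634, 288, 622, -76, -17, -1, 0, 1])) (.node (.leaf [13210, 23448, -6477, 8957, 12316, -8698, 797, -7712, -3200, -276, -284, -418, 166, 0, -1, 1]) (.leaf [1423, -604, -367, 359, -682, -912, 505, 8, 191, 23, 79, -1, 2])))) (.node (.node (.node (.leaf []) (.leaf [0, 0, 1])) (.node (.leaf []) (.leaf [0, 0, 0, -1, 0, 0, 1]))) (.node (.node (.leaf []) (.leaf [-987, -36, -198, -307,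 431, 403, -102, 81, -55, -4, -11, 6, 1])) (.node (.leaf [2, -2, -1, -1, -2, 0, 1, 0, 1]) (.leaf [-29, 28, 15, -9, 12, 27, -10, -2, -5, -4, -3])))))) (.node (.node (.node (.node (.node (.leaf []) (.leaf [204, -164, -93, -25, -135, -134, 123, 11, 32, 18, 21])) (.node (.leaf [0, -2, -1, 0, 0, 0, 0, 0, 1]) (.leaf [4, -2, -2, 0, -2, -2, 2, 0, 1]))) (.node (.node (.leaf [-676, 622, 14, -273, 549, 459, -184, -122, -144, 0, -44, 0, -1]) (.leaf [-15, -8, 13, -7, -5, 11, -4, 6, -1, 0, -1])) (.node (.leaf [2, -2, 0, -1, -2, 0, 1, 0, 1]) (.leaf [0, 0, 1])))) (.node (.node (.node (.leaf [306, -374, -192, 210, -132, -330, 74, 38, 98, 12, 28, 12, -1]) (.leaf [-299, -198, 15, -109, 26, 138, -73, 61, 9, 22, 7])) (.node (.leaf []) (.leaf [-4, 0, -1, -1, 2, 2, -1]))) (.node (.node (.leaf [0, 0, 1, 1, 0, 0, -1]) (.leaf [0, 0, 1])) (.node (.leaf []) (.leaf [0, 0, 0, -1, 0, 0, 1]))))) (.node (.node (.node (.node (.leaf []) (.leaf [10, -2, 16, 6, -10, -1, -5, 1, 1, 0, -1])) (.node (.leaf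 [0, 0, 0, -1, 0, 0, 1]) (.leaf [0, 0, 0, -1, 0, 0, 1]))) (.node (.node (.leaf []) (.leaf [])) (.node (.leaf []) (.leaf [-30429, 18496, 11372, -2515, 16568, 21805, -15548, -1226, -3328, -1903, -2823, 77, -45, -1, 0, 1])))) (.node (.node (.node (.leaf [0, 0, 0, -1, 0, 0, 1]) (.leaf [-53, -2, 7, -21, 15, 33, -12, 6, -2, 0, -3])) (.node (.leaf []) (.leaf []))) (.node (.node (.leaf [0, 0, 1, 1, 0, 0, -1]) (.leaf [0, 0, 1])) (.node (.leaf []) (.leaf [0, 0, 0, -1, 0, 0, 1])))))))

def twoL171 : Janko.Tree (List ℤ) :=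
  (.node (.node (.node (.node (.node (.node (.leaf []) (.leaf [])) (.node (.leaf [690, -202, -272, 208, -213, -460, 221, -48, 94, 17, 39, 0, -1]) (.leaf [0, 0, 0, 1]))) (.node (.node (.leaf []) (.leaf [0, 0, 0, 1])) (.node (.leaf [-107245, 158952, -13134, -12853, 133198, 59846, -36860, -31330, -32492, -5562, -10588, -982, 1478, -1, 1, 1, 1]) (.leaf [0, 0, 0, 1])))) (.node (.node (.node (.leaf []) (.leaf [0, 0, 0, 1])) (.node (.leaf []) (.leaf [1132, -800, -505, 216, -673, -747, 481, 20, 211, 51, 144, -20, -6]))) (.node (.node (.leaf [0, 0, 0, 1]) (.leaf [0, 0, 0, 1])) (.node (.leaf [-802, 528, 431, -160, 335, 625, -356, -5, -132, -53, -73, -1]) (.leaf [0, 0, 0, 1]))))) (.node (.node (.node (.node (.leaf []) (.leaf [])) (.node (.leaf [0, 0, 0, 1]) (.leaf [-128, 76, 102, -201, -47, 129, 81, 33, -58, -2, -9, -1, -1]))) (.node (.node (.leaf []) (.leaf [7366, -3594, -1632, 2636, -3398, -5160, 2023, 26, 868, 350, 652, -82, -17, -1, 0, 1])) (.node (.leaf [148, -32, -26, 70,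 -83, -42, 1, -24, 36, -8, 18, -6]) (.leaf [1299, -562, -315, 341, -628, -838, 450, 14, 172, 22, 71, -1, 3])))) (.node (.node (.node (.leaf []) (.leaf [])) (.node (.leaf []) (.leaf [0, 0, 0, 1]))) (.node (.node (.leaf [182, -316, -157, -70, -183, -151, 164, 41, 54, 28, 34, 1]) (.leaf [-1133, -4, -122, -375, 473, 511, -153, 93, -73, 0, -27, 8, 1])) (.node (.leaf []) (.leaf [-28657, -1520, 13352, -6644, 2436, 19883, -10371, 4758, -411, -1854, -2153, 564, -144, 1, 0, -1])))))) (.node (.node (.node (.node (.node (.leaf []) (.leaf [])) (.node (.leaf [0, 0, 0, 1]) (.leaf [0, 0, 0, 1]))) (.node (.node (.leaf [0, 0, 0, 1]) (.leaf [0, 0, 0, 1])) (.node (.leaf []) (.leaf [-64, 14, 34, -36, 21, 49, -23, 4, -8, 4, -8, 1])))) (.node (.node (.node (.leaf [204, -378, -90, 200, -130, -254, 9, 60, 88, 12, 18, 12, -1]) (.leaf [-4641, 1212, -536, -2062, 2286, 2492, -370, 112, -424, -112, -264, 84, -2, 1])) (.node (.leaf [90, -40, -49, 29, -21, -73, 34, -3, 10, 8, 8, -3]) (.leaf [0, 0,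 0, 1]))) (.node (.node (.leaf [0, 0, 0, 1]) (.leaf [-588, 836, -64, -229, 643, 421, -156, -190, -162, -17, -48, 0, -1])) (.node (.leaf []) (.leaf [0, 0, 0, 1]))))) (.node (.node (.node (.node (.leaf []) (.leaf [8548, -30666, 6798, -7512, -24413, -4448, 7756, 8323, 3302, 1853, 1606, 227, 22, 1, 0, -1])) (.node (.leaf [0, 0, 0, 1]) (.leaf [0, 0, 0, 1]))) (.node (.node (.leaf [163, 42, -113, 19, 19, -87, 50, -52, 16, 10, 6, -1]) (.leaf [])) (.node (.leaf [-22, -14, 17, -14, -11, 17, -2, 9, 0, -1, -2, 1]) (.leaf [26859, 2408, -12648, 6563, -1652, -18635, 9495, -4742, 246, 1683, 2003, -547, 153, -1, 0, 1])))) (.node (.node (.node (.leaf [0, 0, 0, 1]) (.leaf [0, 0, 0, 1])) (.node (.leaf []) (.leaf []))) (.node (.node (.leaf [0, 0, 0, 1]) (.leaf [-146, 34, 51, -14, 47, 103, -70, 6, -7, -8, -7, -1])) (.node (.leaf [62, -8, -25, 38, -27, -45, 24, -2, 6, -7, 8, -1]) (.leaf [0, 0, 0, 1])))))))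

def twoL172 : Janko.Tree (List ℤ) :=
  (.node (.node (.node (.node (.node (.node (.leaf [1]) (.leaf [-414, 90, 160, -120, 127, 257, -131, 36, -50, -10, -28, 7])) (.node (.leaf [88, -18, -18, 24, -31, -49, 21, -7, 11, 2, 3]) (.leaf [0, 0, -1, 0, 1]))) (.node (.node (.leaf [-77, 26, 32, -20, 27, 51, -27, 5, -11, -2, -5]) (.leaf [])) (.node (.leaf [100, -46, -47, 29, -26, -76, 33, -4, 12, 10, 8, -3]) (.leaf [37409, 29938, 65825, -4642, -24372, -10293, 2231, 2927, -20153, 4150, -4095, -204, 2406, -1, 1, 1, 1])))) (.node (.node (.node (.leaf [1, 0, 0, 1, 0, -1]) (.leaf [3, 0, 1, 1, -1, -1])) (.node (.leaf [10, 10, -30, 2, 13, -15, 13, -7, -1, 0, 3]) (.leaf [-234801, 278952, 35223, 75093, 231318, 179864, -175413, -58394, -11543, -35489, -29767, -29, -4254, 0, 0, -1, -1]))) (.node (.node (.leaf [-16, -6, -9, -9, 4, 6, 3, 2, 0, 0, 1]) (.leaf [-3989, 4304, 630, -699, 3247, 2788, -1429, -589, -736, -402, -497, 63, 9, 1])) (.node (.leaf [-2428, 1728, 1138, -475, 1168, 1854,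 -1059, -78, -414, -156, -212, -7, 3]) (.leaf [306413, 1969616, 1008718, 889954, 603820, 265344, -798922, -401522, -225138, -170172, -179960, -6306, -1710, -1, 0, 1, 1]))))) (.node (.node (.node (.node (.leaf [1, 0, 1, 0, -1]) (.leaf [2, 0, 0, 1, 0, -1])) (.node (.leaf []) (.leaf [1]))) (.node (.node (.leaf [-11, 6, 35, -8, -10, 23, -15, 2, -2, 0, -3]) (.leaf [-244, 14, 139, -136, -11, 180, -24, 54, -26, -18, -25, 9, -1])) (.node (.leaf [1]) (.leaf [724, -480, -354, 12, -391, -517, 405, 20, 98, 50, 72])))) (.node (.node (.node (.leaf [580, -294, -169, 167, -294, -384, 207, 14, 92, 6, 36, -1]) (.leaf [-950, 1242, 576, 111, 788, 765, -648, -151, -206, -112, -150, 0, -2, 0, -1])) (.node (.leaf [0, 0, 0, -1, 0, 1]) (.leaf [18576, -13540, -1028, -228, -14314, -11060, 8256, 1801, 1740, 1541, 1713, -115, 90, 0, 1]))) (.node (.node (.leaf [1]) (.leaf [-1029821, -5502404, -2779046, -2593253, -1650159, -637696, 2214085, 1142580, 601319, 483675, 498871, 17387, 7370, 0, 0, 1, 1]))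 (.node (.leaf [3, 6, -5, 1, 5, -1, 0, -3]) (.leaf [3016, -52670, -21839, -13708, -22386, -8210, 16156, 9076, 9709, 3179, 4669, 46, -344, 0, 0, -1])))))) (.node (.node (.node (.node (.node (.leaf [0, 0, -1, 0, 1]) (.leaf [-2, 0, -1, -1, 1, 1])) (.node (.leaf [13, -12, -50, 51, 9, -34, 1, -5, 8, -8, 12, -1]) (.leaf [0, 0, 0, -1, 0, 1]))) (.node (.node (.leaf []) (.leaf [830, -422, 286, 201, -651, -362, 117, 64, 80, 40, 45, -17, -1])) (.node (.leaf [-2, 0, -1, -1, 1, 1]) (.leaf [-66, 14, 33, -37, 22, 50, -23, 4, -8, 4, -8, 1])))) (.node (.node (.node (.leaf [72, -32, -36, 16, -28, -52, 32, -2, 10, 2, 6]) (.leaf [-11, -110, -15, 23, -23, -35, -8, 22, 10, 10, 13])) (.node (.leaf [1, 0, 1, 0, -1]) (.leaf []))) (.node (.node (.leaf []) (.leaf [-169, 2012, 1194, 1304, 1008, 261, -1187, -317, -258, -191, -242, 9, -7])) (.node (.leaf [1]) (.leaf [-107164, -246744, -201832, -149134, -6982, -25602, 111372, 45203, 20674, 30590, 25813, -1142, 2234, 0, 1, 0, 1]))))) (.node (.node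 (.node (.node (.leaf [1, 0, 1, 0, -1]) (.leaf [-646, 866, 264, -199, 472, 639, -308, -154, -138, -62, -75, -3, -1])) (.node (.leaf []) (.leaf [240, -30, -92, 83, -59, -136, 55, -32, 32, 5, 16, -6]))) (.node (.node (.leaf [1, 0, 1, 0, -1]) (.leaf [1])) (.node (.leaf [1]) (.leaf [572, -152, -118, 124, -249, -307, 167, -32, 70, 14, 30, -6])))) (.node (.node (.node (.leaf [-9, 2, -4, -7, 4, 7, 0, -1]) (.leaf [])) (.node (.leaf [-1000, 1052, 522, 42, 728, 748, -602, -108, -194, -94, -130]) (.leaf [70244, 42342, 12478, 27746, -86, -40170, 6494, -12784, -10214, 2128, -1138, -1072, 1909, 0, 0, 1, 1]))) (.node (.node (.leaf []) (.leaf [0, 0, 0, -1, 0, 1])) (.node (.leaf []) (.leaf [0, 0, -1, 0, 1])))))))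

def twoL173 : Janko.Tree (List ℤ) :=
  (.node (.node (.node (.node (.node (.node (.leaf []) (.leaf [])) (.node (.leaf [0, 1]) (.leaf [-1, -8, -17, -10, 1, -2, 10, 0, 2, 1, 1]))) (.node (.node (.leaf []) (.leaf [0, 1])) (.node (.leaf []) (.leaf [0, 1])))) (.node (.node (.node (.leaf []) (.leaf [146460, -110202, 63517, -12519, -140082, -81694, 56811, 29692, -1900, 16174, 8608, -642, 3169, -1, 1, 0, 1])) (.node (.leaf [-4, 11, -6, 0, 10, 2, -2, -4, -1]) (.leaf [0, 2, 0, 2, 0, 0, 0, 0, 0, -1]))) (.node (.node (.leaf []) (.leaf [0, 1])) (.node (.leaf []) (.leaf [0, 1]))))) (.node (.node (.node (.node (.leaf []) (.leaf [])) (.node (.leaf [0, 1]) (.leaf []))) (.node (.node (.leaf [4, -10, 6, 0, -10, -2, 2, 4, 1]) (.leaf [])) (.node (.leaf []) (.leaf [0, 1])))) (.node (.node (.node (.leaf []) (.leaf [-4, 6, 4, 2, 2, 2, -2, 0, -2, -1])) (.node (.leaf []) (.leaf [-582, 697, 625, 77, 302, 488, -413, -14, -170, -75, -88, -2, 1]))) (.node (.node (.leaf []) (.leaf [0, 1])) (.node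 (.leaf [-367, -988, -785, -372, -64, -127, 353, 170, 155, 63, 96, 13, -3]) (.leaf [0, 1])))))) (.node (.node (.node (.node (.node (.leaf []) (.leaf [-750, 241, 203, -369, 230, 564, -169, 24, -85, -12, -46, 0, -1])) (.node (.leaf [0, 1]) (.leaf []))) (.node (.node (.leaf [0, 1]) (.leaf [0, 1])) (.node (.leaf [738, -574, -55, 219, -540, -502, 273, 118, 124, 14, 40, -6, -3]) (.leaf [-173179, 91613, 37541, -5384, 95084, 124655, -87929, -9774, -6598, -13941, -13763, 257, -1987, 1, -1, 0, -1])))) (.node (.node (.node (.leaf [0, 1]) (.leaf [])) (.node (.leaf []) (.leaf [0, 1]))) (.node (.node (.leaf [0, 1]) (.leaf [0, 1])) (.node (.leaf []) (.leaf [0, 1]))))) (.node (.node (.node (.node (.leaf []) (.leaf [])) (.node (.leaf [0, 1]) (.leaf [0, 1]))) (.node (.node (.leaf []) (.leaf [1512, -2081, -1899, -367, -778, -1652, 1519, 213, 382, 199, 196, 50, 1])) (.node (.leaf []) (.leaf [0, 1])))) (.node (.node (.node (.leaf []) (.leaf [0, 1])) (.node (.leaf []) (.leaf [181579, 3982,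 -35851, 40498, -38172, -119680, 57766, -18405, -3543, 10993, 9249, -2708, 2423, -1, 1, 1, 1]))) (.node (.node (.leaf [0, 1]) (.leaf [98479, -167076, 29605, -76862, -148176, -76047, 96319, 48040, -7448, 24191, 14651, 181, 3923, -1, 1, 0, 1])) (.node (.leaf [0, 1]) (.leaf [11, -3, 1, 4, -5, -8, 2, 0, 0, 1, 1])))))))

def twoL174 : Janko.Tree (List ℤ) :=
  (.node (.node (.node (.node (.node (.node (.leaf []) (.leaf [-326, 60, 134, -102, 89, 199, -95, 35, -41, -8, -23, 7])) (.node (.leaf [3, 8, 3, 2, 3, 3, -5, -4, 1, 0, -1]) (.leaf [0, 0, 1]))) (.node (.node (.leaf [0, 0, 1]) (.leaf [-3018, 1890, 1517, -889, 1164, 2470, -1233, -38, -479, -167, -254, -16, 9])) (.node (.leaf [0, 0, 0, -1, 0, 0, 1]) (.leaf [-24995, 188156, -27773, 53454, 132737, 11209, -38641, -47527, -21943, -13038, -11597, -352, 379, 0, 1, 0, 1])))) (.node (.node (.node (.leaf [-10, 2, -2, -6, 4, 6, 0, 0, -1]) (.leaf [0, 0, 0, -1, 0, 0, 1])) (.node (.leaf [0, 0, 1]) (.leaf [1132, -800, -506, 215, -673,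 -747, 482, 20, 211, 51, 144, -20, -6]))) (.node (.node (.leaf [0, 0, 0, -1, 0, 0, 1]) (.leaf [-2020, 666, -1191, -987, 1402, 974, 9, -230, -145, -5, 40, 12, -5])) (.node (.leaf [53, 2, -6, 21, -15, -33, 12, -6, 2, 0, 3]) (.leaf [-24388, 341610, 86477, 112482, 179841, 52811, -120545, -74137, -46645, -21436, -27649, -2346, 1408, -1, 0, 1, 1]))))) (.node (.node (.node (.node (.leaf [0, 0, 1]) (.leaf [-4, 0, -1, -1, 2, 2, -1])) (.node (.leaf []) (.leaf [-46567, -5590, -70652, 7580, 44848, 14840, -8156, -9393, 16397, -4702, 2923, -90, -2340, 0, -1, 0, -1]))) (.node (.node (.leaf [0, 0, 1]) (.leaf [0, 0, 1])) (.node (.leaf [-1578, 186, 290, -582, 481, 1065, -475, 62, -113, 1, -38, -8, 3]) (.leaf [281, -242, -147, -18, -181, -199, 169, 17, 48, 24, 32])))) (.node (.node (.node (.leaf [0, 0, 1]) (.leaf [0, 0, 1, 1, 0, 0, -1])) (.node (.leaf [376, -1270, -1093, -680, -423, -545, 897, 162, 195, 143, 114, 20, 1]) (.leaf [-6, 2, -1, -2, 4, 2, 0, 0, -1]))) (.node (.node (.leaf [-5,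 2, 0, -1, 3, 2, -1, 0, -1]) (.leaf [96, -1984, -1151, -1329, -989, -203, 1158, 320, 251, 187, 234, -6, 6])) (.node (.leaf [72, -28, -47, 17, -19, -51, 30, -6, 13, 2, 5]) (.leaf [182923, -287240, 63174, -85156, -261646, -107894, 119310, 70870, 12869, 33741, 23011, -572, 3701, 0, 0, 0, 1])))))) (.node (.node (.node (.node (.node (.leaf [0, 0, 1]) (.leaf [0, 0, 0, -1, 0, 0, 1])) (.node (.leaf []) (.leaf [-44114, -73038, 29776, -21549, -43363, 37040, -12535, 23298, 13788, -850, 911, 1010, -1638, 0, -1, 0, -1]))) (.node (.node (.leaf [0, -10, 6, -1, -8, 0, 1, 4, 1]) (.leaf [799, -444, 307, 201, -648, -356, 103, 76, 76, 44, 44, -17, -1])) (.node (.leaf [0, 0, 0, -1, 0, 0, 1]) (.leaf [0, 0, 0, -1, 0, 0, 1])))) (.node (.node (.node (.leaf [-134, 50, 108, -40, 23, 114, -66, 11, -19, -4, -13]) (.leaf [0, 0, 1])) (.node (.leaf [0, 0, 1]) (.leaf [4, -2, 0, 1, -2, -2, 1, 0, 1]))) (.node (.node (.leaf [0, 2, 1, -1, 0, 0, 1, 0, -1]) (.leaf [])) (.node (.leaf [-11053, -13684, -75506,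 16154, 29641, -7355, 3653, -10295, 18469, -3754, 4894, -215, -2257, 0, -1, 0, -1]) (.leaf [23212, 308344, 47226, 109866, 160797, 16558, -90136, -75915, -38940, -16118, -21173, -3196, 1170, 0, 1, 0, 1]))))) (.node (.node (.node (.node (.leaf [0, 0, 1]) (.leaf [180, -84, -45, 53, -86, -119, 58, 1, 26, 4, 11])) (.node (.leaf []) (.leaf [-9145, 190982, 109001, 106032, 63511, 60386, -108064, -36835, -7714, -27656, -21765, 1224, -2745, 0, 0, 0, -1]))) (.node (.node (.leaf [0, 0, 1]) (.leaf [])) (.node (.leaf [242, -396, -219, -6, -184, -245, 175, 46, 66, 38, 48]) (.leaf [7904, -336774, -44903, -107605, -188286, -35674, 101883, 80960, 42755, 18680, 23974, 3094, -1076, 0, 0, 0, -1])))) (.node (.node (.node (.leaf [0, 0, 1]) (.leaf [1012, -1090, -422, -94, -799, -799, 677, 166, 165, 86, 106, 21, 1])) (.node (.leaf [0, 0, 1]) (.leaf [0, 0, 1]))) (.node (.node (.leaf [0, 2, 1, -1, 0, 0, 1, 0, -1]) (.leaf [1, -2, 0, 0, -1, 0, 0, 0, 1])) (.node (.leaf []) (.leaf [0, 0, 1])))))))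

def twoL175 : Janko.Tree (List ℤ) :=
  (.node (.node (.node (.node (.node (.node (.leaf []) (.leaf [0, 0, 0, 1])) (.node (.leaf []) (.leaf []))) (.node (.node (.leaf []) (.leaf [661, -188, -157, 155, -278, -371, 195, -37, 82, 18, 38, -7])) (.node (.leaf [0, 0, 0, 1]) (.leaf [72723, 66934, 163591, 24420, -55212, 6344, -39523, -297, -28391, 3730, -9159, -2472, 3122, -1, 1, 1, 1])))) (.node (.node (.node (.leaf [0, 0, 0, 1]) (.leaf [0, 0, 0, 1])) (.node (.leaf []) (.leaf [0, 0, 0, 1]))) (.node (.node (.leaf [0, 0, 0, 1]) (.leaf [480, -684, -490, -101, -341, -409, 379, 50, 142, 65, 84, 1])) (.node (.leaf [0, 0, 0, 1]) (.leaf [64230, 791788, 384232, 346971, 279054, 132048, -336754, -161858, -90306, -67560, -72598, -3210, -362, -1, 0, 1, 1]))))) (.node (.node (.node (.node (.leaf []) (.leaf [0, 0, 0, 1])) (.node (.leaf []) (.leaf [-227739, 294288, 47900, 83720, 232830, 178750, -180766, -60431, -14326, -36777, -31535, 46, -4121, 1, -1, -1, -1]))) (.node (.node (.leaf [])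 (.leaf [59, -32, -40, 28, -21, -50, 25, -1, 10, 0, 8, -1])) (.node (.leaf [-69, 60, 31, 34, 30, 80, -77, -20, 4, -13, 4, -5]) (.leaf [25659, -17270, -9969, 1084, -14950, -18420, 13788, 1335, 2915, 1825, 2611, -91, 40, 1, 0, -1])))) (.node (.node (.node (.leaf [399, -210, -172, 119, -181, -277, 153, 2, 72, 4, 28, -1]) (.leaf [0, 0, 0, 1])) (.node (.leaf [0, 0, 0, 1]) (.leaf [0, 0, 0, 1]))) (.node (.node (.leaf []) (.leaf [460, -692, -403, -91, -373, -387, 349, 70, 133, 61, 78, 2, 2])) (.node (.leaf [0, 0, 0, 1]) (.leaf [-95185, 97120, -40412, -24644, 106083, 42521, -15079, -20734, -21132, -1850, -5295, -680, 1131, 0, 0, 0, 1])))))) (.node (.node (.node (.node (.node (.leaf []) (.leaf [0, 0, 0, 1])) (.node (.leaf []) (.leaf [0, 0, 0, 1]))) (.node (.node (.leaf [-474, 668, 394, 77, 372, 394, -347, -66, -128, -57, -78, -2, -3]) (.leaf [976, 1434, 298, 825, 387, -347, -269, -406, -132, -76, -75, -27, -1])) (.node (.leaf [0, 0, 0, 1]) (.leaf [0, 0, 0, 1])))) (.node (.node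 (.node (.leaf []) (.leaf [-71, 32, 144, 22, 25, 53, -95, 11, -22, 9, -15, 1])) (.node (.leaf []) (.leaf []))) (.node (.node (.leaf []) (.leaf [-491, 694, 456, 88, 364, 411, -369, -58, -142, -62, -82, -2, -1])) (.node (.leaf [100, -56, -43, 37, -33, -83, 36, 3, 12, 8, 8, -3]) (.leaf [-1464, -438, 839, -561, -136, 936, -391, 363, -101, -8, -51, 20, -4, 0, 1]))))) (.node (.node (.node (.node (.leaf [1008, 834, 156, 515, 100, -400, -65, -298, -54, -8, -40, -16, -1]) (.leaf [0, 0, 0, 1])) (.node (.leaf []) (.leaf [407, -92, -162, 120, -125, -256, 131, -35, 50, 9, 28, -6]))) (.node (.node (.leaf [-508, 500, -52, -119, 441, 350, -169, -110, -78, -30, -31, 0, -1]) (.leaf [-66, 14, 33, -35, 23, 49, -24, 4, -8, 4, -8, 1])) (.node (.leaf []) (.leaf [226, -12, 70, 60, -131, -24, -27, -34, 36, 6, 8, -10])))) (.node (.node (.node (.leaf []) (.leaf [54, 36, 162, 28, -85, 17, -29, 14, -18, -7, -6, -1])) (.node (.leaf [-263, 326, 58, 39, 265, 189, -171, -59, -38, -29, -38, 1]) (.leaf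 [-552, 692, 321, 26, 447, 433, -345, -84, -127, -49, -78, -2, -6]))) (.node (.node (.leaf []) (.leaf [0, 0, 0, 1])) (.node (.leaf []) (.leaf [-1517, 7692, 6869, 2015, 1785, 3048, -3553, -504, -1328, -897, -1259, 105, 37, 1, 0, -1])))))))

def twoL176 : Janko.Tree (List ℤ) :=
  (.node (.node (.node (.node (.node (.node (.leaf [1, 0, 1, 0, -1]) (.leaf [-12, 0, -10, -3, 10, 3])) (.node (.leaf [2, 6, -4, 0, 4, 0, 0, -3]) (.leaf [2, 0, 0, 1, 0, -1]))) (.node (.node (.leaf [-6, -2, -1, -3, 1, 3, 0, 1]) (.leaf [2209, -718, -2215, 558, -129, -2183, 1477, -147, 300, 6, 132, 67, 1])) (.node (.leaf [4, -2, 3, 3, -3, -3, 0, 1]) (.leaf [-45785, 206766, 25129, 73710, 133681, 50608, -89078, -51114, -18276, -15638, -16373, -1765, -217, 0, 1, 0, 1])))) (.node (.node (.node (.leaf []) (.leaf [-160, 34, 52, -17, 53, 108, -73, 8, -9, -8, -7, -1])) (.node (.leaf [1, 0, 0, 1, 0, -1]) (.leaf [211, -114, -19, 38, -125, -114, 60, 8, 36, 6, 5, 1, 1]))) (.node (.node (.leaf []) (.leaf [1]))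 (.node (.leaf [40, -22, -2, 12, -27, -29, 17, 5, 3, 0, 3]) (.leaf [1]))))) (.node (.node (.node (.node (.leaf [-1, 0, 0, -1, 0, 1]) (.leaf [])) (.node (.leaf [-31, -58, -133, -17, 52, -30, 33, -2, 18, 6, 6, 1]) (.leaf [-68, 28, 54, -15, 16, 49, -30, 8, -14, -2, -6]))) (.node (.node (.leaf [1, 0, 0, 1, 0, -1]) (.leaf [0, 0, 0, -1, 0, 1])) (.node (.leaf []) (.leaf [-673, -360, -219, -419, 129, 345, -10, 89, 39, 40, 10, 1, 1])))) (.node (.node (.node (.leaf [8, -2, 8, 2, -7, 3, -5, -1, 3, 0, -1]) (.leaf [-4661, 8734, 3200, 2214, 5493, 3887, -4457, -1421, -1197, -817, -927, -11, 6, 0, -1])) (.node (.leaf [-88, 34, 30, -25, 35, 62, -33, 1, -11, -2, -5]) (.leaf [-5166, 5268, 1632, -812, 3708, 3728, -2070, -564, -1003, -508, -644, 73, 12, 1]))) (.node (.node (.leaf [1, 0, 0, 1, 0, -1]) (.leaf [-24024, -7180, -9934, -6810, 8580, 10420, -2462, 1990, 1792, -448, 382, 140, -266, 0, 0, 1])) (.node (.leaf [-327, -990, -762, -313, -108, -177, 378, 192, 148, 42, 99, 15, -1]) (.leaf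 [-4439, 8884, 3455, 3169, 5867, 3041, -4558, -1230, -1320, -892, -1066, 62, 4, 0, -1])))))) (.node (.node (.node (.node (.node (.leaf [2, 0, 0, 1, 0, -1]) (.leaf [-265, 312, 156, 33, 204, 191, -164, -28, -61, -30, -37])) (.node (.leaf [0, 0, 0, -1, 0, 1]) (.leaf [-254102, 311636, -32807, 71548, 281508, 166669, -152757, -69995, -14652, -39250, -28441, 1399, -4879, 0, -1, 0, -1]))) (.node (.node (.leaf [-2, 2, -3, -1, 3, 1, 0, -1]) (.leaf [1])) (.node (.leaf [1]) (.leaf [])))) (.node (.node (.node (.leaf [-150, 270, 107, 67, 163, 115, -126, -35, -43, -28, -29]) (.leaf [7, -6, -15, -4, -2, -7, 11, 0, 2, 0, 1])) (.node (.leaf [-75, 8, 35, -40, 21, 54, -24, 7, -8, 4, -8, 1]) (.leaf [-2, 0, -1, -1, 1, 1]))) (.node (.node (.leaf [7, 2, 1, 3, -1, -3, 0, -1]) (.leaf [-7, 8, -11, -4, 11, 4, 0, -4])) (.node (.leaf [-12458, -22852, -77279, 12274, 25634, -7131, 5753, -8329, 19625, -2920, 5578, -271, -2257, 0, -1, 0, -1]) (.leaf [-651, 51310, 21761, 14674, 20896, 7068, -15884, -9024,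 -9155, -3159, -4547, -86, 316, 0, 0, 1]))))) (.node (.node (.node (.node (.leaf [-1, 0, 0, -1, 0, 1]) (.leaf [])) (.node (.leaf [1]) (.leaf [456, -126, -206, 133, -143, -300, 161, -34, 60, 9, 34, -6]))) (.node (.node (.leaf [134, -6, -119, 64, 31, -118, 36, -32, 16, 10, 10, -1]) (.leaf [1, 0, 1, 0, -1])) (.node (.leaf [1017, -892, -576, 30, -583, -765, 551, 50, 188, 92, 116]) (.leaf [-40628, -215194, -25705, -99056, -108229, 706, 66402, 57496, 19518, 14364, 14609, 1971, -361, 0, -1, 0, -1])))) (.node (.node (.node (.leaf [-9, 2, -5, -6, 5, 6, 0, -1]) (.leaf [-61, 22, 44, -12, 15, 43, -27, 7, -11, -2, -5])) (.node (.leaf [-2, 6, -7, -2, 7, 2, 0, -3]) (.leaf [187400, -231332, 45033, -31137, -207083, -105361, 75644, 45192, 18937, 31051, 21110, -3780, 3156, 0, 0, 1, 1]))) (.node (.node (.leaf [-288, 48, 177, -103, 39, 203, -90, 45, -39, -9, -25, 3, 1]) (.leaf [14590, -57604, -18191, -13571, -30805, -15071, 20444, 10230, 9038, 4318, 5435, -22, -197, 0, 1, -1])) (.node (.leaf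 [-19, 26, 11, 7, 2, 16, -5, 0, -4, -10, 0, 1]) (.leaf [22128, -12680, 1840, 2048, -15758, -12674, 7634, 1800, 1576, 1514, 1468, -116, 98, 0, 1])))))))

def twoL177 : Janko.Tree (List ℤ) :=
  (.node (.node (.node (.node (.node (.node (.leaf []) (.leaf [])) (.node (.leaf []) (.leaf []))) (.node (.node (.leaf []) (.leaf [-251842, 309113, -33422, 71294, 279507, 164987, -151305, -69549, -14295, -39064, -28224, 1447, -4871, 0, -1, 0, -1])) (.node (.leaf []) (.leaf [0, 1])))) (.node (.node (.node (.leaf [0, 1]) (.leaf [0, 1])) (.node (.leaf []) (.leaf [0, 1]))) (.node (.node (.leaf [0, 1]) (.leaf [1821, -120, 251, 700, -788, -925, 243, -75, 104, 7, 40, -19, 3])) (.node (.leaf [0, 1]) (.leaf []))))) (.node (.node (.node (.node (.leaf [4, 15, -2, 4, 6, -2, 0, -4, -2, -1]) (.leaf [0, 1])) (.node (.leaf []) (.leaf [0, 1]))) (.node (.node (.leaf []) (.leaf [])) (.node (.leaf [0, 1]) (.leaf [92454, -148467, 17704, 8572, -125573, -48097, 30981, 30053, 30215, 4876, 9694, 861, -1465,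 1, 0, -1, -1])))) (.node (.node (.node (.leaf [0, 1]) (.leaf [0, 1])) (.node (.leaf []) (.leaf [0, 1]))) (.node (.node (.leaf [-1360, 122, -589, -865, 632, 752, 89, -4, -43, -9, -26, 18, 3]) (.leaf [])) (.node (.leaf [0, 1]) (.leaf [742, 133, 41, 301, -208, -398, 121, -78, 14, -11, 10, 0, -1])))))) (.node (.node (.node (.node (.node (.leaf []) (.leaf [])) (.node (.leaf []) (.leaf [0, 1]))) (.node (.node (.leaf []) (.leaf [])) (.node (.leaf [1691, -248, -76, 557, -657, -922, 323, -103, 143, 38, 63, -16, -1]) (.leaf [0, 1])))) (.node (.node (.node (.leaf []) (.leaf [0, 1])) (.node (.leaf [4, 3, 0, 2, -2, -2, 2, 0, 0, -1]) (.leaf [-59817, 88593, -80107, 66094, 111792, 38281, -59041, -39602, 23122, -17995, -5149, -377, -4295, 1, -1, 0, -1]))) (.node (.node (.leaf []) (.leaf [-5056, 3771, 252, -1086, 3566, 3106, -1456, -414, -715, -370, -474, 80, 8, 1])) (.node (.leaf []) (.leaf [0, 1]))))) (.node (.node (.node (.node (.leaf [4, 4, -10, -2, 6, -2, 2, -4, 1, 1]) (.leaf [0,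 1])) (.node (.leaf []) (.leaf [0, 1]))) (.node (.node (.leaf [0, 2, 0, 2, 0, 0, 0, 0, 0, -1]) (.leaf [2999, 2311, -721, 1784, 517, -1492, 100, -1015, 3, -142, 53, -50, -4, 0, 0, 0, -1])) (.node (.leaf [4, -2, -2, 0, -2, -2, 2, 0, 1]) (.leaf [])))) (.node (.node (.node (.leaf []) (.leaf [])) (.node (.leaf [0, 1]) (.leaf [0, 2, 0, 2, 0, 0, 0, 0, 0, -1]))) (.node (.node (.leaf []) (.leaf [0, 1])) (.node (.leaf []) (.leaf [0, 1])))))))

def twoL178 : Janko.Tree (List ℤ) :=
  (.node (.node (.node (.node (.node (.node (.leaf [0, 0, 1]) (.leaf [0, 0, 1])) (.node (.leaf [0, 0, 0, -1, 0, 0, 1]) (.leaf [-4, 0, -1, -1, 2, 2, -1]))) (.node (.node (.leaf [0, 0, 1, 1, 0, 0, -1]) (.leaf [0, 0, 1])) (.node (.leaf [0, 0, 1]) (.leaf [46330, -56942, -18402, -5359, -41468, -34674, 30151, 8701, 8644, 4890, 6185, 20, 31, 0, 1, -1])))) (.node (.node (.node (.leaf [1130, -686, -638, 360, -394, -872, 402, -28, 226, 50, 90, 6, -1]) (.leaf [])) (.node (.leaf [0, 0, 1, 1, 0, 0, -1]) (.leaf [293,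 -1878, -996, -531, -671, -671, 840, 333, 252, 174, 173, 18, -11]))) (.node (.node (.leaf []) (.leaf [24317, 23130, 4587, 19612, 3248, -10855, -3701, -7081, -653, -2446, -1303, 29, -111, 0, 0, 1])) (.node (.leaf [22, -2, 4, 6, -12, -11, 5, -1, 1, 0, 1]) (.leaf [210, -60, -117, 52, -56, -165, 101, -12, 18, 6, 18]))))) (.node (.node (.node (.node (.leaf [0, 0, 1, 1, 0, 0, -1]) (.leaf [-1025, 746, 695, -38, 465, 745, -543, 18, -197, -84, -112, 1, 1])) (.node (.leaf [0, 0, 1]) (.leaf [4, -2, 2, 7, -1, -7, 0, 1, -1, 0, 1]))) (.node (.node (.leaf [0, 0, 1, 1, 0, 0, -1]) (.leaf [1, -2, 0, 0, -1, 0, 0, 0, 1])) (.node (.leaf []) (.leaf [-994, -790, -344, -1231, -194, 640, 391, 218, 22, 102, 55, 1, -3])))) (.node (.node (.node (.leaf [20, 14, 8, 12, 0, -1, -11, -9, 3, 0, -1]) (.leaf [4, -2, -1, 1, -2, -2, 1, 0, 1])) (.node (.leaf [-254, 108, 104, -83, 97, 191, -96, 4, -31, -6, -21]) (.leaf [640, 70, 947, 487, -506, -178, -237, 104, -29, -29, -74, -8, 1]))) (.node (.node (.leaf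 [380, -1266, -1090, -683, -426, -542, 897, 160, 195, 143, 114, 20, 1]) (.leaf [0, 0, 1])) (.node (.leaf [-336, -1002, -774, -319, -107, -177, 384, 195, 150, 42, 100, 15, -1]) (.leaf [0, -2, -1, 0, 0, 0, 0, 0, 1])))))) (.node (.node (.node (.node (.node (.leaf [-4, 0, -1, -1, 2, 2, -1]) (.leaf [0, 0, 1])) (.node (.leaf [-1, 2, 1, 0, 1, 0, 0, 0, -1]) (.leaf [80, 14, -277, 18, 61, -71, 89, -58, 43, -10, 26, -3, -5]))) (.node (.node (.leaf [0, 0, 1]) (.leaf [1054, -2554, -891, -500, -1440, -935, 1003, 394, 409, 210, 258, 9, -3])) (.node (.leaf [-5, 2, 0, -1, 3, 2, -1, 0, -1]) (.leaf [])))) (.node (.node (.node (.leaf [0, 0, 0, -1, 0, 0, 1]) (.leaf [-43, 18, 11, -10, 23, 25, -15, 0, -6, 0, -3])) (.node (.leaf [0, 0, 1, 1, 0, 0, -1]) (.leaf [0, 0, 0, -1, 0, 0, 1]))) (.node (.node (.leaf [53, 12, -7, 17, -11, -35, 18, -6, -3, 0, 3]) (.leaf [-4250, 1822, -116, -1420, 2425, 2313, -689, -1, -465, -200, -343, 100, -2, 1])) (.node (.leaf [0, 0, 1]) (.leaf [2683, 448, 99, 1510,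 -605, -1513, 173, -305, 131, -73, 35, -13, 1]))))) (.node (.node (.node (.node (.leaf [-624, 934, 67, -178, 678, 470, -246, -196, -182, -22, -66, 0, -1]) (.leaf [])) (.node (.leaf []) (.leaf [12637, -343430, -48417, -108323, -192178, -38706, 104443, 81237, 44209, 19491, 24976, 2911, -1109, 0, -1, 0, -1]))) (.node (.node (.leaf [-996, 568, 317, -38, 529, 590, -414, 0, -152, -70, -63, 2, -1]) (.leaf [0, 0, 1])) (.node (.leaf [0, 0, 1]) (.leaf [0, 0, 1])))) (.node (.node (.node (.leaf [0, 0, 1, 1, 0, 0, -1]) (.leaf [0, 0, 1])) (.node (.leaf [32, -8, 10, 14, -19, -19, 5, 2, 1, 0, 1]) (.leaf [-532, 688, 378, 47, 415, 437, -366, -76, -127, -53, -82, -2, -4]))) (.node (.node (.leaf [108, -38, -3, 29, -56, -61, 28, 1, 13, 2, 3]) (.leaf [15942, -60056, -19272, -13429, -32069, -16417, 21438, 10657, 9588, 4383, 5579, 36, -215, 0, 1, -1])) (.node (.leaf [0, 0, 1]) (.leaf [-393, -17604, 15477, -3100, -17482, 4075, -1471, 6766, 1964, -12, -176, 310, -50, 0, 1, -1])))))))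

def twoL179 : Janko.Tree (List ℤ) :=
  (.node (.node (.node (.node (.node (.node (.leaf []) (.leaf [1089, -1066, -558, -4, -743, -809, 621, 97, 204, 97, 136, -1])) (.node (.leaf [0, 0, 0, 1]) (.leaf [0, 0, 0, 1]))) (.node (.node (.leaf [0, 0, 0, 1]) (.leaf [-125765, 11602, -5468, 2838, 53638, 85912, -61674, -2258, 14581, -10247, -4586, -48, -3243, 0, -1, 0, -1])) (.node (.leaf []) (.leaf [])))) (.node (.node (.node (.leaf [1098, -634, -610, 318, -372, -830, 391, -40, 208, 58, 88, 4, -1]) (.leaf [-150, 34, 50, -15, 49, 105, -71, 6, -7, -8, -7, -1])) (.node (.leaf [0, 0, 0, 1]) (.leaf [47, -50, -38, -1, -23, -33, 25, 1, 16, 6, 3, 0, -1]))) (.node (.node (.leaf []) (.leaf [360, -164, -123, 109, -143, -265, 126, -3, 44, 14, 26, 1])) (.node (.leaf []) (.leaf [-5249, 4176, 605, -1208, 3599, 3427, -1559, -430, -784, -421, -544, 86, 5, 1]))))) (.node (.node (.node (.node (.leaf [0, 0, 0, 1]) (.leaf [])) (.node (.leaf [100, -106, -166, 21, -9, -121, 83, -2, 30, 8, 16, 1])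 (.leaf [-1355, -342152, -73844, -118148, -177118, -36526, 111866, 78804, 45158, 19738, 25710, 2986, -1320, 1, -1, -1, -1]))) (.node (.node (.leaf [0, 0, 0, 1]) (.leaf [0, 0, 0, 1])) (.node (.leaf []) (.leaf [0, 0, 0, 1])))) (.node (.node (.node (.leaf []) (.leaf [])) (.node (.leaf [0, 0, 0, 1]) (.leaf [-116, 50, 198, -23, -43, 101, -51, 40, -42, -12, -10, -1]))) (.node (.node (.leaf [0, 0, 0, 1]) (.leaf [105, -1982, -1147, -1324, -990, -207, 1154, 318, 250, 188, 234, -6, 7])) (.node (.leaf [-548, -746, -536, -559, -67, 155, 289, 157, 98, 46, 60, 13, -1]) (.leaf [0, 0, 0, 1])))))) (.node (.node (.node (.node (.node (.leaf [0, 0, 0, 1]) (.leaf [30758, -19040, -11821, 2372, -16776, -22174, 15914, 1280, 3414, 1964, 2882, -66, 46, 1, 0, -1])) (.node (.leaf [0, 0, 0, 1]) (.leaf []))) (.node (.node (.leaf []) (.leaf [-590, 296, 158, -169, 301, 380, -199, -12, -96, -7, -34, 1])) (.node (.leaf []) (.leaf [])))) (.node (.node (.node (.leaf [0, 0, 0, 1]) (.leaf [])) (.node (.leaf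 [0, 0, 0, 1]) (.leaf [0, 0, 0, 1]))) (.node (.node (.leaf [0, 0, 0, 1]) (.leaf [0, 0, 0, 1])) (.node (.leaf []) (.leaf [1845, 1128, 83, 1214, 52, -968, -70, -443, -24, -76, -9, -13, 1]))))) (.node (.node (.node (.node (.leaf [0, 0, 0, 1]) (.leaf [])) (.node (.leaf []) (.leaf [430, -146, -228, 95, -129, -325, 201, -20, 50, 11, 28, 4]))) (.node (.node (.leaf [0, 0, 0, 1]) (.leaf [])) (.node (.leaf []) (.leaf [])))) (.node (.node (.node (.leaf [0, 0, 0, 1]) (.leaf [131502, 140036, 206745, 133422, -66645, 15040, -94046, -22706, -1756, -25391, -18348, 1106, -2923, 1, -1, -1, -1])) (.node (.leaf []) (.leaf [0, 0, 0, 1]))) (.node (.node (.leaf [0, 0, 0, 1]) (.leaf [15885, -60000, -19270, -13387, -32034, -16358, 21376, 10636, 9592, 4370, 5587, 30, -215, 0, 1, -1])) (.node (.leaf [-12, 26, 16, 11, -3, 13, -5, 0, -4, -10, 0, 1]) (.leaf [30071, -48212, -5752, -10811, -35813, -21634, 21777, 9196, 4828, 5272, 4748, -256, 318, 0, 1, -1])))))))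

def twoL180 : Janko.Tree (List ℤ) :=
  (.node (.node (.node (.node (.node (.node (.leaf [-1, 0, 0, -1, 0, 1]) (.leaf [])) (.node (.leaf [630, -358, -165, 223, -301, -473, 198, 19, 82, 25, 52, 1]) (.leaf []))) (.node (.node (.leaf []) (.leaf [-59, 6, 41, -33, 15, 45, -24, 7, -8, 5, -8, 1])) (.node (.leaf [-68, 2, 29, -41, 23, 49, -24, 5, -6, 7, -8, 1]) (.leaf [-97232, 7402, 51902, -28548, 12038, 70432, -35280, 13513, -6066, -4598, -7846, 1714, -418, 0, 0, 1, 1])))) (.node (.node (.node (.leaf [-62, 26, 29, -16, 23, 44, -24, 3, -9, -2, -5]) (.leaf [1])) (.node (.leaf []) (.leaf [3, 0, 1, 1, -1, -1]))) (.node (.node (.leaf [1]) (.leaf [24168, 23198, 4620, 19566, 3319, -10757, -3745, -7081, -673, -2450, -1313, 29, -111, 0, 0, 1])) (.node (.leaf [1]) (.leaf [161, -52, -106, 48, -35, -129, 73, -12, 20, 4, 14]))))) (.node (.node (.node (.node (.leaf [1, -6, 5, 1, -5, -1, 0, 3]) (.leaf [-2, 0, -1, -1, 1, 1])) (.node (.leaf [11, -6, 14, 2, -13, -1, -1, 3, 1, 0, -1]) (.leaf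 [145499, 113656, 225047, 129510, -96080, 11301, -89247, -14148, 981, -24487, -17879, 1667, -2962, 0, 0, -1, -1]))) (.node (.node (.leaf []) (.leaf [-22, 76, 24, 27, 41, 56, -69, -33, 2, -3, 0, -4])) (.node (.leaf [1]) (.leaf [])))) (.node (.node (.node (.leaf [0, 0, 0, -1, 0, 1]) (.leaf [1])) (.node (.leaf [6030, -9190, -4186, -1870, -5718, -4910, 5004, 1251, 1416, 886, 1040, 8, -6, 0, 1]) (.leaf [-368, 160, 121, -112, 145, 268, -126, 5, -44, -14, -26, -1]))) (.node (.node (.leaf [-73, 30, 24, -20, 31, 51, -27, 1, -9, -2, -5]) (.leaf [8159, -101630, -80916, -74363, -23942, -48103, 79246, 19173, -3614, 19712, 13646, -876, 2774, 0, 0, 1, 1])) (.node (.leaf [-14257, -19060, -12655, -11991, -1013, 3851, 5684, 4144, 2702, 1284, 1456, 110, -166, 0, 0, -1]) (.leaf [69, -10, -33, 39, -20, -50, 21, -6, 8, -4, 8, -1])))))) (.node (.node (.node (.node (.node (.leaf [-2, 0, -1, -1, 1, 1]) (.leaf [-361, 360, 209, -16, 235, 276, -200, -28, -75, -30, -47])) (.node (.leaf []) (.leaf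 [-100962, 92178, -980, 33253, 90062, 75319, -71916, -21976, 4770, -15852, -10555, 322, -2798, 0, -1, 0, -1]))) (.node (.node (.leaf [-1216, 438, 721, -277, 303, 881, -488, 107, -174, -61, -94, 3]) (.leaf [-82, 28, 48, -23, 22, 57, -30, 8, -14, -2, -6])) (.node (.leaf [1, 0, 0, 1, 0, -1]) (.leaf [1])))) (.node (.node (.node (.leaf []) (.leaf [1])) (.node (.leaf [-2, 2, -4, -1, 4, 1, 0, -1]) (.leaf [1]))) (.node (.node (.leaf [-53, -536, 140, -161, -378, 70, 55, 162, 68, 16, 20, -1, 3]) (.leaf [300, -524, -583, 137, -87, -439, 268, 41, 143, 9, 61, 11, -3])) (.node (.leaf [-71, 4, 39, -36, 17, 50, -24, 9, -8, 4, -8, 1]) (.leaf [8046, -196572, -54273, -113029, -85853, -46517, 92800, 45212, 827, 31335, 18874, -1924, 3962, 0, 0, 1, 1]))))) (.node (.node (.node (.node (.leaf [-1, 2, -2, -1, 2, 1, 0, -1]) (.leaf [-19, 8, -13, -10, 16, 13, -3, -4, 1, 0, -1])) (.node (.leaf [1, 0, 1, 0, -1]) (.leaf [-5462, 16466, 1085, 4374, 11129, 3768, -5310, -3365, -2092, -1424, -1360, 8,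 0, 0, -1]))) (.node (.node (.leaf [1]) (.leaf [-71, 10, 35, -38, 21, 52, -24, 6, -8, 4, -8, 1])) (.node (.leaf [1, 0, 0, 1, 0, -1]) (.leaf [16216, -280472, -34257, -104140, -162182, -36897, 97139, 68369, 28614, 20458, 21304, 1759, -268, 0, 0, -1, -1])))) (.node (.node (.node (.leaf [-1, 6, 5, -4, 0, 7, -3, -2, 0, 0, -1]) (.leaf [-2, 6, -7, -1, 7, 1, 0, -3])) (.node (.leaf [0, 0, 0, -1, 0, 1]) (.leaf [-4405, -3824, -312, -3601, -908, 2537, 384, 1168, 206, 304, 198, 22, 14, 0, 1]))) (.node (.node (.leaf []) (.leaf [1])) (.node (.leaf [0, 0, 0, -1, 0, 1]) (.leaf [190513, -232388, 45154, -29965, -208734, -107259, 76292, 45240, 19210, 31088, 21278, -3778, 3156, 0, 0, 1, 1])))))))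

def twoL181 : Janko.Tree (List ℤ) :=
  (.node (.node (.node (.node (.node (.node (.leaf [6, -6, -2, 2, -2, -4, 0, 0, 2, 1]) (.leaf [0, 1])) (.node (.leaf [0, 1]) (.leaf [0, 1]))) (.node (.node (.leaf [0, 1]) (.leaf [])) (.node (.leaf []) (.leaf [])))) (.node (.node (.node (.leaf [0, 1]) (.leaf [1108, -532, -299, 319, -545, -733, 382, 19, 164, 17, 67, -1])) (.node (.leaf [0, 1]) (.leaf [49217, 69640, -29999, 22868, 39962, -40103, 13845, -22978, -13100, 1185, -437, -1123, 1633, -1, 1, 0, 1]))) (.node (.node (.leaf []) (.leaf [-103367, 23177, 2831, 19088, 49337, 77058, -64934, -5762, 15850, -12527, -6070, 318, -3397, 0, 0, 0, -1])) (.node (.leaf []) (.leaf [0, -1, -2, 0, 0, 0, 0, 0, 1]))))) (.node (.node (.node (.node (.leaf [0, 1]) (.leaf [-496, -540, 353, -289, -328, 296, -33, 252, 5, 2, 0, 12, -1])) (.node (.leaf [0, 1]) (.leaf [0, 1]))) (.node (.node (.leaf [0, 1]) (.leaf [0, 1])) (.node (.leaf [90478, -64568, -23480, -12600, -57019, -69615, 56819, 9494, 929, 11529,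 9163, -579, 1748, -1, 1, 0, 1]) (.leaf [0, 1])))) (.node (.node (.node (.leaf []) (.leaf [2245, -1570, -883, 292, -1212, -1693, 1101, 135, 310, 148, 190, 5, -3])) (.node (.leaf [0, 1]) (.leaf [0, 1]))) (.node (.node (.leaf [0, 1]) (.leaf [0, 1])) (.node (.leaf [2, -1, 0, 0, 0, -2, 0, 0, 0, 1]) (.leaf [-21110, 12491, -1103, -1445, 15298, 11892, -7651, -1671, -1657, -1452, -1519, 150, -96, 0, -1, 1])))))) (.node (.node (.node (.node (.node (.leaf []) (.leaf [-78, -127, -25, -57, -15, 9, 16, 36, 5, 17, 7, -1])) (.node (.leaf [0, 1]) (.leaf [-316, 188, 183, -51, 146, 230, -157, 4, -53, -12, -34, 0, 1]))) (.node (.node (.leaf []) (.leaf [0, 1])) (.node (.leaf []) (.leaf [])))) (.node (.node (.node (.leaf [0, 1]) (.leaf [])) (.node (.leaf [0, 1]) (.leaf [885, 349, 206, 689, -105, -552, -55, -109, -21, -40, -3, -2, 1]))) (.node (.node (.leaf [0, 1]) (.leaf [0, 1])) (.node (.leaf [0, 3, -2, 0, 0, 0, 2, 0, 0, -1]) (.leaf [0, 1]))))) (.node (.node (.node (.node (.leaf [0, 1])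 (.leaf [0, 1])) (.node (.leaf []) (.leaf []))) (.node (.node (.leaf []) (.leaf [0, 2, 0, 2, 0, 0, 0, 0, 0, -1])) (.node (.leaf [-13566, 15105, 110, 344, 13070, 8236, -5820, -2508, -2244, -1422, -1420, 58, -16, 1, -1]) (.leaf [-75, 33, 33, -18, 29, 52, -30, 2, -11, -2, -5])))) (.node (.node (.node (.leaf [0, 1]) (.leaf [145858, 125693, 242178, 134054, -98065, 16391, -95393, -13955, -1014, -26745, -20351, 2214, -2995, 1, -1, -1, -1])) (.node (.leaf [-905, 631, -155, -242, 646, 585, -215, -116, -79, -70, -56, 9, -3]) (.leaf [0, 1]))) (.node (.node (.leaf [0, 1]) (.leaf [])) (.node (.leaf []) (.leaf [-688, -153, -67, -295, 184, 364, -95, 76, -6, 12, -6, 0, 1])))))))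

def twoL182 : Janko.Tree (List ℤ) :=
  (.node (.node (.node (.node (.node (.node (.leaf [0, 0, 1, 1, 0, 0, -1]) (.leaf [])) (.node (.leaf []) (.leaf [4, -2, 0, 1, -2, -2, 1, 0, 1]))) (.node (.node (.leaf []) (.leaf [107605, -237646, -59, -65951, -183424, -79004, 101923, 57074, 21089, 19775, 19144, 1194, 547, 0, -1, 0, -1])) (.node (.leaf [0, 0, 1, 1, 0, 0, -1]) (.leaf [0, 0, 1])))) (.node (.node (.node (.leaf [233, -304, -142, -46, -195, -172, 158, 32, 55, 30, 35]) (.leaf [-3, -2, -1, -1, 1, 2, -1, 0, 1])) (.node (.leaf []) (.leaf [0, 0, 0, -1, 0, 0, 1]))) (.node (.node (.leaf []) (.leaf [0, 0, 1])) (.node (.leaf [-35, 22, 81, -2, -10, 37, -31, 11, -13, -2, -7]) (.leaf [0, 0, 1]))))) (.node (.node (.node (.node (.leaf []) (.leaf [0, 0, 0, -1, 0, 0, 1])) (.node (.leaf [-51, 30, 58, -10, 12, 47, -33, 5, -9, -2, -9]) (.leaf []))) (.node (.node (.leaf []) (.leaf [-80328, 49420, 23353, 11523, 45023, 63289, -51832, -6715, 1308, -10259, -7813, 536, -1767, 0, 0, 0, -1]))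 (.node (.leaf []) (.leaf [])))) (.node (.node (.node (.leaf [11, 2, 0, 6, -1, -6, 0, -2, 1]) (.leaf [-257588, 314622, -30643, 70530, 282997, 169738, -154284, -70154, -15374, -39494, -28791, 1372, -4870, 0, -1, 0, -1])) (.node (.leaf []) (.leaf [23697, 23394, 4893, 19514, 3479, -10338, -4070, -7104, -705, -2462, -1335, 20, -111, 0, 0, 1]))) (.node (.node (.leaf [6, 4, 15, 4, -5, 1, -5, 0, -1, 0, -1]) (.leaf [492, -760, 181, 235, -585, -335, 54, 184, 143, 21, 30, 0, 2])) (.node (.leaf [-8734, -14692, -9154, -8797, -1604, 1470, 4947, 3176, 1736, 1250, 1244, 14, -74, 0, 0, -1]) (.leaf [0, 0, 1])))))) (.node (.node (.node (.node (.node (.leaf [0, 0, 0, -1, 0, 0, 1]) (.leaf [30742, -18700, -11484, 2485, -16762, -21976, 15699, 1226, 3380, 1926, 2848, -76, 46, 1, 0, -1])) (.node (.leaf [-1394, 42, 53, -541, 450, 816, -291, 80, -95, 7, -14, -2, 3]) (.leaf [0, 0, 0, -1, 0, 0, 1]))) (.node (.node (.leaf [0, 0, 1, 1, 0, 0, -1]) (.leaf [-74, 18, 48, -21, 13, 53, -28, 9, -11, -2,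 -5])) (.node (.leaf [-2, 2, 0, 0, 2, 0, 0, 0, -1]) (.leaf [-103, -10, -38, -96, 75, -9, 55, 27, -26, 11, -21, 13, 1])))) (.node (.node (.node (.leaf []) (.leaf [-3, -2, -3, -3, 1, 2, 1, 0, 1])) (.node (.leaf []) (.leaf [-5, 2, 0, -1, 3, 2, -1, 0, -1]))) (.node (.node (.leaf [2674, -618, -1281, 841, -744, -1798, 949, -244, 344, 42, 205, -27, -11]) (.leaf [447, -580, -636, 193, -141, -547, 316, 37, 162, 11, 72, 11, -3])) (.node (.leaf [0, 0, 1, 1, 0, 0, -1]) (.leaf [1763, 1154, 102, 1187, 82, -908, -95, -441, -29, -79, -15, -13]))))) (.node (.node (.node (.node (.leaf []) (.leaf [29, -8, 3, 12, -15, -17, 5, 0, 3, 0, 1])) (.node (.leaf [0, 0, 1]) (.leaf [0, 0, 1]))) (.node (.node (.leaf []) (.leaf [0, 0, 1, 1, 0, 0, -1])) (.node (.leaf [0, 0, 1, 1, 0, 0, -1]) (.leaf [0, 0, 1, 1, 0, 0, -1])))) (.node (.node (.node (.leaf [143, -54, -71, 22, -53, -93, 63, -8, 22, 4, 9]) (.leaf [126488, 138572, 209306, 130877, -66853, 18346, -95191, -21546, -2082, -25307, -18642, 1198, -2907,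 1, -1, -1, -1])) (.node (.leaf [-32, 10, 41, -13, -1, 39, -26, 2, -2, 0, -5]) (.leaf [-819, -2234, -427, -1596, -1191, 509, 795, 556, 227, 143, 188, 6, -3, 0, 1]))) (.node (.node (.leaf []) (.leaf [-1774, -454, 976, -880, 7, 1103, -407, 434, -161, 45, -138, 36, 11])) (.node (.leaf [1, -2, 0, 0, -1, 0, 0, 0, 1]) (.leaf [0, 0, 0, -1, 0, 0, 1])))))))

def twoL183 : Janko.Tree (List ℤ) :=
  (.node (.node (.node (.node (.node (.node (.leaf [0, 0, 0, 1]) (.leaf [])) (.node (.leaf [-141, 162, 281, 174, 63, 97, -206, 20, -38, -33, -31, 1]) (.leaf []))) (.node (.node (.leaf []) (.leaf [0, 0, 0, 1])) (.node (.leaf [0, 0, 0, 1]) (.leaf [1130, 2060, 1442, -19, 129, -403, 74, -324, -822, 162, -58, -46, 58])))) (.node (.node (.node (.leaf []) (.leaf [])) (.node (.leaf []) (.leaf [0, 0, 0, 1]))) (.node (.node (.leaf []) (.leaf [])) (.node (.leaf [17029, -8764, -7118, 5092, -15257, -15115, 16867, 4393, 2896, -4529, 515, 1764, -657, 1, -1, -1, -1]) (.leaf [1452, -678, -630, 142, -667,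 -1047, 763, 2, 136, 71, 130, -1, 1]))))) (.node (.node (.node (.node (.leaf []) (.leaf [0, 0, 0, 1])) (.node (.leaf []) (.leaf []))) (.node (.node (.leaf []) (.leaf [-22, 76, 26, 27, 39, 57, -69, -33, 2, -3, 0, -4])) (.node (.leaf [152, -38, -52, 16, -51, -105, 71, -6, 9, 8, 7, 1]) (.leaf [])))) (.node (.node (.node (.leaf [0, 0, 0, 1]) (.leaf [])) (.node (.leaf []) (.leaf [-360, 164, 123, -108, 143, 265, -126, 3, -44, -14, -26, -1]))) (.node (.node (.leaf []) (.leaf [-812, -1158, -58, -836, -455, 463, 216, 352, 100, 77, 48, 2])) (.node (.leaf [0, 0, 0, 1]) (.leaf [70, -10, -34, 39, -21, -51, 23, -6, 8, -4, 8, -1])))))) (.node (.node (.node (.node (.node (.leaf [0, 0, 0, 1]) (.leaf [0, 0, 0, 1])) (.node (.leaf [-54, 52, -1, 41, 34, 53, -57, -20, 4, -13, 8, -5]) (.leaf [0, 0, 0, 1]))) (.node (.node (.leaf [0, 0, 0, 1]) (.leaf [])) (.node (.leaf [0, 0, 0, 1]) (.leaf [-573, 152, 118, -122, 249, 307, -167, 33, -70, -15, -30, 6])))) (.node (.node (.node (.leaf []) (.leaf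 [455, 1052, 252, 684, 468, -187, -377, -296, -106, -51, -64, -8, -1])) (.node (.leaf [-72, 4, 25, -43, 27, 51, -24, 4, -6, 7, -8, 1]) (.leaf [-3442, 4654, 974, -206, 3177, 2477, -1535, -644, -782, -446, -533, 71, 7, 1]))) (.node (.node (.leaf [582, -330, -113, 151, -340, -358, 192, 28, 98, 8, 31, -1, 1]) (.leaf [377, -564, -616, 153, -119, -487, 293, 37, 158, 13, 66, 11, -3])) (.node (.leaf [0, 0, 0, 1]) (.leaf [319, 74, -160, 109, -57, -205, 147, -47, 16, -24, 19, -1]))))) (.node (.node (.node (.node (.leaf []) (.leaf [])) (.node (.leaf []) (.leaf [1921, -438, -2289, 450, 103, -2192, 1664, -82, 184, -48, 78, 88, -1]))) (.node (.node (.leaf [-335, -216, -39, -213, 5, 163, 8, 74, 4, 20, 9, 1]) (.leaf [0, 0, 0, 1])) (.node (.leaf [0, 0, 0, 1]) (.leaf [0, 0, 0, 1])))) (.node (.node (.node (.leaf []) (.leaf [0, 0, 0, 1])) (.node (.leaf [0, 0, 0, 1]) (.leaf [2417, -1488, 668, -1305, -2296, -1202, 1584, 326, -316, 454, 272, -58, 66, 0, 1]))) (.node (.node (.leaf []) (.leaf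 [238, -130, -124, 74, -103, -174, 99, 0, 44, 2, 20, -1])) (.node (.leaf [0, 0, 0, 1]) (.leaf [0, 0, 0, 1])))))))

def twoL184 : Janko.Tree (List ℤ) :=
  (.node (.node (.node (.node (.node (.node (.leaf [-7, -2, -1, -4, 1, 4, 0, 1]) (.leaf [1])) (.node (.leaf [-1120, 512, 288, -305, 552, 718, -381, -12, -164, -16, -64, 1, -1]) (.leaf [-2, 0, -1, -1, 1, 1]))) (.node (.node (.leaf [1]) (.leaf [-30, 28, 3, -4, 11, 24, -6, -3, -4, -8, 0, 1])) (.node (.leaf [62, -30, -34, 10, -25, -41, 27, -3, 11, 2, 5]) (.leaf [234082, -279058, -35125, -75171, -231173, -179447, 175182, 58501, 11582, 35430, 29728, 40, 4248, 0, 0, 1, 1])))) (.node (.node (.node (.leaf [-14, -6, -2, -7, 2, 7, 0, 3]) (.leaf [1, 0, 0, 1, 0, -1])) (.node (.leaf [775, -372, -88, 222, -426, -476, 226, 28, 108, 14, 36]) (.leaf [80, -56, -72, 33, -31, -70, 43, 1, 19, -2, 11, -1]))) (.node (.node (.leaf [1, 0, 1, 0, -1]) (.leaf [361, -164, -121, 108, -145, -264, 126, -3, 44, 14, 26, 1])) (.node (.leaf [14, 6, -26,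 6, 9, -19, 13, -5, -1, 0, 3]) (.leaf [-2546, -1660, -1115, -2385, 45, 1370, 667, 450, 98, 171, 108, 8, -5, 1]))))) (.node (.node (.node (.node (.leaf [0, 0, -1, 0, 1]) (.leaf [3, 0, 1, 1, -1, -1])) (.node (.leaf [0, 0, 0, -1, 0, 1]) (.leaf [-189587, 231840, -44797, 30117, 207883, 106797, -76014, -45092, -19135, -31081, -21243, 3789, -3158, 0, 0, -1, -1]))) (.node (.node (.leaf [262, -148, -105, 87, -132, -186, 105, 11, 48, -2, 18, -1]) (.leaf [1])) (.node (.leaf [1, 0, 1, 0, -1]) (.leaf [318, -156, -138, 6, -155, -207, 165, -4, 38, 18, 26])))) (.node (.node (.node (.leaf [1]) (.leaf [-48735, -3470, -70146, 7222, 46344, 16646, -9184, -9770, 16080, -4864, 2767, -124, -2354, 0, -1, 0, -1])) (.node (.leaf [-102, 6, 139, -28, -44, 79, -31, 39, -28, -9, -4, -1]) (.leaf [22632, 5116, -11435, 5311, 560, -15646, 8195, -4801, -322, 1370, 1495, -467, 167, 0, 0, 1]))) (.node (.node (.leaf [-13, -2, -6, -6, 6, 6, 0, 1]) (.leaf [56327, 84100, 48256, 22737, 11165, -23752, -4421,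 -14738, -23847, 1137, -6183, -949, 2530, 0, 0, 1, 1])) (.node (.leaf [0, 0, -1, 0, 1]) (.leaf [-30440, 299998, 64471, 101314, 166339, 52968, -111398, -68183, -36366, -19868, -24008, -2242, 668, 0, 0, 1, 1])))))) (.node (.node (.node (.node (.node (.leaf []) (.leaf [18, -8, -2, 0, -13, -9, 9, 1, 2, 0, 1])) (.node (.leaf [148, -60, -82, 30, -52, -108, 70, -6, 20, 4, 12]) (.leaf [3, 0, 1, 1, -1, -1]))) (.node (.node (.leaf []) (.leaf [156, -66, -90, 47, -49, -118, 63, -9, 23, 4, 15])) (.node (.leaf [77, -28, -44, 21, -22, -55, 30, -6, 12, 2, 6]) (.leaf [1632, -722, -997, 258, -506, -1399, 971, 11, 166, 57, 99, 27, 1])))) (.node (.node (.node (.leaf [29, 88, -2, -7, 16, 11, 16, -19, -6, -10, -9]) (.leaf [])) (.node (.leaf [0, 0, -1, 0, 1]) (.leaf [-3747, 5254, 1268, -25, 3503, 2752, -1863, -730, -870, -514, -595, 71, 11, 1]))) (.node (.node (.leaf [1892, 1634, -92, 1087, 334, -829, -42, -606, -50, -72, -53, -39, 3]) (.leaf [-13744, 336412, 45649, 106821, 189914, 39074,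 -103891, -80347, -42609, -18996, -24248, -3027, 1021, 0, 1, 0, 1])) (.node (.leaf [0, -2, 0, 1, 0, -1, 0, 1]) (.leaf [-105790, 159072, -12793, -12091, 132549, 59204, -36765, -31392, -32378, -5651, -10592, -998, 1475, -1, 1, 1, 1]))))) (.node (.node (.node (.node (.leaf [0, 0, -1, 0, 1]) (.leaf [0, 0, 0, -1, 0, 1])) (.node (.leaf [-1, 0, 0, -1, 0, 1]) (.leaf [-5990, 8802, 1420, 1595, 6778, 3603, -3578, -1277, -1302, -908, -1012, 94, 4, 0, -1]))) (.node (.node (.leaf [1, 0, 1, 0, -1]) (.leaf [5, 2, 1, 2, -1, -2, 0, -1])) (.node (.leaf []) (.leaf [3748, -5254, -1268, 25, -3503, -2752, 1863, 730, 870, 514, 595, -71, -11, -1])))) (.node (.node (.node (.leaf [3, 0, 1, 1, -1, -1]) (.leaf [133129, 135746, 211011, 128361, -72466, 13790, -89775, -20055, -2961, -24931, -18669, 1498, -2755, 1, -1, -1, -1])) (.node (.leaf [16, -2, 21, 9, -14, -4, -5, 2, 0, 0, -1]) (.leaf [1]))) (.node (.node (.leaf [12, 0, 5, 7, -5, -7]) (.leaf [109, 4, -25, 61, -30, -74, 23, -13, 4, -4, 12, -1]))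 (.node (.leaf [-65, 30, 34, -14, 25, 45, -27, 3, -11, -2, -5]) (.leaf [7241, -13848, -4735, -3112, -8645, -5636, 6244, 2082, 2068, 1358, 1522, -84, -22, 0, 1])))))))

def twoL185 : Janko.Tree (List ℤ) :=
  (.node (.node (.node (.node (.node (.node (.leaf []) (.leaf [])) (.node (.leaf []) (.leaf [-49138, -69657, 29959, -22831, -39984, 40042, -13817, 22972, 13108, -1186, 446, 1122, -1633, 1, -1, 0, -1]))) (.node (.node (.leaf []) (.leaf [0, 1])) (.node (.leaf [0, 1]) (.leaf [0, -1, 0, -2, 0, 0, 0, 0, 0, 1])))) (.node (.node (.node (.leaf []) (.leaf [4, -19, 27, -7, -20, 8, -9, 6, 2, 3, -2, 0, 1])) (.node (.leaf []) (.leaf [0, 1]))) (.node (.node (.leaf []) (.leaf [0, -1, 0, -2, 0, 0, 0, 0, 0, 1])) (.node (.leaf [-4, 11, -6, 0, 10, 2, -2, -4, -1]) (.leaf [-4378, -6449, -1610, -4878, -2006, 2108, 1712, 1736, 548, 547, 412, -10, -8, 1, -1]))))) (.node (.node (.node (.node (.leaf []) (.leaf [])) (.node (.leaf []) (.leaf []))) (.node (.node (.leaf []) (.leaf [])) (.node (.leaf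 []) (.leaf [0, 1])))) (.node (.node (.node (.leaf []) (.leaf [])) (.node (.leaf []) (.leaf [1230, -658, 283, 417, -804, -678, 173, 114, 153, 47, 18, -6, 3]))) (.node (.node (.leaf []) (.leaf [0, 1])) (.node (.leaf [-65, 45, 27, -14, 33, 46, -26, -2, -12, -3, -5]) (.leaf [0, 1])))))) (.node (.node (.node (.node (.node (.leaf [0, 1]) (.leaf [0, 1])) (.node (.leaf []) (.leaf []))) (.node (.node (.leaf [0, 1]) (.leaf [23619, -46260, 833, -6828, -35477, -15826, 15690, 10172, 5992, 3295, 3484, 186, 1, 0, 1, -1])) (.node (.leaf [0, 1]) (.leaf [-296942, 278973, 17618, 54246, 260255, 208743, -182189, -55871, -12820, -36011, -30395, 238, -4627, 0, 0, 0, -1])))) (.node (.node (.node (.leaf []) (.leaf [0, 1])) (.node (.leaf [-161, -6, 46, -19, 47, 104, -77, 14, -2, 1, -5, -4, -1]) (.leaf [59343, -279287, -37086, -91260, -175444, -62926, 109186, 65439, 29437, 20727, 22268, 1806, -33, 1, 0, -1, -1]))) (.node (.node (.leaf [0, 1]) (.leaf [0, -5, -4, -2, 0, 0, 0, 0, 2, 1])) (.node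 (.leaf [0, 1]) (.leaf [0, 1]))))) (.node (.node (.node (.node (.leaf []) (.leaf [-2071, -3094, 1, -1656, -871, 570, 514, 1085, 155, 204, 21, 80, 2, 0, 0, 0, 1])) (.node (.leaf [2, 2, 2, 2, -2, 0, 0, 0, 0, -1]) (.leaf [0, -5, -6, -4, 0, 0, 2, 0, 2, 1]))) (.node (.node (.leaf []) (.leaf [])) (.node (.leaf [0, 1]) (.leaf [0, 1])))) (.node (.node (.node (.leaf []) (.leaf [])) (.node (.leaf []) (.leaf [7028, 3014, 1224, 4582, -792, -3636, -452, -1270, -26, -181, 36, -66, 0, -1, 1]))) (.node (.node (.leaf [0, 1]) (.leaf [16240, -14646, -3220, 820, -12530, -10246, 6926, 1648, 2647, 1421, 1778, -158, -13, -1, 1])) (.node (.leaf [209, -96, -99, 46, -81, -144, 84, -7, 33, 7, 15]) (.leaf [-75, 53, 29, -14, 35, 52, -26, -1, -14, -6, -5])))))))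

def twoL186 : Janko.Tree (List ℤ) :=
  (.node (.node (.node (.node (.node (.node (.leaf [0, 0, 1]) (.leaf [124, -66, -79, 37, -40, -98, 53, -4, 22, 4, 11])) (.node (.leaf [173, -70, -64, 43, -69, -111, 60, -6, 28, 4, 9]) (.leaf [0, 0, 0, -1, 0, 0, 1]))) (.node (.node (.leaf [196, 190, 366, 96, -113, 13, -101, -12, -41, -9, -38, 2, 3]) (.leaf [-45545, -70096, 30872, -20700, -41534, 38136, -13978, 22830, 13369, -1166, 578, 1064, -1627, 0, -1, 0, -1])) (.node (.leaf [-31, 20, -14, 45, 27, 1, -24, -5, -1, -10, 7, -1]) (.leaf [1132, 2040, 1425, -30, 127, -411, 85, -322, -820, 166, -56, -46, 58])))) (.node (.node (.node (.leaf [0, 0, 0, -1, 0, 0, 1]) (.leaf [0, -2, -1, 0, 0, 0, 0, 0, 1])) (.node (.leaf [0, 0, 1]) (.leaf []))) (.node (.node (.leaf [0, 0, 1]) (.leaf [0, 0, 1, 1, 0, 0, -1])) (.node (.leaf [0, 0, 1]) (.leaf [1454, -674, -615, 143, -673, -1043, 758, 2, 134, 71, 130, -1, 1]))))) (.node (.node (.node (.node (.leaf [0, 0, 1]) (.leaf [0, 0, 0, -1, 0, 0, 1])) (.node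 (.leaf [11, 2, 0, 6, -1, -6, 0, -2, 1]) (.leaf [0, 0, 1]))) (.node (.node (.leaf [0, 0, 1]) (.leaf [-5852, -1918, 2426, -2836, -191, 3663, -1167, 1332, -303, 63, -240, 98, 9])) (.node (.leaf [0, 0, 1]) (.leaf [274, -236, -136, -18, -178, -189, 159, 16, 48, 24, 30])))) (.node (.node (.node (.leaf [63, 30, 3, 22, -8, -35, 13, -11, -5, 0, 1]) (.leaf [0, 0, 1])) (.node (.leaf [0, 0, 1]) (.leaf [680, 134, 28, 303, -162, -362, 75, -86, 19, -11, 8, 0, 3]))) (.node (.node (.leaf [0, 0, 0, -1, 0, 0, 1]) (.leaf [664, -856, 49, 259, -669, -479, 178, 188, 165, 19, 54, 0, 2])) (.node (.leaf [0, 0, 1]) (.leaf [-23329, 39130, 11080, 9556, 25992, 18975, -19931, -6905, -4290, -4246, -4070, 156, -210, 0, -1, 1])))))) (.node (.node (.node (.node (.node (.leaf []) (.leaf [-34, 20, 14, -14, 16, 25, -11, -1, -6, 0, -3])) (.node (.leaf [91, -26, -31, 18, -35, -57, 35, -5, 11, 2, 5]) (.leaf [0, 0, 0, -1, 0, 0, 1]))) (.node (.node (.leaf []) (.leaf [0, 0, 0, -1, 0, 0, 1])) (.node (.leaf [81,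 -30, -52, 23, -21, -61, 34, -7, 13, 2, 7]) (.leaf [0, 0, 1])))) (.node (.node (.node (.leaf [22, 216, 73, 31, 63, 42, -37, -41, -26, -18, -23]) (.leaf [])) (.node (.leaf [0, 0, 1]) (.leaf [-4, 2, 0, -2, 2, 2, 0, 0, -1]))) (.node (.node (.leaf [2401, 3204, -157, 1719, 1086, -1033, -250, -1040, -206, -174, -138, -49, 5]) (.leaf [-7187, 333962, 45324, 106319, 185950, 34892, -100333, -79995, -42765, -18465, -23782, -3051, 1077, 0, 1, 0, 1])) (.node (.leaf []) (.leaf [55352, 830648, 309459, 340519, 335445, 122842, -320213, -182230, -91248, -66431, -70272, -4318, -825, -1, 1, 1, 1]))))) (.node (.node (.node (.node (.leaf [0, 0, 1]) (.leaf [1, -6, 2, 2, -3, -2, 0, 2, 1])) (.node (.leaf [0, 0, 1, 1, 0, 0, -1]) (.leaf [1231, -270, -1254, 323, -27, -1288, 931, -58, 116, -22, 60, 40, -1]))) (.node (.node (.leaf [0, 0, 1]) (.leaf [86, -28, -52, 26, -21, -67, 37, -6, 11, 2, 7])) (.node (.leaf []) (.leaf [0, -2, -1, 1, 0, 0, -1, 0, 1])))) (.node (.node (.node (.leaf [0, 0, 0, -1,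 0, 0, 1]) (.leaf [67, -16, 26, 25, -43, -31, 6, 2, 5, 0, 1])) (.node (.leaf [0, 0, 0, -1, 0, 0, 1]) (.leaf [6397, -8598, -3951, -1502, -5611, -4919, 4763, 1065, 1392, 846, 1013, -12, -5, 0, 1]))) (.node (.node (.leaf [82, -34, -47, 25, -25, -65, 36, -3, 11, 2, 7]) (.leaf [0, 0, 1])) (.node (.leaf [0, 0, 1]) (.leaf [50954, -67922, -9753, -7254, -53044, -34450, 29962, 11713, 9694, 5956, 6683, -126, 41, 0, 1, -1])))))))

def twoL187 : Janko.Tree (List ℤ) :=
  (.node (.node (.node (.node (.node (.node (.leaf []) (.leaf [776, -708, -464, -26, -489, -565, 467, 50, 153, 61, 89, 0, 1])) (.node (.leaf [0, 0, 0, 1]) (.leaf [0, 0, 0, 1]))) (.node (.node (.leaf [363, 124, 268, 159, -154, -113, -45, -24, -16, -1, -22, -2, 3]) (.leaf [-100, 56, 43, -36, 33, 83, -36, -3, -12, -8, -8, 3])) (.node (.leaf []) (.leaf [0, 0, 0, 1])))) (.node (.node (.node (.leaf [0, 0, 0, 1]) (.leaf [0, 0, 0, 1])) (.node (.leaf [238, -122, -50, 63, -117, -145, 63, -1, 40, 9, 12, 1]) (.leaf [84, -56, -70,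 37, -33, -73, 43, 1, 19, -2, 11, -1]))) (.node (.node (.leaf []) (.leaf [0, 0, 0, 1])) (.node (.leaf []) (.leaf [0, 0, 0, 1]))))) (.node (.node (.node (.node (.leaf []) (.leaf [0, 0, 0, 1])) (.node (.leaf [0, 0, 0, 1]) (.leaf [-3438, 2376, 1608, -557, 1707, 2595, -1606, -114, -546, -214, -312, -6, 4]))) (.node (.node (.leaf [531, -272, -116, 165, -285, -343, 173, 19, 84, 4, 30, -1]) (.leaf [-108, 122, 39, 16, 92, 106, -103, -38, -10, -6, -4, -3])) (.node (.leaf [-251, -208, 315, 16, -111, 122, -148, 126, -15, 0, -12, 6, -1]) (.leaf [])))) (.node (.node (.node (.leaf []) (.leaf [])) (.node (.leaf [-122, 48, 196, -25, -39, 103, -53, 40, -42, -11, -10, -1]) (.leaf [0, 0, 0, 1]))) (.node (.node (.leaf [0, 0, 0, 1]) (.leaf [-1600, -1812, -991, -1839, -351, 719, 767, 448, 117, 167, 164, 4, 6])) (.node (.leaf []) (.leaf [])))))) (.node (.node (.node (.node (.node (.leaf []) (.leaf [])) (.node (.leaf [0, 0, 0, 1]) (.leaf [0, 0, 0, 1]))) (.node (.node (.leaf []) (.leaf [0,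 0, 0, 1])) (.node (.leaf []) (.leaf [17, -152, 554, -120, -341, 211, -137, 88, -32, 54, -3, -28, -3])))) (.node (.node (.node (.leaf [0, 0, 0, 1]) (.leaf [])) (.node (.leaf [108, -58, -56, 26, -25, -81, 33, -6, 16, 14, 8, -3]) (.leaf [0, 0, 0, 1]))) (.node (.node (.leaf [-149, 36, 227, -93, -68, 191, -73, 36, -14, -16, -28, 5, -1]) (.leaf [0, 0, 0, 1])) (.node (.leaf [-64, 0, 41, -35, 17, 45, -26, 8, -8, 7, -8, 1]) (.leaf [107496, 812060, 301803, 346469, 310287, 85947, -296067, -180260, -89900, -63849, -67696, -3910, -415, -1, 1, 1, 1]))))) (.node (.node (.node (.node (.leaf []) (.leaf [0, 0, 0, 1])) (.node (.leaf [0, 0, 0, 1]) (.leaf [0, 0, 0, 1]))) (.node (.node (.leaf [-838, 386, -124, -419, 510, 512, -119, -74, -114, 14, -18, 0, -1]) (.leaf [0, 0, 0, 1])) (.node (.leaf []) (.leaf [3488, -4678, -992, 219, -3197, -2507, 1549, 642, 790, 448, 537, -71, -7, -1])))) (.node (.node (.node (.leaf [0, 0, 0, 1]) (.leaf [0, 0, 0, 1])) (.node (.leaf [0, 0, 0, 1]) (.leaf [4476,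 1332, -90, 2138, -708, -2280, 298, -844, 94, -10, 162, -62, -6, 0, 1]))) (.node (.node (.leaf []) (.leaf [110, 4, -24, 63, -31, -75, 23, -13, 4, -4, 12, -1])) (.node (.leaf []) (.leaf [0, 0, 0, 1])))))))

def twoL188 : Janko.Tree (List ℤ) :=
  (.node (.node (.node (.node (.node (.node (.leaf [5, 2, 0, 3, 0, -3, 0, -1]) (.leaf [])) (.node (.leaf [172, -94, -28, 38, -99, -101, 55, 7, 29, 4, 7]) (.leaf [1]))) (.node (.node (.leaf [-4, 2, -3, -3, 3, 3, 0, -1]) (.leaf [-48144, -63652, 34226, -21369, -38773, 40086, -14901, 22467, 11451, -1498, -184, 1133, -1543, 0, -1, 0, -1])) (.node (.leaf [-4, 2, -2, -4, 2, 4, 0, -1]) (.leaf [150, -30, -51, 72, -59, -104, 44, -11, 13, -6, 19, -1, 1])))) (.node (.node (.node (.leaf []) (.leaf [0, 0, 0, -1, 0, 1])) (.node (.leaf [2, 6, -5, 0, 5, 0, 0, -3]) (.leaf [1]))) (.node (.node (.leaf [-1, 0, 0, -1, 0, 1]) (.leaf [0, 0, -1, 0, 1])) (.node (.leaf [-83908, 65120, 25630, 15795, 54405, 66492, -56651, -9791, -710, -11615, -9241, 538, -1741,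 1, -1, -1, -1]) (.leaf [-12, 2, -9, -6, 9, 6, 0, -1]))))) (.node (.node (.node (.node (.leaf [2, 0, 0, 1, 0, -1]) (.leaf [62, -14, -37, 34, -19, -48, 24, -4, 8, -4, 8, -1])) (.node (.leaf [1]) (.leaf [86671, -265210, -44051, -81003, -174218, -81884, 118207, 60424, 27390, 20309, 22451, 1841, 190, 0, 0, -1, -1]))) (.node (.node (.leaf [-3, -6, 5, -2, -5, 2, 0, 3]) (.leaf [-60, 6, 39, -34, 16, 45, -23, 7, -8, 5, -8, 1])) (.node (.leaf [151, -38, -52, 15, -51, -104, 71, -6, 9, 8, 7, 1]) (.leaf [1102, -1206, 2513, 674, -1876, -97, -581, 630, 152, 14, -181, -13, 1, 0, 0, -1])))) (.node (.node (.node (.leaf [204, 10, -74, 56, -39, -145, 85, -21, 3, 2, 11]) (.leaf [1, 0, 0, 1, 0, -1])) (.node (.leaf []) (.leaf [-1492, -4836, -409, -2779, -2371, 815, 1136, 1198, 494, 384, 312, 14, 16, 0, 1]))) (.node (.node (.leaf [-89, 22, 185, -11, -59, 69, -34, 47, -40, -11, -6, -1]) (.leaf [-50, 96, 82, -30, 13, 81, -35, -10, -18, -8, -12])) (.node (.leaf [2, 0, 0, 1, 0, -1]) (.leaf [16615,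 278164, 46573, 111907, 143830, 21080, -91219, -68212, -29269, -19445, -20717, -1833, 394, 0, 0, 1, 1])))))) (.node (.node (.node (.node (.node (.leaf [1]) (.leaf [3, 0, 1, 1, -1, -1])) (.node (.leaf []) (.leaf [-232, 142, 181, -18, 85, 174, -126, 14, -44, -14, -26, -1]))) (.node (.node (.leaf [3, 0, 1, 1, -1, -1]) (.leaf [-70346, -67476, -1965, -32784, -19880, 42267, -4723, 20746, 13845, -1999, 1527, 1707, -2088, 0, 0, -1, -1])) (.node (.leaf [247, -82, -144, 73, -65, -178, 93, -23, 37, 6, 21]) (.leaf [-226, 16, -74, -55, 135, 22, 27, 33, -36, -7, -8, 10])))) (.node (.node (.node (.leaf []) (.leaf [440, 568, 305, 406, 54, -159, -143, -124, -64, -53, -44, 1])) (.node (.leaf [-504, 236, 180, -137, 214, 319, -158, 12, -88, -16, -30, 4, 0, -1]) (.leaf [77, -24, -50, 23, -16, -57, 30, -8, 12, 2, 6]))) (.node (.node (.leaf [1]) (.leaf [4941, -8806, -3323, -2110, -5579, -4072, 4542, 1397, 1238, 816, 948, 10, -6, 0, 1])) (.node (.leaf [0, 0, -1, 0, 1]) (.leaf [8972, -17938,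 -11, -3423, -13707, -5395, 5872, 3577, 2426, 1474, 1493, -5, 4, 0, 1]))))) (.node (.node (.node (.node (.leaf [2, 0, 0, 1, 0, -1]) (.leaf [1])) (.node (.leaf []) (.leaf [2698, 4718, 1911, 3415, 1206, -1148, -1403, -1055, -531, -465, -341, 18, 15, -1]))) (.node (.node (.leaf [-394, -164, 11, -250, 27, 228, -20, 70, -8, 20, -1, 1]) (.leaf [])) (.node (.leaf [19, -52, -49, 11, 0, -46, 25, 9, 8, 4, 4, 1]) (.leaf [0, 0, 0, -1, 0, 1])))) (.node (.node (.node (.leaf [-165, -2, 95, -24, 7, 92, -46, 40, -20, -12, -8, 1]) (.leaf [-78926, -45590, -24057, -2734, 11750, 50985, -31071, 6484, 23252, -5341, 1649, -37, -3212, 0, 0, -1, -1])) (.node (.leaf [47948, 4068, 70012, -7390, -45737, -16127, 8953, 9649, -16141, 4798, -2824, 133, 2351, 0, 1, 0, 1]) (.leaf [9249, -14388, -4986, -2341, -9462, -6751, 6532, 1934, 2326, 1408, 1654, -106, -22, 0, 1]))) (.node (.node (.leaf [0, 0, 0, -1, 0, 1]) (.leaf [0, 0, 0, -1, 0, 1])) (.node (.leaf [301, -64, -174, 82, -67, -197, 109, -37, 42,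 8, 24, -5]) (.leaf [79802, 758328, 354198, 340516, 265944, 117054, -318610, -159788, -81470, -65424, -68426, -3186, -870, 0, 1, 1, 1])))))))

def twoL189 : Janko.Tree (List ℤ) :=
  (.node (.node (.node (.node (.node (.node (.leaf []) (.leaf [0, 1])) (.node (.leaf [0, 1]) (.leaf [-251, 751, 208, -75, 371, 280, -175, -157, -160, -16, -43, 0, 1]))) (.node (.node (.leaf [0, 1]) (.leaf [1142, -354, -1337, 161, -4, -1290, 1029, -28, 113, -13, 42, 62, 1])) (.node (.leaf []) (.leaf [146489, -110212, 63478, -12495, -140086, -81723, 56826, 29688, -1893, 16170, 8615, -643, 3169, -1, 1, 0, 1])))) (.node (.node (.node (.leaf [0, 1]) (.leaf [])) (.node (.leaf [0, 1]) (.leaf [-123410, 15586, -1120, -48404, 52498, 71080, -25714, 3956, -10052, 1907, -3216, -824, 436, -1, 0, 1, 1]))) (.node (.node (.leaf [-2, 2, 0, 0, 0, 2, 0, 0, 0, -1]) (.leaf [-363, 1262, 1090, 687, 417, 532, -891, -160, -194, -143, -113, -20, -1])) (.node (.leaf []) (.leaf [0, 1]))))) (.node (.node (.node (.node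 (.leaf []) (.leaf [0, 1])) (.node (.leaf []) (.leaf [0, -6, -4, -2, 0, 0, 0, 0, 2, 1]))) (.node (.node (.leaf [0, 1]) (.leaf [8918, -13254, -4260, -2258, -9220, -6162, 6096, 1764, 2099, 1305, 1602, -134, -9, -1, 1])) (.node (.leaf [-4, 6, 4, 2, 2, 2, -2, 0, -2, -1]) (.leaf [0, 1])))) (.node (.node (.node (.leaf [2, 7, 2, 2, 2, 0, -2, -2, -1]) (.leaf [0, -1, 0, -2, 0, 0, 0, 0, 0, 1])) (.node (.leaf [0, 1]) (.leaf [0, 1]))) (.node (.node (.leaf [0, 1]) (.leaf [0, 1])) (.node (.leaf []) (.leaf [0, 2, 0, 2, 0, 0, 0, 0, 0, -1])))))) (.node (.node (.node (.node (.node (.leaf []) (.leaf [])) (.node (.leaf [0, 1]) (.leaf [0, 1]))) (.node (.node (.leaf []) (.leaf [0, 1])) (.node (.leaf []) (.leaf [0, 2, 0, 2, 0, 0, 0, 0, 0, -1])))) (.node (.node (.node (.leaf [0, 1]) (.leaf [-49804, -69671, 30052, -22946, -39747, 40435, -14073, 23028, 13109, -1199, 407, 1123, -1632, 1, -1, 0, -1])) (.node (.leaf [0, 1]) (.leaf [0, 1]))) (.node (.node (.leaf []) (.leaf [0, 1])) (.node (.leaf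 [175, 11, -44, 27, -51, -118, 83, -14, -2, -1, 7, 4, 1]) (.leaf [-73, 51, 29, -14, 37, 50, -28, -2, -14, -4, -5]))))) (.node (.node (.node (.node (.leaf []) (.leaf [])) (.node (.leaf [0, 1]) (.leaf [0, 1]))) (.node (.node (.leaf [-8, -12, -2, -6, -2, 2, 2, 4, 1, 1]) (.leaf [0, 1])) (.node (.leaf []) (.leaf [])))) (.node (.node (.node (.leaf [0, 1]) (.leaf [0, 1])) (.node (.leaf [0, 1]) (.leaf [766, -873, -1521, -367, -84, -862, 929, -50, 205, 141, 132, 8, 1]))) (.node (.node (.leaf []) (.leaf [16756, -21846, -8228, -1552, -14535, -12305, 10043, 2617, 3787, 2133, 2612, -187, -39, -1, 1])) (.node (.leaf []) (.leaf [0, 1])))))))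

def twoL190 : Janko.Tree (List ℤ) :=
  (.node (.node (.node (.node (.node (.node (.leaf [0, 0, 1, 1, 0, 0, -1]) (.leaf [])) (.node (.leaf [164, -94, -32, 36, -94, -99, 55, 7, 29, 4, 7]) (.leaf [-5, 2, 0, -1, 3, 2, -1, 0, -1]))) (.node (.node (.leaf []) (.leaf [-3070, 1914, 2034, -957, 952, 2674, -1373, 26, -547, -137, -264, -40, 5])) (.node (.leaf [0, 0, 0, -1, 0, 0, 1]) (.leaf [0, 0, 1])))) (.node (.node (.node (.leaf []) (.leaf [-1, 2, 1, 0, 1, 0, 0, 0, -1])) (.node (.leaf [0, -8, -30, -2, 7, -13, 15, 0, 1, 0, 3]) (.leaf [907, -780, -674, 272, -484, -673, 427, 30, 283, -11, 90, 5, -7]))) (.node (.node (.leaf [0, 0, 1, 1, 0, 0, -1]) (.leaf [0, 0, 1])) (.node (.leaf [0, 0, 1, 1, 0, 0, -1]) (.leaf [-319, 98, 104, -8, 147, 203, -167, 7, -20, -14, -22]))))) (.node (.node (.node (.node (.leaf [-4, 0, -1, -1, 2, 2, -1]) (.leaf [])) (.node (.leaf [-74, 30, 25, -10, 34, 41, -27, 3, -13, -2, -3]) (.leaf [-1836, 1256, 907, -560, 773, 1435, -671, -20, -346, -98, -160, -6, 2])))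 (.node (.node (.leaf []) (.leaf [0, 0, 0, -1, 0, 0, 1])) (.node (.leaf [273, -52, -104, 93, -99, -186, 99, -22, 23, -4, 28, 0, 1]) (.leaf [33348, -27488, -13045, 664, -21791, -24197, 18265, 2853, 4637, 2758, 3620, -153, 29, 0, 0, -1])))) (.node (.node (.node (.leaf [0, 0, 1]) (.leaf [0, 0, 1, 1, 0, 0, -1])) (.node (.leaf []) (.leaf []))) (.node (.node (.leaf []) (.leaf [-61, 98, 73, -32, 23, 83, -35, -11, -18, -8, -12])) (.node (.leaf [-4, 0, -1, -1, 2, 2, -1]) (.leaf [6222, 1664, 262, 1781, -1227, -3631, 1440, -744, -423, 217, 130, -68, 56])))))) (.node (.node (.node (.node (.node (.leaf []) (.leaf [0, 0, 0, -1, 0, 0, 1])) (.node (.leaf []) (.leaf []))) (.node (.node (.leaf [0, 0, 0, -1, 0, 0, 1]) (.leaf [])) (.node (.leaf [0, 0, 0, -1, 0, 0, 1]) (.leaf [17, -152, 553, -121, -341, 211, -136, 88, -32, 54, -3, -28, -3])))) (.node (.node (.node (.leaf []) (.leaf [0, 0, 0, -1, 0, 0, 1])) (.node (.leaf [-11, -4, -1, -6, 1, 6, 0, 2]) (.leaf [15, 6, -22, 3, 11, -15, 8, -7,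 1, 2, 1]))) (.node (.node (.leaf []) (.leaf [0, 2, 2, -1, 0, 0, 1, 0, -1])) (.node (.leaf [0, 0, 1]) (.leaf [19817, 245746, 12414, 102641, 138741, 7757, -72926, -64735, -22719, -17284, -16683, -1740, 288, 0, 1, 0, 1]))))) (.node (.node (.node (.node (.leaf [-4, 0, -1, -1, 2, 2, -1]) (.leaf [-32, 20, -36, -16, 35, 11, 5, -8, -3, 0, 1])) (.node (.leaf [0, 2, 1, -1, 0, 0, 1, 0, -1]) (.leaf [0, 2, 4, 1, 0, 0, -1, 0, -1]))) (.node (.node (.leaf [-1022, 758, 57, -358, 714, 672, -288, -126, -184, -12, -56, 0, -1]) (.leaf [])) (.node (.leaf [0, 0, 1]) (.leaf [-49705, -674, -71227, 7905, 48779, 16725, -9462, -10388, 15740, -5150, 2569, -80, -2354, 0, -1, 0, -1])))) (.node (.node (.node (.leaf []) (.leaf [])) (.node (.leaf [50183, 70360, -31429, 23026, 40508, -40980, 14662, -23330, -13006, 1056, -490, -1036, 1626, 0, 1, 0, 1]) (.leaf [-446, 226, 210, -21, 240, 274, -229, 10, -67, -13, -44, 0, 1]))) (.node (.node (.leaf [-249, 102, 44, -81, 116, 161, -68, 1, -31, -6, -15]) (.leaf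 [-342, 214, -125, -102, 309, 153, -63, -56, -53, 9, -4, 0, -3])) (.node (.leaf [0, 0, 1, 1, 0, 0, -1]) (.leaf [129201, 802964, 295157, 349770, 300330, 70451, -286037, -180034, -88304, -62818, -66052, -3906, -368, 0, 1, 0, 1])))))))

def twoL191 : Janko.Tree (List ℤ) :=
  (.node (.node (.node (.node (.node (.node (.leaf [0, 0, 0, 1]) (.leaf [])) (.node (.leaf []) (.leaf [14446, 249052, 195410, 121757, 53104, 78255, -141370, -42955, -22864, -27438, -29386, -561, -1322, 1, -1, -1, -1]))) (.node (.node (.leaf []) (.leaf [0, 0, 0, 1])) (.node (.leaf [0, 0, 0, 1]) (.leaf [-160, 40, 55, -14, 55, 107, -74, 7, -11, -8, -7, -1])))) (.node (.node (.node (.leaf []) (.leaf [0, 0, 0, 1])) (.node (.leaf []) (.leaf []))) (.node (.node (.leaf [0, 0, 0, 1]) (.leaf [362, -162, -124, 108, -143, -265, 127, -4, 44, 14, 26, 1])) (.node (.leaf [0, 0, 0, 1]) (.leaf [-362, 372, 196, -10, 247, 269, -197, -31, -77, -33, -47, 1, 1]))))) (.node (.node (.node (.node (.leaf [0, 0, 0, 1]) (.leaf [70,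 -10, -35, 38, -21, -51, 24, -6, 8, -4, 8, -1])) (.node (.leaf []) (.leaf [0, 0, 0, 1]))) (.node (.node (.leaf []) (.leaf [0, 0, 0, 1])) (.node (.leaf [0, 0, 0, 1]) (.leaf [])))) (.node (.node (.node (.leaf []) (.leaf [0, 0, 0, 1])) (.node (.leaf []) (.leaf []))) (.node (.node (.leaf [-72, 0, 111, -16, -47, 49, -12, 36, -26, -9, 0, -1]) (.leaf [31477, -19506, -12283, 2480, -17156, -22688, 16304, 1277, 3551, 1975, 2973, -67, 44, 1, 0, -1])) (.node (.leaf [0, 0, 0, 1]) (.leaf [0, 0, 0, 1])))))) (.node (.node (.node (.node (.node (.leaf []) (.leaf [0, 0, 0, 1])) (.node (.leaf []) (.leaf [-232, 142, 181, -16, 85, 173, -126, 14, -44, -14, -26, -1]))) (.node (.node (.leaf [0, 0, 0, 1]) (.leaf [])) (.node (.leaf [0, 0, 0, 1]) (.leaf [0, 0, 0, 1])))) (.node (.node (.node (.leaf []) (.leaf [0, 0, 0, 1])) (.node (.leaf [5364, -3808, -394, 1255, -3584, -3340, 1502, 368, 742, 388, 502, -90, -6, -1]) (.leaf []))) (.node (.node (.leaf []) (.leaf [])) (.node (.leaf [-134, 26, 82,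 -66, 37, 103, -55, 10, -16, 6, -16, 3]) (.leaf [0, 0, 0, 1]))))) (.node (.node (.node (.node (.leaf [0, 0, 0, 1]) (.leaf [])) (.node (.leaf []) (.leaf [4362, 492, 418, 2569, -1068, -2702, 266, -365, 106, -63, 79, -10, 7, -1]))) (.node (.node (.leaf [0, 0, 0, 1]) (.leaf [])) (.node (.leaf [-92, -28, -112, -31, 79, 9, 13, -1, 8, 4, 2, 1]) (.leaf [0, 0, 0, 1])))) (.node (.node (.node (.leaf [-955, 478, 485, -62, 383, 625, -428, 48, -144, -68, -76, 1]) (.leaf [])) (.node (.leaf []) (.leaf [0, 0, 0, 1]))) (.node (.node (.leaf [0, 0, 0, 1]) (.leaf [0, 0, 0, 1])) (.node (.leaf [0, 0, 0, 1]) (.leaf [55355, 832216, 310526, 341643, 336218, 122885, -321151, -182448, -91492, -66562, -70480, -4302, -824, -1, 1, 1, 1])))))))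

def twoL192 : Janko.Tree (List ℤ) :=
  (.node (.node (.node (.node (.node (.node (.leaf []) (.leaf [1])) (.node (.leaf [1]) (.leaf [156905, 194228, 185976, 148062, -22062, -11046, -92558, -39943, -13840, -20640, -21102, -853, -736, 1, -1, -1, -1]))) (.node (.node (.leaf [-4, 0, -1, -3, 1, 3]) (.leaf [5, -2, 4, 2, -4, -2, 0, 1])) (.node (.leaf [60, -6, -39, 31, -17, -43, 24, -7, 8, -5, 8, -1]) (.leaf [0, 0, 0, -1, 0, 1])))) (.node (.node (.node (.leaf [-212, 118, 146, -67, 62, 173, -90, 8, -40, -8, -19]) (.leaf [])) (.node (.leaf [0, 0, 0, -1, 0, 1]) (.leaf [1, 0, 0, 1, 0, -1]))) (.node (.node (.leaf []) (.leaf [362, -162, -123, 107, -144, -264, 127, -4, 44, 14, 26, 1])) (.node (.leaf [-1283, 632, 662, -200, 485, 899, -551, 56, -189, -77, -109, 3, 0, 0, -1]) (.leaf [-215, 164, 98, 20, 137, 143, -127, -10, -32, -18, -22]))))) (.node (.node (.node (.node (.leaf []) (.leaf [1])) (.node (.leaf [-61, 22, 32, -8, 21, 37, -25, 5, -11, -2, -3]) (.leaf [-172788, 149514, -43225,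 21898, 164133, 105874, -81908, -35601, -2582, -20290, -13642, 634, -3276, 0, 0, -1, -1]))) (.node (.node (.leaf [0, 0, 0, -1, 0, 1]) (.leaf [2, 0, 13, 4, -9, 0, 0, 4, -2, -2])) (.node (.leaf [-1068, -2076, -1532, 48, -110, 335, -41, 309, 830, -155, 70, 43, -59]) (.leaf [1])))) (.node (.node (.node (.leaf [1, 0, 0, 1, 0, -1]) (.leaf [0, 0, -1, 0, 1])) (.node (.leaf [1]) (.leaf [-363, 162, 123, -109, 144, 266, -127, 4, -44, -14, -26, -1]))) (.node (.node (.leaf [-249, 106, 103, -79, 96, 188, -97, 4, -30, -6, -21]) (.leaf [454, -306, -725, -311, -37, -363, 458, -110, 71, 112, 84, -1, -3])) (.node (.leaf []) (.leaf [-21768, 12246, 152, -1863, 14880, 12715, -8120, -1393, -1698, -1420, -1666, 146, -92, 0, -1])))))) (.node (.node (.node (.node (.node (.leaf [1, 0, 1, 0, -1]) (.leaf [1])) (.node (.leaf [1]) (.leaf [1]))) (.node (.node (.leaf [-879, 756, 561, -26, 461, 650, -462, -17, -180, -82, -100, 1]) (.leaf [-120955, 22144, -45212, -1480, 70750, 67110, -37318, -6120, 13104,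 -12410, -3900, 1568, -3314, 0, 0, -1, -1])) (.node (.leaf [92673, 30412, -8341, 23740, -4834, -60455, 23703, -14151, -9887, 6076, 2326, -1867, 2297, 0, 1, 0, 1]) (.leaf [-3, -2, 0, -1, 0, 1, 0, 1])))) (.node (.node (.node (.leaf [1]) (.leaf [-134, 74, -11, -70, 89, 92, -26, -13, -14, 0, -12, 2])) (.node (.leaf [100, -46, -49, 31, -24, -78, 33, -4, 12, 10, 8, -3]) (.leaf [76, -2, -65, 37, 8, -64, 27, -14, 11, 0, 4]))) (.node (.node (.leaf [1, 0, 1, 0, -1]) (.leaf [9856, -18922, -542, -3312, -14276, -6116, 6336, 3676, 2654, 1537, 1585, 7, 2, 0, 1])) (.node (.leaf [-939, 1824, 828, 498, 1155, 585, -859, -231, -370, -149, -199, 30, 7, -1]) (.leaf [8244, 357876, 41590, 117152, 197061, 24311, -99631, -87156, -46496, -18990, -24370, -3282, 1356, -1, 1, 1, 1]))))) (.node (.node (.node (.node (.leaf []) (.leaf [-11, 12, -23, -8, 18, 3, 5, -6, -1, 0, 1])) (.node (.leaf [5, 6, -3, 1, 3, -1, 0, -3]) (.leaf [515, 116, 227, 164, -217, -209, 43, -29, -12, -5, -18, 3, 3]))) (.node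 (.node (.leaf [-1, -6, 6, -1, -6, 1, 0, 3]) (.leaf [1])) (.node (.leaf [-1, 2, -1, -2, 1, 2, 0, -1]) (.leaf [3638, -5220, -1226, -17, -3463, -2670, 1821, 731, 860, 514, 586, -69, -12, -1])))) (.node (.node (.node (.leaf [1]) (.leaf [-191, 198, 61, -30, 128, 143, -73, -21, -40, -19, -18, -1])) (.node (.leaf [1]) (.leaf [1]))) (.node (.node (.leaf [-175, 74, 54, -59, 73, 122, -55, 3, -23, -4, -13]) (.leaf [1])) (.node (.leaf [299, -60, -150, 62, -81, -185, 115, -32, 38, 8, 20, -4]) (.leaf [2, -4, 4, 1, -4, -1, 0, 2])))))))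

def twoL193 : Janko.Tree (List ℤ) :=
  (.node (.node (.node (.node (.node (.node (.leaf [0, 1]) (.leaf [])) (.node (.leaf []) (.leaf []))) (.node (.node (.leaf []) (.leaf [])) (.node (.leaf [0, 1]) (.leaf [96854, -185400, 5944, -83078, -148182, -80808, 105354, 48688, -2618, 25554, 17364, 16, 3696, -1, 1, 0, 1])))) (.node (.node (.node (.leaf []) (.leaf [0, 1])) (.node (.leaf [-367, -982, -771, -376, -66, -117, 345, 168, 155, 64, 94, 13, -3]) (.leaf [860, -753, -585, 255, -504, -628, 413, 50, 265, -15, 82, 4, -9]))) (.node (.node (.leaf [0, 1]) (.leaf [])) (.node (.leaf [0, 1]) (.leaf []))))) (.node (.node (.node (.node (.leaf [0, 1]) (.leaf [75, -54, -29, 12, -35, -52, 26, 1, 14, 7, 5])) (.node (.leaf [0, -1, -2, 0, 0, 0, 0, 0, 1]) (.leaf [0, 1]))) (.node (.node (.leaf []) (.leaf [0, 1])) (.node (.leaf [0, 1]) (.leaf [548, -83, -227, 235, -92, -386, 129, -63, 66, 10, 28, 0, 1])))) (.node (.node (.node (.leaf []) (.leaf [51, -40, -37, 6, -23, -38, 26, 0, 12, 3, 5]))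 (.node (.leaf [-402, -964, -491, -795, -292, 180, 401, 183, 120, 106, 72, 2, -1]) (.leaf [-9033, -78929, -41308, -10661, -27123, -3076, 15885, 12204, 21829, 82, 6506, 906, -2062, 0, 0, 0, -1]))) (.node (.node (.leaf []) (.leaf [-15190, 19557, 194, 646, 16195, 9563, -7041, -3531, -2873, -1610, -1790, 37, -11, 1, -1])) (.node (.leaf [0, 1]) (.leaf [0, 1])))))) (.node (.node (.node (.node (.node (.leaf []) (.leaf [])) (.node (.leaf []) (.leaf [59, -38, -35, 10, -25, -42, 26, -1, 12, 3, 5]))) (.node (.node (.leaf [0, 1]) (.leaf [])) (.node (.leaf [0, 1]) (.leaf [0, 1])))) (.node (.node (.node (.leaf []) (.leaf [0, 1])) (.node (.leaf []) (.leaf []))) (.node (.node (.leaf []) (.leaf [648, 663, -329, 459, 362, -386, -3, -280, 16, -36, -32, 0, 1])) (.node (.leaf [0, 1]) (.leaf [0, 1]))))) (.node (.node (.node (.node (.leaf [0, 1]) (.leaf [0, -1, -2, 0, 0, 0, 0, 0, 1])) (.node (.leaf []) (.leaf [-7116, -27165, -81174, 12172, 22768, -11892, 9934, -7804, 20456, -2735, 6038, -114,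 -2258, 0, -1, 0, -1]))) (.node (.node (.leaf [0, 1]) (.leaf [])) (.node (.leaf [0, 1]) (.leaf [0, 1])))) (.node (.node (.node (.leaf []) (.leaf [])) (.node (.leaf [-1682, 247, 69, -553, 656, 912, -317, 103, -143, -38, -62, 16, 1]) (.leaf []))) (.node (.node (.leaf []) (.leaf [146368, -110154, 63597, -12555, -140043, -81615, 56758, 29695, -1916, 16180, 8592, -642, 3168, -1, 1, 0, 1])) (.node (.leaf [0, 1]) (.leaf [0, 1])))))))

def twoL194 : Janko.Tree (List ℤ) :=
  (.node (.node (.node (.node (.node (.node (.leaf []) (.leaf [-19, 46, 12, -10, 17, 29, -11, -10, -6, -4, -3])) (.node (.leaf [-77, 26, 35, -26, 22, 51, -21, 7, -13, -2, -5]) (.leaf [-4, 2, 0, -2, 2, 2, 0, 0, -1]))) (.node (.node (.leaf [-305, 158, 138, -1, 151, 198, -161, 3, -39, -18, -25]) (.leaf [0, 0, 0, -1, 0, 0, 1])) (.node (.leaf []) (.leaf [1774, 454, -975, 880, -7, -1103, 407, -434, 161, -45, 138, -36, -11])))) (.node (.node (.node (.leaf [-147, 126, 121, -57, 49, 140, -67, -4, -34, -8, -17]) (.leaf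 [1410, 1502, 1273, 1471, -152, -178, -881, -424, -59, -153, -62, -54, 1])) (.node (.leaf [390, -138, -195, 117, -121, -275, 138, -30, 56, 10, 33]) (.leaf [-30, -10, 8, -11, 10, 20, -17, 2, 1, 3, -2, 0, 1]))) (.node (.node (.leaf [0, 2, 1, -1, 0, 0, 1, 0, -1]) (.leaf [0, 0, 0, -1, 0, 0, 1])) (.node (.leaf []) (.leaf [0, 0, 1]))))) (.node (.node (.node (.node (.leaf [8, 2, -2, 3, 0, -4, 1, -2, 1]) (.leaf [-3, -2, -1, -1, 1, 2, -1, 0, 1])) (.node (.leaf [0, 0, 1]) (.leaf [0, 2, 3, 1, 0, 0, -1, 0, -1]))) (.node (.node (.leaf [-592, 34, 311, -96, 101, 359, -227, 92, -65, -17, -26, 0, -1]) (.leaf [])) (.node (.leaf []) (.leaf [])))) (.node (.node (.node (.leaf [0, 0, 1, 1, 0, 0, -1]) (.leaf [0, 0, 1])) (.node (.leaf []) (.leaf [0, 0, 1]))) (.node (.node (.leaf [20, 6, 10, 11, -5, -9, -2, -2, 0, 0, -1]) (.leaf [-61, 116, 102, -49, 7, 99, -30, -9, -25, -10, -14])) (.node (.leaf [2, -2, 0, -1, -2, 0, 1, 0, 1]) (.leaf [-10368, 13732, 4641, 1066, 9345, 7883, -6535, -1917, -2170,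 -1283, -1572, 59, 17, 1, -1])))))) (.node (.node (.node (.node (.node (.leaf [0, 0, 1]) (.leaf [-5, -6, 1, -1, -1, 2, -1, 2, 1])) (.node (.leaf []) (.leaf [3, -2, 1, 3, -1, -2, -1, 0, 1]))) (.node (.node (.leaf []) (.leaf [0, 0, 1])) (.node (.leaf [57907, 45868, 32743, 13856, -4825, -29195, 5883, -8499, -16727, 3474, -2436, -1009, 2263, 0, 1, 0, 1]) (.leaf [-45374, 55148, 5009, 4557, 46431, 30463, -26024, -10468, -7551, -4163, -5057, -235, -100, -1, 0, 1])))) (.node (.node (.node (.leaf []) (.leaf [])) (.node (.leaf [0, 0, 0, -1, 0, 0, 1]) (.leaf [0, 0, 0, -1, 0, 0, 1]))) (.node (.node (.leaf [0, 0, 1]) (.leaf [0, 0, 0, -1, 0, 0, 1])) (.node (.leaf [-11, -4, -1, -6, 1, 6, 0, 2]) (.leaf [-55187, 273320, 19954, 82845, 175852, 50274, -91149, -63038, -31262, -20237, -21375, -1057, 309, 0, 1, 0, 1]))))) (.node (.node (.node (.node (.leaf [4, 10, -3, 3, 6, -2, -1, -4, -1]) (.leaf [0, 0, 1])) (.node (.leaf [56, -28, -47, 5, -17, -41, 32, -4, 11, 2, 5]) (.leaf [0, 0, 1])))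 (.node (.node (.leaf []) (.leaf [55367, -273452, -20274, -82806, -175833, -50589, 91395, 63061, 31267, 20240, 21398, 1069, -309, 0, -1, 0, -1])) (.node (.leaf []) (.leaf [4, -2, -2, -1, -2, -2, 3, 0, 1])))) (.node (.node (.node (.leaf [11, 2, -1, 5, -1, -6, 1, -2, 1]) (.leaf [0, 0, 1])) (.node (.leaf []) (.leaf [18998, -12986, 2974, 1070, -15363, -10827, 6809, 2332, 1331, 1463, 1356, -92, 103, 0, 1]))) (.node (.node (.leaf [0, 0, 0, -1, 0, 0, 1]) (.leaf [])) (.node (.leaf [-19380, -38976, 49409, 589, -39276, 32756, -25669, 14202, 10810, -2916, -1686, 434, -1356, 0, 0, 0, -1]) (.leaf [360, -310, -218, 9, -204, -279, 210, 19, 63, 30, 43])))))))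

def twoL195 : Janko.Tree (List ℤ) :=
  (.node (.node (.node (.node (.node (.node (.leaf []) (.leaf [-794, 446, -316, -200, 651, 351, -99, -78, -76, -44, -43, 17, 1])) (.node (.leaf []) (.leaf [0, 0, 0, 1]))) (.node (.node (.leaf [0, 0, 0, 1]) (.leaf [0, 0, 0, 1])) (.node (.leaf [-1142, -392, 333, -231, 133, 561, -333, 262, -18, -11, -50, 12, 1]) (.leaf [0, 0, 0, 1])))) (.node (.node (.node (.leaf [0, 0, 0, 1]) (.leaf [237, -130, -124, 73, -103, -173, 99, 0, 44, 2, 20, -1])) (.node (.leaf [0, 0, 0, 1]) (.leaf [0, 0, 0, 1]))) (.node (.node (.leaf []) (.leaf [0, 0, 0, 1])) (.node (.leaf []) (.leaf [24038, -12020, -8847, 2420, -11831, -17227, 12155, 472, 2169, 1281, 2043, -5, 50, 1, 0, -1]))))) (.node (.node (.node (.node (.leaf []) (.leaf [])) (.node (.leaf [-372, 102, 139, -80, 132, 235, -149, 14, -44, -11, -18, 7, 1]) (.leaf []))) (.node (.node (.leaf [0, 0, 0, 1]) (.leaf [10, 2, 7, 8, -5, -5, -2, -1, 0, -1, 0, 1])) (.node (.leaf [-78, 30, 35, -29, 27, 55, -26, 3,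 -10, -3, -8, 3]) (.leaf [-196621, 112402, -42543, -30141, 139596, 99894, -37265, -12053, -14439, -18338, -13465, 4084, -1990, 1, -1, -1, -1])))) (.node (.node (.node (.leaf [0, 0, 0, 1]) (.leaf [])) (.node (.leaf []) (.leaf [-356, 166, 124, -105, 143, 263, -127, 2, -44, -14, -26, -1]))) (.node (.node (.leaf [0, 0, 0, 1]) (.leaf [0, 0, 0, 1])) (.node (.leaf []) (.leaf [16405, 36336, 12945, 18487, 9545, -4502, -7982, -7887, -4269, -3201, -3011, 174, 26, 0, -1, 1])))))) (.node (.node (.node (.node (.node (.leaf []) (.leaf [-4473, 4834, 1275, -772, 3405, 3280, -1760, -575, -865, -454, -603, 72, 8, 1])) (.node (.leaf [96, -52, -37, 35, -33, -79, 34, 3, 10, 8, 8, -3]) (.leaf [-223295, 344962, 40360, 67478, 255849, 164497, -154817, -65650, -34074, -37438, -34178, 1303, -2444, 1, -1, -1, -1]))) (.node (.node (.leaf [809, -48, -581, 270, 9, -583, 260, -159, 114, 28, 42, -1]) (.leaf [-646, 344, 154, -183, 361, 409, -222, -24, -106, -4, -40, 2])) (.node (.leaf []) (.leaf [-25334,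 17112, 9835, -1075, 14789, 18209, -13621, -1338, -2877, -1807, -2585, 91, -40, -1, 0, 1])))) (.node (.node (.node (.leaf [-606, 742, 493, 65, 419, 493, -424, -60, -152, -66, -92, -1]) (.leaf [-30, -8, -11, -16, 7, 13, 4, 4, 0, -1, 0, 1])) (.node (.leaf [0, 0, 0, 1]) (.leaf [0, 0, 0, 1]))) (.node (.node (.leaf []) (.leaf [0, 0, 0, 1])) (.node (.leaf [4039, -1812, 152, 1245, -2426, -2150, 710, 28, 456, 180, 324, -84, 2, -1]) (.leaf [-23936, 274380, 5036, 90632, 172873, 28530, -79857, -68078, -30458, -18432, -19002, -1654, 434, -1, 1, 1, 1]))))) (.node (.node (.node (.node (.leaf []) (.leaf [552, 732, 540, 558, 57, -157, -287, -153, -96, -45, -60, -13, 1])) (.node (.leaf [0, 0, 0, 1]) (.leaf [-40027, -206886, -35580, -95086, -99297, -2411, 67581, 54437, 19740, 13235, 14308, 2123, -400, 0, -1, 0, -1]))) (.node (.node (.leaf []) (.leaf [-1010, 324, 349, -223, 392, 658, -389, 37, -116, -26, -60, 3])) (.node (.leaf []) (.leaf [3600, -5192, -1200, -27, -3449, -2643, 1809,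 733, 850, 512, 582, -69, -12, -1])))) (.node (.node (.node (.leaf []) (.leaf [-1120, 748, 606, -243, 477, 869, -485, -5, -192, -69, -107, -1])) (.node (.leaf []) (.leaf [18979, -12960, 3039, 1066, -15366, -10798, 6779, 2333, 1321, 1463, 1349, -90, 104, 0, 1]))) (.node (.node (.leaf [0, 0, 0, 1]) (.leaf [])) (.node (.leaf [143, -4, -92, 30, -19, -80, 51, -28, 20, 4, 10, -4]) (.leaf [-106233, -814404, -303410, -347500, -311722, -86831, 297603, 180492, 90338, 64052, 68008, 3894, 418, 1, -1, -1, -1])))))))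

def twoL196 : Janko.Tree (List ℤ) :=
  (.node (.node (.node (.node (.node (.node (.leaf [3, 0, 1, 1, -1, -1]) (.leaf [-12, 22, 7, -6, 8, 15, -5, -4, -4, -2, -1])) (.node (.leaf [10, 10, -30, 2, 13, -15, 13, -7, -1, 0, 3]) (.leaf []))) (.node (.node (.leaf []) (.leaf [47, 2, -51, 25, -7, -35, 26, -9, 8, -7, 8, -1])) (.node (.leaf [-70, 100, 77, -37, 25, 91, -38, -10, -19, -8, -13]) (.leaf [17533, -60026, -19311, -12686, -32529, -17368, 21704, 10553, 9684, 4364, 5601, 28, -217, 0, 1, -1])))) (.node (.node (.node (.leaf []) (.leaf [3, 0, 1, 1, -1, -1])) (.node (.leaf [-10, -10, -3, -5, -2, 2, 3, 4, 0, 0, 1]) (.leaf [890, -414, -131, 284, -497, -548, 272, 34, 130, -2, 47, -3, 1]))) (.node (.node (.leaf [66, -34, -48, 8, -25, -49, 37, -3, 11, 2, 7]) (.leaf [])) (.node (.leaf [-196, 44, -68, -36, 146, 94, -62, -16, -2, 2, -6]) (.leaf [-316, 358, 197, 5, 226, 238, -185, -30, -75, -31, -45, 1, 1]))))) (.node (.node (.node (.node (.leaf [-2, 0, -1, -1, 1, 1]) (.leaf [1, 0,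 0, 1, 0, -1])) (.node (.leaf [1, 0, 0, 1, 0, -1]) (.leaf [180, 42, -227, 136, 73, -169, 57, -63, 26, 0, 28, -7, -5]))) (.node (.node (.leaf [-55, -10, 12, -17, 11, 40, -23, 5, 3, 0, -3]) (.leaf [333, -96, -155, 143, -96, -244, 107, -21, 40, 4, 32, -7])) (.node (.leaf [0, 0, -1, 0, 1]) (.leaf [1, 0, 1, 0, -1])))) (.node (.node (.node (.leaf []) (.leaf [2, 0, 0, 1, 0, -1])) (.node (.leaf [1, 0, 1, 0, -1]) (.leaf [-15959, 46174, 10434, 15245, 27347, 15702, -20383, -9425, -4169, -5054, -4211, 91, -319, 0, 0, 1]))) (.node (.node (.leaf []) (.leaf [])) (.node (.leaf [-2, 0, -1, -1, 1, 1]) (.leaf [-7114, 11266, 4458, 2957, 7564, 5097, -5922, -1511, -1764, -1102, -1292, 30, 6, 0, -1])))))) (.node (.node (.node (.node (.node (.leaf [-1, 0, 0, -1, 0, 1]) (.leaf [-46, -1926, -603, -1571, -1233, 263, 984, 369, 265, 196, 167, -28, -6, 1])) (.node (.leaf [1, 0, 1, 0, -1]) (.leaf [-287030, 308590, 25090, 62057, 264745, 199904, -174515, -57612, -19490, -41296, -33470, 2273, -4700,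 1, -1, -1, -1]))) (.node (.node (.leaf [1]) (.leaf [-239199, 284644, 37863, 75773, 235909, 181579, -177668, -58622, -13262, -35722, -30596, 74, -4194, 0, 0, -1, -1])) (.node (.leaf [1]) (.leaf [-250, -432, 441, -4, -248, 174, -202, 194, 43, 12, -37, 6, -2])))) (.node (.node (.node (.leaf [1, 0, 1, 0, -1]) (.leaf [1])) (.node (.leaf [2, -2, 3, 1, -3, -1, 0, 1]) (.leaf [1]))) (.node (.node (.leaf [-1, 0, 0, -1, 0, 1]) (.leaf [8667, -13478, -5478, -2713, -8590, -6475, 6648, 1737, 2186, 1376, 1546, -84, -22, 0, 1])) (.node (.leaf [112, -62, -41, 39, -38, -88, 35, 2, 14, 10, 8, -3]) (.leaf [18048, -11960, 3633, 1059, -14765, -10091, 6268, 2270, 1106, 1366, 1222, -88, 104, 0, 1]))))) (.node (.node (.node (.node (.leaf [-2, 0, -1, -1, 1, 1]) (.leaf [1, 0, 0, 1, 0, -1])) (.node (.leaf [-727, 932, 236, 141, 682, 592, -537, -178, -116, -76, -74, -21, -1]) (.leaf [769, -186, -1073, 150, 105, -960, 766, -31, 77, -26, 25, 49, -1]))) (.node (.node (.leaf [0, 0, -1, 0, 1]) (.leaf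 [-910, 564, 355, -241, 445, 678, -359, -23, -136, -39, -84, 1, -1])) (.node (.leaf [0, 0, 0, -1, 0, 1]) (.leaf [32275, -51802, -5259, 8951, -40496, -16224, 9765, 7724, 15218, -112, 4205, 294, -1428, 0, -1, 0, -1])))) (.node (.node (.node (.leaf [1, 0, 0, 1, 0, -1]) (.leaf [-3317, 2654, 1194, -394, 2016, 2485, -1603, -279, -518, -218, -286, -27, 1])) (.node (.leaf [1, 0, 1, 0, -1]) (.leaf [69, -12, -35, 39, -20, -52, 23, -5, 8, -4, 8, -1]))) (.node (.node (.leaf []) (.leaf [1, 0, 1, 0, -1])) (.node (.leaf [1]) (.leaf [17, -4, -9, 5, -5, -15, 10, 0, 0, 0, 2])))))))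

def twoL197 : Janko.Tree (List ℤ) :=
  (.node (.node (.node (.node (.node (.node (.leaf []) (.leaf [0, 2, 2, 0, 0, 0, 0, 0, -1])) (.node (.leaf [-4, 11, -6, 0, 10, 2, -2, -4, -1]) (.leaf [0, 1]))) (.node (.node (.leaf [0, 1]) (.leaf [0, 1])) (.node (.leaf [0, 1]) (.leaf [0, 1])))) (.node (.node (.node (.leaf [0, 1]) (.leaf [16984, -14522, -3192, 1122, -12734, -10646, 7046, 1568, 2666, 1411, 1788, -158, -14, -1, 1])) (.node (.leaf []) (.leaf [52408, 131346, -46248, 56200, 81098, -41086, -1354, -41430, -13341, -6737, -4022, -758, 615, -1, 1, 0, 1]))) (.node (.node (.leaf []) (.leaf [0, 1])) (.node (.leaf []) (.leaf [-61383, -24573, -14365, -16190, 7856, 35820, -9318, 7457, 9755, -4249, 231, 1166, -2073, 1, -1, -1, -1]))))) (.node (.node (.node (.node (.leaf [454, -370, -59, 151, -270, -332, 115, 46, 78, 32, 28, 0, 1]) (.leaf [-788, 960, 593, 47, 534, 622, -485, -66, -202, -95, -120, 2, 1])) (.node (.leaf []) (.leaf []))) (.node (.node (.leaf []) (.leaf [9604, -13818,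 -4704, -1348, -9068, -7476, 6372, 1968, 2151, 1303, 1564, -62, -15, -1, 1])) (.node (.leaf [48540, -8460, -13414, 4796, -15065, -33451, 20807, -2913, -305, 3930, 3524, -623, 617, -1, 0, 1, 1]) (.leaf [-480, 665, 321, 51, 399, 397, -330, -78, -114, -60, -81, 1])))) (.node (.node (.node (.leaf [0, 1]) (.leaf [])) (.node (.leaf []) (.leaf []))) (.node (.node (.leaf [0, 1]) (.leaf [0, 1])) (.node (.leaf [280, -126, -53, 75, -142, -166, 81, 2, 44, 4, 12, 0, 1]) (.leaf [-118, -45, 565, -29, -166, 132, -163, 122, -77, 13, -52, 6, 11])))))) (.node (.node (.node (.node (.node (.leaf [0, -14, 4, -2, -8, 0, 0, 4, 2, 1]) (.leaf [-1378, 77, 133, -851, 278, 956, -109, 110, -112, 3, -38, 0, -1])) (.node (.leaf []) (.leaf [514, -1008, -287, -223, -552, -534, 489, 202, 110, 101, 58, 26, 7]))) (.node (.node (.leaf []) (.leaf [0, 2, 0, 2, 0, 0, 0, 0, 0, -1])) (.node (.leaf [868, -616, 221, 235, -654, -548, 189, 127, 69, 69, 50, -10, 3]) (.leaf [2680, 12141, 8526, 5528, 2329, 1631, -5123,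 -2119, -1703, -1114, -1230, 29, 67, 0, 0, 1])))) (.node (.node (.node (.leaf []) (.leaf [])) (.node (.leaf []) (.leaf [-682, 1661, 1299, 483, 566, 882, -993, -207, -293, -155, -144, -32, 1]))) (.node (.node (.leaf [2, -1, 0, 0, 0, -2, 0, 0, 0, 1]) (.leaf [])) (.node (.leaf []) (.leaf [0, 1]))))) (.node (.node (.node (.node (.leaf [1062, -208, 265, 441, -548, -522, 71, -8, 79, 22, 28, -16, -1]) (.leaf [-2860, -12486, -5614, -6580, -3702, -1226, 5112, 2804, 916, 1423, 1176, -86, 10, 0, 0, -1])) (.node (.leaf [0, 1]) (.leaf [0, 1]))) (.node (.node (.leaf []) (.leaf [0, 1])) (.node (.leaf []) (.leaf [-756, -126, -43, -303, 216, 404, -123, 78, -16, 10, -10, 0, 1])))) (.node (.node (.node (.leaf [164, 1, -47, 19, -52, -108, 81, -12, 2, -1, 6, 4, 1]) (.leaf [0, 1])) (.node (.leaf []) (.leaf [15446, -14406, -3024, 438, -12334, -9740, 6846, 1706, 2517, 1385, 1752, -144, -13, -1, 1]))) (.node (.node (.leaf [0, 1]) (.leaf [])) (.node (.leaf []) (.leaf [0, 1])))))))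

def twoL198 : Janko.Tree (List ℤ) :=
  (.node (.node (.node (.node (.node (.node (.leaf [0, 0, 0, -1, 0, 0, 1]) (.leaf [0, 0, 1])) (.node (.leaf [0, 0, 1]) (.leaf []))) (.node (.node (.leaf []) (.leaf [])) (.node (.leaf []) (.leaf [16452, -57582, -18154, -12777, -31336, -16172, 20741, 10112, 9131, 4332, 5444, -28, -200, 0, 1, -1])))) (.node (.node (.node (.leaf []) (.leaf [0, 0, 0, -1, 0, 0, 1])) (.node (.leaf [0, 0, 0, -1, 0, 0, 1]) (.leaf [0, 0, 1]))) (.node (.node (.leaf [0, 0, 1]) (.leaf [])) (.node (.leaf [0, 0, 1]) (.leaf [32632, -20268, -12556, 2745, -17777, -23555, 16762, 1366, 3699, 2043, 3045, -61, 42, 1, 0, -1]))))) (.node (.node (.node (.node (.leaf [0, 0, 0, -1, 0, 0, 1]) (.leaf [0, -2, -1, 0, 0, 0, 0, 0, 1])) (.node (.leaf [-102, 22, 46, -43, 18, 67, -22, 12, -16, -5, -6, 3, 1]) (.leaf [0, 0, 1]))) (.node (.node (.leaf [81, -16, -32, 21, -23, -49, 24, -10, 11, 2, 5]) (.leaf [0, 0, 1])) (.node (.leaf [0, 0, 1]) (.leaf [0, 0, 1])))) (.node (.node (.node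 (.leaf []) (.leaf [-4, 0, -1, -1, 2, 2, -1])) (.node (.leaf [0, 0, 1]) (.leaf [0, 0, 0, -1, 0, 0, 1]))) (.node (.node (.leaf []) (.leaf [])) (.node (.leaf [0, 0, 0, -1, 0, 0, 1]) (.leaf [4, -6, 2, 1, -2, -2, -3, 0, 1, 1, 0, 0, 1])))))) (.node (.node (.node (.node (.node (.leaf [0, 0, 1, 1, 0, 0, -1]) (.leaf [-4, -2, -3, -2, 2, 2, 0, 0, 1])) (.node (.leaf [0, 0, 1]) (.leaf [4, -2, 1, 2, -2, -2, 0, 0, 1]))) (.node (.node (.leaf [-5, 2, 0, -1, 3, 2, -1, 0, -1]) (.leaf [-1384, 788, 719, -380, 509, 1019, -503, 38, -258, -66, -106, -4, 2])) (.node (.leaf []) (.leaf [0, 0, 1])))) (.node (.node (.node (.leaf [0, 0, 1]) (.leaf [-12, -218, -75, -26, -66, -51, 41, 41, 26, 18, 24])) (.node (.leaf [0, 0, 1]) (.leaf []))) (.node (.node (.leaf [0, 0, 1, 1, 0, 0, -1]) (.leaf [0, -2, -2, 0, 0, 0, 0, 0, 1])) (.node (.leaf [0, 0, 0, -1, 0, 0, 1]) (.leaf [50438, -38598, -9414, 1677, -35684, -33806, 24167, 4985, 5554, 4086, 4779, -238, 133, 0, 1, -1]))))) (.node (.node (.node (.node (.leaf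 [0, 0, 0, -1, 0, 0, 1]) (.leaf [636, 688, 527, 581, 9, -209, -262, -151, -84, -43, -54, -13, 1])) (.node (.leaf [-698, 910, 245, 151, 656, 574, -529, -172, -112, -76, -73, -21, -1]) (.leaf [1123, -272, -1242, 295, 17, -1213, 872, -65, 121, -20, 57, 44, -1]))) (.node (.node (.leaf [0, 0, 1]) (.leaf [-1272, 862, 533, -319, 646, 954, -517, -42, -207, -59, -123, 1, -1])) (.node (.leaf [688, -314, -327, -22, -295, -397, 323, -42, 107, 49, 44, 0, -1]) (.leaf [0, 0, 0, -1, 0, 0, 1])))) (.node (.node (.node (.leaf [6, -2, -1, 2, -2, -4, 2, 0, 1]) (.leaf [])) (.node (.leaf [0, 0, 1]) (.leaf [0, 0, 1]))) (.node (.node (.leaf []) (.leaf [0, 0, 1])) (.node (.leaf [4338, -1510, -1970, 1254, -1543, -2875, 1545, -284, 607, 125, 394, -70, -17]) (.leaf [-445, 238, 211, -27, 212, 321, -242, -3, -49, -26, -41])))))))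

def twoL199 : Janko.Tree (List ℤ) :=
  (.node (.node (.node (.node (.node (.node (.leaf [0, 0, 0, 1]) (.leaf [688, 474, -381, 310, 240, -412, 106, -252, 12, 8, 5, -11, 1])) (.node (.leaf []) (.leaf []))) (.node (.node (.leaf []) (.leaf [50, 0, -47, 28, -11, -37, 26, -8, 8, -7, 8, -1])) (.node (.leaf []) (.leaf [20560, -65758, -21964, -13906, -35857, -19664, 24331, 11298, 10823, 4792, 6138, 44, -216, 0, 1, -1])))) (.node (.node (.node (.leaf []) (.leaf [0, 0, 0, 1])) (.node (.leaf [0, 0, 0, 1]) (.leaf [98, -62, -73, 38, -41, -77, 46, 0, 23, -2, 11, -1]))) (.node (.node (.leaf []) (.leaf [])) (.node (.leaf [-177, 46, -50, -63, 111, 101, -37, -11, -4, -1, -8, 1]) (.leaf [0, 0, 0, 1]))))) (.node (.node (.node (.node (.leaf [0, 0, 0, 1]) (.leaf [0, 0, 0, 1])) (.node (.leaf [0, 0, 0, 1]) (.leaf [-1612, 1048, 936, -277, 671, 1237, -760, 0, -282, -95, -142, -6, 1]))) (.node (.node (.leaf [0, 0, 0, 1]) (.leaf [336, -96, -158, 143, -97, -243, 107, -23, 42, 4, 32, -7])) (.node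 (.leaf [-338, 100, 154, -144, 101, 245, -107, 21, -42, -4, -32, 7]) (.leaf [-26864, -2406, 12650, -6567, 1652, 18640, -9495, 4742, -246, -1684, -2004, 548, -153, 1, 0, -1])))) (.node (.node (.node (.leaf []) (.leaf [0, 0, 0, 1])) (.node (.leaf []) (.leaf [0, 0, 0, 1]))) (.node (.node (.leaf []) (.leaf [])) (.node (.leaf [0, 0, 0, 1]) (.leaf [0, 0, 0, 1])))))) (.node (.node (.node (.node (.node (.leaf [0, 0, 0, 1]) (.leaf [0, 0, 0, 1])) (.node (.leaf []) (.leaf [0, 0, 0, 1]))) (.node (.node (.leaf []) (.leaf [0, 0, 0, 1])) (.node (.leaf [-70, 10, 33, -39, 21, 51, -22, 6, -8, 4, -8, 1]) (.leaf [11593, 55442, 11424, 19560, 22818, -2466, -10022, -11902, -8151, -3771, -4132, 62, 173, 0, 0, 1])))) (.node (.node (.node (.leaf []) (.leaf [])) (.node (.leaf []) (.leaf [-70, 10, 33, -39, 21, 51, -22, 6, -8, 4, -8, 1]))) (.node (.node (.leaf [0, 0, 0, 1]) (.leaf [0, 0, 0, 1])) (.node (.leaf [0, 0, 0, 1]) (.leaf []))))) (.node (.node (.node (.node (.leaf [0, 0, 0, 1]) (.leaf [0,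 0, 0, 1])) (.node (.leaf [3310, -2650, -1209, 391, -2006, -2484, 1606, 276, 518, 218, 287, 27, -1]) (.leaf [945, -232, -1160, 225, 63, -1089, 819, -47, 99, -22, 41, 46, -1]))) (.node (.node (.leaf []) (.leaf [-526, 294, 167, -153, 258, 392, -200, -16, -65, -19, -47, 1, -1])) (.node (.leaf [0, 0, 0, 1]) (.leaf [0, 0, 0, 1])))) (.node (.node (.node (.leaf [0, 0, 0, 1]) (.leaf [-746, 552, 265, -510, 261, 601, -39, -6, -198, -21, -46, -6, 1])) (.node (.leaf []) (.leaf [74, -8, -34, 41, -21, -53, 23, -7, 8, -4, 8, -1]))) (.node (.node (.leaf []) (.leaf [])) (.node (.leaf [420, -104, -89, 114, -168, -222, 101, -30, 56, 11, 22, -7]) (.leaf [22927, -11426, -8238, 2256, -11380, -16347, 11551, 459, 2031, 1232, 1953, -12, 50, 1, 0, -1])))))))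

def twoL200 : Janko.Tree (List ℤ) :=
  (.node (.node (.node (.node (.node (.node (.leaf []) (.leaf [-1037, -1482, -286, -829, -381, 362, 251, 426, 132, 80, 75, 27, 1])) (.node (.leaf [1, 0, 0, 1, 0, -1]) (.leaf [1]))) (.node (.node (.leaf []) (.leaf [])) (.node (.leaf [0, 0, -1, 0, 1]) (.leaf [0, 0, -1, 0, 1])))) (.node (.node (.node (.leaf [1]) (.leaf [100, 4, -31, 56, -25, -70, 24, -13, 4, -4, 12, -1])) (.node (.leaf [1402, -2092, 1893, 584, -2197, -548, -156, 754, 310, 66, -78, -4, -2, 0, 0, -1]) (.leaf [0, 0, 0, -1, 0, 1]))) (.node (.node (.leaf [-4, -6, 3, -1, -3, 1, 0, 3]) (.leaf [1])) (.node (.leaf [-2, 6, -7, -2, 7, 2, 0, -3]) (.leaf [-3, -4, 3, -3, -3, 3, 0, 2]))))) (.node (.node (.node (.node (.leaf [-7, -6, -1, -1, 1, 1, 0, 3]) (.leaf [0, 0, 0, -1, 0, 1])) (.node (.leaf [-4, -6, 3, -2, -3, 2, 0, 3]) (.leaf [-109, 140, -126, 0, 154, 67, -29, -57, 2, -11, 4, -3, -5]))) (.node (.node (.leaf []) (.leaf [0, 0, 0, -1, 0, 1])) (.node (.leaf [212939, -78440, 22204,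 32157, -127285, -130594, 72477, 12185, 3980, 10523, 10075, 210, 2247, -1, 1, 1, 1]) (.leaf [-62156, -43094, -30705, -15498, 6588, 32525, -7123, 8629, 16069, -3794, 1801, 1092, -2250, 1, -1, -1, -1])))) (.node (.node (.node (.leaf [68, -18, -38, 36, -21, -51, 23, -5, 10, -3, 8, -1]) (.leaf [])) (.node (.leaf [-1, 0, 0, -1, 0, 1]) (.leaf [6763, -9950, -3366, -2261, -7121, -4560, 5019, 1333, 1566, 957, 1175, -49, -7, 0, 1]))) (.node (.node (.leaf [503, -706, -461, -91, -374, -422, 383, 62, 142, 64, 84, 1]) (.leaf [-36, 80, 68, -22, 15, 57, -27, -8, -18, -4, -10])) (.node (.leaf [1]) (.leaf [-23326, 13452, 1352, -1799, 15578, 13817, -9002, -1346, -2040, -1560, -1832, 144, -92, 0, -1])))))) (.node (.node (.node (.node (.node (.leaf [5, -2, 4, 3, -4, -3, 0, 1]) (.leaf [])) (.node (.leaf [-73, 4, 39, -38, 17, 52, -24, 9, -8, 4, -8, 1]) (.leaf [-450612, 595488, 10540, 127691, 491929, 311854, -287689, -121827, -42050, -71708, -57939, 3181, -7401, 1, -1, -1, -1]))) (.node (.node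 (.leaf [1, 0, 0, 1, 0, -1]) (.leaf [-80242, -46714, -23405, -3186, 11472, 51567, -31357, 7006, 23248, -5275, 1615, -19, -3218, 0, 0, -1, -1])) (.node (.leaf [1, 0, 1, 0, -1]) (.leaf [-293, 98, 91, -65, 123, 179, -102, 13, -38, -7, -18, 1])))) (.node (.node (.node (.leaf [-215, 390, 303, 62, 163, 210, -206, -32, -84, -32, -46, -1]) (.leaf [-151, -154, 2, -62, -11, 57, -27, 43, 8, 16, 10])) (.node (.leaf [-70, 2, 27, -41, 25, 49, -24, 5, -6, 7, -8, 1]) (.leaf [1, 0, 1, 0, -1]))) (.node (.node (.leaf [1, -2, 1, 1, -1, -1, 0, 1]) (.leaf [3, 0, 1, 1, -1, -1])) (.node (.leaf [0, 2, -1, -1, 1, 1, 0, -1]) (.leaf [-958, 51808, 21976, 14690, 21188, 7377, -16131, -9104, -9216, -3200, -4616, -84, 316, 0, 0, 1]))))) (.node (.node (.node (.node (.leaf [1, 2, 0, -1, 0, 1, 0, -1]) (.leaf [2, -2, 3, 0, -3, 0, 0, 1])) (.node (.leaf [4095, -3354, -1600, 323, -2552, -3127, 2180, 378, 620, 266, 367, 47, -1]) (.leaf [98031, -274392, -34738, -80289, -187017, -85730, 119107, 62672, 28005,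 21577, 23063, 1623, 256, 0, 0, -1, -1]))) (.node (.node (.leaf [2, 0, 0, 1, 0, -1]) (.leaf [-3286, 2550, 1268, -388, 1906, 2497, -1613, -245, -496, -222, -286, -27, 1])) (.node (.leaf [-58, 26, 48, -5, 17, 42, -33, 5, -11, -2, -5]) (.leaf [1])))) (.node (.node (.node (.leaf []) (.leaf [-117, 16, -127, -39, 127, 34, -9, -21, 8, 7, -2, 1, -1])) (.node (.leaf [-1, 0, 0, -1, 0, 1]) (.leaf [0, 0, 0, -1, 0, 1]))) (.node (.node (.leaf [1]) (.leaf [-1, 0, 0, -1, 0, 1])) (.node (.leaf []) (.leaf [-61, 10, 39, -31, 18, 46, -25, 6, -8, 4, -8, 1])))))))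

def twoL201 : Janko.Tree (List ℤ) :=
  (.node (.node (.node (.node (.node (.node (.leaf [0, 1]) (.leaf [])) (.node (.leaf []) (.leaf [112, -261, -27, -47, -174, -64, 67, 43, 46, 21, 20, 0, 1]))) (.node (.node (.leaf [0, 1]) (.leaf [0, 1])) (.node (.leaf []) (.leaf [16982, -14522, -3198, 1118, -12735, -10649, 7055, 1570, 2664, 1410, 1789, -158, -14, -1, 1])))) (.node (.node (.node (.leaf []) (.leaf [0, 1])) (.node (.leaf [0, 1]) (.leaf [82839, -40968, -18577, -6600, -42622, -63297, 48255, 4986, -2434, 9583, 7111, -557, 1795, -1, 1, 0, 1]))) (.node (.node (.leaf []) (.leaf [])) (.node (.leaf [0, 1]) (.leaf [0, 1]))))) (.node (.node (.node (.node (.leaf []) (.leaf [])) (.node (.leaf [0, 1]) (.leaf [0, 1]))) (.node (.node (.leaf [0, 1]) (.leaf [14848, -19314, 2064, -2776, -17291, -8957, 7707, 3989, 1923, 1929, 1732, -21, 105, -1, 1])) (.node (.leaf [0, 1]) (.leaf [0, 2, 0, 2, 0, 0, 0, 0, 0, -1])))) (.node (.node (.node (.leaf []) (.leaf [0, 1])) (.node (.leaf [0, 2, 0,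 2, 0, 0, 0, 0, 0, -1]) (.leaf [0, 1]))) (.node (.node (.leaf []) (.leaf [0, 1])) (.node (.leaf [103, -172, 50, 27, -121, -78, 17, 43, 21, 16, 5, 0, 1]) (.leaf [-39773, 59789, 9804, 13365, 44241, 28964, -28841, -10962, -6148, -6616, -6040, 286, -414, 0, -1, 1])))))) (.node (.node (.node (.node (.node (.leaf [0, 1]) (.leaf [0, 1])) (.node (.leaf [4, 3, 0, 2, -2, -2, 2, 0, 0, -1]) (.leaf [0, 1]))) (.node (.node (.leaf [-870, 615, -221, -239, 652, 550, -187, -126, -69, -69, -50, 10, -3]) (.leaf [0, 1])) (.node (.leaf []) (.leaf [])))) (.node (.node (.node (.leaf [-4, -6, -4, -2, 2, 2, -2, 0, 2, 1]) (.leaf [6, -6, 4, 0, -8, -2, 2, 2, 1])) (.node (.leaf []) (.leaf [1986, 1513, -378, 932, 174, -788, 108, -678, 8, -78, 40, -48, 0, 0, 0, 0, -1]))) (.node (.node (.leaf [0, 1]) (.leaf [])) (.node (.leaf []) (.leaf []))))) (.node (.node (.node (.node (.leaf []) (.leaf [0, 1])) (.node (.leaf [0, 1]) (.leaf [0, 1]))) (.node (.node (.leaf []) (.leaf [0, 1])) (.node (.leaf []) (.leaf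 [-546, 354, -407, 39, 582, 126, -81, -85, -28, -71, -22, 26, 3])))) (.node (.node (.node (.leaf [0, 1]) (.leaf [])) (.node (.leaf [-2, 2, 0, 0, 0, 2, 0, 0, 0, -1]) (.leaf [13988, -19810, -5716, -1132, -13451, -10365, 8239, 2773, 3193, 1837, 2310, -169, -39, -1, 1]))) (.node (.node (.leaf []) (.leaf [69, -50, -31, 12, -35, -48, 28, 2, 14, 4, 5])) (.node (.leaf [0, 1]) (.leaf [12283, 21389, -15878, 9267, 15847, -10266, 2375, -8786, -1564, -246, 344, -490, 48, 0, -1, 1])))))))

def twoL202 : Janko.Tree (List ℤ) :=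
  (.node (.node (.node (.node (.node (.node (.leaf []) (.leaf [834, -1042, -562, -45, -592, -654, 495, 88, 212, 104, 119, -1, -1])) (.node (.leaf [0, 0, 1, 1, 0, 0, -1]) (.leaf []))) (.node (.node (.leaf []) (.leaf [])) (.node (.leaf [0, 0, 1]) (.leaf [0, 0, 1])))) (.node (.node (.node (.leaf []) (.leaf [])) (.node (.leaf [-14068, -17376, -11785, -11318, -544, 4220, 4978, 3798, 2522, 1124, 1308, 90, -154, 0, 0, -1]) (.leaf [1, -2, 0, 0, -1, 0, 0, 0, 1]))) (.node (.node (.leaf [0, 0, 1, 1, 0, 0, -1]) (.leaf [-256, 92, 204, -72, 47, 201, -119, 26, -42, -9, -25, 3, 1])) (.node (.leaf [32, -8, 10, 14, -19, -19, 5, 2, 1, 0, 1]) (.leaf [-95, 46, 59, -23, 31, 77, -46, 3, -13, -4, -9]))))) (.node (.node (.node (.node (.leaf [0, 0, 1]) (.leaf [-1, 2, 1, 0, 1, 0, 0, 0, -1])) (.node (.leaf [-7, -4, 12, 0, -3, 5, -5, 4, -1, 0, -1]) (.leaf []))) (.node (.node (.leaf []) (.leaf [34, -130, -503, -68, 159, -277, 289, 6, 7, 19, 24, 12, -3])) (.node (.leaf [4, -2, -1, 1, -2, -2, 1,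 0, 1]) (.leaf [31736, -20086, -12267, 2260, -17554, -22830, 16496, 1388, 3618, 2056, 3000, -64, 45, 1, 0, -1])))) (.node (.node (.node (.leaf [0, 0, 1]) (.leaf [4, -2, 0, 1, -2, -2, 1, 0, 1])) (.node (.leaf [0, 0, 1, 1, 0, 0, -1]) (.leaf [-413, -264, -161, -191, 81, 160, -7, 70, 27, 18, 16, 0, 1]))) (.node (.node (.leaf [0, 0, 1]) (.leaf [-70, 112, 98, -52, 10, 103, -31, -8, -24, -10, -14])) (.node (.leaf [-5, 2, 0, -1, 3, 2, -1, 0, -1]) (.leaf [0, 0, 1])))))) (.node (.node (.node (.node (.node (.leaf []) (.leaf [])) (.node (.leaf [0, 0, 1, 1, 0, 0, -1]) (.leaf [0, 2, 7, 7, 0, 0, -7, 0, -1, -1, 0, 0, 1]))) (.node (.node (.leaf [484, 234, -40, 287, -44, -164, -23, -126, 63, -37, -4, -8, -5]) (.leaf [0, 2, 3, 1, 0, 0, -1, 0, -1])) (.node (.leaf [0, 0, 1]) (.leaf [-33669, 27026, 13245, -1045, 21532, 24462, -18241, -2686, -4601, -2721, -3638, 162, -29, 0, 0, 1])))) (.node (.node (.node (.leaf [0, 0, 1, 1, 0, 0, -1]) (.leaf [0, 0, 1])) (.node (.leaf [0, 0, 1, 1, 0, 0, -1])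 (.leaf [0, 0, 1]))) (.node (.node (.leaf []) (.leaf [0, 0, 0, -1, 0, 0, 1])) (.node (.leaf [0, 0, 1]) (.leaf [0, 0, 1]))))) (.node (.node (.node (.node (.leaf [0, 0, 1]) (.leaf [181, -82, -61, 52, -80, -125, 65, -1, 25, 4, 13])) (.node (.leaf [2235, -1454, -843, 293, -1188, -1643, 1074, 107, 296, 136, 186, 5, -3]) (.leaf [158, -120, 71, 15, -133, -97, 40, 32, 7, 13, 0, 4, 4]))) (.node (.node (.leaf [-4, 0, -1, -1, 2, 2, -1]) (.leaf [])) (.node (.leaf [-174, 92, 142, -25, 59, 133, -96, 12, -31, -6, -21]) (.leaf [19329, -74684, 26225, 1149, -63442, 932, -431, 17835, 17155, 104, 3177, 579, -1508, 0, -1, 0, -1])))) (.node (.node (.node (.leaf []) (.leaf [22, -2, 3, 5, -12, -11, 6, -1, 1, 0, 1])) (.node (.leaf [0, 0, 1, 1, 0, 0, -1]) (.leaf [888, 162, 1385, 1018, -741, -67, -723, -10, 41, -79, 2, -32, -3]))) (.node (.node (.leaf []) (.leaf [0, 0, 1, 1, 0, 0, -1])) (.node (.leaf []) (.leaf [0, 0, 1])))))))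

def twoL203 : Janko.Tree (List ℤ) :=
  (.node (.node (.node (.node (.node (.node (.leaf []) (.leaf [0, 0, 0, 1])) (.node (.leaf [0, 0, 0, 1]) (.leaf [-68, 14, 33, -37, 23, 51, -24, 4, -8, 4, -8, 1]))) (.node (.node (.leaf []) (.leaf [])) (.node (.leaf []) (.leaf [])))) (.node (.node (.node (.leaf [-225, 126, 153, -75, 85, 179, -106, 2, -44, 0, -22, 1]) (.leaf [110, 4, -25, 62, -31, -75, 24, -13, 4, -4, 12, -1])) (.node (.leaf []) (.leaf [0, 0, 0, 1]))) (.node (.node (.leaf [0, 0, 0, 1]) (.leaf [-92, 20, 33, -44, 27, 66, -24, 7, -10, 0, -8, 1])) (.node (.leaf []) (.leaf [83097, -411292, -71341, -97944, -245957, -86704, 136552, 89477, 60292, 22320, 31829, 3476, -1748, 1, 0, -1, -1]))))) (.node (.node (.node (.node (.leaf []) (.leaf [0, 0, 0, 1])) (.node (.leaf []) (.leaf [-129, 138, -138, -8, 162, 75, -25, -54, 2, -12, 4, -4, -5]))) (.node (.node (.leaf []) (.leaf [0, 0, 0, 1])) (.node (.leaf [64771, 74140, 142736, 20879, -39235, 5851, -35741, -4671, -28686, 4285, -8219,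 -2804, 3025, -1, 1, 1, 1]) (.leaf [0, 0, 0, 1])))) (.node (.node (.node (.leaf [124, -28, -97, 67, -28, -103, 53, -14, 18, -7, 18, -1]) (.leaf [])) (.node (.leaf [0, 0, 0, 1]) (.leaf [-425, -260, -165, -193, 85, 164, -4, 72, 25, 16, 16, 0, 1]))) (.node (.node (.leaf [638, -754, -490, -53, -439, -513, 433, 62, 154, 66, 94, 1]) (.leaf [])) (.node (.leaf []) (.leaf [])))))) (.node (.node (.node (.node (.node (.leaf []) (.leaf [])) (.node (.leaf [0, 0, 0, 1]) (.leaf [-54, -36, -162, -27, 85, -17, 29, -14, 18, 7, 6, 1]))) (.node (.node (.leaf [0, 0, 0, 1]) (.leaf [])) (.node (.leaf []) (.leaf [0, 0, 0, 1])))) (.node (.node (.node (.leaf [0, 0, 0, 1]) (.leaf [])) (.node (.leaf [0, 0, 0, 1]) (.leaf []))) (.node (.node (.leaf []) (.leaf [0, 0, 0, 1])) (.node (.leaf []) (.leaf [-88, 1988, 1148, 1329, 991, 201, -1158, -324, -250, -186, -234, 6, -6]))))) (.node (.node (.node (.node (.leaf []) (.leaf [])) (.node (.leaf [163, 150, -117, 113, 56, -115, 47, -61, -2, -20, 10, -1,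 -1]) (.leaf [432, 140, 259, 123, -191, -145, 17, -28, -19, -5, -26, 6, 2]))) (.node (.node (.leaf [0, 0, 0, 1]) (.leaf [])) (.node (.leaf [0, 0, 0, 1]) (.leaf [68, -10, -37, 33, -17, -49, 22, -8, 8, -2, 8, -1])))) (.node (.node (.node (.leaf []) (.leaf [0, 0, 0, 1])) (.node (.leaf [0, 0, 0, 1]) (.leaf [0, 0, 0, 1]))) (.node (.node (.leaf []) (.leaf [0, 0, 0, 1])) (.node (.leaf []) (.leaf [-60, 10, 38, -31, 17, 45, -23, 6, -8, 4, -8, 1])))))))

def twoL204 : Janko.Tree (List ℤ) :=
  (.node (.node (.node (.node (.node (.node (.leaf [1]) (.leaf [3, -2, 3, 2, -3, -2, 0, 1])) (.node (.leaf []) (.leaf [1, 0, 1, 0, -1]))) (.node (.node (.leaf [1]) (.leaf [-27, 38, -1, -1, 14, 24, -5, -6, -4, -10, 0, 1])) (.node (.leaf [2, 0, 0, 1, 0, -1]) (.leaf [2, 0, 0, 1, 0, -1])))) (.node (.node (.node (.leaf [1, 0, 1, 0, -1]) (.leaf [1])) (.node (.leaf [1]) (.leaf [73067, -42956, -19295, -11671, -40473, -57959, 47720, 6284, -2626, 9636, 6865, -466, 1785, 0, 0, 0, 1]))) (.node (.node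 (.leaf []) (.leaf [-451, 160, 207, -122, 150, 309, -169, 24, -64, -13, -31, 3, 1])) (.node (.leaf [0, 0, 0, -1, 0, 1]) (.leaf [-18, -12, 18, -1, -10, 13, -8, 8, 0, -2]))))) (.node (.node (.node (.node (.leaf [-11, -6, -2, -4, 2, 4, 0, 3]) (.leaf [])) (.node (.leaf [0, 0, 0, -1, 0, 1]) (.leaf [-7, 8, -11, -4, 11, 4, 0, -4]))) (.node (.node (.leaf [67, -46, -99, 36, -10, -77, 49, -3, 16, -3, 14, -1]) (.leaf [-238894, 286878, 38780, 76563, 236648, 181933, -178476, -59141, -13532, -35876, -30756, 54, -4188, 0, 0, -1, -1])) (.node (.leaf [-156, 44, 77, -69, 46, 114, -51, 11, -20, 0, -16, 3]) (.leaf [285, -220, -201, 203, -51, -303, 70, 3, 61, 15, 31, 1, -1])))) (.node (.node (.node (.leaf [-6, -2, -1, -4, 1, 4, 0, 1]) (.leaf [-2, 0, -1, -1, 1, 1])) (.node (.leaf []) (.leaf [1]))) (.node (.node (.leaf [13, -6, 16, 2, -15, -1, -1, 3, 1, 0, -1]) (.leaf [0, 0, 0, -1, 0, 1])) (.node (.leaf [1, 0, 0, 1, 0, -1]) (.leaf [-23326, 13452, 1351, -1798, 15579, 13816, -9002, -1346, -2040,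 -1560, -1832, 144, -92, 0, -1])))))) (.node (.node (.node (.node (.node (.leaf [0, 0, -1, 0, 1]) (.leaf [1])) (.node (.leaf [0, -2, 0, 1, 0, -1, 0, 1]) (.leaf [1]))) (.node (.node (.leaf [112, -30, 8, 38, -55, -65, 23, 1, 9, 2, 3]) (.leaf [78, 490, -625, 80, 543, -321, 253, -157, -82, -10, 0, 7, -3])) (.node (.leaf [-71, 10, 35, -38, 21, 52, -24, 6, -8, 4, -8, 1]) (.leaf [-220, -696, -26, -30, -240, -47, 51, 229, 90, 3, 16, 9, 1])))) (.node (.node (.node (.leaf [1]) (.leaf [1, 0, 0, 1, 0, -1])) (.node (.leaf [-68, 30, 28, -18, 27, 49, -27, 1, -9, -2, -5]) (.leaf [-71, 10, 35, -38, 21, 52, -24, 6, -8, 4, -8, 1]))) (.node (.node (.leaf [0, 0, -1, 0, 1]) (.leaf [68, -10, -35, 38, -19, -50, 22, -6, 8, -4, 8, -1])) (.node (.leaf [-60, -2, 45, -33, 13, 43, -26, 9, -8, 7, -8, 1]) (.leaf [59112, 87114, 49907, 25211, 11311, -24717, -5342, -15515, -24124, 892, -6342, -996, 2528, 0, 0, 1, 1]))))) (.node (.node (.node (.node (.leaf [1, 2, -1, 0, 1, 0, 0, -1]) (.leaf [0, 0, 0,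 -1, 0, 1])) (.node (.leaf [1]) (.leaf [-27567, -224476, -31424, -96480, -115478, -8270, 72018, 58016, 22196, 14798, 15660, 1982, -414, 0, -1, 0, -1]))) (.node (.node (.leaf []) (.leaf [152, -66, -64, 38, -62, -104, 58, -5, 22, 4, 12])) (.node (.leaf [-8941, 18494, 104, 3648, 13984, 5392, -6004, -3691, -2508, -1518, -1530, 4, -4, 0, -1]) (.leaf [-5, -2, -3, -2, 3, 0, 0, 0, 0, 0, 0, 1])))) (.node (.node (.node (.leaf [-127, 34, 72, -66, 43, 97, -47, 9, -18, 7, -16, 1]) (.leaf [-6, 8, -11, -3, 11, 3, 0, -4])) (.node (.leaf []) (.leaf [9671, -9006, -2438, -509, -7794, -5979, 4864, 999, 1570, 890, 1122, -70, -8, 0, 1]))) (.node (.node (.leaf [1, 0, 1, 0, -1]) (.leaf [149554, -45438, 61504, 6870, -100959, -79891, 42181, 12056, -9727, 13404, 4970, -1378, 3394, -1, 1, 1, 1])) (.node (.leaf [1]) (.leaf [-68506, 371156, 38791, 86214, 231821, 68718, -114600, -85804, -53206, -17958, -26402, -3810, 1602, 0, 0, 1, 1])))))))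

def twoL205 : Janko.Tree (List ℤ) :=
  (.node (.node (.node (.node (.node (.node (.leaf []) (.leaf [0, 1])) (.node (.leaf [0, 1]) (.leaf [-21139, 33043, 8017, 7964, 22875, 16792, -17088, -5995, -3231, -3816, -3461, 192, -210, 0, -1, 1]))) (.node (.node (.leaf []) (.leaf [])) (.node (.leaf [210, -172, -109, 91, -99, -193, 84, 15, 35, 10, 27, -1]) (.leaf [])))) (.node (.node (.node (.leaf []) (.leaf [13140, -14800, 614, -24, -13045, -7891, 5371, 2617, 2173, 1310, 1338, -57, 19, -1, 1])) (.node (.leaf [28, -134, 79, 11, -90, -28, -9, 45, 9, 12, 0, 0, 1]) (.leaf [0, 1]))) (.node (.node (.leaf [0, 1]) (.leaf [-146456, -125472, -241784, -134366, 98123, -15907, 95265, 14029, 900, 26721, 20303, -2212, 2995, -1, 1, 1, 1])) (.node (.leaf [359, 991, 797, 366, 64, 139, -361, -170, -155, -62, -98, -13, 3]) (.leaf [0, 1]))))) (.node (.node (.node (.node (.leaf []) (.leaf [0, 1])) (.node (.leaf []) (.leaf [19238, -342429, -84896, -114396, -179226, -49460, 119104, 74930, 46461, 21430,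 27448, 2346, -1400, 1, -1, -1, -1]))) (.node (.node (.leaf []) (.leaf [0, 1])) (.node (.leaf []) (.leaf [101145, 11903, 4231, 52416, -30236, -55661, 12189, -9040, 7051, -4725, 510, 906, -653, 1, -1, -1, -1])))) (.node (.node (.node (.leaf [0, 1]) (.leaf [-320, 194, 191, -53, 144, 240, -161, 4, -52, -14, -36, 0, 1])) (.node (.leaf [0, 1]) (.leaf []))) (.node (.node (.leaf [0, 1]) (.leaf [-3284, -2380, 464, -1768, -266, 1358, -2, 1082, -32, 126, -66, 80, 0, 0, 0, 0, 1])) (.node (.leaf []) (.leaf [-27591, 17821, 2199, -2616, 18836, 16823, -10519, -1888, -2816, -1980, -2362, 216, -80, 1, -1])))))) (.node (.node (.node (.node (.node (.leaf []) (.leaf [])) (.node (.leaf [0, 1]) (.leaf [-113, 264, 23, 46, 178, 63, -67, -45, -46, -21, -20, 1, -1]))) (.node (.node (.leaf [0, 1]) (.leaf [])) (.node (.leaf [0, 2, 0, 2, 0, 0, 0, 0, 0, -1]) (.leaf [0, 1])))) (.node (.node (.node (.leaf []) (.leaf [-15314, 22973, 2342, 1938, 17303, 10471, -8693, -4155, -3391, -1862, -2082, 7, -3,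 1, -1])) (.node (.leaf [0, 1]) (.leaf [-108512, 46565, -80372, 42624, 103352, 65476, -63540, -26068, 29602, -17940, -4536, 446, -4786, 1, 0, -1, -1]))) (.node (.node (.leaf [75, -36, -35, 16, -29, -52, 30, -2, 12, 3, 5]) (.leaf [0, 1])) (.node (.leaf []) (.leaf [0, -1, 0, -2, 0, 0, 0, 0, 0, 1]))))) (.node (.node (.node (.node (.leaf []) (.leaf [])) (.node (.leaf []) (.leaf []))) (.node (.node (.leaf [0, 1]) (.leaf [-71696, -334153, -79396, -134126, -144242, 2716, 92018, 79945, 43532, 18560, 23904, 2762, -1626, 1, -1, 0, -1])) (.node (.leaf [0, 1]) (.leaf [-143, 61, 61, -26, 59, 92, -58, 5, -22, -4, -9])))) (.node (.node (.node (.leaf []) (.leaf [0, 1])) (.node (.leaf [0, 1]) (.leaf []))) (.node (.node (.leaf []) (.leaf [0, 1])) (.node (.leaf [-6792, 344764, 45486, 111476, 191969, 35119, -103371, -82654, -43715, -19593, -24401, -3093, 1074, -1, 1, 0, 1]) (.leaf [0, 1])))))))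

def twoL206 : Janko.Tree (List ℤ) :=
  (.node (.node (.node (.node (.node (.node (.leaf []) (.leaf [])) (.node (.leaf []) (.leaf [0, 0, 1]))) (.node (.node (.leaf []) (.leaf [0, 0, 1])) (.node (.leaf [-4, 0, -1, -1, 2, 2, -1]) (.leaf [-4, 0, -1, -1, 2, 2, -1])))) (.node (.node (.node (.leaf [0, 0, 1]) (.leaf [-832, -1238, 366, -728, -560, 449, 47, 436, 67, 74, 0, 35, 7])) (.node (.leaf []) (.leaf [81554, -50008, -23744, -11277, -45637, -64165, 52422, 6779, -1160, 10275, 7875, -530, 1765, 0, 0, 0, 1]))) (.node (.node (.leaf []) (.leaf [0, 0, 1])) (.node (.leaf [-36, 14, 35, -15, 5, 41, -26, 0, -2, 0, -5]) (.leaf [-32, -2, 20, -7, -5, 25, -10, 7, -1, -4, -1]))))) (.node (.node (.node (.node (.leaf [0, 0, 1, 1, 0, 0, -1]) (.leaf [1106, 246, -591, 347, 8, -670, 315, -260, 83, 15, 50, -12, 1])) (.node (.leaf [-143, 54, 73, -21, 53, 93, -64, 8, -22, -4, -9]) (.leaf [107953, 128282, 203424, 122618, -64497, 27109, -95503, -18365, -219, -25592, -18445, 1528, -3048, 1, -1,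 -1, -1]))) (.node (.node (.leaf [0, 0, 1]) (.leaf [])) (.node (.leaf [0, 0, 0, -1, 0, 0, 1]) (.leaf [-66387, 10790, -21965, -14779, 31000, 34540, -6633, 953, 2007, -6409, -1791, 1262, -1417, 1, -1, -1, -1])))) (.node (.node (.node (.leaf [144, -8, -52, 36, -37, -97, 57, -14, 7, 2, 9]) (.leaf [0, 0, 0, -1, 0, 0, 1])) (.node (.leaf [-4, 2, -1, -3, 2, 2, 1, 0, -1]) (.leaf [-39475, 57210, 10445, 11944, 42193, 29156, -28200, -10330, -5930, -6344, -5895, 288, -394, 0, 0, 1]))) (.node (.node (.leaf [-63, 34, 54, -22, 16, 59, -33, 3, -9, -2, -9]) (.leaf [730, -730, -439, 168, -373, -641, 333, 56, 155, 67, 84, 2, 1])) (.node (.leaf [-2, 2, 0, 0, 2, 0, 0, 0, -1]) (.leaf [0, 0, 1, 1, 0, 0, -1])))))) (.node (.node (.node (.node (.node (.leaf [0, 0, 1]) (.leaf [64, -32, -32, 18, -25, -49, 27, -1, 9, 2, 6])) (.node (.leaf []) (.leaf [-151318, 155610, 2641, 45254, 142552, 109145, -102647, -34043, -1205, -23024, -16681, 535, -3387, 0, -1, 0, -1]))) (.node (.node (.leaf [19, 0, 17,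 12, -11, -7, -5, 0, 1, 0, -1]) (.leaf [0, 0, 1])) (.node (.leaf [0, 0, 1, 1, 0, 0, -1]) (.leaf [])))) (.node (.node (.node (.leaf []) (.leaf [0, 0, 1, 1, 0, 0, -1])) (.node (.leaf [556, -146, -216, 139, -189, -343, 190, -42, 71, 14, 37, -7]) (.leaf [0, 0, 1, 1, 0, 0, -1]))) (.node (.node (.leaf [0, 0, 1]) (.leaf [])) (.node (.leaf [0, 0, 1, 1, 0, 0, -1]) (.leaf [-96, 1980, 1149, 1326, 989, 203, -1157, -320, -250, -186, -234, 6, -6]))))) (.node (.node (.node (.node (.leaf [0, 0, 1, 1, 0, 0, -1]) (.leaf [-5, 12, -18, -5, 14, -1, 6, -5, -2, 0, 1])) (.node (.leaf [-130445, 101600, -60916, -15390, 119050, 56264, -13798, -16832, -11374, -15254, -9056, 3454, -1738, 0, -1, 0, -1]) (.leaf [0, 0, 1]))) (.node (.node (.leaf [2, 2, 3, 3, 0, -2, -1, 0, -1]) (.leaf [81, -36, -25, 16, -39, -53, 33, 0, 11, 2, 5])) (.node (.leaf []) (.leaf [24724, -97010, 24572, -5142, -77652, -3180, 6226, 22512, 19955, 2014, 4990, 552, -1518, 0, 0, 0, -1])))) (.node (.node (.node (.leaf [0, 0, 0,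 -1, 0, 0, 1]) (.leaf [68, -26, -59, 15, -13, -55, 36, -7, 11, 2, 7])) (.node (.leaf [0, 2, 1, -1, 0, 0, 1, 0, -1]) (.leaf [0, 0, 1]))) (.node (.node (.leaf [0, 0, 1]) (.leaf [-4, 2, 3, 1, 2, 2, -3, 0, -1])) (.node (.leaf []) (.leaf [-24251, 44112, -3820, 6296, 36142, 14405, -14237, -9790, -5750, -3150, -3284, -74, -8, 0, -1, 1])))))))

def twoL207 : Janko.Tree (List ℤ) :=
  (.node (.node (.node (.node (.node (.node (.leaf []) (.leaf [])) (.node (.leaf []) (.leaf []))) (.node (.node (.leaf []) (.leaf [-24, 38, 2, 1, 11, 23, -5, -6, -4, -10, 0, 1])) (.node (.leaf [0, 0, 0, 1]) (.leaf [0, 0, 0, 1])))) (.node (.node (.node (.leaf []) (.leaf [])) (.node (.leaf []) (.leaf [75502, -48696, -21632, -13273, -43778, -60322, 50666, 7292, -1862, 10130, 7453, -446, 1781, 0, 0, 0, 1]))) (.node (.node (.leaf []) (.leaf [975, 50, 184, 302, -421, -401, 113, -81, 52, 0, 11, -6, -1])) (.node (.leaf [0, 0, 0, 1]) (.leaf [60043, -428328, -29044, -124546, -270106, -65528, 135318, 103734,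 53326, 24178, 29726, 4336, -1136, 1, -1, -1, -1]))))) (.node (.node (.node (.node (.leaf [0, 0, 0, 1]) (.leaf [-1021, 740, 674, -41, 467, 735, -529, 18, -196, -83, -110, 1])) (.node (.leaf [0, 0, 0, 1]) (.leaf [0, 0, 0, 1]))) (.node (.node (.leaf [63, -20, -64, 33, -11, -55, 31, -8, 12, -3, 10, -1]) (.leaf [])) (.node (.leaf [0, 0, 0, 1]) (.leaf [0, 0, 0, 1])))) (.node (.node (.node (.leaf []) (.leaf [0, 0, 0, 1])) (.node (.leaf []) (.leaf [-60, 14, 37, -34, 19, 48, -24, 4, -8, 4, -8, 1]))) (.node (.node (.leaf []) (.leaf [0, 0, 0, 1])) (.node (.leaf [0, 0, 0, 1]) (.leaf [0, 0, 0, 1])))))) (.node (.node (.node (.node (.node (.leaf []) (.leaf [])) (.node (.leaf [-68, -4, 33, -39, 19, 47, -24, 8, -6, 7, -8, 1]) (.leaf [228, -144, -183, 17, -83, -173, 126, -13, 44, 14, 26, 1]))) (.node (.node (.leaf []) (.leaf [-1576, -1780, -1094, -1211, 55, 193, 670, 522, 88, 147, 106, 36, -9])) (.node (.leaf [0, 0, 0, 1]) (.leaf [598, -202, -159, 157, -257, -369, 192, -21, 74, 13,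 38, -3])))) (.node (.node (.node (.leaf []) (.leaf [0, 0, 0, 1])) (.node (.leaf []) (.leaf [0, 0, 0, 1]))) (.node (.node (.leaf []) (.leaf [70, -10, -35, 38, -21, -51, 24, -6, 8, -4, 8, -1])) (.node (.leaf [0, 0, 0, 1]) (.leaf [0, 0, 0, 1]))))) (.node (.node (.node (.node (.leaf [0, 0, 0, 1]) (.leaf [0, 0, 0, 1])) (.node (.leaf []) (.leaf [441, 142, 265, 128, -192, -149, 12, -30, -20, -4, -26, 6, 3]))) (.node (.node (.leaf []) (.leaf [0, 0, 0, 1])) (.node (.leaf []) (.leaf [0, 0, 0, 1])))) (.node (.node (.node (.leaf [0, 0, 0, 1]) (.leaf [])) (.node (.leaf []) (.leaf []))) (.node (.node (.leaf []) (.leaf [64592, 74302, 142770, 20860, -39119, 5958, -35801, -4692, -28729, 4268, -8222, -2802, 3026, -1, 1, 1, 1])) (.node (.leaf [-92, 58, 72, -36, 37, 75, -45, 0, -21, 2, -11, 1]) (.leaf [])))))))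

def twoL208 : Janko.Tree (List ℤ) :=
  (.node (.node (.node (.node (.node (.node (.leaf [1, 0, 1, 0, -1]) (.leaf [82, -54, -44, 24, -33, -65, 33, 1, 15, 4, 7])) (.node (.leaf [-698, 324, 48, -198, 394, 420, -198, -28, -92, -12, -30]) (.leaf [-71, 10, 35, -38, 21, 52, -24, 6, -8, 4, -8, 1]))) (.node (.node (.leaf [1, 0, 1, 0, -1]) (.leaf [0, 0, 0, -1, 0, 1])) (.node (.leaf []) (.leaf [170183, -104712, 50423, -6910, -138972, -98539, 65837, 24522, -2200, 17564, 10228, -1086, 3328, -1, 1, 1, 1])))) (.node (.node (.node (.leaf [-534, 262, 153, -160, 269, 360, -194, -14, -80, -4, -34, 1]) (.leaf [1, 0, 0, 1, 0, -1])) (.node (.leaf [1, 0, 1, 0, -1]) (.leaf [1]))) (.node (.node (.leaf [1]) (.leaf [-93, 20, 33, -45, 27, 67, -24, 7, -10, 0, -8, 1])) (.node (.leaf [16, -2, 21, 9, -14, -4, -5, 2, 0, 0, -1]) (.leaf [159753, 116978, 224261, 132124, -99406, 2175, -83519, -15241, -7, -24411, -17851, 1831, -2810, 0, 0, -1, -1]))))) (.node (.node (.node (.node (.leaf []) (.leaf [1]))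 (.node (.leaf []) (.leaf [-296, 224, 207, -209, 53, 313, -74, -3, -63, -15, -31, -1, 1]))) (.node (.node (.leaf []) (.leaf [58, -6, -21, 36, -26, -43, 23, -1, 4, -7, 8, -1])) (.node (.leaf [1, -2, 1, 1, -1, -1, 0, 1]) (.leaf [-11, -2, -2, -7, 2, 7, 0, 1])))) (.node (.node (.node (.leaf [0, 0, 0, -1, 0, 1]) (.leaf [1])) (.node (.leaf [176, -74, -54, 59, -73, -122, 55, -3, 23, 4, 13]) (.leaf [30920, 48350, 870, 35322, 17246, -14328, -9154, -14198, -950, -5882, -3107, 386, -424, 0, 0, 1]))) (.node (.node (.leaf [0, 0, 0, -1, 0, 1]) (.leaf [48409, 4152, 70245, -7308, -45994, -16249, 8985, 9609, -16158, 4812, -2813, 121, 2353, 0, 1, 0, 1])) (.node (.leaf [77, -28, -44, 21, -22, -55, 30, -6, 12, 2, 6]) (.leaf [-6973, 8852, 2223, 1387, 6887, 4483, -4298, -1230, -1378, -854, -1032, 64, 4, 0, -1])))))) (.node (.node (.node (.node (.node (.leaf [2, 0, 0, 1, 0, -1]) (.leaf [-605, 672, 381, 28, 422, 465, -369, -57, -133, -62, -84])) (.node (.leaf [0, 0, -1, 0, 1]) (.leaf [-94525,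 4446, -13608, -21088, 36131, 56393, -22293, 2485, 4177, -5488, -2379, 895, -1913, 0, -1, 0, -1]))) (.node (.node (.leaf [14, 2, 6, 6, -6, -6, 0, -1]) (.leaf [-91, 8, 206, -38, -72, 111, -55, 45, -20, -11, -20, 1, 1])) (.node (.leaf [1]) (.leaf [-36553, 42064, 14559, 3405, 31006, 28104, -24061, -6613, -6191, -3506, -4504, -161, -57, 0, 0, 1])))) (.node (.node (.node (.leaf [1, 0, 1, 0, -1]) (.leaf [])) (.node (.leaf [-2, 2, -2, -2, 2, 2, 0, -1]) (.leaf [0, 0, 0, -1, 0, 1]))) (.node (.node (.leaf [2, 0, 0, 1, 0, -1]) (.leaf [1])) (.node (.leaf [62, -30, -36, 12, -23, -43, 27, -3, 11, 2, 5]) (.leaf [54411, -45400, -8073, 1240, -41785, -36732, 26790, 6974, 6316, 4172, 5059, 20, 159, 0, 1, -1]))))) (.node (.node (.node (.node (.leaf [-5, 6, 1, 0, 6, 9, -9, -4, 2, 0, -1]) (.leaf [83, -32, -43, 18, -30, -59, 37, -4, 11, 2, 7])) (.node (.leaf [-51290, -352, -68981, 7562, 48535, 18552, -10866, -10216, 15532, -5098, 2484, -166, -2360, 0, -1, 0, -1]) (.leaf [39892, 134522, 112588,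 114705, 12638, 31857, -92098, -26525, 3778, -25786, -17282, 1614, -3060, 0, 0, -1, -1]))) (.node (.node (.leaf [-2, 0, -1, -1, 1, 1]) (.leaf [1])) (.node (.leaf [122, -50, 75, 28, -130, -43, 31, 21, 6, -7, 6, -1]) (.leaf [-6346, 198612, 53610, 114071, 86586, 45685, -92700, -45992, -912, -31470, -18874, 1904, -3962, 0, 0, -1, -1])))) (.node (.node (.node (.leaf [195, -24, -50, 20, -52, -106, 62, -20, 18, 12, 2]) (.leaf [-223249, 70914, -5881, -39661, 119294, 138348, -75023, -6297, -6385, -10009, -10943, 44, -1867, 1, -1, -1, -1])) (.node (.leaf [78, -34, -50, 18, -25, -57, 35, -5, 13, 2, 7]) (.leaf [7069, -13810, -4665, -3192, -8597, -5510, 6194, 2095, 2050, 1358, 1506, -82, -22, 0, 1]))) (.node (.node (.leaf [-1, 0, 0, -1, 0, 1]) (.leaf [])) (.node (.leaf [1, 0, 1, 0, -1]) (.leaf [-16197, -169508, -106399, -110859, -42703, -44995, 98248, 33548, 2613, 27169, 19790, -1390, 3024, 0, 0, 1, 1])))))))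

def twoL209 : Janko.Tree (List ℤ) :=
  (.node (.node (.node (.node (.node (.node (.leaf [-4, 3, 2, 0, 2, 2, -2, 0, -1]) (.leaf [0, 1])) (.node (.leaf []) (.leaf [0, 2, 0, 2, 0, 0, 0, 0, 0, -1]))) (.node (.node (.leaf []) (.leaf [])) (.node (.leaf [0, 1]) (.leaf [0, 1])))) (.node (.node (.node (.leaf [-2, -14, 2, 2, -4, -2, -2, 4, 2, 1]) (.leaf [-138, -862, -521, -363, -178, -208, 399, 188, 91, 85, 66, 8, -7])) (.node (.leaf []) (.leaf []))) (.node (.node (.leaf []) (.leaf [0, 2, 0, 2, 0, 0, 0, 0, 0, -1])) (.node (.leaf []) (.leaf [0, 1]))))) (.node (.node (.node (.node (.leaf [0, 1]) (.leaf [-65, 29, 171, -14, -38, 79, -63, 23, -22, -5, -14, 3, 1])) (.node (.leaf [0, 1]) (.leaf [0, 1]))) (.node (.node (.leaf [0, 1]) (.leaf [])) (.node (.leaf [1647, -272, -86, 527, -655, -894, 327, -92, 149, 37, 59, -16, -1]) (.leaf [0, 1])))) (.node (.node (.node (.leaf []) (.leaf [197, -722, -180, 61, -351, -242, 155, 159, 150, 14, 39, 0, -1])) (.node (.leaf []) (.leaf [-89072, 266766,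 127372, 36678, 133268, 101296, -112582, -44490, -50579, -12226, -25618, -2638, 2168, -1, 1, 1, 1]))) (.node (.node (.leaf []) (.leaf [0, 1])) (.node (.leaf [0, 1]) (.leaf [0, 1])))))) (.node (.node (.node (.node (.node (.leaf []) (.leaf [0, 2, 2, 0, 0, 0, 0, 0, -1])) (.node (.leaf [1659, -254, -76, 539, -651, -902, 323, -96, 144, 37, 59, -16, -1]) (.leaf [-22357, 37061, 10313, 9020, 24713, 18216, -18984, -6592, -3958, -4077, -3854, 160, -209, 0, -1, 1]))) (.node (.node (.leaf []) (.leaf [0, 1])) (.node (.leaf [-10162, 342508, 48810, 109282, 190811, 37399, -104273, -81264, -44013, -19329, -24773, -2987, 1112, -1, 1, 0, 1]) (.leaf [])))) (.node (.node (.node (.leaf []) (.leaf [0, 1])) (.node (.leaf []) (.leaf []))) (.node (.node (.leaf []) (.leaf [-75, 51, 29, -16, 35, 52, -26, -1, -14, -5, -5])) (.node (.leaf [0, 1]) (.leaf [0, 1]))))) (.node (.node (.node (.node (.leaf [0, 1]) (.leaf [])) (.node (.leaf []) (.leaf [0, 1]))) (.node (.node (.leaf [-758, 344, 405, -7,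 298, 468, -363, 50, -119, -52, -54, 0, 3]) (.leaf [])) (.node (.leaf []) (.leaf [0, 1])))) (.node (.node (.node (.leaf [0, 1]) (.leaf [])) (.node (.leaf []) (.leaf [73, -50, -29, 14, -37, -50, 28, 2, 14, 4, 5]))) (.node (.node (.leaf [2, 2, 2, 2, -2, 0, 0, 0, 0, -1]) (.leaf [0, 1])) (.node (.leaf []) (.leaf [0, 2, 0, 2, 0, 0, 0, 0, 0, -1])))))))

def twoL210 : Janko.Tree (List ℤ) :=
  (.node (.node (.node (.node (.node (.node (.leaf [0, 0, 1]) (.leaf [-27, -56, 33, -2, -19, -1, -9, 24, -1, 6, -1])) (.node (.leaf [0, 0, 1]) (.leaf [0, 0, 1, 1, 0, 0, -1]))) (.node (.node (.leaf [0, 0, 1]) (.leaf [1, -2, 0, 0, -1, 0, 0, 0, 1])) (.node (.leaf [-64, 94, 61, -33, 27, 78, -29, -10, -18, -8, -11]) (.leaf [4, -2, -2, -1, -2, -2, 3, 0, 1])))) (.node (.node (.node (.leaf [0, 0, 1, 1, 0, 0, -1]) (.leaf [1422, 1530, 1158, 1463, -64, -214, -869, -462, -57, -137, -56, -54, 1])) (.node (.leaf [0, 0, 1]) (.leaf [188, 262, 390, 36, -59, -37, -55, -14, -119, 27, -26, -6, 7]))) (.node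 (.node (.leaf [182, -162, 8, 20, -143, -135, 79, 38, 17, 13, 8, 2, 3]) (.leaf [975, 50, 183, 301, -421, -401, 114, -81, 52, 0, 11, -6, -1])) (.node (.leaf [0, 0, 0, -1, 0, 0, 1]) (.leaf [1086, -696, -578, 248, -449, -835, 457, -3, 185, 65, 101, 1, -1]))))) (.node (.node (.node (.node (.leaf []) (.leaf [])) (.node (.leaf [298, 98, 117, 196, -28, -163, -45, -32, -11, 14, -12, -9, 1]) (.leaf [-335, 252, 256, -221, 57, 357, -102, -3, -70, -17, -36, -1, 1]))) (.node (.node (.leaf []) (.leaf [0, 0, 1])) (.node (.leaf [0, 0, 1]) (.leaf [-11, -12, -14, 1, 6, 3, -4, 0, 5, 0, 1])))) (.node (.node (.node (.leaf [374, -62, -149, 87, -111, -265, 166, -22, 24, 6, 23]) (.leaf [-5, 2, 0, -1, 3, 2, -1, 0, -1])) (.node (.leaf [171, -74, -57, 57, -70, -121, 56, -3, 23, 4, 13]) (.leaf [0, 0, 1]))) (.node (.node (.leaf [11, 2, 0, 6, -1, -6, 0, -2, 1]) (.leaf [254509, -310934, 32257, -70750, -280800, -166994, 152440, 69631, 14733, 39224, 28451, -1440, 4868, 0, 1, 0, 1])) (.node (.leaf [81,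 -30, -52, 23, -21, -61, 34, -7, 13, 2, 7]) (.leaf [-735, -126, -39, -301, 209, 394, -119, 76, -16, 12, -10, 0, 1])))))) (.node (.node (.node (.node (.node (.leaf [-4, 0, -1, -1, 2, 2, -1]) (.leaf [0, 0, 1])) (.node (.leaf [0, 0, 1]) (.leaf [0, 0, 1]))) (.node (.node (.leaf [0, 0, 0, -1, 0, 0, 1]) (.leaf [])) (.node (.leaf []) (.leaf [0, 0, 0, -1, 0, 0, 1])))) (.node (.node (.node (.leaf [0, 0, 1]) (.leaf [])) (.node (.leaf [0, 0, 0, -1, 0, 0, 1]) (.leaf [51979, -61940, -3394, -4847, -53163, -34968, 28939, 11913, 7636, 5068, 5983, 180, 190, 0, 0, 1]))) (.node (.node (.leaf [-4, 0, -1, -1, 2, 2, -1]) (.leaf [-3, -2, -1, -1, 1, 2, -1, 0, 1])) (.node (.leaf [248, -32, -98, 87, -59, -143, 58, -33, 33, 6, 17, -7]) (.leaf [44956, -41002, -20662, -2325, -30550, -32102, 26067, 3692, 7059, 4650, 5570, -414, -56, 0, 1, -1]))))) (.node (.node (.node (.node (.leaf [67, -26, -33, 12, -23, -43, 27, -4, 12, 2, 3]) (.leaf [0, 0, 1])) (.node (.leaf [0, 0, 1]) (.leaf [2008, -1296, -1129,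 385, -841, -1539, 912, -2, 347, 115, 182, 6]))) (.node (.node (.leaf [0, 0, 0, -1, 0, 0, 1]) (.leaf [80093, -346968, -52498, -84572, -214463, -77133, 117629, 75789, 48131, 20592, 27526, 2437, -991, 0, -1, 0, -1])) (.node (.leaf [0, 0, 1]) (.leaf [-1526, 156030, 92457, 91401, 47644, 48470, -89765, -30399, -4712, -23404, -17851, 956, -2605, 0, 0, 0, -1])))) (.node (.node (.node (.leaf []) (.leaf [0, 0, 0, -1, 0, 0, 1])) (.node (.leaf [0, 0, 1]) (.leaf [0, 0, 1, 1, 0, 0, -1]))) (.node (.node (.leaf [0, 0, 1, 1, 0, 0, -1]) (.leaf [52474, -67706, -9598, -6559, -53480, -35186, 30065, 11546, 9769, 5948, 6698, -148, 40, 0, 1, -1])) (.node (.leaf [0, 0, 1]) (.leaf [-250, 884, 188, 391, 657, 185, -486, -218, -109, -37, -70, -8])))))))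

def twoL211 : Janko.Tree (List ℤ) :=
  (.node (.node (.node (.node (.node (.node (.leaf []) (.leaf [])) (.node (.leaf [-617, 298, 12, -185, 371, 373, -175, -39, -78, -7, -26, 1]) (.leaf [0, 0, 0, 1]))) (.node (.node (.leaf []) (.leaf [0, 0, 0, 1])) (.node (.leaf []) (.leaf [73354, 66792, 163322, 24668, -55343, 5896, -39355, -358, -28310, 3746, -9124, -2472, 3122, -1, 1, 1, 1])))) (.node (.node (.node (.leaf [0, 0, 0, 1]) (.leaf [0, 0, 0, 1])) (.node (.leaf []) (.leaf [1095, -518, -284, 310, -543, -710, 371, 16, 164, 16, 64, -1]))) (.node (.node (.leaf [143, -128, 48, 7, -122, -101, 51, 34, 6, 15, 2, 4, 3]) (.leaf [0, 0, 0, 1])) (.node (.leaf [0, 0, 0, 1]) (.leaf [1120, -754, -610, 242, -477, -869, 485, 5, 194, 70, 107, 1]))))) (.node (.node (.node (.node (.leaf []) (.leaf [-70, 12, 35, -39, 21, 53, -24, 5, -8, 4, -8, 1])) (.node (.leaf [70, -56, -35, -32, -26, -81, 77, 18, -4, 13, -4, 5]) (.leaf [-291, 216, 188, -207, 55, 303, -65, -3, -60, -15, -30, -1, 1]))) (.node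 (.node (.leaf []) (.leaf [58, -4, -22, 37, -25, -43, 23, -2, 4, -7, 8, -1])) (.node (.leaf [-56, 0, 26, -34, 21, 41, -23, 4, -4, 7, -8, 1]) (.leaf [])))) (.node (.node (.node (.leaf [0, 0, 0, 1]) (.leaf [14510, 248386, 195298, 121803, 52802, 78095, -141268, -42786, -22736, -27430, -29356, -561, -1324, 1, -1, -1, -1])) (.node (.leaf [0, 0, 0, 1]) (.leaf [1133, 4, 122, 376, -473, -511, 153, -93, 73, 0, 27, -8, -1]))) (.node (.node (.leaf [0, 0, 0, 1]) (.leaf [])) (.node (.leaf []) (.leaf [-737, -126, -39, -297, 207, 394, -118, 78, -16, 10, -10, 0, 1])))))) (.node (.node (.node (.node (.node (.leaf [0, 0, 0, 1]) (.leaf [950, -1478, -600, -166, -889, -737, 635, 177, 268, 134, 160, 1, -1])) (.node (.leaf [116, -74, -40, 34, -41, -89, 33, 2, 16, 14, 8, -3]) (.leaf []))) (.node (.node (.leaf [0, 0, 0, 1]) (.leaf [-2101, 730, -52, -562, 1170, 1083, -451, 2, -234, -54, -98, 20, -1])) (.node (.leaf []) (.leaf [0, 0, 0, 1])))) (.node (.node (.node (.leaf [-470, 862, 2, -129,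 618, 360, -193, -200, -158, -18, -54, 0, -1]) (.leaf [])) (.node (.leaf [0, 0, 0, 1]) (.leaf [0, 0, 0, 1]))) (.node (.node (.leaf [0, 0, 0, 1]) (.leaf [])) (.node (.leaf []) (.leaf [9879, -14326, -5685, -2420, -9414, -7362, 7151, 1855, 2309, 1424, 1683, -90, -18, 0, 1]))))) (.node (.node (.node (.node (.leaf []) (.leaf [-2784, -50088, -22373, -15912, -18849, -5427, 15591, 9036, 8815, 3017, 4319, 175, -318, 1, 0, -1])) (.node (.leaf []) (.leaf [2804, -1922, -1360, 602, -1307, -2145, 1210, 64, 476, 163, 254, 6, -2]))) (.node (.node (.leaf [0, 0, 0, 1]) (.leaf [-460, 142, 224, -100, 143, 337, -211, 20, -50, -11, -28, -2])) (.node (.leaf [102, -8, 132, 31, -125, -19, 9, 22, -8, -9, 0, -1]) (.leaf [])))) (.node (.node (.node (.leaf [273, -66, -132, 78, -72, -185, 96, -27, 36, 5, 18, 1]) (.leaf [0, 0, 0, 1])) (.node (.leaf []) (.leaf [0, 0, 0, 1]))) (.node (.node (.leaf [0, 0, 0, 1]) (.leaf [])) (.node (.leaf [-2159, 2544, 747, 48, 1825, 1562, -1196, -366, -451, -218, -248,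 0, 11]) (.leaf [0, 0, 0, 1])))))))

def twoL212 : Janko.Tree (List ℤ) :=
  (.node (.node (.node (.node (.node (.node (.leaf [-1, 0, 0, -1, 0, 1]) (.leaf [1020, 836, -568, 579, 438, -648, 125, -394, 4, -16, 0, -11, -1])) (.node (.leaf [2, 6, -5, 0, 5, 0, 0, -3]) (.leaf [-6, -6, 3, -4, -3, 4, 0, 3]))) (.node (.node (.leaf [-1, 0, 0, -1, 0, 1]) (.leaf [-63, 30, 36, -14, 23, 45, -27, 3, -11, -2, -5])) (.node (.leaf [-2, 0, -1, -1, 1, 1]) (.leaf [-2, 0, -1, -1, 1, 1])))) (.node (.node (.node (.leaf [1]) (.leaf [])) (.node (.leaf [-1, 0, 0, -1, 0, 1]) (.leaf [-39, 20, 9, 15, 18, 22, -23, -1, -4, -6, 2, -1]))) (.node (.node (.leaf [-6, 2, -5, -3, 5, 3, 0, -1]) (.leaf [-7, -2, -2, -3, 2, 3, 0, 1])) (.node (.leaf [-5901, -13100, -7676, -6932, -2143, 341, 4487, 2761, 1629, 1140, 1108, -17, -71, 0, 0, -1]) (.leaf [891, -1068, 110, 28, -890, -561, 327, 201, 144, 113, 86, -7, -3]))))) (.node (.node (.node (.node (.leaf [3, 0, 1, 1, -1, -1]) (.leaf [1, 0, 1, 0, -1])) (.node (.leaf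 [-67, 26, 36, -14, 23, 45, -27, 5, -11, -2, -5]) (.leaf [48860, -59696, -4871, -3367, -49830, -33098, 26937, 11281, 8233, 4502, 5570, 183, 79, 0, 0, -1]))) (.node (.node (.leaf [1]) (.leaf [1])) (.node (.leaf [-17, -62, 9, 50, 31, -34, -48, 12, 0, 20, 3, -5, 1]) (.leaf [0, 0, 0, -1, 0, 1])))) (.node (.node (.node (.leaf [252, 22, -83, 69, -48, -174, 101, -28, 2, 2, 13]) (.leaf [-293911, 316530, 28216, 61624, 269674, 205380, -178074, -58578, -20932, -42076, -34290, 2297, -4686, 1, -1, -1, -1])) (.node (.leaf []) (.leaf [-73, 10, 33, -39, 23, 53, -24, 6, -8, 4, -8, 1]))) (.node (.node (.leaf [1]) (.leaf [1])) (.node (.leaf [247, -82, -144, 73, -65, -178, 93, -23, 37, 6, 21]) (.leaf [-8, -6, 1, -4, -1, 4, 0, 3])))))) (.node (.node (.node (.node (.node (.leaf []) (.leaf [1, 0, 0, 1, 0, -1])) (.node (.leaf [-106029, 158848, -13564, -12521, 132992, 59093, -36568, -31514, -32390, -5484, -10518, -996, 1478, -1, 1, 1, 1]) (.leaf [229, -144, -181, 16, -85, -172, 126, -13, 44,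 14, 26, 1]))) (.node (.node (.leaf [22, -6, -19, 41, 3, -29, -4, -3, 4, -3, 6, -1]) (.leaf [-3, 8, -9, -2, 9, 2, 0, -4])) (.node (.leaf [1, 0, 1, 0, -1]) (.leaf [9, 2, 3, 3, -3, -3, 0, -1])))) (.node (.node (.node (.leaf [-1, 0, 0, -1, 0, 1]) (.leaf [-788, 262, -333, -468, 537, 450, -58, -95, -67, 34, -7, 3, 1])) (.node (.leaf [60, -6, -41, 33, -15, -45, 24, -7, 8, -5, 8, -1]) (.leaf [8125, 13154, 8225, 7774, 1180, -1397, -4245, -2858, -1560, -1136, -1093, -3, 73, 0, 0, 1]))) (.node (.node (.leaf []) (.leaf [1, 0, 0, 1, 0, -1])) (.node (.leaf [-4, 2, -4, -2, 4, 2, 0, -1]) (.leaf [204440, -237396, 42094, -27202, -215225, -115115, 80365, 44473, 20684, 31930, 22565, -4088, 3134, -1, 1, 1, 1]))))) (.node (.node (.node (.node (.leaf [3, 0, 1, 1, -1, -1]) (.leaf [-2, 2, -3, -1, 3, 1, 0, -1])) (.node (.leaf [1, 0, 0, 1, 0, -1]) (.leaf [32555, -274572, -47352, -98263, -158267, -51108, 104959, 64720, 28367, 20539, 21993, 1697, -30, 0, 0, -1, -1]))) (.node (.node (.leaf [8,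 -2, 4, 5, -4, -5, 0, 1]) (.leaf [10846, -347344, -45441, -110300, -194636, -37461, 104157, 82841, 44235, 19880, 24794, 2991, -1069, 0, -1, 0, -1])) (.node (.leaf []) (.leaf [3676, 400, 1182, 2246, -1280, -1844, -266, -308, 86, -16, 90, -58, 6, -1])))) (.node (.node (.node (.leaf [1]) (.leaf [15493, 596, 16835, 8548, -11706, -6887, -1133, 2191, -1215, -860, -1010, 369, 227, 0, 0, -1])) (.node (.leaf [2, -6, 7, 1, -7, -1, 0, 3]) (.leaf [203411, -254530, 44731, -32782, -225722, -115225, 83455, 49379, 22355, 32984, 23255, -3866, 3158, -1, 1, 1, 1]))) (.node (.node (.leaf []) (.leaf [25036, -47358, 391, -6575, -36372, -16778, 16249, 10261, 6256, 3366, 3610, 186, 0, 0, 1, -1])) (.node (.leaf [-93, 58, 72, -37, 37, 76, -45, 0, -21, 2, -11, 1]) (.leaf [-10, -8, 3, -6, -3, 6, 0, 4])))))))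

def twoL213 : Janko.Tree (List ℤ) :=
  (.node (.node (.node (.node (.node (.node (.leaf []) (.leaf [])) (.node (.leaf [0, 1]) (.leaf []))) (.node (.node (.leaf [2, 7, 4, 4, 0, -2, 0, 0, -2, -1]) (.leaf [-1, 1, -3, 0, -1, -2, 4, 1, -1, -1, 1])) (.node (.leaf [42, -195, -27, -123, -152, -26, 111, 44, 11, 20, 24, 0, -1]) (.leaf [1686, -250, -72, 552, -658, -914, 318, -103, 144, 38, 62, -16])))) (.node (.node (.node (.leaf []) (.leaf [0, 1])) (.node (.leaf [-2, 2, 0, 0, 0, 2, 0, 0, 0, -1]) (.leaf [60380, 91646, -45580, 31872, 56422, -49674, 15822, -31800, -14853, 913, -160, -1604, 1681, -1, 0, 1, 1]))) (.node (.node (.leaf [0, 1]) (.leaf [0, 1])) (.node (.leaf [0, 1]) (.leaf [0, 1]))))) (.node (.node (.node (.node (.leaf []) (.leaf [])) (.node (.leaf []) (.leaf [0, -5, -4, -2, 0, 0, 0, 0, 2, 1]))) (.node (.node (.leaf [1782, 232, 19, 831, -418, -958, 177, -203, 96, -8, 16, -16, -1]) (.leaf [418, -44, -217, 219, -42, -310, 89, -63, 42, 12, 42, -12, 1])) (.node (.leaf [0,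 1]) (.leaf [])))) (.node (.node (.node (.leaf []) (.leaf [])) (.node (.leaf [0, 1]) (.leaf [0, -1, 0, -2, 0, 0, 0, 0, 0, 1]))) (.node (.node (.leaf []) (.leaf [-292, 13, 115, -207, 12, 230, -33, 35, -36, 6, -10, 0, -1])) (.node (.leaf []) (.leaf [0, 1])))))) (.node (.node (.node (.node (.node (.leaf [0, 1]) (.leaf [91964, -148855, 15474, 9824, -124365, -48395, 30679, 29829, 31001, 4576, 9652, 917, -1547, 1, 0, -1, -1])) (.node (.leaf [0, 1]) (.leaf [0, -1, 0, -2, 0, 0, 0, 0, 0, 1]))) (.node (.node (.leaf [0, 1]) (.leaf [22260, -38854, -10256, -9154, -25496, -18400, 18966, 6958, 4151, 4240, 4024, -164, 218, 0, 1, -1])) (.node (.leaf []) (.leaf [259, -1351, -574, -693, -769, -220, 701, 248, 213, 99, 109, 8, -1])))) (.node (.node (.node (.leaf [-4, -3, 10, 2, -6, 2, -2, 4, -1, -1]) (.leaf [])) (.node (.leaf [0, 1]) (.leaf [0, 1]))) (.node (.node (.leaf [0, 1]) (.leaf [-648, -668, 325, -461, -362, 386, 3, 280, -14, 37, 32, 0, -1])) (.node (.leaf []) (.leaf [0, 1])))))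 (.node (.node (.node (.node (.leaf []) (.leaf [])) (.node (.leaf [2, -1, 0, 0, 0, -2, 0, 0, 0, 1]) (.leaf [0, 1]))) (.node (.node (.leaf []) (.leaf [35177, -360937, -46664, -107410, -210413, -52347, 113241, 84292, 46276, 21403, 26643, 2856, -1001, 0, 0, 0, -1])) (.node (.leaf [0, 1]) (.leaf [0, 1])))) (.node (.node (.node (.leaf []) (.leaf [0, 1])) (.node (.leaf []) (.leaf [0, 1]))) (.node (.node (.leaf [0, 1]) (.leaf [0, 1])) (.node (.leaf [-4, 6, 4, 2, 2, 2, -2, 0, -2, -1]) (.leaf [0, 1])))))))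

def twoL214 : Janko.Tree (List ℤ) :=
  (.node (.node (.node (.node (.node (.node (.leaf [0, 0, 1, 1, 0, 0, -1]) (.leaf [-941, -1472, -304, -813, -410, 312, 285, 414, 136, 80, 78, 27, 1])) (.node (.leaf [0, -8, -30, -2, 7, -13, 15, 0, 1, 0, 3]) (.leaf [-79, 32, 22, -18, 37, 49, -27, 2, -11, -2, -5]))) (.node (.node (.leaf [0, 0, 1, 1, 0, 0, -1]) (.leaf [0, 0, 1])) (.node (.leaf [0, 0, 0, -1, 0, 0, 1]) (.leaf [0, 0, 0, -1, 0, 0, 1])))) (.node (.node (.node (.leaf []) (.leaf [])) (.node (.leaf [0, 0, 1, 1, 0, 0, -1]) (.leaf [0, 0, 1]))) (.node (.node (.leaf []) (.leaf [-13932, 28400, -3863, 4647, 23609, 8011, -8850, -6858, -3581, -1765, -1857, -129, -10, -1, 0, 1])) (.node (.leaf [-51891, 61944, 3403, 4884, 53134, 34924, -28932, -11922, -7630, -5068, -5982, -180, -190, 0, 0, -1]) (.leaf [-99051, 214356, 10089, 93422, 159459, 89327, -119749, -54448, -1272, -27369, -19958, -462, -3669, 0, 0, 0, -1]))))) (.node (.node (.node (.node (.leaf [0, 0, 0, -1, 0, 0, 1]) (.leaf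 [0, 0, 1])) (.node (.leaf [0, 0, 1]) (.leaf [36432, -40934, -13196, -2639, -30880, -27704, 23217, 6537, 5981, 3347, 4386, 153, 63, 0, 0, -1]))) (.node (.node (.leaf []) (.leaf [])) (.node (.leaf [55, -74, -22, 85, 5, -85, -22, 7, 8, 16, 11, -6, 1]) (.leaf [70, -96, -66, 31, -30, -83, 36, 10, 18, 8, 12])))) (.node (.node (.node (.leaf [0, 0, 0, -1, 0, 0, 1]) (.leaf [-4, 2, 0, -2, 2, 2, 0, 0, -1])) (.node (.leaf []) (.leaf [1151, -4, 105, 365, -473, -525, 170, -93, 73, 6, 27, -10, -1]))) (.node (.node (.leaf [-108, 38, 3, -30, 56, 61, -27, -1, -13, -2, -3]) (.leaf [])) (.node (.leaf [0, 0, 0, -1, 0, 0, 1]) (.leaf [99291, 12098, -65530, 32574, 4848, -74271, 36045, -20721, 3968, 4444, 7878, -2090, 472, 0, -1, 0, -1])))))) (.node (.node (.node (.node (.node (.leaf [-2, -2, 5, 1, -2, 0, -1, 2, -1]) (.leaf [1178, -1550, -613, -23, -943, -919, 650, 175, 288, 146, 166, 1, -1])) (.node (.leaf [-11, -4, -1, -6, 1, 6, 0, 2]) (.leaf [0, 0, 1, 1, 0, 0, -1]))) (.node (.node (.leaf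 []) (.leaf [140, -50, -92, 42, -33, -103, 53, -15, 23, 4, 13])) (.node (.leaf [0, 0, 1]) (.leaf [0, 0, 1])))) (.node (.node (.node (.leaf [-630, 918, 75, -180, 668, 474, -248, -190, -180, -22, -66, 0, -1]) (.leaf [0, 0, 1])) (.node (.leaf []) (.leaf [-541, -1004, -155, -706, -447, 263, 323, 303, 87, 52, 52, 7, 1]))) (.node (.node (.leaf [2, -2, 0, -1, -2, 0, 1, 0, 1]) (.leaf [0, -2, -1, 0, 0, 0, 0, 0, 1])) (.node (.leaf [0, 0, 0, -1, 0, 0, 1]) (.leaf [4, -2, -2, -1, -2, -2, 3, 0, 1]))))) (.node (.node (.node (.node (.leaf [0, 0, 0, -1, 0, 0, 1]) (.leaf [-1906, -50072, -22616, -14873, -18795, -5943, 15296, 8880, 9145, 2907, 4251, 191, -338, 1, 0, -1])) (.node (.leaf [0, 0, 1, 1, 0, 0, -1]) (.leaf [1690, -1068, -949, 307, -699, -1295, 782, -2, 285, 97, 148, 6]))) (.node (.node (.leaf [0, 0, 1]) (.leaf [0, 0, 1])) (.node (.leaf []) (.leaf [3755, 814, 1461, 2466, -1161, -1807, -459, -381, 29, -48, 45, -58, 6, -1])))) (.node (.node (.node (.leaf [178, -90, -138, 26, -61,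 -135, 97, -12, 30, 6, 21]) (.leaf [-72651, 4764, -16137, -25050, 34529, 39001, -12431, 1035, -1367, -252, -1290, -185, -323, 0, 0, -1])) (.node (.leaf [0, 0, 1, 1, 0, 0, -1]) (.leaf [-4, 2, 3, 1, 2, 2, -3, 0, -1]))) (.node (.node (.leaf [0, 2, 1, -1, 0, 0, 1, 0, -1]) (.leaf [14814, -57516, -18178, -13383, -30771, -15223, 20394, 10177, 9036, 4329, 5439, -26, -197, 0, 1, -1])) (.node (.leaf [985, -420, -190, 315, -521, -624, 323, 24, 135, -6, 58, -2, 1]) (.leaf [-76141, -816468, -337870, -346544, -307714, -115567, 320019, 174956, 91214, 66758, 71018, 3738, 550, 0, -1, 0, -1])))))))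

def twoL215 : Janko.Tree (List ℤ) :=
  (.node (.node (.node (.node (.node (.node (.leaf [0, 0, 0, 1]) (.leaf [0, 0, 0, 1])) (.node (.leaf []) (.leaf [0, 0, 0, 1]))) (.node (.node (.leaf [0, 0, 0, 1]) (.leaf [])) (.node (.leaf [0, 0, 0, 1]) (.leaf [0, 0, 0, 1])))) (.node (.node (.node (.leaf []) (.leaf [])) (.node (.leaf [0, 0, 0, 1]) (.leaf [-38, 20, 10, 17, 17, 21, -23, -1, -4, -6, 2, -1]))) (.node (.node (.leaf []) (.leaf [-10494, 23444, 10731, 8637, 12855, 11191, -14055, -4274, -1981, -2761, -2581, 79, -204, -1, 0, 1])) (.node (.leaf []) (.leaf [-1149, 738, 832, -318, 314, 1107, -627, -28, -182, -52, -78, -30, 1]))))) (.node (.node (.node (.node (.leaf [0, 0, 0, 1]) (.leaf [])) (.node (.leaf []) (.leaf [0, 0, 0, 1]))) (.node (.node (.leaf []) (.leaf [])) (.node (.leaf [-105, 58, 100, 61, 77, 19, -81, 19, -36, 2, -13, -2, 1]) (.leaf [0, 0, 0, 1])))) (.node (.node (.node (.leaf [0, 0, 0, 1]) (.leaf [0, 0, 0, 1])) (.node (.leaf []) (.leaf [0, 0, 0, 1]))) (.node (.node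 (.leaf []) (.leaf [])) (.node (.leaf [0, 0, 0, 1]) (.leaf [28680, 1512, -13356, 6651, -2452, -19897, 10383, -4756, 413, 1852, 2155, -564, 144, -1, 0, 1])))))) (.node (.node (.node (.node (.node (.leaf []) (.leaf [0, 0, 0, 1])) (.node (.leaf [-103555, 158444, -14248, -11745, 132058, 57632, -35778, -31680, -32120, -5506, -10368, -1020, 1472, -1, 1, 1, 1]) (.leaf [0, 0, 0, 1]))) (.node (.node (.leaf [89, -36, -45, 46, -31, -73, 32, -2, 12, -1, 10, -1]) (.leaf [0, 0, 0, 1])) (.node (.leaf []) (.leaf [56863, 14650, 25188, 32372, -22246, -25078, -1578, -3854, 760, -3247, -1373, 458, -69, 0, -1, 1])))) (.node (.node (.node (.leaf [0, 0, 0, 1]) (.leaf [1158, -166, -170, 355, -439, -725, 353, -54, 70, 10, 58, -1])) (.node (.leaf [642, -340, -139, 185, -363, -399, 211, 24, 106, 3, 38, -2, 1]) (.leaf []))) (.node (.node (.leaf []) (.leaf [0, 0, 0, 1])) (.node (.leaf [0, 0, 0, 1]) (.leaf [204027, -226744, 42367, -24078, -209168, -113716, 77455, 41653, 19510, 31310, 22039, -4264,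 3124, -1, 1, 1, 1]))))) (.node (.node (.node (.node (.leaf [0, 0, 0, 1]) (.leaf [0, 0, 0, 1])) (.node (.leaf [0, 0, 0, 1]) (.leaf [718, -500, -219, 527, -241, -569, 1, 0, 189, 15, 40, 6]))) (.node (.node (.leaf []) (.leaf [])) (.node (.leaf []) (.leaf [3703, 408, 1188, 2245, -1288, -1856, -256, -310, 84, -14, 88, -58, 6, -1])))) (.node (.node (.node (.leaf []) (.leaf [])) (.node (.leaf [0, 0, 0, 1]) (.leaf [203965, -245246, 42417, -29764, -219600, -115710, 82307, 46749, 21435, 32368, 22855, -3932, 3148, -1, 1, 1, 1]))) (.node (.node (.leaf []) (.leaf [24401, -47200, 586, -6779, -36168, -16332, 16034, 10288, 6196, 3354, 3577, 184, 1, 0, 1, -1])) (.node (.leaf [0, 0, 0, 1]) (.leaf [-22970, 11434, 8242, -2271, 11394, 16377, -11561, -457, -2033, -1234, -1955, 12, -50, -1, 0, 1])))))))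

def twoL216 : Janko.Tree (List ℤ) :=
  (.node (.node (.node (.node (.node (.node (.leaf []) (.leaf [18, -22, 2, 6, -15, -15, 5, 5, 3, 2, 1])) (.node (.leaf [0, 0, 0, -1, 0, 1]) (.leaf []))) (.node (.node (.leaf [8, 0, 5, 3, -5, -3]) (.leaf [321, -58, -124, 102, -89, -193, 89, -34, 40, 8, 22, -7])) (.node (.leaf [0, 4, -3, -1, 3, 1, 0, -2]) (.leaf [1])))) (.node (.node (.node (.leaf [1, 0, 1, 0, -1]) (.leaf [97, 6, -25, 55, -26, -68, 23, -12, 2, -4, 12, -1])) (.node (.leaf []) (.leaf [0, 0, 0, -1, 0, 1]))) (.node (.node (.leaf []) (.leaf [135, -106, 493, 108, -344, 138, -198, 57, 35, -22, -15, -6, 4])) (.node (.leaf [1]) (.leaf [69286, -437232, -31238, -125162, -277818, -71204, 140022, 104785, 54842, 25048, 30817, 4266, -1142, 1, 0, -1, -1]))))) (.node (.node (.node (.node (.leaf [325, -66, -120, 100, -98, -192, 90, -32, 42, 8, 22, -7]) (.leaf [-75, 8, 35, -40, 21, 54, -24, 7, -8, 4, -8, 1])) (.node (.leaf [4, 6, -3, 1, 3, -1, 0, -3]) (.leaf [-9232, 18570, 247, 3562,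 14061, 5578, -6092, -3657, -2554, -1524, -1550, 4, -4, 0, -1]))) (.node (.node (.leaf [1, 0, 1, 0, -1]) (.leaf [1, 0, 1, 0, -1])) (.node (.leaf [-103401, 158452, -14122, -11833, 131901, 57684, -35751, -31689, -32104, -5503, -10383, -1020, 1473, -1, 1, 1, 1]) (.leaf [7, 2, 1, 3, -1, -3, 0, -1])))) (.node (.node (.node (.leaf []) (.leaf [])) (.node (.leaf [-7, 0, -3, -5, 3, 5]) (.leaf [8, 2, 2, 3, -2, -3, 0, -1]))) (.node (.node (.leaf [-91, 30, 14, -28, 39, 57, -25, 1, -11, -2, -3]) (.leaf [1, 0, 1, 0, -1])) (.node (.leaf [-75008, 14496, -22701, -24318, 43958, 37303, -11309, -1649, -3553, -356, -1208, -269, -213, 0, 0, -1]) (.leaf [-53548, 279806, 50642, 92603, 167936, 64151, -112442, -64545, -30476, -20292, -22726, -1998, 134, 0, 0, 1, 1])))))) (.node (.node (.node (.node (.node (.leaf [-2, 0, -1, -1, 1, 1]) (.leaf [-3, 2, -3, -2, 3, 2, 0, -1])) (.node (.leaf [106, -58, -37, 37, -36, -84, 33, 2, 12, 10, 8, -3]) (.leaf [0, 0, -1, 0, 1]))) (.node (.node (.leaf [-359,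 -866, -430, -277, -262, -19, 284, 216, 110, 10, 101, 3, -7]) (.leaf [-642, -680, -533, -583, -1, 213, 260, 147, 83, 43, 55, 13, -1])) (.node (.leaf [-1, 0, 0, -1, 0, 1]) (.leaf [-57039, 75188, 13093, 7897, 58376, 39972, -35209, -13194, -10728, -6152, -7342, -118, -60, 0, -1, 1])))) (.node (.node (.node (.leaf [-5, 2, -4, -3, 4, 3, 0, -1]) (.leaf [-3, -2, 1, -2, -1, 2, 0, 1])) (.node (.leaf [1]) (.leaf [23789, 5444, -13180, 5635, 1084, -16909, 9074, -5173, -284, 1384, 1635, -444, 160, 0, 0, 1]))) (.node (.node (.leaf [-2, 0, -1, -1, 1, 1]) (.leaf [0, 0, 0, -1, 0, 1])) (.node (.leaf [60, -6, -41, 33, -15, -45, 24, -7, 8, -5, 8, -1]) (.leaf [-666, -882, 362, -462, -444, 360, -10, 333, 30, 42, 22, 20, -6, 0, 1]))))) (.node (.node (.node (.node (.leaf [537, -266, -131, 160, -281, -350, 184, 16, 82, 4, 32, -1]) (.leaf [1])) (.node (.leaf [3, -2, 3, 1, -3, -1, 0, 1]) (.leaf [219, -284, -136, -36, -183, -167, 151, 32, 50, 26, 34]))) (.node (.node (.leaf [8, -2, 3, 6, -3, -6,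 0, 1]) (.leaf [-543, 150, 250, -133, 165, 382, -223, 34, -62, -11, -34, -2])) (.node (.leaf [1]) (.leaf [42289, -266798, -42820, -93349, -160100, -55327, 105828, 63339, 27356, 19564, 21280, 1950, -90, 0, 0, -1, -1])))) (.node (.node (.node (.leaf [-27, 2, 31, -16, -6, 31, -15, 4, -2, 0, -3]) (.leaf [-4846, 8794, 3174, 2133, 5626, 3993, -4506, -1434, -1210, -807, -943, -9, 6, 0, -1])) (.node (.leaf []) (.leaf [15825, -2258, 7647, 4572, -9925, -7286, 1724, 459, -196, 530, 371, -137, 102, 0, 1]))) (.node (.node (.leaf [9, 2, 1, 5, -1, -5, 0, -1]) (.leaf [-101, 18, 15, -44, 45, 62, -22, 7, -7, 2, -11, 1, -1])) (.node (.leaf [296, -92, -216, 108, -48, -243, 121, -31, 40, 7, 30, -1, 1]) (.leaf [78708, -200768, -32996, -83133, -122250, -80697, 99610, 44330, 4578, 29812, 19366, -1576, 3874, 0, 0, 1, 1])))))))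

def twoL217 : Janko.Tree (List ℤ) :=
  (.node (.node (.node (.node (.node (.node (.leaf [0, 1]) (.leaf [0, 1])) (.node (.leaf [611, -514, 263, 140, -548, -389, 141, 134, 31, 60, 38, -9, 3]) (.leaf [0, 1]))) (.node (.node (.leaf [0, 1]) (.leaf [])) (.node (.leaf []) (.leaf [95637, -69966, 86711, -51372, -115649, -57074, 62832, 33741, -26400, 18222, 4835, -33, 4618, -1, 1, 0, 1])))) (.node (.node (.node (.leaf []) (.leaf [])) (.node (.leaf [0, 1]) (.leaf [90854, -11114, -29322, 3084, -22341, -69305, 46351, -5089, -5837, 9053, 6548, -1063, 1945, -1, 0, 1, 1]))) (.node (.node (.leaf [0, 1]) (.leaf [17596, -22480, -3320, -914, -17395, -12041, 9343, 3743, 3473, 1852, 2218, -41, -5, -1, 1])) (.node (.leaf [-94, 171, -57, -23, 120, 68, -11, -43, -21, -16, -4, 0, -1]) (.leaf [19878, -455145, -33298, -156610, -270270, -44896, 138022, 112350, 51935, 28702, 31546, 3748, -708, 1, -1, -1, -1]))))) (.node (.node (.node (.node (.leaf [0, 1]) (.leaf [0, -1, 0, -2, 0, 0, 0, 0, 0, 1]))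 (.node (.leaf []) (.leaf [0, 1]))) (.node (.node (.leaf []) (.leaf [])) (.node (.leaf [0, 1]) (.leaf [])))) (.node (.node (.node (.leaf [0, 1]) (.leaf [0, 1])) (.node (.leaf [0, 1]) (.leaf [0, 1]))) (.node (.node (.leaf [0, -1, -2, 0, 0, 0, 0, 0, 1]) (.leaf [194, -132, -51, 53, -121, -137, 74, 12, 28, 6, 21, -1])) (.node (.leaf [0, 1]) (.leaf [0, 1])))))) (.node (.node (.node (.node (.node (.leaf []) (.leaf [0, 1])) (.node (.leaf []) (.leaf [-679, 310, 320, 25, 293, 388, -317, 42, -106, -49, -43, 0, 1]))) (.node (.node (.leaf []) (.leaf [0, 1])) (.node (.leaf [-2, -1, -2, -2, 2, 0, 0, 0, 0, 1]) (.leaf [0, 1])))) (.node (.node (.node (.leaf [0, 1]) (.leaf [0, 1])) (.node (.leaf []) (.leaf [-113462, 42795, -55176, 3586, 84714, 60472, -35322, -13064, 10115, -12507, -4080, 1282, -3143, 1, -1, 0, -1]))) (.node (.node (.leaf [328, -22, -177, 179, -16, -240, 55, -60, 34, 12, 34, -10, 1]) (.leaf [])) (.node (.leaf [0, 1]) (.leaf [-1786, -221, 2, -826, 416, 968, -190, 203,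 -98, 6, -18, 16, 2]))))) (.node (.node (.node (.node (.leaf [0, 1]) (.leaf [-2468, 2614, 2332, 58, 1142, 2382, -1856, -208, -535, -242, -272, -48, -2, 0, 0, 0, 1])) (.node (.leaf [0, 1]) (.leaf [0, 1]))) (.node (.node (.leaf []) (.leaf [0, -1, 0, -2, 0, 0, 0, 0, 0, 1])) (.node (.leaf [264, -752, -211, 79, -376, -290, 181, 157, 160, 16, 44, 0, -1]) (.leaf [0, 1])))) (.node (.node (.node (.leaf [-2, -6, 0, -4, -4, 2, 2, 2, 1]) (.leaf [])) (.node (.leaf [0, 1]) (.leaf [0, 1]))) (.node (.node (.leaf []) (.leaf [0, 1])) (.node (.leaf [0, 1]) (.leaf [0, 1])))))))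

def twoL218 : Janko.Tree (List ℤ) :=
  (.node (.node (.node (.node (.node (.node (.leaf []) (.leaf [10, -22, -2, 4, -10, -13, 5, 5, 3, 2, 1])) (.node (.leaf [390, -138, -195, 117, -121, -275, 138, -30, 56, 10, 33]) (.leaf []))) (.node (.node (.leaf []) (.leaf [0, 0, 1, 1, 0, 0, -1])) (.node (.leaf [0, 0, 1]) (.leaf [63379, -78158, -32065, -2351, -52565, -47674, 38141, 9724, 14571, 6246, 8842, -136, -168, 0, 1, -1])))) (.node (.node (.node (.leaf [0, 0, 1]) (.leaf [0, 0, 1])) (.node (.leaf [0, 2, 1, -1, 0, 0, 1, 0, -1]) (.leaf [1820, 1122, 1591, 764, -597, -727, -157, -162, -415, 61, -44, -42, 41]))) (.node (.node (.leaf []) (.leaf [0, 0, 1])) (.node (.leaf []) (.leaf [69241, -390582, -71772, -93806, -228581, -78359, 128221, 85415, 58029, 20250, 29875, 3560, -1838, 1, -1, -1, -1]))))) (.node (.node (.node (.node (.leaf []) (.leaf [0, 0, 1, 1, 0, 0, -1])) (.node (.leaf [0, 0, 1, 1, 0, 0, -1]) (.leaf [0, 2, 2, -1, 0, 0, 1, 0, -1]))) (.node (.node (.leaf [0, 0, 1]) (.leaf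 [0, 0, 1])) (.node (.leaf [238, 128, -204, -14, 51, -125, 119, -90, 12, 5, 4, 4, 1]) (.leaf [-28628, -1516, 13358, -6637, 2427, 19873, -10372, 4752, -411, -1851, -2151, 563, -144, 1, 0, -1])))) (.node (.node (.node (.leaf []) (.leaf [])) (.node (.leaf [-103, 38, 9, -29, 53, 63, -30, -1, -11, -2, -5]) (.leaf [-8826, 30782, -6559, 7423, 24462, 4680, -7889, -8298, -3350, -1862, -1636, -224, -21, -1, 0, 1]))) (.node (.node (.leaf [0, 0, 1]) (.leaf [0, 0, 1])) (.node (.leaf [-23572, -23424, -4955, -19474, -3521, 10265, 4109, 7089, 727, 2460, 1346, -21, 111, 0, 0, -1]) (.leaf [-6302, -1632, -224, -1800, 1255, 3687, -1471, 748, 412, -220, -136, 68, -56])))))) (.node (.node (.node (.node (.node (.leaf [0, 0, 0, -1, 0, 0, 1]) (.leaf [])) (.node (.leaf [0, 0, 0, -1, 0, 0, 1]) (.leaf [0, 0, 1]))) (.node (.node (.leaf [203, -70, -36, 61, -89, -133, 64, 0, 22, 4, 9]) (.leaf [-632, -684, -566, -585, 5, 199, 276, 143, 86, 43, 58, 13, -1])) (.node (.leaf [0, 0, 1, 1, 0, 0, -1]) (.leaf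 [-758, -124, -24, -325, 205, 415, -116, 82, -20, 12, -13, 0, 1])))) (.node (.node (.node (.leaf []) (.leaf [])) (.node (.leaf []) (.leaf [0, 0, 0, -1, 0, 0, 1]))) (.node (.node (.leaf [0, 0, 0, -1, 0, 0, 1]) (.leaf [-1, 2, 1, 0, 1, 0, 0, 0, -1])) (.node (.leaf []) (.leaf [0, 0, 0, -1, 0, 0, 1]))))) (.node (.node (.node (.node (.leaf []) (.leaf [-906, 1046, 272, -176, 673, 753, -401, -164, -177, -85, -94, -2, -1])) (.node (.leaf []) (.leaf [266, -318, -161, -32, -205, -195, 167, 29, 62, 30, 38]))) (.node (.node (.leaf [0, 0, 1, 1, 0, 0, -1]) (.leaf [0, 0, 1, 1, 0, 0, -1])) (.node (.leaf []) (.leaf [172, -176, 82, 24, -181, -119, 63, 58, 10, 10, 4, 2, 4])))) (.node (.node (.node (.leaf [0, 0, 1]) (.leaf [0, 0, 1])) (.node (.leaf []) (.leaf [12696, -13074, -228, 145, -11746, -7730, 5545, 2294, 2067, 1088, 1156, -60, -8, 0, 1, -1]))) (.node (.node (.leaf [86, -36, -29, 25, -35, -61, 32, 0, 11, 2, 5]) (.leaf [-265, 58, 67, -65, 101, 172, -93, 14, -18, -6, -18, 0, -1]))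 (.node (.leaf []) (.leaf [250, -888, -188, -392, -657, -185, 485, 218, 110, 38, 70, 8])))))))

def twoL219 : Janko.Tree (List ℤ) :=
  (.node (.node (.node (.node (.node (.node (.leaf []) (.leaf [])) (.node (.leaf [0, 0, 0, 1]) (.leaf []))) (.node (.node (.leaf []) (.leaf [0, 0, 0, 1])) (.node (.leaf [30602, -18904, -11715, 2386, -16724, -22046, 15828, 1276, 3388, 1934, 2872, -64, 46, 1, 0, -1]) (.leaf [62, -10, -37, 31, -19, -45, 24, -6, 8, -4, 8, -1])))) (.node (.node (.node (.leaf [-2152, 1098, 282, -491, 1230, 1258, -633, -44, -296, -84, -142, 18, -1]) (.leaf [110, 6, -24, 61, -31, -73, 23, -14, 4, -4, 12, -1])) (.node (.leaf []) (.leaf [0, 0, 0, 1]))) (.node (.node (.leaf []) (.leaf [])) (.node (.leaf []) (.leaf [0, 0, 0, 1]))))) (.node (.node (.node (.node (.leaf [423, -102, -128, 120, -152, -245, 120, -32, 54, 10, 26, -7]) (.leaf [0, 0, 0, 1])) (.node (.leaf [0, 0, 0, 1]) (.leaf []))) (.node (.node (.leaf []) (.leaf [])) (.node (.leaf [66645, -10688, 21730, 14767,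 -30959, -34687, 6773, -1041, -1988, 6415, 1799, -1258, 1417, -1, 1, 1, 1]) (.leaf [0, 0, 0, 1])))) (.node (.node (.node (.leaf []) (.leaf [])) (.node (.leaf []) (.leaf [-7516, 30614, -6364, 7935, 23881, 4000, -7750, -8349, -3270, -1837, -1596, -237, -18, -1, 0, 1]))) (.node (.node (.leaf [-455, 158, 219, -126, 144, 317, -173, 26, -64, -13, -32, 3, 1]) (.leaf [57080, -66910, -48496, -5725, -37092, -48180, 41739, 5302, 12886, 6618, 9184, -390, -145, 1, 0, -1])) (.node (.leaf []) (.leaf [15809, 36574, 13248, 18526, 9783, -4170, -8271, -7837, -4360, -3244, -3048, 174, 28, 0, -1, 1])))))) (.node (.node (.node (.node (.node (.leaf [0, 0, 0, 1]) (.leaf [])) (.node (.leaf [0, 0, 0, 1]) (.leaf [230, -142, -184, 16, -83, -173, 127, -14, 44, 14, 26, 1]))) (.node (.node (.leaf [0, 0, 0, 1]) (.leaf [-632, -684, -522, -579, -11, 207, 263, 151, 82, 43, 54, 13, -1])) (.node (.leaf [0, 0, 0, 1]) (.leaf [-758, -124, -26, -325, 205, 415, -115, 82, -20, 12, -13, 0, 1])))) (.node (.node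 (.node (.leaf []) (.leaf [])) (.node (.leaf [-840, -126, -41, -359, 253, 477, -156, 72, -10, 18, -18, 1]) (.leaf [0, 0, 0, 1]))) (.node (.node (.leaf [0, 0, 0, 1]) (.leaf [0, 0, 0, 1])) (.node (.leaf [2486, -1732, -1183, 509, -1179, -1899, 1083, 70, 422, 151, 220, 6, -3]) (.leaf [0, 0, 0, 1]))))) (.node (.node (.node (.node (.leaf [603, -302, -191, 176, -297, -405, 220, 12, 96, 6, 38, -1]) (.leaf [-769, 796, 492, -189, 389, 697, -359, -64, -167, -71, -93, -2, -1])) (.node (.leaf []) (.leaf [31320, -19522, -12135, 2394, -17114, -22556, 16186, 1285, 3529, 2013, 2959, -69, 44, 1, 0, -1]))) (.node (.node (.leaf [0, 0, 0, 1]) (.leaf [0, 0, 0, 1])) (.node (.leaf []) (.leaf [218, -180, 30, 36, -175, -151, 80, 44, 20, 12, 8, 2, 4])))) (.node (.node (.node (.leaf []) (.leaf [])) (.node (.leaf []) (.leaf []))) (.node (.node (.leaf [0, 0, 0, 1]) (.leaf [-287, 58, 103, -97, 107, 192, -100, 22, -26, 4, -28, 0, -1])) (.node (.leaf [-82, 38, 27, -33, 35, 59, -26, -1, -10, -3, -8,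 3]) (.leaf [-69, 16536, -15754, 2408, 17019, -3894, 1859, -6468, -1856, 64, 242, -302, 52, 0, -1, 1])))))))

def twoL220 : Janko.Tree (List ℤ) :=
  (.node (.node (.node (.node (.node (.node (.leaf [1]) (.leaf [1])) (.node (.leaf [-10, -10, -3, -5, -2, 2, 3, 4, 0, 0, 1]) (.leaf [1]))) (.node (.node (.leaf [0, 0, -1, 0, 1]) (.leaf [459, -146, -224, 98, -143, -337, 211, -19, 50, 12, 28, 2])) (.node (.leaf [2, 4, -2, 0, 2, 0, 0, -2]) (.leaf [67, -14, -33, 32, -21, -48, 22, -6, 8, -2, 8, -1])))) (.node (.node (.node (.leaf [-1, 0, 0, -1, 0, 1]) (.leaf [0, 0, 0, -1, 0, 1])) (.node (.leaf [82, -34, -48, 20, -27, -59, 35, -5, 13, 2, 7]) (.leaf [1]))) (.node (.node (.leaf [1]) (.leaf [29, -14, -93, 5, 23, -51, 42, -9, 6, 1, 8, 1])) (.node (.leaf [1, 0, 1, 0, -1]) (.leaf [417, 322, 196, 343, -36, -187, -74, -78, -24, -39, -18, -1, -1]))))) (.node (.node (.node (.node (.leaf [1]) (.leaf [0, 0, -1, 0, 1])) (.node (.leaf []) (.leaf [-9173, 14942, 5856, 3104, 9482, 6904, -7220,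 -1996, -2386, -1501, -1695, 85, 22, 0, -1]))) (.node (.node (.leaf [-1, 0, 0, -1, 0, 1]) (.leaf [-1, 0, 0, -1, 0, 1])) (.node (.leaf [-57, -2, 27, -34, 20, 41, -23, 5, -4, 7, -8, 1]) (.leaf [362, -366, -218, 29, -223, -296, 203, 31, 71, 34, 49, -1, -1])))) (.node (.node (.node (.leaf [1]) (.leaf [1])) (.node (.leaf [0, 0, 0, -1, 0, 1]) (.leaf [-134, -6, -181, -56, 132, -13, 53, -3, -6, 1, 4, 7]))) (.node (.node (.leaf [1, 0, 0, 1, 0, -1]) (.leaf [-1, 0, 0, -1, 0, 1])) (.node (.leaf [1]) (.leaf [1])))))) (.node (.node (.node (.node (.node (.leaf [-2, 2, -2, -2, 2, 2, 0, -1]) (.leaf [-730, -1974, -748, -1788, -968, 586, 894, 412, 247, 194, 174, -30, -10, 1])) (.node (.leaf [0, 2, -1, -1, 1, 1, 0, -1]) (.leaf [230, -142, -183, 15, -84, -172, 127, -14, 44, 14, 26, 1]))) (.node (.node (.leaf []) (.leaf [-14587, -18992, -12663, -12111, -878, 4006, 5657, 4161, 2651, 1284, 1460, 109, -169, 0, 0, -1])) (.node (.leaf [0, 0, -1, 0, 1]) (.leaf [-13238, 10852, 2033, -336, 9925,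 8062, -5702, -1271, -1908, -1159, -1235, 132, 15, 0, -1, 1])))) (.node (.node (.node (.leaf [0, 0, -1, 0, 1]) (.leaf [0, 0, 0, -1, 0, 1])) (.node (.leaf [1, 0, 1, 0, -1]) (.leaf [3, 0, 1, 1, -1, -1]))) (.node (.node (.leaf [1]) (.leaf [19907, -168004, -88947, -90236, -62482, -58761, 96129, 32625, 5849, 24778, 19094, -1051, 2707, 0, 1, 0, 1])) (.node (.leaf [361, -360, -209, 15, -235, -275, 200, 28, 75, 30, 47]) (.leaf [19482, -32426, 825, -4921, -26311, -11433, 11116, 6409, 4420, 2662, 2765, -43, 0, 0, 1]))))) (.node (.node (.node (.node (.leaf [1]) (.leaf [-635, 712, 393, -10, 418, 523, -373, -67, -133, -70, -86])) (.node (.leaf [0, 0, -1, 0, 1]) (.leaf [1085, -1510, -565, -45, -913, -853, 614, 180, 273, 142, 160, 1, -1]))) (.node (.node (.leaf [8, 2, 13, 4, -6, 1, -5, 0, 0, 0, -1]) (.leaf [-10, -2, -6, -3, 6, 3, 0, 1])) (.node (.leaf [1, 0, 1, 0, -1]) (.leaf [1])))) (.node (.node (.node (.leaf [1, 0, 0, 1, 0, -1]) (.leaf [-9810, 14324, 5654, 2457, 9393, 7314, -7127,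 -1862, -2303, -1429, -1675, 89, 18, 0, -1])) (.node (.leaf [5632, 1200, -1046, 2532, -695, -3425, 1001, -924, 191, -27, 187, -19, -8, 0, 1]) (.leaf [45288, -42608, -15253, -629, -33828, -32808, 25597, 5690, 6700, 3882, 4994, -10, 48, 0, 1, -1]))) (.node (.node (.leaf [2495, 568, 652, 1495, -644, -1340, -23, -222, 24, -56, -20, -13, 3]) (.leaf [1, 2, 1, -2, -1, 2, 0, -1])) (.node (.leaf [0, 0, -1, 0, 1]) (.leaf [-89221, 279334, 36721, 83071, 186085, 80911, -117666, -64081, -29382, -21256, -23046, -1760, -142, 0, 0, 1, 1])))))))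

def twoL221 : Janko.Tree (List ℤ) :=
  (.node (.node (.node (.node (.node (.node (.leaf []) (.leaf [])) (.node (.leaf []) (.leaf []))) (.node (.node (.leaf []) (.leaf [0, 1])) (.node (.leaf [204, -276, -145, -35, -181, -159, 154, 32, 49, 21, 37, -1]) (.leaf [71, -52, -31, 12, -33, -50, 26, 1, 14, 6, 5])))) (.node (.node (.node (.leaf [4, 4, -10, -2, 6, -2, 2, -4, 1, 1]) (.leaf [])) (.node (.leaf []) (.leaf [48296, 70058, -29901, 22599, 40465, -39551, 13580, -23011, -13230, 1174, -474, -1120, 1632, -1, 1, 0, 1]))) (.node (.node (.leaf []) (.leaf [])) (.node (.leaf []) (.leaf [0, 1]))))) (.node (.node (.node (.node (.leaf []) (.leaf [-535, -210, 106, -305, 51, 218, -17, 128, -70, 37, -5, 10, 5])) (.node (.leaf [0, 1]) (.leaf [-860, 319, 449, 25, 332, 512, -431, 70, -112, -56, -64, 2, 1]))) (.node (.node (.leaf [-2, 2, 0, 0, 0, 2, 0, 0, 0, -1]) (.leaf [145, -62, -61, 26, -57, -94, 56, -6, 22, 6, 9])) (.node (.leaf []) (.leaf [0, 1])))) (.node (.node (.node (.leaf [])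 (.leaf [-258, 1346, 567, 693, 768, 216, -697, -247, -212, -99, -108, -8, 1])) (.node (.leaf []) (.leaf [18620, -20692, 122, -1676, -18568, -11562, 9142, 3733, 2463, 2041, 2102, -80, 87, -1, 1]))) (.node (.node (.leaf []) (.leaf [0, 2, 0, 2, 0, 0, 0, 0, 0, -1])) (.node (.leaf [-168, -328, -253, -91, 12, -34, 81, 61, 45, 25, 36, -2, -1]) (.leaf [674, -549, -413, 13, -370, -482, 363, 13, 133, 52, 76, 0, 1])))))) (.node (.node (.node (.node (.node (.leaf []) (.leaf [0, 1])) (.node (.leaf []) (.leaf []))) (.node (.node (.leaf [0, 1]) (.leaf [-2, -1, -2, -2, 2, 0, 0, 0, 0, 1])) (.node (.leaf [754, -354, -99, 227, -413, -469, 226, 26, 104, 9, 39, -1]) (.leaf [])))) (.node (.node (.node (.leaf []) (.leaf [])) (.node (.leaf []) (.leaf [-114882, 42499, -55241, 2989, 85077, 61243, -35548, -12903, 10094, -12484, -4098, 1282, -3140, 1, -1, 0, -1]))) (.node (.node (.leaf []) (.leaf [0, 1])) (.node (.leaf [0, 1]) (.leaf [75, -52, -29, 14, -35, -52, 26, 1, 14, 6, 5]))))) (.node (.node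 (.node (.node (.leaf []) (.leaf [0, 1])) (.node (.leaf [-145, 61, 63, -26, 57, 94, -58, 6, -22, -5, -9]) (.leaf [92654, -149163, 15392, 10232, -124727, -48707, 30675, 29797, 31199, 4548, 9686, 907, -1555, 1, 0, -1, -1]))) (.node (.node (.leaf [0, 1]) (.leaf [0, 1])) (.node (.leaf []) (.leaf [282, -577, -241, -115, -330, -246, 259, 83, 91, 50, 64, 0, 1])))) (.node (.node (.node (.leaf []) (.leaf [0, 6, 4, 2, 0, 0, 0, 0, -2, -1])) (.node (.leaf [0, 1]) (.leaf [0, 1]))) (.node (.node (.leaf [0, 1]) (.leaf [0, 1])) (.node (.leaf [26444, -16492, -210, 3100, -18291, -16013, 9413, 2035, 2369, 1864, 2092, -197, 83, -1, 1]) (.leaf [0, -1, 0, -2, 0, 0, 0, 0, 0, 1])))))))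

def twoL222 : Janko.Tree (List ℤ) :=
  (.node (.node (.node (.node (.node (.node (.leaf []) (.leaf [136, -68, -98, 44, -35, -111, 59, -7, 25, 4, 12])) (.node (.leaf [0, 0, 0, -1, 0, 0, 1]) (.leaf [-2571, -1212, -4924, -2138, 2129, 279, 1355, -383, 237, 304, 500, -35, -17, 0, 0, 1]))) (.node (.node (.leaf [0, 0, 1]) (.leaf [31590, -340616, -87529, -111019, -180270, -63388, 127355, 75600, 43876, 21358, 27306, 3128, -960, 0, 0, 0, -1])) (.node (.leaf [30580, -18892, -11650, 2357, -16754, -22006, 15821, 1286, 3378, 1932, 2868, -64, 46, 1, 0, -1]) (.leaf [52254, -67638, -9575, -6608, -53358, -35100, 30024, 11562, 9733, 5944, 6682, -142, 40, 0, 1, -1])))) (.node (.node (.node (.leaf [-1166, 670, 631, -332, 406, 872, -414, 40, -220, -60, -92, -4, 1]) (.leaf [1, -2, 0, 0, -1, 0, 0, 0, 1])) (.node (.leaf [0, 0, 1]) (.leaf []))) (.node (.node (.leaf []) (.leaf [0, 0, 1, 1, 0, 0, -1])) (.node (.leaf [0, 0, 1]) (.leaf [761, 74, 64, 337, -251, -421, 114, -60, 22, -13, 16, -1,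 -1]))))) (.node (.node (.node (.node (.leaf [-5, 2, 0, -1, 3, 2, -1, 0, -1]) (.leaf [0, 0, 1])) (.node (.leaf []) (.leaf [0, 0, 0, -1, 0, 0, 1]))) (.node (.node (.leaf [0, 0, 1, 1, 0, 0, -1]) (.leaf [0, 0, 1, 1, 0, 0, -1])) (.node (.leaf [0, 0, 0, -1, 0, 0, 1]) (.leaf [-7, 26, 15, 143, 50, -62, -53, 8, -10, -14, 3, -1, 1])))) (.node (.node (.node (.leaf []) (.leaf [])) (.node (.leaf [-180, 74, 28, -45, 90, 111, -58, -3, -23, -4, -7]) (.leaf [0, 0, 0, -1, 0, 0, 1]))) (.node (.node (.leaf [-285, 58, 190, -101, 38, 205, -94, 44, -42, -9, -26, 3, 1]) (.leaf [8656, -30266, 6451, -7258, -24010, -4646, 7738, 8160, 3268, 1844, 1622, 218, 21, 1, 0, -1])) (.node (.leaf []) (.leaf [])))))) (.node (.node (.node (.node (.node (.leaf [0, 0, 1]) (.leaf [-1086, -182, -31, -1057, 2, 804, 193, 140, -79, 33, 0, 0, -3])) (.node (.leaf [0, 0, 1]) (.leaf [0, 0, 0, -1, 0, 0, 1]))) (.node (.node (.leaf []) (.leaf [24132, -75304, -22717, -24180, -42464, -24580, 33470, 14378, 8385, 7584, 7244,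 -166, 227, 0, 0, -1])) (.node (.leaf [0, 0, 1]) (.leaf [0, 0, 0, -1, 0, 0, 1])))) (.node (.node (.node (.leaf [0, 0, 1]) (.leaf [466, 1062, 279, 694, 461, -183, -391, -298, -107, -51, -66, -8, -1])) (.node (.leaf [0, 0, 1]) (.leaf [0, 0, 0, -1, 0, 0, 1]))) (.node (.node (.leaf [-5, 2, 0, -1, 3, 2, -1, 0, -1]) (.leaf [51727, -255554, -72284, -119845, -127660, -79960, 122869, 54764, 9499, 36339, 25046, -1864, 3993, 0, 1, 0, 1])) (.node (.leaf []) (.leaf [34568, -31118, 13755, 1292, -35974, -17650, 11022, 7436, 3391, 2496, 2064, 28, 144, 0, 1, -1]))))) (.node (.node (.node (.node (.leaf [11, 2, -1, 5, -1, -6, 1, -2, 1]) (.leaf [-232, 370, 198, 12, 180, 223, -163, -42, -63, -36, -44])) (.node (.leaf [0, 0, 1]) (.leaf [804, -792, -474, 43, -505, -617, 438, 57, 169, 68, 102]))) (.node (.node (.leaf [8, 6, 11, 8, -1, -1, -7, -2, 0, 0, -1]) (.leaf [])) (.node (.leaf [0, 0, 1]) (.leaf [])))) (.node (.node (.node (.leaf [0, 0, 1, 1, 0, 0, -1]) (.leaf [0, 0, 1, 1, 0, 0, -1]))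 (.node (.leaf []) (.leaf [45148, -55172, -18116, -5263, -40135, -34129, 29696, 8499, 8230, 4759, 6009, 50, 39, 0, 1, -1]))) (.node (.node (.leaf [1268, -702, 405, 465, -936, -708, 199, 166, 136, 24, 27, -5, 3]) (.leaf [2616, 50176, 22416, 15840, 18938, 5550, -15646, -9044, -8838, -3016, -4334, -174, 318, -1, 0, 1])) (.node (.leaf [0, 0, 1]) (.leaf [6222, 1660, 259, 1778, -1227, -3631, 1441, -744, -422, 218, 130, -68, 56])))))))

def twoL223 : Janko.Tree (List ℤ) :=
  (.node (.node (.node (.node (.node (.node (.leaf []) (.leaf [])) (.node (.leaf [0, 0, 0, 1]) (.leaf [-513, 164, 95, -157, 248, 290, -139, 17, -66, -4, -36, 7]))) (.node (.node (.leaf []) (.leaf [545, -154, -244, 130, -171, -380, 223, -33, 62, 12, 34, 2])) (.node (.leaf [0, 0, 0, 1]) (.leaf [0, 0, 0, 1])))) (.node (.node (.node (.leaf [0, 0, 0, 1]) (.leaf [0, 0, 0, 1])) (.node (.leaf []) (.leaf []))) (.node (.node (.leaf []) (.leaf [0, 0, 0, 1])) (.node (.leaf []) (.leaf [293, -10, -16, 107, -119, -205,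 109, -2, -6, -5, 18, -1, 1]))))) (.node (.node (.node (.node (.leaf []) (.leaf [-70, 10, 34, -38, 21, 51, -23, 6, -8, 4, -8, 1])) (.node (.leaf []) (.leaf [0, 0, 0, 1]))) (.node (.node (.leaf [0, 0, 0, 1]) (.leaf [0, 0, 0, 1])) (.node (.leaf [0, 0, 0, 1]) (.leaf [366, -350, -168, -3, -259, -257, 201, 31, 69, 32, 45, -1, -1])))) (.node (.node (.node (.leaf []) (.leaf [230, -142, -183, 17, -83, -173, 126, -14, 44, 14, 26, 1])) (.node (.leaf [0, 0, 0, 1]) (.leaf [0, 0, 0, 1]))) (.node (.node (.leaf [0, 0, 0, 1]) (.leaf [0, 0, 0, 1])) (.node (.leaf [-70, 10, 33, -39, 21, 51, -22, 6, -8, 4, -8, 1]) (.leaf [31762, -339512, -112908, -115309, -168993, -73372, 140305, 73698, 43912, 21614, 27958, 3646, -1072, 1, -1, -1, -1])))))) (.node (.node (.node (.node (.node (.leaf []) (.leaf [-142, 162, 138, -18, 67, 142, -95, -11, -33, -15, -23, 0, 1])) (.node (.leaf []) (.leaf [0, 0, 0, 1]))) (.node (.node (.leaf []) (.leaf [0, 0, 0, 1])) (.node (.leaf []) (.leaf [0, 0, 0, 1])))) (.node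 (.node (.node (.leaf []) (.leaf [0, 0, 0, 1])) (.node (.leaf [-623, 296, -248, -397, 463, 360, -37, -95, -83, 34, -7, 2, 1]) (.leaf [0, 0, 0, 1]))) (.node (.node (.leaf []) (.leaf [-21539, -15698, 47308, -73737, -25440, 2986, 34192, 21832, -32671, 14291, 408, -244, 4233, 0, 1, 0, 1])) (.node (.leaf []) (.leaf [0, 0, 0, 1]))))) (.node (.node (.node (.node (.leaf []) (.leaf [])) (.node (.leaf []) (.leaf [0, 0, 0, 1]))) (.node (.node (.leaf []) (.leaf [-259, 24, 86, -91, 65, 144, -55, 35, -32, -5, -16, 6])) (.node (.leaf []) (.leaf [])))) (.node (.node (.node (.leaf [0, 0, 0, 1]) (.leaf [0, 0, 0, 1])) (.node (.leaf []) (.leaf [57329, -75442, -12982, -7897, -58659, -40099, 35289, 13253, 10766, 6179, 7348, 113, 62, 0, 1, -1]))) (.node (.node (.leaf [1156, -658, 419, 397, -866, -614, 154, 154, 128, 36, 15, -7, 3]) (.leaf [20313, 26612, 10110, 16111, 3538, -7397, -4285, -6386, -2775, -2328, -1931, 90, 24, -1, 0, 1])) (.node (.leaf [-336, 96, 158, -142, 97, 243, -107, 23,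 -42, -4, -32, 7]) (.leaf [0, 0, 0, 1])))))))

def twoL224 : Janko.Tree (List ℤ) :=
  (.node (.node (.node (.node (.node (.node (.leaf [1, 0, 1, 0, -1]) (.leaf [213, -120, -149, 68, -62, -177, 93, -7, 39, 8, 20])) (.node (.leaf [254771, -312500, 32549, -71338, -281987, -167320, 153066, 70148, 14790, 39312, 28516, -1396, 4880, 0, 1, 0, 1]) (.leaf [-452, -1044, -187, -685, -495, 200, 367, 307, 96, 51, 60, 7, 1]))) (.node (.node (.leaf [2, 0, 0, 1, 0, -1]) (.leaf [1])) (.node (.leaf [188, -84, -42, 54, -91, -121, 59, 1, 26, 4, 11]) (.leaf [28684, -16050, -616, 4156, -18720, -17182, 9738, 1660, 2538, 1800, 2183, -234, 78, -1, 1])))) (.node (.node (.node (.leaf [-1, 2, -2, -1, 2, 1, 0, -1]) (.leaf [-12693, -23432, 6353, -8612, -12390, 8363, -779, 7628, 3248, 274, 326, 406, -166, 0, 1, -1])) (.node (.leaf [-2, -6, 5, -1, -5, 1, 0, 3]) (.leaf [1, 0, 1, 0, -1]))) (.node (.node (.leaf [1, 0, 1, 0, -1]) (.leaf [7694, -8740, -2206, -1096, -7080, -4874, 4414, 1150, 1398, 848, 1044,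 -64, -6, 0, 1])) (.node (.leaf [-1, 0, 0, -1, 0, 1]) (.leaf [3, 0, 1, 1, -1, -1]))))) (.node (.node (.node (.node (.leaf [1, 0, 0, 1, 0, -1]) (.leaf [-105490, 158046, -14061, -12445, 132487, 58651, -36170, -31401, -32171, -5504, -10433, -990, 1476, -1, 1, 1, 1])) (.node (.leaf [1]) (.leaf [-8756, 13510, 5518, 2679, 8616, 6539, -6674, -1731, -2198, -1380, -1554, 86, 22, 0, -1]))) (.node (.node (.leaf []) (.leaf [4223, -4294, -762, 844, -3236, -2960, 1454, 536, 758, 410, 522, -71, -8, -1])) (.node (.leaf [1, -12, -3, 0, -1, -4, 0, 2, 2, 2]) (.leaf [2, -14, -17, 1, -1, -7, 6, 1, 4, 0, 2])))) (.node (.node (.node (.leaf [1, 0, 1, 0, -1]) (.leaf [1, 0, 1, 0, -1])) (.node (.leaf []) (.leaf [-216, 68, -35, -70, 129, 96, -26, 0, -26, -4, -8, 4]))) (.node (.node (.leaf [-8, -2, -1, -6, 1, 6, 0, 1]) (.leaf [-1197, 1048, 383, -383, 689, 987, -446, -133, -207, -77, -105, -1, -1])) (.node (.leaf [1, 0, 1, 0, -1]) (.leaf [1, 0, 1, 0, -1])))))) (.node (.node (.node (.node (.node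 (.leaf [-4, 2, -3, -3, 3, 3, 0, -1]) (.leaf [98, 170, 27, 59, 29, -21, -2, -40, -14, -18, -13])) (.node (.leaf [-68, -2, 31, -39, 21, 47, -24, 7, -6, 7, -8, 1]) (.leaf []))) (.node (.node (.leaf [-925, -498, -253, -512, 115, 398, 46, 170, 24, 18, 21, 15, 1]) (.leaf [0, 0, -1, 0, 1])) (.node (.leaf [2, 0, 0, 1, 0, -1]) (.leaf [727, -228, -201, 180, -299, -448, 240, -30, 86, 18, 44, -4])))) (.node (.node (.node (.leaf [2, 0, 0, 1, 0, -1]) (.leaf [-42, 32, 58, -1, 11, 42, -37, 2, -9, -2, -7])) (.node (.leaf [129, -82, 25, 64, -99, -88, 26, 18, 12, 0, 12, -1]) (.leaf [64, -14, -35, 34, -21, -48, 24, -4, 8, -4, 8, -1]))) (.node (.node (.leaf [1, 0, 0, 1, 0, -1]) (.leaf [-4236, 1792, -166, -1434, 2422, 2302, -668, -4, -452, -198, -340, 100, -2, 1])) (.node (.leaf [0, 0, -1, 0, 1]) (.leaf [11340, -8320, -982, 1160, -8346, -6702, 4122, 847, 1474, 832, 1129, -122, 0, -1, 1]))))) (.node (.node (.node (.node (.leaf [1, 0, 0, 1, 0, -1]) (.leaf [162, -46, -261, -160, -26, -75,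 191, -47, 30, 23, 18, -1])) (.node (.leaf [2, 0, 0, 1, 0, -1]) (.leaf []))) (.node (.node (.leaf [3, 0, 1, 1, -1, -1]) (.leaf [0, 0, -1, 0, 1])) (.node (.leaf [-1, 0, 0, -1, 0, 1]) (.leaf [1, 0, 1, 0, -1])))) (.node (.node (.node (.leaf []) (.leaf [-1147, 1278, 646, 48, 848, 878, -698, -129, -236, -112, -160, 0, -2, 0, -1])) (.node (.leaf [4697, -8744, -3217, -2166, -5497, -3928, 4458, 1420, 1200, 814, 934, 10, -6, 0, 1]) (.leaf [8738, -8726, -2003, -721, -7513, -5323, 4484, 1059, 1464, 858, 1060, -70, -8, 0, 1]))) (.node (.node (.leaf [1633, -54, 340, 625, -726, -791, 182, -64, 76, 6, 23, -17, 3]) (.leaf [0, 0, -1, 0, 1])) (.node (.leaf [3888, -1696, 358, 1299, -2315, -2036, 525, 27, 410, 205, 305, -100, 1, -1]) (.leaf [-23325, 13452, 1352, -1798, 15578, 13816, -9002, -1346, -2040, -1560, -1832, 144, -92, 0, -1])))))))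

def twoL225 : Janko.Tree (List ℤ) :=
  (.node (.node (.node (.node (.node (.node (.leaf []) (.leaf [-4, 3, 2, 0, 2, 2, -2, 0, -1])) (.node (.leaf [0, 1]) (.leaf [0, 1]))) (.node (.node (.leaf []) (.leaf [])) (.node (.leaf [0, 1]) (.leaf [0, 1])))) (.node (.node (.node (.leaf [0, 1]) (.leaf [0, 1])) (.node (.leaf []) (.leaf []))) (.node (.node (.leaf []) (.leaf [0, 1])) (.node (.leaf [-2, 2, 0, 0, 0, 2, 0, 0, 0, -1]) (.leaf [-70311, 98999, -57775, 62126, 110823, 50454, -67054, -37825, 18352, -18282, -7263, -395, -4086, 1, -1, 0, -1]))))) (.node (.node (.node (.node (.leaf []) (.leaf [0, 1])) (.node (.leaf []) (.leaf []))) (.node (.node (.leaf [0, 1]) (.leaf [0, 1])) (.node (.leaf [0, 1]) (.leaf [0, 1])))) (.node (.node (.node (.leaf []) (.leaf [-22092, 34999, 8858, 8508, 24060, 17552, -18080, -6302, -3565, -3962, -3642, 184, -212, 0, -1, 1])) (.node (.leaf [0, 1]) (.leaf [0, 1]))) (.node (.node (.leaf [0, 1]) (.leaf [])) (.node (.leaf []) (.leaf [-136, 107, 69, -83,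 43, 135, -34, -5, -22, -10, -17, 1])))))) (.node (.node (.node (.node (.node (.leaf []) (.leaf [])) (.node (.leaf []) (.leaf [0, 1]))) (.node (.node (.leaf []) (.leaf [-412, 215, 253, -119, 155, 313, -186, 8, -74, -5, -37, 1])) (.node (.leaf []) (.leaf [0, 1])))) (.node (.node (.node (.leaf []) (.leaf [5188, -342715, -44700, -111610, -190789, -33695, 102453, 82344, 43363, 19417, 24225, 3079, -1070, 1, -1, 0, -1])) (.node (.leaf [0, -1, 0, -2, 0, 0, 0, 0, 0, 1]) (.leaf [0, 1]))) (.node (.node (.leaf []) (.leaf [])) (.node (.leaf []) (.leaf [0, 1]))))) (.node (.node (.node (.node (.leaf [1648, -264, -79, 531, -652, -892, 321, -94, 148, 37, 58, -16, -1]) (.leaf [])) (.node (.leaf []) (.leaf [0, 1]))) (.node (.node (.leaf []) (.leaf [1501, -2041, -1918, -369, -745, -1638, 1511, 198, 382, 197, 193, 50, 1])) (.node (.leaf [0, 2, 0, 2, 0, 0, 0, 0, 0, -1]) (.leaf [480, -662, -329, -57, -397, -397, 336, 77, 114, 60, 81, -1])))) (.node (.node (.node (.leaf [0, 1]) (.leaf [0,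 1])) (.node (.leaf []) (.leaf [0, 1]))) (.node (.node (.leaf [0, 1]) (.leaf [])) (.node (.leaf [0, 1]) (.leaf [-62586, -13423, 639, -5737, 10941, 43013, -23844, 5452, 10048, -5808, -2072, 936, -1844, 1, -1, 0, -1])))))))

def twoL226 : Janko.Tree (List ℤ) :=
  (.node (.node (.node (.node (.node (.node (.leaf [0, 0, 1]) (.leaf [0, 0, 1])) (.node (.leaf [84113, 57140, -35107, 28918, 22422, -62144, 27062, -22740, -10652, 2554, 1740, -1196, 1724, 0, 1, 0, 1]) (.leaf [-592, -1094, -185, -761, -474, 286, 345, 326, 99, 57, 57, 7, 1]))) (.node (.node (.leaf [-4, 0, -1, -1, 2, 2, -1]) (.leaf [-62415, -364738, 46536, -152152, -224808, 24772, 80344, 109395, 32778, 18857, 16678, 5153, -492, 0, -1, 0, -1])) (.node (.leaf [22, 0, -34, 6, 6, -21, 15, -7, 4, 0, 3]) (.leaf [26481, -16096, 1243, 3268, -18656, -15519, 8795, 2113, 2267, 1832, 1940, -206, 102, -1, 1])))) (.node (.node (.node (.leaf []) (.leaf [21444, -66040, -22504, -13821, -36150, -20406, 24947, 11306, 10888, 4796, 6186,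 64, -220, 0, 1, -1])) (.node (.leaf [0, 0, 1, 1, 0, 0, -1]) (.leaf [0, 0, 1]))) (.node (.node (.leaf [0, 0, 1]) (.leaf [])) (.node (.leaf [0, 0, 1, 1, 0, 0, -1]) (.leaf [0, 0, 0, -1, 0, 0, 1]))))) (.node (.node (.node (.node (.leaf [-8, -2, 2, -4, 0, 4, 0, 2, -1]) (.leaf [5, -4, -2, 0, -3, -2, 2, 0, 2])) (.node (.leaf [-610, 278, 264, 44, 277, 325, -277, 40, -97, -47, -36, 0, 1]) (.leaf [0, -2, -2, 0, 0, 0, 0, 0, 1]))) (.node (.node (.leaf [0, 2, 1, -1, 0, 0, 1, 0, -1]) (.leaf [-4, 2, 3, 1, 2, 2, -3, 0, -1])) (.node (.leaf []) (.leaf [-24, 8, -1, -11, 12, 13, -2, 0, -3, 0, -1])))) (.node (.node (.node (.leaf [0, 0, 1]) (.leaf [0, 0, 1])) (.node (.leaf [171, -52, -215, 92, 44, -197, 79, -32, 17, 17, 28, -5, 1]) (.leaf [-41120, -67628, 30322, -18258, -41314, 35518, -13540, 21778, 13274, -1288, 622, 1058, -1630, 0, 0, 0, -1]))) (.node (.node (.leaf [-31, 0, 0, -16, 9, 21, -5, 2, -1, 0, -1]) (.leaf [105, -40, -38, 27, -43, -69, 38, -4, 15, 2, 7])) (.node (.leaf [0, 0,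 1]) (.leaf [0, 0, 1])))))) (.node (.node (.node (.node (.node (.leaf [0, 0, 1, 1, 0, 0, -1]) (.leaf [0, 0, 1])) (.node (.leaf [0, 0, 1, 1, 0, 0, -1]) (.leaf []))) (.node (.node (.leaf [0, 0, 1]) (.leaf [0, 0, 1])) (.node (.leaf [-4, 0, -1, -1, 2, 2, -1]) (.leaf [])))) (.node (.node (.node (.leaf [-4, 0, -1, -1, 2, 2, -1]) (.leaf [2, -6, 20, -1, -13, 7, -6, 3, 1, 0, -1])) (.node (.leaf [125, 456, -151, -48, 239, -68, 86, -155, -95, 14, 7, 0, 1]) (.leaf []))) (.node (.node (.leaf [-2, 2, 0, 0, 2, 0, 0, 0, -1]) (.leaf [67, -30, -57, 16, -15, -53, 33, -7, 13, 2, 7])) (.node (.leaf [0, 0, 1]) (.leaf [19537, -21074, -155, -1512, -18964, -12173, 9517, 3740, 2567, 2082, 2146, -86, 88, -1, 1]))))) (.node (.node (.node (.node (.leaf [6, -2, -1, 2, -2, -4, 2, 0, 1]) (.leaf [0, 0, 0, -1, 0, 0, 1])) (.node (.leaf [-4, 0, -1, -1, 2, 2, -1]) (.leaf []))) (.node (.node (.leaf [0, 0, 0, -1, 0, 0, 1]) (.leaf [0, 0, 1])) (.node (.leaf [0, 0, 1, 1, 0, 0, -1]) (.leaf [0, 0, 1])))) (.node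 (.node (.node (.leaf []) (.leaf [0, -2, -1, 1, 0, 0, -1, 0, 1])) (.node (.leaf [0, 0, 1]) (.leaf [2307, 6, 271, 747, -951, -1032, 295, -194, 148, 14, 48, -16, -3]))) (.node (.node (.leaf [1718, -86, 297, 649, -752, -851, 214, -69, 90, 8, 28, -17, 3]) (.leaf [0, 0, 1])) (.node (.leaf [4, -2, -1, 1, -2, -2, 1, 0, 1]) (.leaf [0, 0, 0, -1, 0, 0, 1])))))))

def twoL227 : Janko.Tree (List ℤ) :=
  (.node (.node (.node (.node (.node (.node (.leaf []) (.leaf [])) (.node (.leaf []) (.leaf [-582, -1098, -185, -757, -480, 278, 350, 328, 99, 57, 57, 7, 1]))) (.node (.node (.leaf [0, 0, 0, 1]) (.leaf [504, -186, -261, 112, -164, -376, 233, -19, 62, 13, 34, 3])) (.node (.leaf []) (.leaf [28676, -16114, -613, 4155, -18747, -17192, 9742, 1678, 2544, 1804, 2187, -234, 78, -1, 1])))) (.node (.node (.node (.leaf []) (.leaf [-12754, -24652, 5700, -9482, -12987, 8284, -21, 7894, 3414, 352, 408, 426, -168, 0, 1, -1])) (.node (.leaf [0, 0, 0, 1]) (.leaf []))) (.node (.node (.leaf []) (.leaf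 [])) (.node (.leaf [0, 0, 0, 1]) (.leaf [0, 0, 0, 1]))))) (.node (.node (.node (.node (.leaf [0, 0, 0, 1]) (.leaf [-134440, -142614, -218451, -165715, 43049, -28006, 146930, 35721, -7285, 16848, 19475, 4502, 2046, -1, 1, 1, 1])) (.node (.leaf [-687, 312, 334, 23, 290, 397, -323, 44, -108, -49, -44, 0, 1]) (.leaf [0, 0, 0, 1]))) (.node (.node (.leaf []) (.leaf [4203, -4334, -808, 804, -3234, -2959, 1486, 542, 766, 418, 524, -71, -12, -1])) (.node (.leaf [471, -262, 2, 99, -282, -285, 141, 40, 62, 20, 6, 2, 1]) (.leaf [-3674, -49216, -22998, -16078, -17802, -5135, 15573, 8862, 8689, 2926, 4237, 206, -312, 1, 0, -1])))) (.node (.node (.node (.leaf []) (.leaf [])) (.node (.leaf [171, -110, -73, 26, -72, -157, 101, 18, 14, 12, 8, 3]) (.leaf [-148, 34, -81, -34, 111, 41, -6, -5, -12, -3, 0, 3]))) (.node (.node (.leaf []) (.leaf [0, 0, 0, 1])) (.node (.leaf []) (.leaf [30435, -18496, -11372, 2512, -16572, -21807, 15553, 1226, 3328, 1903, 2823, -77, 45, 1, 0, -1])))))) (.node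 (.node (.node (.node (.node (.leaf [0, 0, 0, 1]) (.leaf [])) (.node (.leaf [0, 0, 0, 1]) (.leaf []))) (.node (.node (.leaf [-1021, 734, 672, -41, 467, 735, -531, 18, -194, -82, -110, 1]) (.leaf [])) (.node (.leaf [0, 0, 0, 1]) (.leaf [-583, -1102, -240, -789, -452, 271, 369, 316, 102, 66, 58, 8, 1])))) (.node (.node (.node (.leaf [0, 0, 0, 1]) (.leaf [0, 0, 0, 1])) (.node (.leaf [0, 0, 0, 1]) (.leaf [64, -14, -35, 36, -21, -49, 24, -4, 8, -4, 8, -1]))) (.node (.node (.leaf [0, 0, 0, 1]) (.leaf [0, 0, 0, 1])) (.node (.leaf []) (.leaf [17288, -20800, 1331, -2171, -18719, -10150, 8202, 3843, 2410, 2104, 2087, -140, 96, -1, 1]))))) (.node (.node (.node (.node (.leaf [0, 0, 0, 1]) (.leaf [0, 0, 0, 1])) (.node (.leaf [0, 0, 0, 1]) (.leaf []))) (.node (.node (.leaf [0, 0, 0, 1]) (.leaf [11977, -333710, -43880, -106455, -188667, -37324, 102351, 80019, 42144, 18728, 23978, 3010, -1024, 0, 0, 0, -1])) (.node (.leaf [0, 0, 0, 1]) (.leaf [-30989, -924, 15756, -7556, 2636, 21901,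 -11635, 5068, -850, -1787, -2401, 559, -127, 1, 0, -1])))) (.node (.node (.node (.leaf []) (.leaf [])) (.node (.leaf []) (.leaf [-109, 54, 11, -27, 71, 82, -56, -16, -6, 2, -6, 0, -1]))) (.node (.node (.leaf [1676, -86, 289, 633, -736, -833, 213, -65, 86, 8, 28, -17, 3]) (.leaf [115, -18, -42, 39, -27, -74, 29, -14, 12, 4, 8, -1])) (.node (.leaf [4106, -1776, 266, 1371, -2393, -2189, 599, 15, 440, 209, 323, -100, 1, -1]) (.leaf [0, 0, 0, 1])))))))

def twoL228 : Janko.Tree (List ℤ) :=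
  (.node (.node (.node (.node (.node (.node (.leaf [-1, 0, 0, -1, 0, 1]) (.leaf [1, 0, 0, 1, 0, -1])) (.node (.leaf [1]) (.leaf [-664, -1098, -184, -786, -450, 323, 331, 333, 94, 58, 56, 7, 1]))) (.node (.node (.leaf []) (.leaf [-7767, 8774, 2210, 1040, 7108, 4938, -4422, -1155, -1406, -848, -1048, 64, 6, 0, -1])) (.node (.leaf [3, 0, 1, 1, -1, -1]) (.leaf [287720, -309524, -25528, -62290, -265354, -200500, 175144, 57770, 19623, 41372, 33546, -2249, 4700, -1, 1, 1, 1])))) (.node (.node (.node (.leaf [0, 0, -1, 0, 1]) (.leaf [1])) (.node (.leaf []) (.leaf [-1, 0, 0, -1, 0, 1]))) (.node (.node (.leaf [-1, 0, 0, -1, 0, 1]) (.leaf [4311, 1802, -1149, 2000, 34, -2623, 823, -953, 39, -73, 113, -21, -6, 0, 1])) (.node (.leaf []) (.leaf [68, -10, -35, 38, -19, -50, 22, -6, 8, -4, 8, -1]))))) (.node (.node (.node (.node (.leaf []) (.leaf [-68, 10, 35, -37, 20, 50, -23, 6, -8, 4, -8, 1])) (.node (.leaf [78, -24, 12, -19, -41, -40, 37, 5, 0, 10, -4, 1]) (.leaf [3, 0, 1, 1, -1,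 -1]))) (.node (.node (.leaf [-13, -6, 10, -9, -3, 16, -7, 3, 3, 0, -3]) (.leaf [])) (.node (.leaf [3, -2, -12, 1, 3, -6, 5, -1, 1, 0, 1]) (.leaf [-75, 2, 65, -37, -8, 64, -27, 14, -11, 0, -4])))) (.node (.node (.node (.leaf [-1, 0, 0, -1, 0, 1]) (.leaf [223, -146, -183, 14, -83, -170, 126, -12, 44, 14, 26, 1])) (.node (.leaf [3, 6, -3, -1, 3, 1, 0, -3]) (.leaf [5391, -16456, -1119, -4422, -11095, -3720, 5310, 3360, 2092, 1424, 1360, -8, 0, 0, 1]))) (.node (.node (.leaf [0, 0, 0, -1, 0, 1]) (.leaf [5, 2, 2, 1, -2, -1, 0, -1])) (.node (.leaf [-71, 10, 35, -38, 21, 52, -24, 6, -8, 4, -8, 1]) (.leaf [1449, -327340, -68270, -113432, -171481, -40779, 112327, 77934, 41022, 18324, 23772, 3700, -1082, 1, -1, -1, -1])))))) (.node (.node (.node (.node (.node (.leaf [150, 102, -14, 52, -6, -66, 34, -34, -2, -10, -5]) (.leaf [-57, -2, 49, -31, 7, 43, -24, 11, -8, 5, -8, 1])) (.node (.leaf [-66, 26, 32, -16, 23, 47, -27, 3, -9, -2, -5]) (.leaf [1]))) (.node (.node (.leaf [188, -74,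 -24, 46, -95, -113, 59, 3, 23, 4, 7]) (.leaf [2, 0, 0, 1, 0, -1])) (.node (.leaf []) (.leaf [-32278, 26576, 13021, -654, 20862, 23661, -17843, -2715, -4433, -2704, -3558, 151, -29, 0, 0, 1])))) (.node (.node (.node (.leaf []) (.leaf [-1068, -112, -39, -422, 330, 617, -215, 84, -14, 9, -24, 1])) (.node (.leaf [-4, -10, 10, -5, -10, 5, 0, 5]) (.leaf [1]))) (.node (.node (.leaf [-82, 24, 38, -17, 28, 55, -34, 6, -10, -2, -6]) (.leaf [176431, -161896, 28857, -34520, -165958, -113649, 94545, 36690, 1335, 24193, 16111, -1213, 3832, 0, 0, 1, 1])) (.node (.leaf [2, 0, 0, 1, 0, -1]) (.leaf [1]))))) (.node (.node (.node (.node (.leaf []) (.leaf [-1017, 892, 576, -31, 583, 766, -551, -50, -188, -92, -116])) (.node (.leaf []) (.leaf [157, -272, -108, -66, -167, -121, 131, 36, 42, 28, 30]))) (.node (.node (.leaf [60, -90, -197, 8, 29, -106, 80, -8, 28, 8, 16, 1]) (.leaf [13841, -337926, -46553, -107882, -190754, -39089, 104751, 80553, 42882, 19102, 24418, 3030, -1022, 0, 0, 0,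 -1])) (.node (.leaf []) (.leaf [-1, 0, 0, -1, 0, 1])))) (.node (.node (.node (.leaf [484, -112, -188, 127, -155, -296, 159, -41, 60, 12, 32, -7]) (.leaf [-1, 6, -7, -1, 7, 1, 0, -3])) (.node (.leaf [9519, -18940, -2544, -3577, -13280, -6979, 7408, 3690, 2622, 1476, 1584, 96, 2, 0, 1]) (.leaf [5, -2, 3, 4, -3, -4, 0, 1]))) (.node (.node (.leaf [1]) (.leaf [189, -44, -61, 58, -56, -113, 49, -16, 26, 7, 9, -3, -1])) (.node (.leaf [-156, 44, 77, -69, 46, 114, -51, 11, -20, 0, -16, 3]) (.leaf [0, 0, -1, 0, 1])))))))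

def twoL229 : Janko.Tree (List ℤ) :=
  (.node (.node (.node (.node (.node (.node (.leaf [-2, 3, 6, 2, -2, 0, 0, 2, -2, -1]) (.leaf [-59512, 35137, -3256, 10174, 40651, 44821, -35419, -8717, 5373, -8036, -4436, 173, -1925, 1, 0, -1, -1])) (.node (.leaf [1748, -298, -129, 563, -674, -968, 351, -105, 159, 44, 68, -16, -1]) (.leaf [0, 1]))) (.node (.node (.leaf [0, 1]) (.leaf [0, 1])) (.node (.leaf []) (.leaf [0, 1])))) (.node (.node (.node (.leaf []) (.leaf [])) (.node (.leaf [0, 1]) (.leaf [69, -50, -31, 12, -35, -48, 28, 2, 14, 4, 5]))) (.node (.node (.leaf [6, -2, 6, 6, -6, -4, 0, 2, 0, -1]) (.leaf [-11899, -18415, -77413, 13636, 27961, -7574, 5414, -9318, 19034, -3337, 5230, -156, -2245, 0, 0, 0, -1])) (.node (.leaf [0, 1]) (.leaf [0, 1]))))) (.node (.node (.node (.node (.leaf [0, 1]) (.leaf [])) (.node (.leaf [0, 1]) (.leaf []))) (.node (.node (.leaf []) (.leaf [0, 1])) (.node (.leaf []) (.leaf [-186188, 240037, -85044, 71794, 245109, 102479, -105533, -62417, -4153,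 -31130, -19078, 795, -4035, 1, 0, -1, -1])))) (.node (.node (.node (.leaf [-2, 2, 0, 0, 0, 2, 0, 0, 0, -1]) (.leaf [0, 2, 0, 2, 0, 0, 0, 0, 0, -1])) (.node (.leaf []) (.leaf [62556, -1155, -1470, 28358, -21566, -35854, 10704, -4334, 5166, -1670, 1350, 416, -350, 0, 0, 0, -1]))) (.node (.node (.leaf []) (.leaf [0, 1])) (.node (.leaf [0, 2, 0, 2, 0, 0, 0, 0, 0, -1]) (.leaf [-7664, -361541, -42376, -118676, -199305, -25567, 101765, 88225, 46649, 19203, 24658, 3385, -1349, 1, 0, -1, -1])))))) (.node (.node (.node (.node (.node (.leaf [0, 1]) (.leaf [315, -127, -48, 121, -118, -221, 64, -5, 35, 17, 16, 1])) (.node (.leaf [0, 1]) (.leaf []))) (.node (.node (.leaf [0, 1]) (.leaf [])) (.node (.leaf [0, 1]) (.leaf [])))) (.node (.node (.node (.leaf [0, 1]) (.leaf [-49820, -69723, 30032, -22970, -39773, 40453, -14067, 23034, 13121, -1197, 415, 1121, -1632, 1, -1, 0, -1])) (.node (.leaf [0, 1]) (.leaf [59, -38, -35, 10, -25, -42, 26, -1, 12, 3, 5]))) (.node (.node (.leaf [0,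 1]) (.leaf [0, 1])) (.node (.leaf [146, -312, -137, -45, -165, -151, 142, 49, 43, 28, 37, -1]) (.leaf [1568, -169, -109, 479, -620, -858, 375, -95, 120, 11, 58, -8, -1]))))) (.node (.node (.node (.node (.leaf [0, 1]) (.leaf [-16808, 22041, 8252, 1672, 14690, 12334, -10154, -2660, -3798, -2154, -2636, 188, 40, 1, -1])) (.node (.leaf [0, 1]) (.leaf [0, 1]))) (.node (.node (.leaf [0, 1]) (.leaf [])) (.node (.leaf [0, 1]) (.leaf [-94136, 19135, 34266, -2374, 26239, 72941, -50293, 3833, 4137, -9339, -7400, 1045, -1843, 1, 0, -1, -1])))) (.node (.node (.node (.leaf []) (.leaf [367, 989, 785, 372, 64, 127, -353, -170, -155, -63, -96, -13, 3])) (.node (.leaf [-4, 6, 4, 2, 2, 2, -2, 0, -2, -1]) (.leaf [0, 1]))) (.node (.node (.leaf []) (.leaf [0, 1])) (.node (.leaf []) (.leaf [-1, -3, -3, 0, 1, -2, 0, 0, 0, 1, 1])))))))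

def twoL230 : Janko.Tree (List ℤ) :=
  (.node (.node (.node (.node (.node (.node (.leaf [0, 0, 1, 1, 0, 0, -1]) (.leaf [0, 0, 1, 1, 0, 0, -1])) (.node (.leaf []) (.leaf []))) (.node (.node (.leaf [0, -2, -4, 1, 2, -2, 1, 0, 1]) (.leaf [])) (.node (.leaf [0, 0, 0, -1, 0, 0, 1]) (.leaf [282540, -298776, -21522, -58524, -258491, -196597, 169619, 56137, 18118, 40299, 32382, -2245, 4697, -1, 0, 1, 1])))) (.node (.node (.node (.leaf [0, 0, 1]) (.leaf [46, -6, -56, 20, -13, -45, 41, -4, 5, -7, 10, 0, -1])) (.node (.leaf []) (.leaf [0, 0, 1, 1, 0, 0, -1]))) (.node (.node (.leaf [0, 0, 1, 1, 0, 0, -1]) (.leaf [0, 0, 1])) (.node (.leaf [0, 2, 1, -1, 0, 0, 1, 0, -1]) (.leaf []))))) (.node (.node (.node (.node (.leaf [1164, -826, -552, 376, -494, -910, 400, 22, 232, 62, 92, 6, -1]) (.leaf [0, 0, 0, -1, 0, 0, 1])) (.node (.leaf [207, -82, -47, -1, -97, -121, 92, 0, 21, 14, 5, 1]) (.leaf [0, 0, 0, -1, 0, 0, 1]))) (.node (.node (.leaf [-6, -14, 1, -13, -8, 5, 8, 7, 3, 0, -3]) (.leaf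 [-64246, 13126, 15501, 3345, 21010, 50480, -36505, 304, 6273, -7418, -4480, 554, -1796, 0, 0, 0, -1])) (.node (.leaf [89, -38, -105, 68, -9, -93, 39, -12, 19, -6, 19, -1]) (.leaf [-83, 0, 63, -41, -6, 67, -26, 15, -11, 0, -4])))) (.node (.node (.node (.leaf [0, 0, 1, 1, 0, 0, -1]) (.leaf [0, 0, 1, 1, 0, 0, -1])) (.node (.leaf [-31, 0, -1, -17, 9, 21, -4, 2, -1, 0, -1]) (.leaf [0, 0, 1]))) (.node (.node (.leaf [-203, 70, 37, -61, 89, 133, -64, 0, -22, -4, -9]) (.leaf [67, -32, -54, 15, -18, -55, 36, -4, 11, 2, 7])) (.node (.leaf [0, 0, 1, 1, 0, 0, -1]) (.leaf [-27113, -1884, 12879, -6393, 1966, 18827, -9756, 4672, -332, -1733, -2059, 547, -153, 1, 0, -1])))))) (.node (.node (.node (.node (.node (.leaf [-308, 386, 216, 2, 211, 266, -192, -38, -70, -38, -47]) (.leaf [0, 0, 1, 1, 0, 0, -1])) (.node (.leaf [-67, 22, -20, 21, 39, 31, -30, -6, 1, -10, 5, -1]) (.leaf [-193, 44, 56, -62, 61, 113, -49, 14, -26, -7, -9, 5, 1]))) (.node (.node (.leaf [180, -74, -28, 44, -90, -111,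 59, 3, 23, 4, 7]) (.leaf [-4, 0, -1, -1, 2, 2, -1])) (.node (.leaf [2, -2, 0, -1, -2, 0, 1, 0, 1]) (.leaf [0, 0, 1])))) (.node (.node (.node (.leaf [0, 10, -5, 1, 8, 0, -1, -4, -1]) (.leaf [0, 0, 1])) (.node (.leaf []) (.leaf [3, -2, 1, 3, -1, -2, -1, 0, 1]))) (.node (.node (.leaf [-68, 26, 38, -13, 23, 49, -32, 3, -9, -2, -5]) (.leaf [])) (.node (.leaf [-4, 0, -1, -1, 2, 2, -1]) (.leaf [-3412, -952, -4385, -2251, 2328, 1016, 817, -370, 180, 279, 457, -53, -17, 0, 0, 1]))))) (.node (.node (.node (.node (.leaf []) (.leaf [-622, 620, 377, -9, 378, 487, -350, -44, -124, -64, -78])) (.node (.leaf [2, -2, 0, -1, -2, 0, 1, 0, 1]) (.leaf [-81, 36, 50, -24, 20, 61, -29, 6, -14, -4, -6]))) (.node (.node (.leaf []) (.leaf [0, 0, 0, -1, 0, 0, 1])) (.node (.leaf [-4, 2, -1, -3, 2, 2, 1, 0, -1]) (.leaf [-26663, -2268, 13541, -6377, 1310, 18841, -9850, 4786, -304, -1663, -2041, 511, -155, 1, 0, -1])))) (.node (.node (.node (.leaf [0, 0, 1]) (.leaf [32, -8, 9, 13, -19, -19, 6, 2,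 1, 0, 1])) (.node (.leaf [0, 0, 1, 1, 0, 0, -1]) (.leaf [-20198, 33420, 5578, 9504, 24218, 15340, -16788, -6496, -2800, -3912, -3386, 202, -318, -1, 0, 1]))) (.node (.node (.leaf [0, 0, 0, 0, 0, 0, 0, 0, 0, 0, 0, 0, 0, 0, 0, 1, 0]) (.leaf [119, -24, -47, 48, -25, -79, 29, -12, 16, 5, 7, -3, -1])) (.node (.leaf [0, 0, 0, -1, 0, 0, 1]) (.leaf [0, 0, 1])))))))

def twoL231 : Janko.Tree (List ℤ) :=
  (.node (.node (.node (.node (.node (.node (.leaf [0, 0, 0, 1]) (.leaf [0, 0, 0, 1])) (.node (.leaf []) (.leaf []))) (.node (.node (.leaf []) (.leaf [])) (.node (.leaf [0, 0, 0, 1]) (.leaf [-17162, 8846, 7164, -5220, 15271, 15250, -16853, -4388, -2913, 4514, -534, -1758, 656, -1, 1, 1, 1])))) (.node (.node (.node (.leaf []) (.leaf [590, -296, -158, 170, -301, -380, 199, 12, 96, 7, 34, -1])) (.node (.leaf []) (.leaf [0, 0, 0, 1]))) (.node (.node (.leaf [0, 0, 0, 1]) (.leaf [425, 260, 165, 194, -85, -164, 4, -72, -25, -16, -16, 0, -1])) (.node (.leaf []) (.leaf [70, -10, -35,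 38, -21, -51, 24, -6, 8, -4, 8, -1]))))) (.node (.node (.node (.node (.leaf [1174, -658, -632, 336, -402, -876, 415, -44, 218, 60, 92, 4, -1]) (.leaf [0, 0, 0, 1])) (.node (.leaf []) (.leaf [0, 0, 0, 1]))) (.node (.node (.leaf [0, 0, 0, 1]) (.leaf [])) (.node (.leaf [0, 0, 0, 1]) (.leaf [0, 0, 0, 1])))) (.node (.node (.node (.leaf [0, 0, 0, 1]) (.leaf [0, 0, 0, 1])) (.node (.leaf [0, 0, 0, 1]) (.leaf [425, 266, 165, 196, -85, -164, 6, -72, -26, -18, -16, 0, -1]))) (.node (.node (.leaf [0, 0, 0, 1]) (.leaf [])) (.node (.leaf [0, 0, 0, 1]) (.leaf [0, 0, 0, 1])))))) (.node (.node (.node (.node (.node (.leaf []) (.leaf [0, 0, 0, 1])) (.node (.leaf []) (.leaf [86, -36, -43, 30, -25, -64, 28, -5, 12, 4, 8, -1]))) (.node (.node (.leaf []) (.leaf [0, 0, 0, 1])) (.node (.leaf []) (.leaf [-1843, -1126, -68, -1212, -58, 976, 61, 443, 25, 75, 7, 13])))) (.node (.node (.node (.leaf []) (.leaf [-904, -174, -116, -385, 273, 499, -145, 77, 6, 15, -12, 1])) (.node (.leaf [986, 150,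 77, 409, -297, -557, 176, -83, 4, -13, 18, -1]) (.leaf [-3578, 5184, 1188, 30, 3439, 2623, -1791, -731, -850, -512, -580, 69, 12, 1]))) (.node (.node (.leaf []) (.leaf [])) (.node (.leaf [0, 0, 0, 1]) (.leaf [56781, -69368, -6763, -4952, -57301, -39204, 32103, 12840, 8926, 5733, 6891, 131, 163, -1, 0, 1]))))) (.node (.node (.node (.node (.leaf []) (.leaf [0, 0, 0, 1])) (.node (.leaf []) (.leaf []))) (.node (.node (.leaf [-30, -50, -177, -16, 73, -45, 48, -10, 18, 6, 10, 1]) (.leaf [0, 0, 0, 1])) (.node (.leaf []) (.leaf [0, 0, 0, 1])))) (.node (.node (.node (.leaf [511, -192, -257, 113, -170, -377, 231, -19, 64, 14, 34, 3]) (.leaf [0, 0, 0, 1])) (.node (.leaf [0, 0, 0, 1]) (.leaf [-69787, 32028, -3364, -15919, 44644, 40581, -20997, -4038, -6793, -1504, -3351, -330, 2, -1, 0, 1]))) (.node (.node (.leaf []) (.leaf [109, -28, -52, 41, -22, -75, 30, -11, 16, 5, 7, -2, -1])) (.node (.leaf [0, 0, 0, 1]) (.leaf [-31251, -1060, 14915, -7789, 2979, 21744, -11289, 5040, -804,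 -1805, -2373, 597, -125, 1, 0, -1])))))))

def twoL232 : Janko.Tree (List ℤ) :=
  (.node (.node (.node (.node (.node (.node (.leaf [-7, 2, -5, -4, 5, 4, 0, -1]) (.leaf [8906, -18498, -138, -3680, -13955, -5373, 6005, 3685, 2511, 1523, 1529, -3, 4, 0, 1])) (.node (.leaf [1, 0, 1, 0, -1]) (.leaf [-163, 66, 78, -40, 60, 118, -70, 5, -22, -4, -12]))) (.node (.node (.leaf [-2, 0, -1, -1, 1, 1]) (.leaf [-2498, -5392, 439, -2748, -2610, 1281, 759, 1636, 419, 363, 287, -9, 0, 0, -1])) (.node (.leaf [1]) (.leaf [1])))) (.node (.node (.node (.leaf [2, 0, 0, 1, 0, -1]) (.leaf [0, 0, -1, 0, 1])) (.node (.leaf []) (.leaf [4719, -3998, -406, 980, -3455, -2999, 1399, 454, 733, 402, 502, -88, -4, -1]))) (.node (.node (.leaf [1, -4, 3, 1, -3, -1, 0, 2]) (.leaf [2839, 1562, -1222, 1393, 449, -1830, 589, -801, 3, -51, 93, -21, -4, 0, 1])) (.node (.leaf [78, -34, -50, 18, -25, -57, 35, -5, 13, 2, 7]) (.leaf [1]))))) (.node (.node (.node (.node (.leaf [1]) (.leaf [])) (.node (.leaf [])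 (.leaf [68, -10, -35, 38, -19, -50, 22, -6, 8, -4, 8, -1]))) (.node (.node (.leaf []) (.leaf [-2, 2, 12, -1, -3, 6, -5, 1, -1, 0, -1])) (.node (.leaf [81717, 45436, 23082, 3351, -12672, -52489, 32026, -6836, -23012, 5352, -1426, -16, 3220, 0, 0, 1, 1]) (.leaf [-121106, 22620, -45157, -1342, 71061, 67214, -37476, -6210, 13040, -12454, -3942, 1568, -3312, 0, 0, -1, -1])))) (.node (.node (.node (.leaf []) (.leaf [-6, -4, -1, -2, 1, 2, 0, 2])) (.node (.leaf [-925, -292, 532, -281, -80, 556, -259, 250, -60, -18, -36, 11, -1]) (.leaf [-1683, -4724, -224, -2795, -2306, 957, 1022, 1216, 452, 378, 286, 14, 16, 0, 1]))) (.node (.node (.leaf []) (.leaf [0, 0, 0, -1, 0, 1])) (.node (.leaf [1]) (.leaf [80, -154, -132, -91, -58, -43, 84, -2, 42, 25, 12, 1, -1])))))) (.node (.node (.node (.node (.node (.leaf [3, 0, 1, 1, -1, -1]) (.leaf [16, 102, 2, -18, 29, 25, 9, -23, -8, -8, -12])) (.node (.leaf [0, -2, 2, 0, -2, 0, 0, 1]) (.leaf [-366, 104, 131, -78, 134, 229, -145, 12, -44,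 -11, -17, 7, 1]))) (.node (.node (.leaf [0, 0, 0, -1, 0, 1]) (.leaf [])) (.node (.leaf [-2, 0, -1, -1, 1, 1]) (.leaf [1])))) (.node (.node (.node (.leaf [-2, 0, -1, -1, 1, 1]) (.leaf [])) (.node (.leaf [0, 0, -1, 0, 1]) (.leaf [-3607, 5192, 1196, 25, 3453, 2646, -1809, -733, -850, -512, -582, 69, 12, 1]))) (.node (.node (.leaf [-88, 14, 30, -25, 25, 52, -23, 11, -11, -2, -5]) (.leaf [62233, 364954, -47148, 152227, 225290, -24951, -80210, -109484, -32774, -18911, -16686, -5116, 494, 0, 1, 0, 1])) (.node (.leaf []) (.leaf [-36294, 95358, 125370, -5588, 12824, 52422, -47370, 102, -33326, -2514, -14723, 145, 2637, -1, 1, 1, 1]))))) (.node (.node (.node (.node (.leaf [9, 6, 1, 2, -1, -2, 0, -3]) (.leaf [])) (.node (.leaf [-2, 0, -1, -1, 1, 1]) (.leaf [0, 0, 0, -1, 0, 1]))) (.node (.node (.leaf [1]) (.leaf [10, 2, 5, 3, -5, -3, 0, -1])) (.node (.leaf [120, -66, -80, 21, -47, -84, 55, -7, 23, 4, 13]) (.leaf [816, -1416, -536, -205, -842, -641, 588, 183, 246, 129, 150, 1,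 -1])))) (.node (.node (.node (.leaf [-5, -6, 3, -2, -3, 2, 0, 3]) (.leaf [-185, 22, 58, 13, 52, 77, -58, 32, -22, -18, -5, 1, 1])) (.node (.leaf [2382, -1720, -1368, 236, -1159, -1771, 1191, 22, 411, 173, 255, -3, 2, 0, 1]) (.leaf [0, 0, -1, 0, 1]))) (.node (.node (.leaf [7639, 14044, 8623, 7740, 1627, -878, -4614, -3006, -1714, -1188, -1178, -10, 74, 0, 0, 1]) (.leaf [224, -50, -99, 22, -97, -136, 126, -5, 23, -2, 13, -3, -1])) (.node (.leaf [-1, 2, -3, -1, 3, 1, 0, -1]) (.leaf [-22127, 12680, -1840, -2048, 15758, 12674, -7634, -1800, -1576, -1514, -1468, 116, -98, 0, -1])))))))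

def twoL233 : Janko.Tree (List ℤ) :=
  (.node (.node (.node (.node (.node (.node (.leaf [0, 1]) (.leaf [0, 1])) (.node (.leaf []) (.leaf [-28020, -304685, -47044, -110866, -157358, -13644, 88790, 75515, 38248, 15746, 20720, 3276, -1162, 1, -1, 0, -1]))) (.node (.node (.leaf [474, 931, 457, 815, 264, -234, -371, -184, -110, -104, -66, -2, 1]) (.leaf [])) (.node (.leaf []) (.leaf [368, -217, -249, 15, -172, -290, 247, 7, 54, 9, 34, 6, -1])))) (.node (.node (.node (.leaf []) (.leaf [16892, -14532, -3152, 1066, -12717, -10579, 7021, 1583, 2661, 1416, 1776, -157, -13, -1, 1])) (.node (.leaf [0, 1]) (.leaf [0, 1]))) (.node (.node (.leaf [0, 1]) (.leaf [0, 2, 0, 2, 0, 0, 0, 0, 0, -1])) (.node (.leaf []) (.leaf [-59, 39, 35, -10, 25, 42, -26, 1, -12, -3, -5]))))) (.node (.node (.node (.node (.leaf []) (.leaf [0, 1])) (.node (.leaf [0, 1]) (.leaf [0, 1]))) (.node (.node (.leaf [0, 1]) (.leaf [])) (.node (.leaf [0, 1]) (.leaf [0, 1])))) (.node (.node (.node (.leaf [0, 1]) (.leaf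 [])) (.node (.leaf [0, 1]) (.leaf [0, -1, 0, -2, 0, 0, 0, 0, 0, 1]))) (.node (.node (.leaf [0, 1]) (.leaf [])) (.node (.leaf [-94682, -15808, -29388, -51192, 36467, 47323, -4615, 5088, -2959, 5223, 1533, -1175, 194, -1, 1, 0, 1]) (.leaf [82622, -145445, 15314, 8846, -118512, -43770, 27774, 29844, 30358, 4127, 8946, 1040, -1592, 1, 0, -1, -1])))))) (.node (.node (.node (.node (.node (.leaf []) (.leaf [0, 1])) (.node (.leaf []) (.leaf [6496, -2556, 758, 1992, -3979, -3189, 977, 43, 694, 251, 431, -138, -3, -1]))) (.node (.node (.leaf []) (.leaf [0, 1])) (.node (.leaf [60, -37, -29, 15, -38, -42, 29, 2, 10, -2, 8, 0, 1]) (.leaf [])))) (.node (.node (.node (.leaf [-1714, -263, -59, -811, 392, 906, -145, 202, -85, 8, -10, 16, 1]) (.leaf [0, 1])) (.node (.leaf []) (.leaf [-60494, -40945, -32732, -13600, 8283, 30719, -6835, 7720, 15994, -4014, 1901, 1125, -2253, 1, -1, 0, -1]))) (.node (.node (.leaf []) (.leaf [0, -1, 0, -2, 0, 0, 0, 0, 0, 1])) (.node (.leaf [0, 1]) (.leaf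 [0, 1]))))) (.node (.node (.node (.node (.leaf []) (.leaf [0, 1])) (.node (.leaf [-194, 206, -625, 85, 488, -190, 139, -82, 2, -56, -6, 36, 3]) (.leaf [21136, -34480, -8484, -8616, -23626, -16946, 17710, 6326, 3412, 3898, 3576, -184, 212, 0, 1, -1]))) (.node (.node (.leaf []) (.leaf [2584, -3057, -2230, -32, -1410, -2534, 1914, 342, 573, 274, 288, 50, 2, 0, 0, 0, -1])) (.node (.leaf []) (.leaf [-48242, 7711, 13238, -4942, 14616, 33210, -20554, 3034, 418, -3863, -3450, 624, -618, 1, 0, -1, -1])))) (.node (.node (.node (.leaf [0, 1]) (.leaf [0, 1])) (.node (.leaf [0, 1]) (.leaf []))) (.node (.node (.leaf []) (.leaf [])) (.node (.leaf [-163, -4, 44, -21, 49, 104, -75, 14, -3, 1, -5, -4, -1]) (.leaf [0, 1])))))))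

def twoL234 : Janko.Tree (List ℤ) :=
  (.node (.node (.node (.node (.node (.node (.leaf []) (.leaf [])) (.node (.leaf [0, 0, 1]) (.leaf [-80, 28, 45, -24, 23, 59, -31, 6, -11, -2, -7]))) (.node (.node (.leaf [0, 0, 0, -1, 0, 0, 1]) (.leaf [0, 0, 1])) (.node (.leaf [-3, -10, 3, 3, -3, -2, -1, 4, 1]) (.leaf [-8839, -6768, -13965, -4952, 5209, 1978, 2248, -384, 2058, 651, 1347, -137, -151, -1, 0, 1])))) (.node (.node (.node (.leaf [-4, 0, -1, -1, 2, 2, -1]) (.leaf [0, 0, 1])) (.node (.leaf []) (.leaf [-4, 2, 3, 1, 2, 2, -3, 0, -1]))) (.node (.node (.leaf []) (.leaf [425, 260, 164, 193, -85, -164, 5, -72, -25, -16, -16, 0, -1])) (.node (.leaf [0, 0, 1]) (.leaf [3, -2, 1, 3, -1, -2, -1, 0, 1]))))) (.node (.node (.node (.node (.leaf [241, -84, -167, 78, -49, -196, 106, -19, 34, 6, 21]) (.leaf [])) (.node (.leaf []) (.leaf []))) (.node (.node (.leaf []) (.leaf [0, 0, 0, -1, 0, 0, 1])) (.node (.leaf [1216, -524, -320, 358, -585, -791, 413, 8, 170, 10, 74, -2, 2]) (.leaf []))))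 (.node (.node (.node (.leaf [0, 2, 1, -1, 0, 0, 1, 0, -1]) (.leaf [-121, 58, 76, -16, 47, 83, -59, 7, -21, -4, -11])) (.node (.leaf [-928, -690, 485, -435, -314, 550, -151, 336, -8, 8, -1, 11, -1]) (.leaf [413, 262, 160, 191, -81, -160, 7, -70, -26, -18, -16, 0, -1]))) (.node (.node (.leaf [-2571, 10, 419, -974, 626, 1463, -469, 294, -207, -40, -82, 29, 1]) (.leaf [-78, 56, -17, -27, 61, 47, -16, -12, -11, -2, -3])) (.node (.leaf []) (.leaf [-107844, -811624, -301520, -346465, -310059, -85636, 295833, 180220, 89818, 63809, 67640, 3910, 415, 1, -1, -1, -1])))))) (.node (.node (.node (.node (.node (.leaf [0, 0, 0, -1, 0, 0, 1]) (.leaf [106, 182, 32, 52, 32, -21, 1, -43, -16, -16, -16])) (.node (.leaf [0, 0, 0, -1, 0, 0, 1]) (.leaf [0, 0, 1]))) (.node (.node (.leaf [11, 2, 0, 6, -1, -6, 0, -2, 1]) (.leaf [2, -2, 0, -1, -2, 0, 1, 0, 1])) (.node (.leaf [0, 0, 0, -1, 0, 0, 1]) (.leaf [-3, 4, 10, 6, 3, 3, -9, 0, -1, 0, -1])))) (.node (.node (.node (.leaf [0, 0, 0, -1, 0,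 0, 1]) (.leaf [])) (.node (.leaf [0, 0, 1]) (.leaf [4, -2, 1, 2, -2, -2, 0, 0, 1]))) (.node (.node (.leaf [0, 0, 0, -1, 0, 0, 1]) (.leaf [-1407, 320604, 101505, 117566, 152207, 51655, -124679, -72398, -40529, -19662, -25104, -3726, 1117, 0, 1, 0, 1])) (.node (.leaf [241, -290, -143, -41, -193, -174, 159, 28, 54, 28, 35]) (.leaf [0, -2, -4, -3, 0, 0, 3, 0, 1]))))) (.node (.node (.node (.node (.leaf [0, 0, 0, -1, 0, 0, 1]) (.leaf [])) (.node (.leaf [0, 0, 0, -1, 0, 0, 1]) (.leaf [-486, -862, -725, -698, -119, 113, 437, 150, 125, 63, 82, 14, -3]))) (.node (.node (.leaf [17, 6, -1, 11, 1, -10, -1, -4, 1]) (.leaf [0, 0, 1])) (.node (.leaf [117, -66, -81, 19, -46, -83, 56, -7, 23, 4, 13]) (.leaf [-131, 60, 69, -39, 44, 95, -48, 6, -22, -4, -10])))) (.node (.node (.node (.leaf []) (.leaf [-199, 38, 100, -11, 37, 105, -62, 35, -30, -18, -8, 1, 1])) (.node (.leaf [4, -2, -1, 1, -2, -2, 1, 0, 1]) (.leaf [0, 0, 1]))) (.node (.node (.leaf [0, 0, 1]) (.leaf [0, 0, 1])) (.node (.leaf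 [0, 0, 1]) (.leaf [-34548, 359360, 46211, 107250, 209686, 51599, -112669, -83980, -46062, -21246, -26548, -2840, 996, 0, 0, 0, 1])))))))

def twoL235 : Janko.Tree (List ℤ) :=
  (.node (.node (.node (.node (.node (.node (.leaf []) (.leaf [])) (.node (.leaf []) (.leaf [0, 0, 0, 1]))) (.node (.node (.leaf [0, 0, 0, 1]) (.leaf [1929, -432, -2281, 456, 101, -2194, 1660, -84, 183, -48, 78, 88, -1])) (.node (.leaf []) (.leaf [-37733, 59428, 13971, 9204, 41943, 27802, -26847, -10100, -8504, -5205, -6031, 125, 1, -1, 0, 1])))) (.node (.node (.node (.leaf [0, 0, 0, 1]) (.leaf [-110, -4, 24, -62, 31, 75, -23, 13, -4, 4, -12, 1])) (.node (.leaf []) (.leaf [5285, -3738, -338, 1256, -3541, -3276, 1445, 358, 727, 382, 496, -88, -6, -1]))) (.node (.node (.leaf [707, -330, -67, 205, -399, -439, 218, 33, 90, 9, 34, -1]) (.leaf [0, 0, 0, 1])) (.node (.leaf []) (.leaf [-3483, 4678, 996, -215, 3194, 2505, -1550, -642, -790, -448, -537, 71, 7, 1]))))) (.node (.node (.node (.node (.leaf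 []) (.leaf [])) (.node (.leaf []) (.leaf [70, -10, -35, 38, -21, -51, 24, -6, 8, -4, 8, -1]))) (.node (.node (.leaf []) (.leaf [0, 0, 0, 1])) (.node (.leaf [170, -460, -362, 44, -171, -167, 152, 50, 170, -20, 24, 10, -4]) (.leaf [])))) (.node (.node (.node (.leaf []) (.leaf [0, 0, 0, 1])) (.node (.leaf [-980, 1030, 623, 25, 624, 736, -556, -66, -222, -104, -125, 1, 1]) (.leaf [0, 0, 0, 1]))) (.node (.node (.leaf [-579, 124, -7, -160, 286, 255, -95, 30, -68, -13, -24, 13]) (.leaf [0, 0, 0, 1])) (.node (.leaf []) (.leaf [0, 0, 0, 1])))))) (.node (.node (.node (.node (.node (.leaf [0, 0, 0, 1]) (.leaf [])) (.node (.leaf [0, 0, 0, 1]) (.leaf [-1123, 274, 1240, -292, -17, 1213, -871, 65, -120, 18, -57, -44, 1]))) (.node (.node (.leaf [0, 0, 0, 1]) (.leaf [])) (.node (.leaf [0, 0, 0, 1]) (.leaf [19842, 18186, 11569, 25824, -1655, -7479, -8093, -3639, 2448, -5605, -2776, 1062, -583, 1, -1, -1, -1])))) (.node (.node (.node (.leaf [0, 0, 0, 1]) (.leaf [])) (.node (.leaf [172,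 -72, -44, 52, -73, -135, 69, 5, 10, 8, 14, -1]) (.leaf [0, 0, 0, 1]))) (.node (.node (.leaf [0, 0, 0, 1]) (.leaf [0, 0, 0, 1])) (.node (.leaf []) (.leaf [-13710, -248938, -195386, -121450, -53304, -78659, 141486, 42878, 22882, 27428, 29397, 561, 1323, -1, 1, 1, 1]))))) (.node (.node (.node (.node (.leaf [0, 0, 0, 1]) (.leaf [])) (.node (.leaf [0, 0, 0, 1]) (.leaf [0, 0, 0, 1]))) (.node (.node (.leaf []) (.leaf [])) (.node (.leaf [0, 0, 0, 1]) (.leaf [0, 0, 0, 1])))) (.node (.node (.node (.leaf []) (.leaf [-313, 218, 248, -215, 39, 337, -93, 3, -64, -14, -34, -1, 1])) (.node (.leaf []) (.leaf [-20603, -38866, 49054, 163, -38657, 33332, -25787, 14226, 10773, -2938, -1712, 450, -1366, 0, 0, 0, -1]))) (.node (.node (.leaf []) (.leaf [-98, 30, 42, -36, 25, 70, -27, 8, -12, -4, -8, 1])) (.node (.leaf [-58, 4, 22, -36, 25, 43, -23, 2, -4, 7, -8, 1]) (.leaf [74072, -205584, 60456, -106307, -174849, -45070, 84585, 58664, -4650, 30346, 15382, -1122, 4172, 0, 0, 0, 1])))))))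

def twoL236 : Janko.Tree (List ℤ) :=
  (.node (.node (.node (.node (.node (.node (.leaf [0, 0, -1, 0, 1]) (.leaf [-121, 20, 152, -46, -32, 90, -32, 40, -36, -6, -8])) (.node (.leaf [-1, 0, 0, -1, 0, 1]) (.leaf [1]))) (.node (.node (.leaf [4, 4, -3, 3, 3, -3, 0, -2]) (.leaf [-8418, 18920, 724, 3895, 13687, 5372, -6111, -3734, -2567, -1571, -1581, -5, -2, 0, -1])) (.node (.leaf [1, 0, 0, 1, 0, -1]) (.leaf [242718, -293452, -40414, -78158, -240588, -185672, 181834, 60373, 13858, 36868, 31497, -99, 4229, -1, 1, 1, 1])))) (.node (.node (.node (.leaf []) (.leaf [-126128, -138782, -209433, -130807, 66676, -18568, 95311, 21543, 2145, 25329, 18671, -1204, 2907, -1, 1, 1, 1])) (.node (.leaf [1]) (.leaf []))) (.node (.node (.leaf [0, 0, -1, 0, 1]) (.leaf [-1384, -88, 1006, -290, -34, 1023, -635, 265, -98, -59, -74, 7, 3])) (.node (.leaf [2, -6, 7, 1, -7, -1, 0, 3]) (.leaf [-3512, 4686, 1004, -220, 3208, 2528, -1568, -644, -790, -448, -539, 71, 7, 1]))))) (.node (.node (.node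 (.node (.leaf [482, -168, -228, 80, -170, -332, 216, -25, 56, 18, 35]) (.leaf [1])) (.node (.leaf [1]) (.leaf [1]))) (.node (.node (.leaf [6, 4, 1, 1, -1, -1, 0, -2]) (.leaf [450, -68, -24, 123, -205, -194, 81, -35, 52, 7, 22, -12])) (.node (.leaf [63, -10, -35, 36, -20, -47, 23, -5, 8, -5, 8, -1]) (.leaf [1])))) (.node (.node (.node (.leaf [80, -30, -40, 14, -31, -57, 39, -3, 9, 2, 7]) (.leaf [])) (.node (.leaf [1]) (.leaf [-9044, -18018, -77634, 15646, 27734, -9384, 5344, -9718, 19262, -3348, 5268, -203, -2252, 0, 0, 0, -1]))) (.node (.node (.leaf [-91, 30, 24, -30, 35, 61, -27, 3, -11, -2, -5]) (.leaf [3, -2, 3, 1, -3, -1, 0, 1])) (.node (.leaf [1, 0, 1, 0, -1]) (.leaf [-22907, -6086, 12695, -5537, -1524, 16268, -8655, 5180, 444, -1324, -1543, 445, -159, 0, 0, -1])))))) (.node (.node (.node (.node (.node (.leaf []) (.leaf [3, 0, 1, 1, -1, -1])) (.node (.leaf [62, -10, -37, 35, -19, -47, 24, -5, 8, -5, 8, -1]) (.leaf [97, -32, -41, 35, -27, -69, 28, -7, 12, 4, 8,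 -1]))) (.node (.node (.leaf [1]) (.leaf [-2, 0, -1, -1, 1, 1])) (.node (.leaf [1]) (.leaf [-6, 8, 5, -4, 4, 5, -1, 0, -3, 0, -1])))) (.node (.node (.node (.leaf [11, 2, 4, 5, -4, -5, 0, -1]) (.leaf [1])) (.node (.leaf []) (.leaf [-5617, 4206, 424, -1335, 3821, 3584, -1621, -466, -804, -416, -519, 91, 11, 1]))) (.node (.node (.leaf []) (.leaf [0, 0, -1, 0, 1])) (.node (.leaf [-2, 0, -1, -1, 1, 1]) (.leaf [-31460, 25346, 11607, -1759, 20029, 23163, -16524, -2700, -4236, -2548, -3297, 131, -23, 0, 0, 1]))))) (.node (.node (.node (.node (.leaf [75, -18, -36, 39, -24, -55, 24, -5, 10, -3, 8, -1]) (.leaf [-305, 384, 229, -4, 200, 271, -191, -35, -71, -38, -48])) (.node (.leaf [1]) (.leaf [-4310, -13908, -8279, -6744, -2864, -675, 5127, 2729, 1864, 1236, 1215, -19, -71, 0, 0, -1]))) (.node (.node (.leaf [1, 0, 0, 1, 0, -1]) (.leaf [-421, 78, 150, -115, 131, 246, -125, 42, -52, -9, -26, 6])) (.node (.leaf []) (.leaf [-1091, -1984, 1973, -1169, -1646, 1140, -227, 917, 78, 112,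 -131, 13, 3, 0, 0, -1])))) (.node (.node (.node (.leaf [0, 0, 0, -1, 0, 1]) (.leaf [5722, 1112, 4574, 3401, -3113, -2140, -701, 115, -19, -314, -372, 23, 11, 0, 0, -1])) (.node (.leaf [1]) (.leaf [-1011, 482, 659, -160, 292, 889, -599, -1, -110, -45, -65, -19, -1]))) (.node (.node (.leaf [1, 0, 0, 1, 0, -1]) (.leaf [0, 0, 0, -1, 0, 1])) (.node (.leaf [261, -14, -141, 142, 7, -192, 30, -54, 26, 18, 25, -9, 1]) (.leaf [-189176, 213600, -45078, 24709, 197652, 104457, -71106, -40174, -17194, -30002, -20402, 4110, -3138, 0, 0, -1, -1])))))))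

def twoL237 : Janko.Tree (List ℤ) :=
  (.node (.node (.node (.node (.node (.node (.leaf []) (.leaf [])) (.node (.leaf [-2, 2, 0, 0, 0, 2, 0, 0, 0, -1]) (.leaf []))) (.node (.node (.leaf []) (.leaf [0, 6, 6, 4, 0, 0, -2, 0, -2, -1])) (.node (.leaf [-1054, 989, 335, -333, 628, 878, -393, -134, -192, -75, -92, 0, -1]) (.leaf [0, 1])))) (.node (.node (.node (.leaf [0, 1]) (.leaf [0, 1])) (.node (.leaf [50232, 69552, -30220, 23088, 39612, -40736, 14224, -23048, -13056, 1202, -384, -1122, 1632, -1, 1, 0, 1]) (.leaf [0, 1]))) (.node (.node (.leaf []) (.leaf [0, 1])) (.node (.leaf []) (.leaf [38175, -204913, -25054, -75353, -130373, -45816, 86953, 51273, 18238, 15051, 15838, 1896, 161, 1, -1, 0, -1]))))) (.node (.node (.node (.node (.leaf [8, 11, 0, 6, 4, -4, -2, -4, -1]) (.leaf [])) (.node (.leaf []) (.leaf [-75, 51, 29, -16, 35, 52, -26, -1, -14, -5, -5]))) (.node (.node (.leaf [0, 1]) (.leaf [0, 1])) (.node (.leaf []) (.leaf [-414, 234, 255, -43, 168, 292, -203, 15, -71,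 -22, -38, 0, -1])))) (.node (.node (.node (.leaf []) (.leaf [0, 1])) (.node (.leaf []) (.leaf [5216, 7994, 1638, 5876, 2662, -2474, -2076, -2218, -650, -649, -466, -18, 4, -1, 1]))) (.node (.node (.leaf []) (.leaf [])) (.node (.leaf []) (.leaf [0, -1, 0, -2, 0, 0, 0, 0, 0, 1])))))) (.node (.node (.node (.node (.node (.leaf [0, 1]) (.leaf [])) (.node (.leaf [0, 1]) (.leaf [0, 2, 0, 2, 0, 0, 0, 0, 0, -1]))) (.node (.node (.leaf []) (.leaf [-280, 123, 51, -77, 144, 164, -81, -2, -44, -2, -12, 0, -1])) (.node (.leaf [49272, 69396, -30328, 22690, 39909, -40213, 14071, -22966, -13061, 1215, -397, -1121, 1632, -1, 1, 0, 1]) (.leaf [0, -1, -2, 0, 0, 0, 0, 0, 1])))) (.node (.node (.node (.leaf []) (.leaf [-184, 721, 177, -57, 346, 232, -149, -159, -150, -14, -38, 0, 1])) (.node (.leaf [0, 1]) (.leaf [0, 1]))) (.node (.node (.leaf [0, 1]) (.leaf [573, 211, -104, 317, -67, -240, 27, -130, 70, -37, 7, -10, -5])) (.node (.leaf [228, -347, -153, 9, -194, -210, 143, 44, 57, 28, 44,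 0, 1]) (.leaf [746, 123, 37, 303, -210, -400, 119, -78, 18, -10, 10, 0, -1]))))) (.node (.node (.node (.node (.leaf [0, 1]) (.leaf [0, 1])) (.node (.leaf []) (.leaf [0, 1]))) (.node (.node (.leaf [-82, 284, 43, 67, 174, 56, -79, -52, -46, -21, -22, 0, -1]) (.leaf [])) (.node (.leaf [0, 1]) (.leaf [0, -1, 0, -2, 0, 0, 0, 0, 0, 1])))) (.node (.node (.node (.leaf []) (.leaf [2, -1, 0, 0, 0, -2, 0, 0, 0, 1])) (.node (.leaf [-1751, 135, 149, -608, 568, 919, -279, 167, -154, -44, -64, 29, -1]) (.leaf [0, 1]))) (.node (.node (.leaf [2, -1, 0, 0, 0, -2, 0, 0, 0, 1]) (.leaf [19362, -32408, 66358, -54976, -58030, -16316, 37528, 26272, -27620, 12310, 670, 550, 4022, -1, 0, 1, 1])) (.node (.leaf [0, 1]) (.leaf [0, -1, -1, -1, 0, 0, -1, 0, 0, 0, 0, 0, 1])))))))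

def twoL238 : Janko.Tree (List ℤ) :=
  (.node (.node (.node (.node (.node (.node (.leaf [0, 0, 1]) (.leaf [0, 0, 1])) (.node (.leaf [0, 0, 1, 1, 0, 0, -1]) (.leaf [-6197, -808, -2414, -3162, 2445, 2849, 37, 293, -149, 108, 122, 37, -7, 0, 0, 1]))) (.node (.node (.leaf [0, 0, 1]) (.leaf [223, -36, -62, 49, -89, -146, 103, -2, 11, 0, 12, -4, 1])) (.node (.leaf [-6, -6, -3, 0, 2, 0, 0, 2, 1]) (.leaf [0, -2, -4, -3, 0, 0, 3, 0, 1])))) (.node (.node (.node (.leaf [4, 10, -3, 3, 6, -2, -1, -4, -1]) (.leaf [-149280, -133008, -224693, -133653, 86885, -8782, 88967, 18158, 2294, 25813, 19318, -1888, 2809, -1, 1, 1, 1])) (.node (.leaf []) (.leaf [66480, -11078, -16478, -1525, -20208, -51656, 36417, -1190, -6131, 7190, 4478, -596, 1788, 0, 0, 0, 1]))) (.node (.node (.leaf [0, 0, 1]) (.leaf [])) (.node (.leaf [0, 0, 1, 1, 0, 0, -1]) (.leaf [4, -2, 1, 2, -2, -2, 0, 0, 1]))))) (.node (.node (.node (.node (.leaf [0, 0, 1]) (.leaf [])) (.node (.leaf []) (.leaf [-3, -2, -1, -1, 1,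 2, -1, 0, 1]))) (.node (.node (.leaf [78, -30, -43, 17, -27, -59, 38, -3, 9, 2, 7]) (.leaf [-176261, 247650, -35547, 42192, 209103, 102406, -81080, -48919, -20666, -32444, -22481, 3776, -3091, 0, 0, 0, -1])) (.node (.leaf [0, 0, 1]) (.leaf [])))) (.node (.node (.node (.leaf [0, 0, 1]) (.leaf [])) (.node (.leaf [3828, -1422, -2014, 1114, -1283, -2675, 1481, -254, 549, 114, 376, -57, -17]) (.leaf [0, 0, 1]))) (.node (.node (.leaf [0, 0, 1]) (.leaf [-2272, -49988, -22360, -15851, -19005, -5607, 15698, 8964, 8849, 3019, 4301, 177, -316, 1, 0, -1])) (.node (.leaf [0, 0, 1]) (.leaf [-28218, -1662, 13174, -6485, 2312, 19574, -10249, 4726, -357, -1835, -2118, 558, -143, 1, 0, -1])))))) (.node (.node (.node (.node (.node (.leaf []) (.leaf [0, 0, 0, -1, 0, 0, 1])) (.node (.leaf []) (.leaf [-1123, 274, 1239, -293, -17, 1213, -870, 65, -120, 18, -57, -44, 1]))) (.node (.node (.leaf [-91, 34, 17, -34, 38, 61, -23, 1, -11, -2, -5]) (.leaf [0, 0, 0, -1, 0, 0, 1])) (.node (.leaf [-5,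 2, 0, -1, 3, 2, -1, 0, -1]) (.leaf [0, 0, 1])))) (.node (.node (.node (.leaf [0, 0, 1]) (.leaf [])) (.node (.leaf [771, -498, -442, 179, -311, -608, 341, -1, 131, 44, 75]) (.leaf [-138, -194, -65, -115, -20, 66, 9, 38, 31, 21, 8, 0, -1]))) (.node (.node (.leaf []) (.leaf [0, 0, 1])) (.node (.leaf [0, 0, 0, -1, 0, 0, 1]) (.leaf [0, 0, 0, -1, 0, 0, 1]))))) (.node (.node (.node (.node (.leaf []) (.leaf [-235, 408, 193, 12, 201, 231, -167, -53, -67, -38, -46])) (.node (.leaf [-5, 2, 0, -1, 3, 2, -1, 0, -1]) (.leaf [-33204, 2130, -6769, -9690, 15158, 17706, -6048, 833, -161, -818, -753, 90, -256, 0, 0, -1]))) (.node (.node (.leaf [10, 6, -5, 6, 4, -6, 0, -4, 1]) (.leaf [0, 0, 1, 1, 0, 0, -1])) (.node (.leaf []) (.leaf [-7362, 3594, 1634, -2637, 3396, 5158, -2021, -26, -869, -349, -652, 82, 17, 1, 0, -1])))) (.node (.node (.node (.leaf [-5, 2, 1, 0, 3, 2, -2, 0, -1]) (.leaf [3250, -1434, 2637, 1346, -2808, -1282, -100, 569, 250, 41, -120, -29, 6, 0, 0, -1])) (.node (.leaf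 []) (.leaf [-1285, 586, 805, -190, 393, 1113, -777, -11, -132, -49, -77, -23, -1]))) (.node (.node (.leaf [0, 0, 1, 1, 0, 0, -1]) (.leaf [1128, -950, -863, 566, -453, -875, 381, 20, 425, -27, 66, 14, -23])) (.node (.leaf [304, -46, -178, 165, -9, -231, 48, -55, 36, 18, 33, -10, 1]) (.leaf [0, 0, 0, -1, 0, 0, 1])))))))

def twoL239 : Janko.Tree (List ℤ) :=
  (.node (.node (.node (.node (.node (.node (.leaf []) (.leaf [-102, 14, 28, -35, 27, 63, -23, 11, -10, -3, -6, 1])) (.node (.leaf [0, 0, 0, 1]) (.leaf [-47, 2, 70, -46, -5, 41, -13, 16, -14, 7, -12, 2]))) (.node (.node (.leaf [-341, 62, -23, -80, 178, 107, -27, 33, -48, -11, -16, 11]) (.leaf [0, 0, 0, 1])) (.node (.leaf [0, 0, 0, 1]) (.leaf [223350, -344996, -40380, -67466, -255876, -164529, 154832, 65649, 34086, 37440, 34181, -1303, 2445, -1, 1, 1, 1])))) (.node (.node (.node (.leaf []) (.leaf [-126446, -138608, -209293, -130865, 66811, -18374, 95208, 21558, 2086, 25307, 18644, -1198, 2907, -1, 1, 1, 1])) (.node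 (.leaf []) (.leaf []))) (.node (.node (.leaf [-441, 232, 140, -138, 223, 299, -159, -13, -74, -2, -28, 1]) (.leaf [212, -74, 33, 67, -127, -97, 26, 1, 26, 5, 8, -3])) (.node (.leaf [0, 0, 0, 1]) (.leaf [0, 0, 0, 1]))))) (.node (.node (.node (.node (.leaf []) (.leaf [274, -140, -112, 68, -101, -231, 129, 11, 26, 15, 16, 2])) (.node (.leaf []) (.leaf []))) (.node (.node (.leaf []) (.leaf [285, -62, -110, 64, -97, -156, 91, -28, 40, 7, 18, -6])) (.node (.leaf [1220, -528, -318, 360, -587, -793, 410, 8, 170, 11, 74, -2, 3]) (.leaf [-203961, 226714, -42395, 24095, 209142, 113672, -77431, -41655, -19499, -31308, -22035, 4264, -3124, 1, -1, -1, -1])))) (.node (.node (.node (.leaf []) (.leaf [])) (.node (.leaf [-510, 88, -45, -141, 260, 200, -63, 30, -58, -11, -18, 13]) (.leaf [-14306, -61742, -109238, 3230, 16673, -15879, 21145, -3425, 28430, -1481, 10114, 67, -2834, 0, 0, 0, -1]))) (.node (.node (.leaf []) (.leaf [0, 0, 0, 1])) (.node (.leaf []) (.leaf [0, 0, 0, 1]))))))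 (.node (.node (.node (.node (.node (.leaf []) (.leaf [0, 0, 0, 1])) (.node (.leaf [1184, -524, -323, 343, -573, -767, 405, 8, 172, 11, 72, -2, 1]) (.leaf [0, 0, 0, 1]))) (.node (.node (.leaf []) (.leaf [0, 0, 0, 1])) (.node (.leaf []) (.leaf [317, -232, -244, 214, -49, -339, 95, 1, 66, 15, 34, 1, -1])))) (.node (.node (.node (.leaf []) (.leaf [])) (.node (.leaf [-361, 96, -362, -189, 395, 90, -1, -81, -34, 47, 17, 2, 1]) (.leaf [955, -26, -62, 349, -335, -577, 241, -59, 40, -5, 38, -1]))) (.node (.node (.leaf []) (.leaf [-70, 10, 32, -40, 21, 51, -21, 6, -8, 4, -8, 1])) (.node (.leaf [0, 0, 0, 1]) (.leaf [0, 0, 0, 1]))))) (.node (.node (.node (.node (.leaf [-210, 104, 76, 10, 90, 161, -130, -14, -16, -15, -2, -5]) (.leaf [])) (.node (.leaf []) (.leaf []))) (.node (.node (.leaf [0, 0, 0, 1]) (.leaf [0, 0, 0, 1])) (.node (.leaf []) (.leaf [0, 0, 0, 1])))) (.node (.node (.node (.leaf [0, 0, 0, 1]) (.leaf [0, 0, 0, 1])) (.node (.leaf []) (.leaf [30416, -340710, -87036,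 -108810, -179277, -63183, 125593, 75755, 44300, 21073, 27100, 3167, -1040, 0, 0, 0, -1]))) (.node (.node (.leaf [0, 0, 0, 1]) (.leaf [0, 0, 0, 1])) (.node (.leaf [304, -46, -180, 165, -9, -231, 49, -55, 36, 18, 33, -10, 1]) (.leaf [0, 0, 0, 1])))))))

def twoL240 : Janko.Tree (List ℤ) :=
  (.node (.node (.node (.node (.node (.node (.leaf [2, 0, 0, 1, 0, -1]) (.leaf [2, -2, 3, 0, -3, 0, 0, 1])) (.node (.leaf []) (.leaf [-89420, 26504, 11955, -21222, 40720, 58261, -31327, 31, -5897, -2328, -4530, -281, -247, 0, 0, 1]))) (.node (.node (.leaf []) (.leaf [182, -52, 92, 70, -154, -91, 39, 25, 0, -7, 10, -3, 1])) (.node (.leaf []) (.leaf [-1901, 73970, 121465, 300, -9729, 32608, -36420, 1591, -28476, -694, -11856, -224, 2674, 0, 0, 1, 1])))) (.node (.node (.node (.leaf [-2, 0, -1, -1, 1, 1]) (.leaf [-112, -4, 23, -63, 32, 76, -23, 13, -4, 4, -12, 1])) (.node (.leaf [1, 0, 1, 0, -1]) (.leaf [72763, -42454, -18961, -11689, -40206, -57690, 47451, 6197, -2784, 9652, 6850, -480,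 1792, 0, 0, 0, 1]))) (.node (.node (.leaf []) (.leaf [0, 0, -1, 0, 1])) (.node (.leaf []) (.leaf [48809, -350012, -38580, -84748, -212788, -56436, 105028, 82068, 50616, 15872, 24244, 3896, -1690, 1, -1, -1, -1]))))) (.node (.node (.node (.node (.leaf [1, 0, 0, 1, 0, -1]) (.leaf [1, 0, 1, 0, -1])) (.node (.leaf [1, 0, 1, 0, -1]) (.leaf [1, 0, 0, 1, 0, -1]))) (.node (.node (.leaf [0, 0, 0, -1, 0, 1]) (.leaf [418, -124, -172, 91, -155, -248, 151, -29, 60, 9, 28, -6])) (.node (.leaf [1]) (.leaf [1, 0, 1, 0, -1])))) (.node (.node (.node (.leaf [-4, -6, 3, -1, -3, 1, 0, 3]) (.leaf [1])) (.node (.leaf [-96, 36, 30, -31, 38, 67, -32, 2, -12, -2, -6]) (.leaf [-82081, 39950, 19413, 7548, 41695, 62790, -48624, -4717, 2746, -9678, -7147, 662, -1841, 0, 0, 0, -1]))) (.node (.node (.leaf [-2, -6, 3, 1, -3, -1, 0, 3]) (.leaf [-189, 16, 42, -43, 67, 106, -63, 14, -17, 2, -5, -1, -1])) (.node (.leaf [-1, 0, 0, -1, 0, 1]) (.leaf [0, 0, -1, 0, 1])))))) (.node (.node (.node (.node (.node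 (.leaf []) (.leaf [1])) (.node (.leaf []) (.leaf [5, 2, 0, 3, 0, -3, 0, -1]))) (.node (.node (.leaf [4, -2, -24, 2, 7, -15, 13, -1, -1, 0, 3]) (.leaf [1])) (.node (.leaf [1, 0, 0, 1, 0, -1]) (.leaf [20043, 19150, 11987, 26139, -1537, -7330, -8249, -3775, 2334, -5741, -2854, 1042, -581, 1, -1, -1, -1])))) (.node (.node (.node (.leaf [13, 2, 5, 6, -5, -6, 0, -1]) (.leaf [1, 0, 1, 0, -1])) (.node (.leaf [535, -286, -336, 123, -174, -427, 248, -16, 82, 28, 49]) (.leaf [1]))) (.node (.node (.leaf [1]) (.leaf [-106225, 159268, -13256, -12389, 132986, 59503, -36794, -31538, -32346, -5624, -10590, -1004, 1468, -1, 1, 1, 1])) (.node (.leaf [-11, -4, -3, -5, 3, 5, 0, 2]) (.leaf [-68, 10, 35, -36, 21, 50, -24, 6, -8, 4, -8, 1]))))) (.node (.node (.node (.node (.leaf [1]) (.leaf [0, 0, 0, -1, 0, 1])) (.node (.leaf [1, 0, 0, 1, 0, -1]) (.leaf [1]))) (.node (.node (.leaf []) (.leaf [164, -126, -125, 1, -71, -165, 132, 15, 22, 5, 10, 11])) (.node (.leaf [-1, -4, 3, -1, -3, 1, 0,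 2]) (.leaf [0, 0, -1, 0, 1])))) (.node (.node (.node (.leaf []) (.leaf [0, 0, -1, 0, 1])) (.node (.leaf [1, 0, 1, 0, -1]) (.leaf [1074, 22, 157, 348, -453, -466, 130, -89, 65, 2, 19, -7, -1]))) (.node (.node (.leaf [3, -2, 1, 3, -1, -3, 0, 1]) (.leaf [1])) (.node (.leaf [2496, 1032, 550, 2231, -89, -1570, -425, -373, 24, -129, -49, 4, 7, -1]) (.leaf [-18808, 41360, -3243, 7830, 32233, 10868, -12138, -8986, -5276, -3246, -3138, -22, -12, 0, -1])))))))

def twoL241 : Janko.Tree (List ℤ) :=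
  (.node (.node (.node (.node (.node (.node (.leaf []) (.leaf [0, 1])) (.node (.leaf [0, 1]) (.leaf [-30984, 29431, 26728, 2412, 16371, 24799, -21391, -774, -6306, -3493, -4725, 406, 177, 0, -1, 1]))) (.node (.node (.leaf [0, 1]) (.leaf [0, 1])) (.node (.leaf [0, 1]) (.leaf [676, 155, 67, 299, -180, -360, 91, -74, 6, -14, 6, 0, -1])))) (.node (.node (.node (.leaf [24, -136, 83, 9, -92, -24, -11, 46, 9, 12, 0, 0, 1]) (.leaf [])) (.node (.leaf []) (.leaf [0, 1]))) (.node (.node (.leaf [0, 1]) (.leaf [8050, -2162, -1540, 2618, -2985, -5243, 2121, -368, 709, 278, 488, -31, 5, -1, 1])) (.node (.leaf [0, 1]) (.leaf []))))) (.node (.node (.node (.node (.leaf []) (.leaf [-128738, 39597, 16090, 17842, 62147, 96135, -79097, -6213, 12868, -14469, -9013, 454, -3425, 0, 0, 0, -1])) (.node (.leaf []) (.leaf [860, -324, -453, -27, -332, -512, 431, -70, 114, 57, 64, -2, -1]))) (.node (.node (.leaf []) (.leaf [0, 1])) (.node (.leaf []) (.leaf [-517, 285, 306, -73, 194, 367, -232, 23,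 -88, -32, -46, 1])))) (.node (.node (.node (.leaf []) (.leaf [])) (.node (.leaf [0, 1]) (.leaf [0, 1]))) (.node (.node (.leaf []) (.leaf [0, 1])) (.node (.leaf [-2, -1, -2, -2, 2, 0, 0, 0, 0, 1]) (.leaf [3, 0, 1, 4, -3, -2, 0, 0, 0, -1, 1])))))) (.node (.node (.node (.node (.node (.leaf [0, 1]) (.leaf [])) (.node (.leaf [0, 1]) (.leaf [0, 1]))) (.node (.node (.leaf [2, 7, 0, 4, 4, -2, -2, -2, -1]) (.leaf [49650, 69730, -29934, 22894, 39790, -40306, 13992, -23019, -13130, 1200, -426, -1122, 1632, -1, 1, 0, 1])) (.node (.leaf []) (.leaf [-164122, 18794, -12974, -51722, 72638, 95180, -38348, 3176, -5484, -1425, -4534, -490, -640, 0, 0, -1])))) (.node (.node (.node (.leaf []) (.leaf [])) (.node (.leaf [0, 1]) (.leaf [897, -419, -645, 124, -224, -817, 567, -3, 94, 43, 56, 19, 1]))) (.node (.node (.leaf []) (.leaf [0, 1])) (.node (.leaf []) (.leaf [0, 1]))))) (.node (.node (.node (.node (.leaf []) (.leaf [-1567, 174, 1335, -286, 69, 1238, -840, 253, -175, -44, -109, -14,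 2, 0, 0, 0, 1])) (.node (.leaf []) (.leaf [422, -431, -215, 85, -260, -352, 193, 39, 84, 36, 56, 0, 1]))) (.node (.node (.leaf [0, 1]) (.leaf [0, 1])) (.node (.leaf [0, 1]) (.leaf [7, -4, 1, 8, -5, -8, 2, 2, 0, -1, 1])))) (.node (.node (.node (.leaf [0, 1]) (.leaf [-69, 45, 25, -16, 35, 48, -26, -2, -12, -3, -5])) (.node (.leaf []) (.leaf [-22967, 75287, 22823, 24555, 41990, 24040, -33303, -14470, -8310, -7573, -7217, 155, -228, 0, 0, 1]))) (.node (.node (.leaf [0, 1]) (.leaf [288, -123, -171, 15, -138, -160, 143, -23, 54, 4, 30, -2, -1])) (.node (.leaf [0, 1]) (.leaf [-75, 53, 29, -14, 35, 52, -26, -1, -14, -6, -5])))))))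

def twoL242 : Janko.Tree (List ℤ) :=
  (.node (.node (.node (.node (.node (.node (.leaf [-4, 0, -1, -1, 2, 2, -1]) (.leaf [103, -166, -59, 50, -70, -117, 43, 28, 29, 12, 14])) (.node (.leaf [0, 2, 1, -1, 0, 0, 1, 0, -1]) (.leaf [0, 0, 1]))) (.node (.node (.leaf []) (.leaf [])) (.node (.leaf []) (.leaf [0, 0, 0, -1, 0, 0, 1])))) (.node (.node (.node (.leaf [0, 0, 0, -1, 0, 0, 1]) (.leaf [0, 0, 0, -1, 0, 0, 1])) (.node (.leaf [0, 0, 1]) (.leaf [78590, -49624, -23434, -12295, -44581, -62465, 51760, 6951, -1430, 10247, 7791, -514, 1767, 0, 0, 0, 1]))) (.node (.node (.leaf [2, 10, -3, -3, 4, 2, 1, -4, -1]) (.leaf [0, 0, 1])) (.node (.leaf []) (.leaf [64674, -371602, -39988, -88580, -230536, -66783, 114895, 86144, 53115, 17972, 26308, 3870, -1608, 1, 0, -1, -1]))))) (.node (.node (.node (.node (.leaf [0, 0, 1, 1, 0, 0, -1]) (.leaf [0, 0, 1])) (.node (.leaf [0, 0, 1]) (.leaf [0, -2, -1, 0, 0, 0, 0, 0, 1]))) (.node (.node (.leaf [199, 2, -76, 51, -42, -145, 90, -17, 3, 2,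 11]) (.leaf [-72390, 42852, 19439, 11859, 40093, 57725, -47664, -6317, 2696, -9623, -6845, 448, -1785, 0, 0, 0, -1])) (.node (.leaf []) (.leaf [0, 0, 1])))) (.node (.node (.node (.leaf [0, 0, 1, 1, 0, 0, -1]) (.leaf [1043, -396, -532, 168, -367, -865, 627, 24, 83, 23, 56, 15, -3])) (.node (.leaf [-94, 30, 24, -33, 35, 67, -30, 1, -9, -2, -5]) (.leaf [-200, 136, 248, 45, 41, 223, -226, -15, -19, -18, -13, -4, 1]))) (.node (.node (.leaf [0, 0, 1, 1, 0, 0, -1]) (.leaf [-121, -8, 16, -27, 41, 60, -37, 11, -9, 4, 0, -1, -1])) (.node (.leaf [0, 0, 1, 1, 0, 0, -1]) (.leaf [0, 0, 1])))))) (.node (.node (.node (.node (.node (.leaf []) (.leaf [39, 86, 0, -5, 10, 6, 19, -19, -5, -10, -9])) (.node (.leaf []) (.leaf [2502, 50292, 22849, 15369, 18783, 5655, -15508, -8986, -9103, -2913, -4299, -185, 340, -1, 0, 1]))) (.node (.node (.leaf [0, 0, 1]) (.leaf [-5, 2, 0, -1, 3, 2, -1, 0, -1])) (.node (.leaf [-2, 2, 0, 0, 2, 0, 0, 0, -1]) (.leaf [297, -224, -207, 215, -51, -317, 72, 3,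 62, 15, 32, 1, -1])))) (.node (.node (.node (.leaf [0, 0, 1, 1, 0, 0, -1]) (.leaf [0, 0, 1])) (.node (.leaf []) (.leaf [31439, -2204, 6937, 8934, -14686, -16521, 5559, -756, 105, 862, 739, -99, 251, 0, 0, 1]))) (.node (.node (.leaf []) (.leaf [542, 216, -107, 306, -51, -223, 21, -130, 68, -37, 6, -10, -5])) (.node (.leaf [0, 0, 1]) (.leaf [-3382, 1482, -2585, -1401, 2865, 1381, 48, -569, -265, -38, 107, 30, -6, 0, 0, 1]))))) (.node (.node (.node (.node (.leaf [296, -30, -120, 70, -77, -213, 135, -20, 14, 4, 17]) (.leaf [1692, -726, -957, 212, -565, -1163, 759, -114, 249, 95, 132, 0, 1])) (.node (.leaf [-2, 2, 0, 0, 2, 0, 0, 0, -1]) (.leaf []))) (.node (.node (.leaf []) (.leaf [])) (.node (.leaf [-71, 30, 29, -9, 33, 43, -30, 3, -11, -2, -5]) (.leaf [0, 0, 1])))) (.node (.node (.node (.leaf [490, 130, 271, 153, -226, -188, 35, -22, -21, -9, -22, 6, 3]) (.leaf [0, 0, 1])) (.node (.leaf [0, 0, 1]) (.leaf [0, 0, 1]))) (.node (.node (.leaf []) (.leaf [-8380, 30174, -6647,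 7347, 23949, 4459, -7644, -8198, -3216, -1836, -1592, -224, -21, -1, 0, 1])) (.node (.leaf [174, 188, 354, 88, -101, 23, -103, -12, -40, -9, -38, 2, 3]) (.leaf [3884, -100634, -86609, -74960, -19342, -46358, 78820, 18157, -2764, 19518, 13675, -924, 2655, 0, 0, 0, 1])))))))

def twoL243 : Janko.Tree (List ℤ) :=
  (.node (.node (.node (.node (.node (.node (.leaf [0, 0, 0, 1]) (.leaf [])) (.node (.leaf []) (.leaf []))) (.node (.node (.leaf []) (.leaf [176, -66, -79, 75, -53, -139, 60, -5, 20, 5, 16, -3])) (.node (.leaf []) (.leaf [0, 0, 0, 1])))) (.node (.node (.node (.leaf [0, 0, 0, 1]) (.leaf [0, 0, 0, 1])) (.node (.leaf []) (.leaf [80374, -49408, -23400, -11549, -45050, -63314, 51902, 6716, -1306, 10248, 7813, -534, 1767, 0, 0, 0, 1]))) (.node (.node (.leaf []) (.leaf [-74102, 43000, 18994, 11304, 40978, 58414, -47780, -6228, 2604, -9666, -6907, 490, -1793, 0, 0, 0, -1])) (.node (.leaf []) (.leaf [0, 0, 0, 1]))))) (.node (.node (.node (.node (.leaf [0, 0, 0, 1]) (.leaf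 [-48, -22, -142, -62, 53, -25, 81, 3, -2, 4, 7, 0, -1])) (.node (.leaf []) (.leaf [0, 0, 0, 1]))) (.node (.node (.leaf [0, 0, 0, 1]) (.leaf [578, -120, 4, 157, -283, -253, 95, -33, 68, 13, 24, -12])) (.node (.leaf [-1353, 118, 175, -461, 477, 847, -380, 80, -70, -4, -66, 1]) (.leaf [])))) (.node (.node (.node (.leaf [0, 0, 0, 1]) (.leaf [255, -90, -61, 25, -94, -182, 115, 4, 18, 16, 2, 5])) (.node (.leaf []) (.leaf [-380, 200, 298, -11, 119, 341, -287, -13, -41, -20, -25, -2, 1]))) (.node (.node (.leaf [0, 0, 0, 1]) (.leaf [-117, -32, 2, -17, 41, 43, -33, 16, -5, 6, 1, -1, -1])) (.node (.leaf [0, 0, 0, 1]) (.leaf [31204, -19246, -11881, 2444, -17029, -22427, 16065, 1286, 3474, 1978, 2904, -64, 45, 1, 0, -1])))))) (.node (.node (.node (.node (.node (.leaf []) (.leaf [-5747, 2998, 127, -1614, 3539, 3156, -1218, -113, -757, -268, -467, 106, 0, 1])) (.node (.leaf []) (.leaf [4092, 49080, 22819, 16179, 17645, 4855, -15397, -8876, -8637, -2919, -4209, -211, 312, -1, 0, 1])))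 (.node (.node (.leaf []) (.leaf [])) (.node (.leaf [0, 0, 0, 1]) (.leaf [0, 0, 0, 1])))) (.node (.node (.node (.leaf [0, 0, 0, 1]) (.leaf [])) (.node (.leaf [1028, -720, -555, 227, -451, -799, 440, 11, 184, 65, 99, 1]) (.leaf [-68, 12, 33, -35, 23, 49, -24, 5, -8, 4, -8, 1]))) (.node (.node (.leaf [18, -26, -11, -7, -1, -15, 4, 0, 4, 10, 0, -1]) (.leaf [106547, 812884, 302348, 346473, 310858, 86650, -296618, -180312, -90070, -63928, -67808, -3908, -416, -1, 1, 1, 1])) (.node (.leaf [30568, -18872, -11689, 2366, -16698, -22014, 15808, 1272, 3380, 1938, 2864, -64, 46, 1, 0, -1]) (.leaf [-68, 10, 35, -34, 21, 49, -24, 6, -8, 4, -8, 1]))))) (.node (.node (.node (.node (.leaf []) (.leaf [0, 0, 0, 1])) (.node (.leaf [0, 0, 0, 1]) (.leaf []))) (.node (.node (.leaf []) (.leaf [462, -408, -339, 25, -227, -391, 287, 24, 98, 29, 42, 12, -1])) (.node (.leaf []) (.leaf [-4806, 2194, 2457, -1744, 1533, 3733, -1607, 302, -606, -278, -602, 70, 17, 1, 0, -1])))) (.node (.node (.node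 (.leaf [264, -160, 10, 50, -162, -182, 85, 26, 20, 17, 10, 4, 3]) (.leaf [])) (.node (.leaf []) (.leaf [-45543, 69204, 7839, 15062, 52448, 32570, -32105, -13238, -6796, -7578, -6805, 305, -490, 0, 0, 1]))) (.node (.node (.leaf []) (.leaf [-8380, 30174, -6649, 7347, 23949, 4459, -7643, -8198, -3216, -1836, -1592, -224, -21, -1, 0, 1])) (.node (.leaf [4596, -4668, -936, 827, -3499, -3225, 1659, 571, 830, 445, 563, -70, -5, -1]) (.leaf [0, 0, 0, 1])))))))

def twoL244 : Janko.Tree (List ℤ) :=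
  (.node (.node (.node (.node (.node (.node (.leaf [-2, 0, -1, -1, 1, 1]) (.leaf [0, 0, 0, -1, 0, 1])) (.node (.leaf [82, -34, -48, 20, -27, -59, 35, -5, 13, 2, 7]) (.leaf [422, -162, -84, 69, -199, -254, 151, -2, 46, 19, 20, -2]))) (.node (.node (.leaf [1]) (.leaf [4403, 588, 410, 2539, -1061, -2690, 303, -385, 98, -73, 69, -10, 7, -1])) (.node (.leaf [1]) (.leaf [3, 0, 1, 1, -1, -1])))) (.node (.node (.node (.leaf [-2, -2, 0, -1, 0, 1, 0, 1]) (.leaf [-155, 34, 57, -68, 63, 104, -48, 12, -16, 6, -19, 1, -1])) (.node (.leaf [-1, 0, 0, -1, 0, 1]) (.leaf [-875, 414, 137, -276, 491, 542, -274, -35, -129, 2, -47, 3, -1]))) (.node (.node (.leaf [-509, 260, 135, -153, 264, 334, -175, -15, -82, -4, -30, 1]) (.leaf [-79958, 50204, 23871, 11963, 45221, 63379, -52320, -6970, 1248, -10264, -7869, 518, -1765, 0, 0, 0, -1])) (.node (.leaf [-2233, 3800, -1492, 1960, 3797, 1105, -1697, -1016, 189, -651, -389, 71, -104, 0, -1]) (.leaf [-47367, -90618, -54295, -21892, -15332, 16749,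 9783, 15121, 25723, -803, 6785, 1069, -2586, 0, 0, -1, -1]))))) (.node (.node (.node (.node (.leaf []) (.leaf [45, -80, -28, -21, -45, -70, 73, 31, 0, 5, 0, 4])) (.node (.leaf [-1, 0, 0, -1, 0, 1]) (.leaf [0, 0, 0, -1, 0, 1]))) (.node (.node (.leaf [191, 2, -78, 51, -37, -142, 87, -17, 3, 2, 11]) (.leaf [1])) (.node (.leaf [1, 0, 1, 0, -1]) (.leaf [-203968, 245246, -42419, 29764, 219602, 115711, -82307, -46749, -21435, -32368, -22855, 3932, -3148, 1, -1, -1, -1])))) (.node (.node (.node (.leaf []) (.leaf [-736, 324, 385, -45, 273, 476, -337, 47, -108, -49, -54, 1, 1])) (.node (.leaf [140, -78, -84, 41, -53, -114, 65, -1, 21, 4, 15]) (.leaf [15892, -68612, -104992, 6069, -203, -31808, 30699, -3040, 28681, 143, 11145, -45, -2578, 0, 0, -1, -1]))) (.node (.node (.leaf []) (.leaf [78, -34, -31, 19, -33, -55, 32, -1, 10, 2, 6])) (.node (.leaf [0, 0, -1, 0, 1]) (.leaf [143749, -133776, 14438, 2562, -134698, -83733, 58675, 25286, 18460, 10648, 11894, 162, 438, 1, -1, -1,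 -1])))))) (.node (.node (.node (.node (.node (.leaf [1]) (.leaf [324, -1858, -961, -815, -965, -263, 862, 281, 335, 150, 205, -34, -8, 1])) (.node (.leaf [1]) (.leaf [96, -678, -473, -206, -226, -252, 350, 115, 99, 44, 71, 6, 4]))) (.node (.node (.leaf [1, 0, 0, 1, 0, -1]) (.leaf [1, 0, 0, 1, 0, -1])) (.node (.leaf [0, 0, -1, 0, 1]) (.leaf [6, 2, 1, 2, -1, -2, 0, -1])))) (.node (.node (.node (.leaf [25, 2, 19, 12, -14, -9, -3, 0, 0, 0, -1]) (.leaf [-1, 0, 0, -1, 0, 1])) (.node (.leaf [0, 0, -1, 0, 1]) (.leaf [73330, -15492, 21676, 23458, -43461, -36833, 11527, 1902, 3637, 418, 1283, 297, 209, 0, 0, 1]))) (.node (.node (.leaf [1, 0, 1, 0, -1]) (.leaf [-72, 10, 33, -39, 22, 52, -23, 6, -8, 4, -8, 1])) (.node (.leaf [3, -4, 4, 2, -4, -2, 0, 2]) (.leaf [183962, -259032, 27348, -45178, -214934, -111292, 90174, 50814, 21652, 33580, 23902, -3584, 3152, 0, 0, 1, 1]))))) (.node (.node (.node (.node (.leaf [81, 30, -25, 20, -6, -57, 37, -12, -6, 0, 3]) (.leaf [-74, 26, 48, -17,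 19, 52, -31, 7, -13, -2, -5])) (.node (.leaf [63, -28, -42, 9, -22, -45, 32, -4, 10, 2, 6]) (.leaf [1, 0, 1, 0, -1]))) (.node (.node (.leaf [1]) (.leaf [])) (.node (.leaf [0, 0, 0, -1, 0, 1]) (.leaf [2, 0, 0, 1, 0, -1])))) (.node (.node (.node (.leaf [1]) (.leaf [2, 0, 0, 1, 0, -1])) (.node (.leaf [-1, 0, 0, -1, 0, 1]) (.leaf [1]))) (.node (.node (.leaf [0, 0, -1, 0, 1]) (.leaf [293669, -316412, -28160, -61751, -269599, -205188, 178035, 58577, 20904, 42058, 34273, -2291, 4685, -1, 1, 1, 1])) (.node (.leaf [-59, 2, 23, -36, 24, 43, -23, 3, -4, 7, -8, 1]) (.leaf [25837, -332016, -70184, -106160, -181490, -50462, 113814, 74480, 44022, 20122, 26102, 2476, -1194, 0, -1, -1, -1])))))))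

def twoL245 : Janko.Tree (List ℤ) :=
  (.node (.node (.node (.node (.node (.node (.leaf []) (.leaf [-791, 1970, 745, 852, 1236, 589, -1037, -306, -267, -206, -210, -1, 5])) (.node (.leaf []) (.leaf [0, -1, 0, -2, 0, 0, 0, 0, 0, 1]))) (.node (.node (.leaf []) (.leaf [0, 1])) (.node (.leaf []) (.leaf [48085, 41564, 9821, 12746, 6224, -30721, 9931, -9990, -13816, 3002, -998, -806, 1826, -1, 0, 1, 1])))) (.node (.node (.node (.leaf []) (.leaf [0, 1])) (.node (.leaf [2, 2, 2, 2, -2, 0, 0, 0, 0, -1]) (.leaf [0, 1]))) (.node (.node (.leaf []) (.leaf [])) (.node (.leaf [0, 1]) (.leaf [0, 1]))))) (.node (.node (.node (.node (.leaf [0, 1]) (.leaf [0, 2, 0, 2, 0, 0, 0, 0, 0, -1])) (.node (.leaf [2, 2, 2, 2, -2, 0, 0, 0, 0, -1]) (.leaf []))) (.node (.node (.leaf []) (.leaf [33076, 242082, 52456, 102030, 116154, 9516, -79342, -59475, -27884, -14614, -17580, -2318, 830, -1, 1, 0, 1])) (.node (.leaf []) (.leaf [-195104, 237051, -44372, 29230, 212304, 110376, -77908, -45816, -20026,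 -31559, -21834, 3862, -3152, 1, 0, -1, -1])))) (.node (.node (.node (.leaf [0, 1]) (.leaf [0, 1])) (.node (.leaf []) (.leaf [0, 1]))) (.node (.node (.leaf [0, 1]) (.leaf [0, 1])) (.node (.leaf [240, -130, -157, 79, -89, -191, 112, -2, 44, 1, 23, -1]) (.leaf [])))))) (.node (.node (.node (.node (.node (.leaf []) (.leaf [878, -174, -179, 415, -254, -616, 181, -46, 81, 7, 42, 0, 3])) (.node (.leaf []) (.leaf [-91498, 148800, -15776, -9336, 124437, 47849, -30605, -29867, -30959, -4598, -9620, -907, 1551, -1, 0, 1, 1]))) (.node (.node (.leaf []) (.leaf [])) (.node (.leaf [16642, -24188, -3214, -2044, -18078, -11424, 9488, 4202, 3668, 1996, 2234, -6, 0, -1, 1]) (.leaf [0, 1])))) (.node (.node (.node (.leaf [0, 1]) (.leaf [0, 2, 0, 2, 0, 0, 0, 0, 0, -1])) (.node (.leaf []) (.leaf [-192364, 241755, 28377, 80036, 198125, 149728, -155064, -52191, -5420, -33329, -25916, 362, -4383, 0, 0, 0, -1]))) (.node (.node (.leaf []) (.leaf [])) (.node (.leaf [460, -380, -263, -53, -289,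 -319, 292, 20, 77, 39, 53, 1]) (.leaf [-131, 55, 61, -16, 55, 80, -56, 7, -21, -4, -9]))))) (.node (.node (.node (.node (.leaf [-2, -6, -2, -2, -2, 0, 2, 2, 1]) (.leaf [])) (.node (.leaf [0, 1]) (.leaf [138, -112, -69, 83, -47, -139, 38, 8, 22, 10, 17, -1]))) (.node (.node (.leaf []) (.leaf [0, 1])) (.node (.leaf []) (.leaf [23264, -13382, 2211, 2331, -16866, -12966, 7799, 1941, 1829, 1482, 1503, -160, 96, 0, 1, -1])))) (.node (.node (.node (.leaf []) (.leaf [])) (.node (.leaf [2, -1, 0, 0, 0, -2, 0, 0, 0, 1]) (.leaf [1342, -67, 25, 445, -526, -674, 231, -101, 92, 14, 44, -14, -1]))) (.node (.node (.leaf [-139, 53, 67, -16, 53, 84, -58, 10, -22, -5, -9]) (.leaf [0, 1])) (.node (.leaf []) (.leaf [0, 1])))))))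

def twoL246 : Janko.Tree (List ℤ) :=
  (.node (.node (.node (.node (.node (.node (.leaf [0, 0, 0, -1, 0, 0, 1]) (.leaf [157, -128, -124, 61, -52, -149, 72, 4, 34, 8, 18])) (.node (.leaf [0, 0, 1]) (.leaf [0, 0, 1, 1, 0, 0, -1]))) (.node (.node (.leaf [-5, 2, 0, -1, 3, 2, -1, 0, -1]) (.leaf [0, -2, -3, -1, 0, 0, 1, 0, 1])) (.node (.leaf [-83, 52, -11, -28, 58, 49, -17, -9, -12, -2, -3]) (.leaf [0, 0, 0, -1, 0, 0, 1])))) (.node (.node (.node (.leaf [0, 0, 1]) (.leaf [-297, 64, 101, -85, 109, 208, -117, 16, -19, -2, -26, 0, -1])) (.node (.leaf [0, 0, 1, 1, 0, 0, -1]) (.leaf [-795, 358, 65, -245, 459, 472, -229, -34, -110, 0, -36, 2, -1]))) (.node (.node (.leaf [0, 0, 0, -1, 0, 0, 1]) (.leaf [0, 0, 0, -1, 0, 0, 1])) (.node (.leaf []) (.leaf [-50641, -40964, -33095, -10568, 5100, 25402, -4986, 6666, 16319, -3657, 2421, 982, -2249, 0, 0, 0, -1]))))) (.node (.node (.node (.node (.leaf []) (.leaf [-48, -22, -143, -63, 53, -25, 82, 3, -2, 4, 7, 0, -1])) (.node (.leaf [0, 0,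 1, 1, 0, 0, -1]) (.leaf [-1, 2, 1, 0, 1, 0, 0, 0, -1]))) (.node (.node (.leaf [0, 0, 0, -1, 0, 0, 1]) (.leaf [])) (.node (.leaf [0, 0, 1]) (.leaf [0, 0, 1, 1, 0, 0, -1])))) (.node (.node (.node (.leaf []) (.leaf [-726, 386, 397, -49, 288, 490, -339, 32, -115, -53, -59, 1, 1])) (.node (.leaf [0, 0, 0, -1, 0, 0, 1]) (.leaf [-1360, -48, 1153, -285, -75, 1063, -688, 266, -111, -53, -86, 6, 2]))) (.node (.node (.leaf []) (.leaf [82, -36, -39, 21, -32, -61, 36, -2, 11, 2, 7])) (.node (.leaf [0, 0, 1]) (.leaf [-3142, -28684, 337, -9718, -16266, 252, 6254, 7808, 3534, 1320, 1394, 376, -90, 1, 0, -1])))))) (.node (.node (.node (.node (.node (.leaf []) (.leaf [-320, 258, 148, -189, 102, 290, -53, -8, -69, -23, -28, 0, -1])) (.node (.leaf []) (.leaf [0, 0, 1]))) (.node (.node (.leaf [0, 0, 1, 1, 0, 0, -1]) (.leaf [-2, 2, 0, 0, 2, 0, 0, 0, -1])) (.node (.leaf [0, 0, 1]) (.leaf [6, 6, 11, 0, -4, 3, -3, -1, -1, 0, -1])))) (.node (.node (.node (.leaf [203, -70, -35, 62, -89, -133,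 63, 0, 22, 4, 9]) (.leaf [0, 0, 1, 1, 0, 0, -1])) (.node (.leaf [0, 0, 1]) (.leaf [0, 0, 1]))) (.node (.node (.leaf [0, 0, 1]) (.leaf [0, 0, 0, -1, 0, 0, 1])) (.node (.leaf [30826, -19000, -11780, 2449, -16828, -22198, 15909, 1276, 3416, 1938, 2888, -64, 46, 1, 0, -1]) (.leaf [-44722, 56706, 18358, 5906, 40846, 33804, -29872, -8799, -8506, -4852, -6129, -36, -31, 0, -1, 1]))))) (.node (.node (.node (.node (.leaf [0, 0, 1]) (.leaf [-240, 80, 142, -71, 63, 175, -92, 22, -35, -6, -21])) (.node (.leaf [67, -30, -50, 11, -21, -51, 36, -5, 11, 2, 7]) (.leaf [0, 0, 1]))) (.node (.node (.leaf [121, -74, -90, 24, -47, -95, 63, -4, 22, 4, 15]) (.leaf [])) (.node (.leaf [-140, 58, 58, -19, 60, 85, -58, 5, -23, -4, -7]) (.leaf [12896, 570, 6880, 3541, -7395, -5077, 1170, -28, -360, 174, -80, -104, 113, 1, 0, -1])))) (.node (.node (.node (.leaf [1036, -626, -651, 339, -329, -819, 382, -36, 214, 44, 86, 6, -1]) (.leaf [-4, 0, -1, -1, 2, 2, -1])) (.node (.leaf [0, 0, 1, 1, 0, 0,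 -1]) (.leaf [-4164, 11524, -11466, 4816, 12709, -889, -345, -3827, 159, -1788, -303, 302, -305, 0, 0, 1]))) (.node (.node (.leaf [0, 0, 1]) (.leaf [-8664, 30266, -6455, 7257, 24014, 4650, -7739, -8160, -3267, -1845, -1622, -218, -21, -1, 0, 1])) (.node (.leaf [0, 0, 0, -1, 0, 0, 1]) (.leaf [50644, -58924, -5269, -3310, -50000, -33717, 27427, 10834, 8278, 4554, 5550, 152, 94, 0, 0, -1])))))))

def twoL247 : Janko.Tree (List ℤ) :=
  (.node (.node (.node (.node (.node (.node (.leaf [0, 0, 0, 1]) (.leaf [0, 0, 0, 1])) (.node (.leaf []) (.leaf [0, 0, 0, 1]))) (.node (.node (.leaf []) (.leaf [3469, -64, 946, 1971, -1373, -1801, -125, -217, 144, 31, 127, -58, 5, -1])) (.node (.leaf []) (.leaf [0, 0, 0, 1])))) (.node (.node (.node (.leaf []) (.leaf [129, -52, -55, -17, -61, -68, 84, 8, 21, 6, -4, -4, -1])) (.node (.leaf [0, 0, 0, 1]) (.leaf [-995, 426, 191, -317, 527, 628, -324, -24, -138, 6, -58, 2, -1]))) (.node (.node (.leaf [0, 0, 0, 1]) (.leaf [0, 0, 0, 1])) (.node (.leaf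 []) (.leaf []))))) (.node (.node (.node (.node (.leaf []) (.leaf [0, 0, 0, 1])) (.node (.leaf [0, 0, 0, 1]) (.leaf [0, 0, 0, 1]))) (.node (.node (.leaf [0, 0, 0, 1]) (.leaf [-84, 56, 68, -38, 33, 73, -41, -1, -19, 2, -11, 1])) (.node (.leaf [-1762, -184, 64, -1249, 247, 1204, -37, 185, -105, 44, -29, 0, -3]) (.leaf [0, 0, 0, 1])))) (.node (.node (.node (.leaf []) (.leaf [156, -50, -97, 49, -54, -106, 64, -14, 25, -3, 17, -1, 1])) (.node (.leaf [0, 0, 0, 1]) (.leaf [-56738, -34670, -28696, -9193, 9345, 29781, -9649, 6089, 14930, -4186, 1785, 932, -2215, 0, 0, 0, -1]))) (.node (.node (.leaf []) (.leaf [19276, 8896, 8962, 4472, -6088, -7675, 2247, -2086, -2237, 266, -603, -68, 280, 1, 0, -1])) (.node (.leaf []) (.leaf [0, 0, 0, 1])))))) (.node (.node (.node (.node (.node (.leaf []) (.leaf [0, 0, 0, 1])) (.node (.leaf [-953, -88, -9, -399, 293, 553, -184, 79, -24, 14, -26, 1]) (.leaf []))) (.node (.node (.leaf [0, 0, 0, 1]) (.leaf [0, 0, 0, 1])) (.node (.leaf []) (.leaf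 [-1053, 586, 358, -18, 573, 621, -473, 0, -159, -63, -69, -1, -1])))) (.node (.node (.node (.leaf []) (.leaf [0, 0, 0, 1])) (.node (.leaf [-302, 430, 95, -202, 199, 315, -59, -70, -94, -16, -24, -12, 1]) (.leaf []))) (.node (.node (.leaf []) (.leaf [0, 0, 0, 1])) (.node (.leaf [0, 0, 0, 1]) (.leaf [0, 0, 0, 1]))))) (.node (.node (.node (.node (.leaf []) (.leaf [0, 0, 0, 1])) (.node (.leaf []) (.leaf [-4960, 2230, 2536, -1817, 1558, 3846, -1643, 320, -624, -286, -618, 76, 17, 1, 0, -1]))) (.node (.node (.leaf []) (.leaf [])) (.node (.leaf [0, 0, 0, 1]) (.leaf [0, 0, 0, 1])))) (.node (.node (.node (.leaf [1846, -1262, -905, 565, -779, -1439, 669, 20, 348, 98, 160, 6, -1]) (.leaf [0, 0, 0, 1])) (.node (.leaf [0, 0, 0, 1]) (.leaf [-32464, 49230, 7667, 12727, 36839, 23813, -24861, -9370, -4470, -5634, -4936, 212, -417, -1, 0, 1]))) (.node (.node (.leaf []) (.leaf [248035, -282948, 25264, -63607, -258640, -163896, 145928, 61825, 11814, 37547, 27047, -1622, 4863, -1, 1, 1,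 1])) (.node (.leaf [0, 0, 0, 1]) (.leaf [5270, -4164, -596, 1211, -3608, -3435, 1565, 428, 780, 420, 544, -86, -4, -1])))))))

def twoL248 : Janko.Tree (List ℤ) :=
  (.node (.node (.node (.node (.node (.node (.leaf []) (.leaf [255, 76, -128, 149, 33, -196, 59, -50, 14, -6, 4])) (.node (.leaf [-2, -6, 5, -1, -5, 1, 0, 3]) (.leaf [8, 2, 2, 3, -2, -3, 0, -1]))) (.node (.node (.leaf [1, 0, 0, 1, 0, -1]) (.leaf [-56425, -46300, -34109, -13531, 4646, 27772, -4829, 8445, 16901, -3490, 2510, 1049, -2265, 0, -1, 0, -1])) (.node (.leaf [-88, 52, 14, -26, 51, 57, -27, -5, -14, -2, -5]) (.leaf [-68, 14, 29, -38, 29, 50, -26, 2, -8, 6, -8, 1])))) (.node (.node (.node (.leaf [-2, -2, -1, 0, 1, 0, 0, 1]) (.leaf [1])) (.node (.leaf []) (.leaf [-10, -6, -1, -4, 1, 4, 0, 3]))) (.node (.node (.leaf [1]) (.leaf [3, -2, 1, 3, -1, -3, 0, 1])) (.node (.leaf [-8984, 18528, 173, 3602, 13969, 5460, -6018, -3684, -2516, -1522, -1542, 4, -4, 0, -1]) (.leaf [0, 0, -1, 0, 1]))))) (.node (.node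 (.node (.node (.leaf [1]) (.leaf [7, 2, 2, 3, -2, -3, 0, -1])) (.node (.leaf [-16, -4, -3, -9, 3, 9, 0, 2]) (.leaf [-13341, -67196, -22535, -24636, -24146, -373, 15889, 13401, 10029, 4880, 5608, -79, -241, 0, 0, -1]))) (.node (.node (.leaf []) (.leaf [1, 0, 1, 0, -1])) (.node (.leaf [-1004, -178, -29, -464, 273, 582, -172, 98, -12, 26, -24, 1]) (.leaf [38293, -55400, -9414, -11958, -41229, -28115, 27385, 10126, 5545, 6230, 5685, -285, 399, 0, 0, -1])))) (.node (.node (.node (.leaf [1]) (.leaf [1572, 334, 1444, 370, -872, -679, 5, 15, -352, 150, 18, -43, 45])) (.node (.leaf []) (.leaf [-23226, -45344, -119718, 3928, 31630, -11500, 20252, -8052, 27916, -3646, 9148, 452, -3146, 0, 0, 0, -1]))) (.node (.node (.leaf [1]) (.leaf [1163, -51298, -22037, -13598, -20601, -7473, 15435, 8893, 9474, 3056, 4464, 99, -337, 0, 0, -1])) (.node (.leaf [2, 0, 0, 1, 0, -1]) (.leaf [-36713, 359416, 47736, 106228, 209742, 53264, -113374, -83585, -46310, -21264, -26754, -2807, 1012, 0, 0,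 0, 1])))))) (.node (.node (.node (.node (.node (.leaf [1, 0, 1, 0, -1]) (.leaf [-61, 26, 38, -14, 19, 43, -25, 5, -11, -2, -5])) (.node (.leaf [1, 0, 1, 0, -1]) (.leaf [457, -214, -273, 113, -151, -389, 244, 1, 52, 13, 38, 3]))) (.node (.node (.leaf []) (.leaf [3, 0, 1, 1, -1, -1])) (.node (.leaf [2, 0, 0, 1, 0, -1]) (.leaf [2, 12, 13, 0, 0, 1, -1, 0, -5, 0, -1])))) (.node (.node (.node (.leaf [3, 0, 1, 1, -1, -1]) (.leaf [])) (.node (.leaf []) (.leaf [-67, 12, 35, -36, 21, 50, -24, 5, -8, 4, -8, 1]))) (.node (.node (.leaf [21, -26, -9, -6, -3, -16, 4, 0, 4, 10, 0, -1]) (.leaf [])) (.node (.leaf [13, -12, 22, 6, -19, -1, -5, 5, 2, 0, -1]) (.leaf [0, 0, -1, 0, 1]))))) (.node (.node (.node (.node (.leaf [1, 0, 0, 1, 0, -1]) (.leaf [189631, -230966, 44841, -29932, -207481, -106712, 75888, 44889, 19034, 31008, 21182, -3790, 3160, 0, 0, 1, 1])) (.node (.leaf [179, -94, -146, 27, -59, -136, 97, -13, 33, 6, 21]) (.leaf [-1, 0, 0, -1, 0, 1]))) (.node (.node (.leaf [-126, 54,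 41, -14, 60, 69, -47, 4, -22, -4, -5]) (.leaf [1])) (.node (.leaf []) (.leaf [23990, -27938, -6779, -4068, -20877, -18486, 15744, 4802, 2683, 3405, 3079, -194, 194, 0, 0, -1])))) (.node (.node (.node (.leaf [-67, 30, 31, -15, 27, 49, -30, 1, -9, -2, -5]) (.leaf [])) (.node (.leaf [0, 0, -1, 0, 1]) (.leaf [-155737, -194246, -185868, -147687, 21585, 10504, 92727, 39852, 13914, 20650, 21129, 843, 735, -1, 1, 1, 1]))) (.node (.node (.leaf [2, 0, 0, 1, 0, -1]) (.leaf [])) (.node (.leaf [-3, -4, -11, -4, 7, 0, 0, -2, 2, 2]) (.leaf [-7580, 198164, 54231, 113221, 86427, 46481, -92750, -45618, -1022, -31430, -18966, 1920, -3966, 0, 0, -1, -1])))))))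

def twoL249 : Janko.Tree (List ℤ) :=
  (.node (.node (.node (.node (.node (.node (.leaf [0, 1]) (.leaf [])) (.node (.leaf []) (.leaf [0, 1]))) (.node (.node (.leaf []) (.leaf [])) (.node (.leaf [0, 2, 2, 0, 0, 0, 0, 0, -1]) (.leaf [0, 1])))) (.node (.node (.node (.leaf []) (.leaf [])) (.node (.leaf [0, 1]) (.leaf [0, 1]))) (.node (.node (.leaf []) (.leaf [-1511, 2076, 1892, 367, 777, 1648, -1515, -212, -381, -199, -195, -50, -1])) (.node (.leaf []) (.leaf [-1147, 787, 818, -313, 347, 1114, -637, -46, -184, -53, -81, -30, 1]))))) (.node (.node (.node (.node (.leaf []) (.leaf [0, 1])) (.node (.leaf [0, 1]) (.leaf [0, 1]))) (.node (.node (.leaf [0, 1]) (.leaf [])) (.node (.leaf [0, -1, 0, -2, 0, 0, 0, 0, 0, 1]) (.leaf [0, 1])))) (.node (.node (.node (.leaf []) (.leaf [0, 1])) (.node (.leaf [0, 1]) (.leaf []))) (.node (.node (.leaf []) (.leaf [0, 1])) (.node (.leaf []) (.leaf [0, 1])))))) (.node (.node (.node (.node (.node (.leaf []) (.leaf [0, 1])) (.node (.leaf [])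 (.leaf []))) (.node (.node (.leaf [0, 1]) (.leaf [])) (.node (.leaf []) (.leaf [])))) (.node (.node (.node (.leaf []) (.leaf [0, 1])) (.node (.leaf [0, 1]) (.leaf [0, -1, 0, -2, 0, 0, 0, 0, 0, 1]))) (.node (.node (.leaf [-4, -2, 0, -2, 2, 2, -2, 0, 0, 1]) (.leaf [0, 1])) (.node (.leaf [0, 1]) (.leaf [-71, 29, 29, -22, 27, 50, -26, 2, -10, -1, -5]))))) (.node (.node (.node (.node (.leaf []) (.leaf [0, 1])) (.node (.leaf []) (.leaf [0, 2, 0, 2, 0, 0, 0, 0, 0, -1]))) (.node (.node (.leaf [0, 2, 2, 0, 0, 0, 0, 0, -1]) (.leaf [])) (.node (.leaf [0, 1]) (.leaf [0, 1])))) (.node (.node (.node (.leaf []) (.leaf [0, 1])) (.node (.leaf [73, -52, -27, 14, -37, -50, 26, 2, 14, 5, 5]) (.leaf [0, 1]))) (.node (.node (.leaf []) (.leaf [0, 1])) (.node (.leaf [0, 1]) (.leaf [0, -1, 0, -2, 0, 0, 0, 0, 0, 1])))))))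

def twoL250 : Janko.Tree (List ℤ) :=
  (.node (.node (.node (.node (.node (.node (.leaf []) (.leaf [0, 0, 0, -1, 0, 0, 1])) (.node (.leaf [0, 0, 1, 1, 0, 0, -1]) (.leaf []))) (.node (.node (.leaf [0, 2, 4, -2, -2, 2, 0, 0, -1]) (.leaf [0, 0, 0, -1, 0, 0, 1])) (.node (.leaf [0, 0, 1]) (.leaf [-25801, 44734, -3277, 6078, 36815, 15362, -14832, -9716, -5939, -3234, -3408, -64, -6, 0, -1, 1])))) (.node (.node (.node (.leaf [0, 0, 1, 1, 0, 0, -1]) (.leaf [])) (.node (.leaf [0, 2, 1, -1, 0, 0, 1, 0, -1]) (.leaf [-19062, -8980, -9022, -4412, 5992, 7530, -2170, 2084, 2262, -262, 618, 68, -280, -1, 0, 1]))) (.node (.node (.leaf []) (.leaf [0, 0, 1])) (.node (.leaf [0, 0, 1]) (.leaf [0, 0, 1]))))) (.node (.node (.node (.node (.leaf []) (.leaf [-69716, 31716, -3463, -16033, 44487, 40525, -20896, -3994, -6735, -1477, -3331, -323, 2, -1, 0, 1])) (.node (.leaf []) (.leaf [-6599, -54410, -11624, -17003, -23692, -410, 10541, 11212, 8339, 3685, 4218, -80, -169, 0, 0, -1]))) (.node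 (.node (.leaf []) (.leaf [0, 0, 1])) (.node (.leaf [-156, 116, 35, 232, 217, 20, -218, -23, -1, -18, -17, 0, 1]) (.leaf [2483, 1256, 4944, 2116, -2082, -221, -1387, 380, -249, -306, -505, 35, 17, 0, 0, -1])))) (.node (.node (.node (.leaf [230, 138, -190, -14, 51, -113, 111, -90, 11, 3, 2, 4, 1]) (.leaf [])) (.node (.leaf []) (.leaf [0, 0, 1]))) (.node (.node (.leaf [-356, 1314, 1090, 692, 441, 539, -899, -176, -199, -145, -116, -20, -1]) (.leaf [52140, 38778, 32170, 9644, -6706, -26310, 6346, -6399, -15967, 3895, -2183, -980, 2245, 0, 0, 0, 1])) (.node (.leaf [-4, 0, -1, -1, 2, 2, -1]) (.leaf [-36093, 361396, 46986, 107104, 210829, 52997, -113549, -84290, -46410, -21421, -26722, -2854, 999, 0, 0, 0, 1])))))) (.node (.node (.node (.node (.node (.leaf [0, 0, 1]) (.leaf [0, 4, 13, 0, -3, 5, -5, 0, -1, 0, -1])) (.node (.leaf [0, 0, 1]) (.leaf [0, 0, 1, 1, 0, 0, -1]))) (.node (.node (.leaf []) (.leaf [0, 0, 0, -1, 0, 0, 1])) (.node (.leaf [-4, 0, -1, -1, 2, 2, -1]) (.leaf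 [0, 0, 1])))) (.node (.node (.node (.leaf [0, 0, 0, -1, 0, 0, 1]) (.leaf [-4, 2, -1, -3, 2, 2, 1, 0, -1])) (.node (.leaf [-2, -2, -2, -3, 0, 2, 1, 0, 1]) (.leaf [0, 0, 1, 1, 0, 0, -1]))) (.node (.node (.leaf [0, 0, 1, 1, 0, 0, -1]) (.leaf [15, -8, -5, 40, -3, -19, -11, 0, 5, -5, 4, -1, 1])) (.node (.leaf [5, -12, 18, 4, -14, 1, -5, 5, 2, 0, -1]) (.leaf [0, 0, 1]))))) (.node (.node (.node (.node (.leaf [0, 0, 1, 1, 0, 0, -1]) (.leaf [])) (.node (.leaf [0, 0, 0, -1, 0, 0, 1]) (.leaf [-7046, 3038, 1381, -2774, 3058, 4920, -1748, 42, -772, -298, -590, 82, 17, 1, 0, -1]))) (.node (.node (.leaf [0, 0, 1]) (.leaf [66, -52, -35, 32, -28, -57, 21, 3, 14, 2, 7])) (.node (.leaf [-1256, -308, -265, -682, 326, 601, -5, 142, -45, 31, 14, 9, 3]) (.leaf [-18940, -27030, -8143, -14798, -4915, 7463, 3155, 6450, 3024, 2318, 1951, -205, -23, 0, 0, -1])))) (.node (.node (.node (.leaf [-41, 32, 37, -9, 15, 36, -23, 0, -9, -2, -5]) (.leaf [2, -2, 0, -1, -2, 0, 1, 0, 1])) (.node (.leaf [0,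 0, 1]) (.leaf [19328, 11378, 10255, 12071, -3790, -8022, -2725, -3020, -1431, -637, -576, -162, 137, -1, 0, 1]))) (.node (.node (.leaf [-4, 0, -1, -1, 2, 2, -1]) (.leaf [-38053, 59636, 14078, 9131, 42120, 28037, -26982, -10116, -8548, -5219, -6061, 125, 1, -1, 0, 1])) (.node (.leaf []) (.leaf [276, -1216, 71, -224, -745, -207, 211, 264, 144, 128, 90, -16, -2])))))))

def twoL251 : Janko.Tree (List ℤ) :=
  (.node (.node (.node (.node (.node (.node (.leaf []) (.leaf [0, 0, 0, 1])) (.node (.leaf [0, 0, 0, 1]) (.leaf [302, -92, -24, 55, -139, -172, 91, -3, 26, 15, 10, -2]))) (.node (.node (.leaf [0, 0, 0, 1]) (.leaf [0, 0, 0, 1])) (.node (.leaf [318, 1006, 746, 308, 125, 177, -373, -197, -152, -42, -98, -15, 1]) (.leaf [-66, 10, 35, -32, 21, 47, -24, 6, -8, 4, -8, 1])))) (.node (.node (.node (.leaf [0, 0, 0, 1]) (.leaf [111, -22, -41, 40, -27, -74, 28, -12, 12, 4, 8, -1])) (.node (.leaf []) (.leaf [2742, 50100, 22406, 15879, 18862, 5471, -15613, -9036, -8819, -3012, -4327,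 -174, 318, -1, 0, 1]))) (.node (.node (.leaf []) (.leaf [-57576, -109740, -82892, -26832, -10518, 11942, 19318, 16969, 30330, -467, 9785, 1322, -3069, 0, 0, 0, -1])) (.node (.leaf []) (.leaf [-70, 10, 32, -40, 21, 51, -21, 6, -8, 4, -8, 1]))))) (.node (.node (.node (.node (.leaf [-477, 184, 258, -85, 160, 353, -234, 17, -60, -14, -32, -3]) (.leaf [-69842, 32008, -3341, -15927, 44647, 40619, -21027, -4030, -6787, -1507, -3355, -327, 2, -1, 0, 1])) (.node (.leaf [-12, 38, 25, -1, 11, 25, -20, -9, -6, -1, -2, -1]) (.leaf [-2935, -12086, -8376, -5553, -2280, -1470, 5020, 2156, 1671, 1097, 1214, -28, -67, 0, 0, -1]))) (.node (.node (.leaf []) (.leaf [995, -426, -191, 318, -527, -628, 324, 24, 138, -6, 58, -2, 1])) (.node (.leaf [0, 0, 0, 1]) (.leaf [])))) (.node (.node (.node (.leaf [431, 56, -282, 61, -10, -265, 177, -98, 36, 13, 20, 0, 1]) (.leaf [])) (.node (.leaf []) (.leaf [-53140, -38536, -32512, -8984, 7675, 26494, -6907, 6439, 16136, -4095, 1994, 1052, -2258, 0,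 0, 0, -1]))) (.node (.node (.leaf [-289, 1300, 1056, 715, 428, 493, -879, -184, -190, -143, -112, -20, -1]) (.leaf [532356, 2846190, 1474062, 1300606, 838207, 325529, -1124961, -579275, -333538, -241090, -259695, -9076, -421, 0, 0, 0, 1])) (.node (.leaf [0, 0, 0, 1]) (.leaf [70170, -171282, 5570, -86937, -130673, -65352, 96687, 47254, -4820, 23911, 15406, 268, 3622, 0, 0, 0, 1])))))) (.node (.node (.node (.node (.node (.leaf []) (.leaf [])) (.node (.leaf [424, -82, -68, 407, -57, -370, -23, -25, 46, -8, 27, 0, 1]) (.leaf [0, 0, 0, 1]))) (.node (.node (.leaf []) (.leaf [0, 0, 0, 1])) (.node (.leaf [0, 0, 0, 1]) (.leaf [-28338, -1600, 13239, -6514, 2355, 19655, -10289, 4734, -379, -1841, -2129, 559, -144, 1, 0, -1])))) (.node (.node (.node (.leaf [0, 0, 0, 1]) (.leaf [])) (.node (.leaf [-1136, 784, 800, -311, 350, 1102, -627, -48, -182, -53, -80, -30, 1]) (.leaf [0, 0, 0, 1]))) (.node (.node (.leaf [0, 0, 0, 1]) (.leaf [])) (.node (.leaf []) (.leaf [8681, 6828, 14045,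 4905, -5153, -1856, -2319, 388, -2076, -653, -1361, 137, 151, 1, 0, -1]))))) (.node (.node (.node (.node (.leaf [0, 0, 0, 1]) (.leaf [])) (.node (.leaf [0, 0, 0, 1]) (.leaf [0, 0, 0, 1]))) (.node (.node (.leaf [-1154, 984, 911, -532, 516, 813, -381, 4, -464, 36, -82, -9, 23]) (.leaf [-908, 4, -262, -382, 391, 437, -39, 48, -21, -18, -21, 13, -3])) (.node (.leaf [264, -50, -11, 52, -84, -177, 83, -2, 10, 16, -4, 5]) (.leaf [9835, -21992, -2949, -6902, -15219, -7576, 9700, 4501, 1907, 2481, 2199, -220, 128, 0, 1, -1])))) (.node (.node (.node (.leaf [0, 0, 0, 1]) (.leaf [])) (.node (.leaf []) (.leaf [-129725, -140710, -220980, -162929, 43671, -31135, 147745, 34443, -7000, 16731, 19752, 4399, 2030, -1, 1, 1, 1]))) (.node (.node (.leaf [0, 0, 0, 1]) (.leaf [28311, 1524, -13336, 6591, -2324, -19691, 10263, -4734, 400, 1841, 2153, -567, 145, -1, 0, 1])) (.node (.leaf [707, -38, 214, 251, -334, -313, 49, -18, 40, 4, -10, -2, 5]) (.leaf [0, 0, 0, 1])))))))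

def twoL252 : Janko.Tree (List ℤ) :=
  (.node (.node (.node (.node (.node (.node (.leaf [1]) (.leaf [1])) (.node (.leaf []) (.leaf [0, 0, -1, 0, 1]))) (.node (.node (.leaf []) (.leaf [1, -2, 1, 1, -1, -1, 0, 1])) (.node (.leaf [1, 0, 0, 1, 0, -1]) (.leaf [16481, 103984, 62193, 20932, 29102, 5533, -24391, -15305, -25834, -2798, -9816, -437, 2198, 0, 0, 1, 1])))) (.node (.node (.node (.leaf [-252, -22, 83, -70, 48, 175, -101, 28, -2, -2, -13]) (.leaf [1, 0, 1, 0, -1])) (.node (.leaf [1]) (.leaf [0, 0, -1, 0, 1]))) (.node (.node (.leaf [1, 0, 1, 0, -1]) (.leaf [-80904, 49658, 23745, 11491, 45214, 63744, -52215, -6713, 1242, -10278, -7848, 534, -1766, 0, 0, 0, -1])) (.node (.leaf [-8902, 18520, 132, 3645, 13962, 5385, -5990, -3692, -2514, -1520, -1534, 4, -4, 0, -1]) (.leaf [-72, 10, 33, -39, 22, 52, -23, 6, -8, 4, -8, 1]))))) (.node (.node (.node (.node (.leaf [1, 0, 1, 0, -1]) (.leaf [0, 0, 0, -1, 0, 1])) (.node (.leaf [0, 0, -1, 0, 1]) (.leaf [3885, -283872, -65674,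 -104598, -147656, -37396, 102570, 66074, 34088, 18034, 22062, 2448, -770, 1, -1, -1, -1]))) (.node (.node (.leaf [1]) (.leaf [-91, 56, 72, -37, 35, 74, -43, 1, -21, 2, -11, 1])) (.node (.leaf [-2, -2, 2, -3, -2, 3, 0, 1]) (.leaf [-79958, -45656, -23503, -2734, 11999, 51452, -31498, 6719, 23164, -5372, 1555, -20, -3218, 0, 0, -1, -1])))) (.node (.node (.node (.leaf [-2, -2, 1, -1, -1, 1, 0, 1]) (.leaf [-191, 92, 118, -34, 72, 136, -90, 10, -32, -6, -18])) (.node (.leaf [1]) (.leaf [-52356, -121244, -71336, -31323, -23653, 12362, 19825, 20702, 30237, 1331, 10115, 1007, -2770, 0, 0, -1, -1]))) (.node (.node (.leaf [-545, 144, 208, -137, 187, 334, -183, 41, -70, -14, -36, 7]) (.leaf [-332, 476, 247, -9, 244, 318, -221, -59, -79, -44, -56])) (.node (.leaf []) (.leaf [317, -358, -197, -5, -226, -238, 185, 30, 75, 31, 45, -1, -1])))))) (.node (.node (.node (.node (.node (.leaf [-1, 0, 0, -1, 0, 1]) (.leaf [3, -6, 6, 2, -6, -2, 0, 3])) (.node (.leaf [-952, -104, -29, -398,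 297, 548, -184, 77, -18, 16, -24, 1]) (.leaf [-13985, 20836, -254, 4120, 17404, 8470, -8410, -4048, -2302, -2082, -1978, 82, -90, 0, -1]))) (.node (.node (.leaf [-213, 20, 69, -30, 47, 126, -72, 24, -18, -12, -4]) (.leaf [68, -10, -35, 38, -19, -50, 22, -6, 8, -4, 8, -1])) (.node (.leaf []) (.leaf [-1077, 596, 363, -25, 586, 638, -483, -1, -161, -63, -71, -1, -1])))) (.node (.node (.node (.leaf [-887, 766, 595, -26, 453, 660, -468, -10, -186, -84, -104, 1]) (.leaf [229, -332, -103, -27, -225, -145, 122, 39, 69, 25, 33, -1, 1])) (.node (.leaf [2, 10, -11, 3, 11, -3, 0, -5]) (.leaf [0, 0, -1, 0, 1]))) (.node (.node (.leaf [1, -2, 2, 1, -2, -1, 0, 1]) (.leaf [10525, -9984, -3070, -525, -8347, -6646, 5369, 1058, 1784, 983, 1249, -73, -9, 0, 1])) (.node (.leaf [3, 0, 1, 1, -1, -1]) (.leaf [2, 0, 0, 1, 0, -1]))))) (.node (.node (.node (.node (.leaf []) (.leaf [468340, -699898, 93498, -163518, -608532, -299838, 294740, 163608, 43866, 77954, 58167, -1760, 8114, 0, 1, 0, 1]))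 (.node (.leaf []) (.leaf [639, 676, 517, 583, 7, -215, -258, -149, -81, -43, -53, -13, 1]))) (.node (.node (.leaf [1, 0, 0, 1, 0, -1]) (.leaf [1, -12, -2, 2, -1, -7, 1, 3, 0, 2, 1])) (.node (.leaf [-3, -6, 3, -1, -3, 1, 0, 3]) (.leaf [-13, -2, -6, -6, 6, 6, 0, 1])))) (.node (.node (.node (.leaf []) (.leaf [-2, 0, -1, -1, 1, 1])) (.node (.leaf [2, 0, 0, 1, 0, -1]) (.leaf []))) (.node (.node (.leaf []) (.leaf [-386, 108, 96, -80, 125, 269, -141, 10, -30, -20, -10, -4])) (.node (.leaf [3, -2, -12, 1, 3, -6, 5, -1, 1, 0, 1]) (.leaf [134449, -24376, 86181, -16093, -102355, -77041, 58042, 19864, -27462, 12888, 2240, 370, 4288, 0, 0, 1, 1])))))))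

def twoL253 : Janko.Tree (List ℤ) :=
  (.node (.node (.node (.node (.node (.node (.leaf []) (.leaf [-872, -350, -209, -685, 100, 542, 61, 109, 21, 40, 4, 2, -1])) (.node (.leaf [0, 1]) (.leaf [79, -293, -44, -73, -181, -56, 85, 56, 46, 21, 23, 0, 1]))) (.node (.node (.leaf [0, 1]) (.leaf [163, 5, -44, 21, -49, -104, 75, -14, 3, -1, 5, 4, 1])) (.node (.leaf [-806, -12676, -8806, -5194, -3159, -2675, 5689, 2043, 1893, 1192, 1312, -35, -67, 0, 0, -1]) (.leaf [131, -54, -61, 16, -55, -80, 56, -7, 21, 4, 9])))) (.node (.node (.node (.leaf [0, 1]) (.leaf [3798, -1742, 394, 1206, -2368, -1966, 556, 62, 411, 190, 296, -90, 2, -1])) (.node (.leaf [633, -526, -271, 608, -288, -281, -171, -45, 368, -52, 18, -5, -21]) (.leaf []))) (.node (.node (.leaf []) (.leaf [0, 1])) (.node (.leaf [-4, 6, 4, 2, 2, 2, -2, 0, -2, -1]) (.leaf [-103854, 167869, -27178, 74496, 149352, 79786, -97954, -47544, 6708, -24116, -14934, -164, -3884, 1, -1, 0, -1]))))) (.node (.node (.node (.node (.leaf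 []) (.leaf [])) (.node (.leaf []) (.leaf []))) (.node (.node (.leaf []) (.leaf [4, -5, -4, -2, -2, -2, 2, 0, 2, 1])) (.node (.leaf [0, 1]) (.leaf [-139, 777, -30, 93, 442, 171, -132, -182, -86, -65, -54, -1])))) (.node (.node (.node (.leaf [0, 1]) (.leaf [])) (.node (.leaf []) (.leaf [0, 1]))) (.node (.node (.leaf [0, 1]) (.leaf [-11686, 16153, 580, 1592, 12973, 7189, -5905, -2817, -2341, -1494, -1480, 59, -3, 1, -1])) (.node (.leaf [0, 1]) (.leaf [0, 1])))))) (.node (.node (.node (.node (.node (.leaf [4, 15, -2, 4, 6, -2, 0, -4, -2, -1]) (.leaf [])) (.node (.leaf [0, 2, 0, 2, 0, 0, 0, 0, 0, -1]) (.leaf [0, 1]))) (.node (.node (.leaf []) (.leaf [0, 1])) (.node (.leaf [0, 1]) (.leaf [])))) (.node (.node (.node (.leaf [0, 1]) (.leaf [])) (.node (.leaf []) (.leaf [1155, -738, -848, 323, -309, -1116, 633, 26, 184, 51, 79, 30, -1]))) (.node (.node (.leaf [0, 1]) (.leaf [794, -967, -601, -53, -538, -624, 491, 66, 205, 96, 120, -2, -1])) (.node (.leaf []) (.leaf [60461, -93496,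 50570, -62999, -101185, -46716, 65783, 36358, -18490, 17526, 6914, 448, 3992, 0, 0, 0, 1]))))) (.node (.node (.node (.node (.leaf [0, 1]) (.leaf [0, 1])) (.node (.leaf [0, 1]) (.leaf []))) (.node (.node (.leaf []) (.leaf [0, 2, 2, 0, 0, 0, 0, 0, -1])) (.node (.leaf []) (.leaf [])))) (.node (.node (.node (.leaf [0, 1]) (.leaf [860, -318, -449, -25, -332, -512, 431, -70, 112, 56, 64, -2, -1])) (.node (.leaf []) (.leaf [0, 1]))) (.node (.node (.leaf [0, 1]) (.leaf [0, 1])) (.node (.leaf []) (.leaf [0, -1, 0, -2, 0, 0, 0, 0, 0, 1])))))))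

def twoL254 : Janko.Tree (List ℤ) :=
  (.node (.node (.node (.node (.node (.node (.leaf []) (.leaf [])) (.node (.leaf []) (.leaf [0, 0, 1]))) (.node (.node (.leaf [348, -334, -182, 214, -146, -326, 78, 24, 100, 6, 26, 12, -1]) (.leaf [0, 0, 1])) (.node (.leaf [552, 746, 537, 561, 65, -157, -288, -157, -98, -46, -60, -13, 1]) (.leaf [-52404, 67654, 9570, 6572, 53448, 35136, -30042, -11545, -9756, -5942, -6693, 148, -39, 0, -1, 1])))) (.node (.node (.node (.leaf [-140, 2, 35, -36, 39, 87, -47, 14, -6, -2, -7]) (.leaf [0, 0, 1])) (.node (.leaf []) (.leaf [0, 0, 1]))) (.node (.node (.leaf [0, 0, 1]) (.leaf [-186, 126, 238, 55, 37, 209, -222, -15, -16, -18, -11, -4, 1])) (.node (.leaf [0, 0, 1, 1, 0, 0, -1]) (.leaf [0, 0, 0, -1, 0, 0, 1]))))) (.node (.node (.node (.node (.leaf [0, 0, 1]) (.leaf [30014, -428, 8781, 8949, -14065, -14905, 4244, -909, -255, 738, 522, -135, 253, 0, 0, 1])) (.node (.leaf [0, 0, 1]) (.leaf [67, -30, -57, 16, -15, -53, 33, -7, 13, 2, 7]))) (.node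 (.node (.leaf []) (.leaf [847, -370, -102, 271, -475, -516, 255, 30, 116, -4, 44, -2, 1])) (.node (.leaf []) (.leaf [0, 0, 1])))) (.node (.node (.node (.leaf []) (.leaf [-6, -2, -7, 0, 5, 1, -1, -1, 1, 0, 1])) (.node (.leaf []) (.leaf [290, -252, 17, 99, -256, -198, 103, 62, 51, -9, 15, 5, 2]))) (.node (.node (.leaf [-384, 86, 153, -103, 119, 225, -116, 38, -53, -10, -25, 7]) (.leaf [-230, 374, 195, 11, 182, 223, -162, -44, -63, -36, -44])) (.node (.leaf [2, -2, 0, -1, -2, 0, 1, 0, 1]) (.leaf [45290, -54728, -4650, -4519, -46350, -30202, 25795, 10395, 7508, 4128, 4998, 238, 97, 1, 0, -1])))))) (.node (.node (.node (.node (.node (.leaf [0, 0, 1, 1, 0, 0, -1]) (.leaf [0, 0, 0, -1, 0, 0, 1])) (.node (.leaf [-48, 166, -5, 330, 225, -64, -208, -47, 2, -30, -9, 0, 1]) (.leaf []))) (.node (.node (.leaf [0, 0, 1]) (.leaf [])) (.node (.leaf [575, -282, -129, 170, -301, -357, 179, 12, 95, 4, 30, -1, 1]) (.leaf [-4044, -49104, -22834, -16165, -17667, -4893, 15418, 8878, 8641,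 2921, 4213, 211, -312, 1, 0, -1])))) (.node (.node (.node (.leaf []) (.leaf [169, -48, -23, 59, -72, -107, 44, -4, 17, 2, 9])) (.node (.leaf [0, 0, 1]) (.leaf [0, 0, 1]))) (.node (.node (.leaf []) (.leaf [0, 0, 0, -1, 0, 0, 1])) (.node (.leaf [0, 0, 0, -1, 0, 0, 1]) (.leaf [37835, -59548, -14004, -9194, -42027, -27884, 26900, 10118, 8522, 5215, 6045, -125, -1, 1, 0, -1]))))) (.node (.node (.node (.node (.leaf []) (.leaf [45802, 5546, 70874, -7746, -44693, -14464, 7966, 9522, -16464, 4670, -2953, 108, 2344, 0, 1, 0, 1])) (.node (.leaf []) (.leaf [32, -20, 36, 15, -35, -11, -4, 8, 3, 0, -1]))) (.node (.node (.leaf [-1184, -312, -302, -735, 270, 573, 86, 146, -42, 26, 14, 11, 1]) (.leaf [0, 0, 1])) (.node (.leaf [-7, -4, 11, -1, -3, 5, -4, 4, -1, 0, -1]) (.leaf [-2740, -50108, -22387, -15872, -18872, -5472, 15608, 9042, 8818, 3012, 4326, 174, -318, 1, 0, -1])))) (.node (.node (.node (.leaf []) (.leaf [0, 0, 0, -1, 0, 0, 1])) (.node (.leaf [-4, 0, -1, -1, 2, 2, -1]) (.leaf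 [461, -8076, -7006, -2771, -1574, -2575, 3664, 706, 1266, 961, 1225, -87, -33, -1, 0, 1]))) (.node (.node (.leaf [2, -2, 0, -1, -2, 0, 1, 0, 1]) (.leaf [-15206, 58546, 17683, 13459, 31612, 15522, -20585, -10530, -9115, -4384, -5430, -4, 190, 0, -1, 1])) (.node (.leaf [464, -86, -83, 128, -179, -237, 103, -40, 55, 12, 25, -9]) (.leaf [-250, 888, 189, 392, 657, 185, -485, -218, -110, -38, -70, -8])))))))

def twoL255 : Janko.Tree (List ℤ) :=
  (.node (.node (.node (.node (.node (.node (.leaf []) (.leaf [])) (.node (.leaf []) (.leaf [-53414, 44370, 7436, -1231, 41149, 35992, -26241, -6913, -6086, -4076, -4926, -24, -160, 0, -1, 1]))) (.node (.node (.leaf [296, -410, -118, 204, -178, -314, 61, 62, 94, 14, 24, 12, -1]) (.leaf [-44, 0, 52, -24, 7, 35, -27, 8, -8, 7, -8, 1])) (.node (.leaf [0, 0, 0, 1]) (.leaf [0, 0, 0, 1])))) (.node (.node (.node (.leaf []) (.leaf [-252, 12, 146, -144, -11, 191, -33, 51, -25, -16, -25, 10, -1])) (.node (.leaf []) (.leaf [98, -30, -42, 37,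 -25, -70, 27, -8, 12, 4, 8, -1]))) (.node (.node (.leaf []) (.leaf [-186, 126, 236, 55, 37, 209, -221, -15, -16, -18, -11, -4, 1])) (.node (.leaf [0, 0, 0, 1]) (.leaf [0, 0, 0, 1]))))) (.node (.node (.node (.node (.leaf []) (.leaf [0, 0, 0, 1])) (.node (.leaf [-16, 52, 28, -4, 11, 29, -15, -9, -10, -4, -2, -1]) (.leaf [0, 0, 0, 1]))) (.node (.node (.leaf []) (.leaf [0, 0, 0, 1])) (.node (.leaf [455, 574, 311, 419, 53, -167, -148, -127, -64, -53, -44, 1]) (.leaf [])))) (.node (.node (.node (.leaf []) (.leaf [0, 0, 0, 1])) (.node (.leaf [-419, 120, 174, -87, 153, 246, -151, 32, -60, -10, -28, 6]) (.leaf [134, -210, 65, 65, -190, -96, 36, 66, 36, -10, 5, 5, 3]))) (.node (.node (.leaf []) (.leaf [0, 0, 0, 1])) (.node (.leaf []) (.leaf [1064, -872, -612, 25, -611, -799, 613, 49, 181, 83, 125, -1, -1])))))) (.node (.node (.node (.node (.node (.leaf [0, 0, 0, 1]) (.leaf [0, 0, 0, 1])) (.node (.leaf [0, 0, 0, 1]) (.leaf []))) (.node (.node (.leaf [480, -174, -103, 123, -242,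 -271, 149, -11, 64, 7, 34, -7]) (.leaf [70, -10, -35, 38, -21, -51, 24, -6, 8, -4, 8, -1])) (.node (.leaf []) (.leaf [0, 0, 0, 1])))) (.node (.node (.node (.leaf [-1033, 362, 633, -196, 243, 739, -428, 100, -148, -58, -76, 1]) (.leaf [0, 0, 0, 1])) (.node (.leaf []) (.leaf [-66, 14, 32, -36, 23, 49, -23, 4, -8, 4, -8, 1]))) (.node (.node (.leaf []) (.leaf [0, 0, 0, 1])) (.node (.leaf [0, 0, 0, 1]) (.leaf [0, 0, 0, 1]))))) (.node (.node (.node (.node (.leaf []) (.leaf [])) (.node (.leaf []) (.leaf [0, 0, 0, 1]))) (.node (.node (.leaf [0, 0, 0, 1]) (.leaf [-381, 570, 608, -154, 129, 489, -295, -41, -158, -12, -66, -11, 3])) (.node (.leaf [0, 0, 0, 1]) (.leaf [0, 0, 0, 1])))) (.node (.node (.node (.leaf []) (.leaf [0, 0, 0, 1])) (.node (.leaf [0, 0, 0, 1]) (.leaf [-8869, 23904, -1722, 4917, 18002, 5395, -6937, -5568, -3042, -1671, -1655, -41, 25, -1, 0, 1]))) (.node (.node (.leaf []) (.leaf [-338, 120, 114, -48, 117, 248, -155, 0, -28, -18, -10, -4])) (.node (.leaf [0,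 0, 0, 1]) (.leaf [0, 0, 0, 1])))))))

def twoL : Janko.Tree (List ℤ) := (.node (.node (.node (.node (.node (.node (.node (.node twoL0 twoL128) (.node twoL64 twoL192)) (.node (.node twoL32 twoL160) (.node twoL96 twoL224))) (.node (.node (.node twoL16 twoL144) (.node twoL80 twoL208)) (.node (.node twoL48 twoL176) (.node twoL112 twoL240)))) (.node (.node (.node (.node twoL8 twoL136) (.node twoL72 twoL200)) (.node (.node twoL40 twoL168) (.node twoL104 twoL232))) (.node (.node (.node twoL24 twoL152) (.node twoL88 twoL216)) (.node (.node twoL56 twoL184) (.node twoL120 twoL248))))) (.node (.node (.node (.node (.node twoL4 twoL132) (.node twoL68 twoL196)) (.node (.node twoL36 twoL164) (.node twoL100 twoL228))) (.node (.node (.node twoL20 twoL148) (.node twoL84 twoL212)) (.node (.node twoL52 twoL180) (.node twoL116 twoL244)))) (.node (.node (.node (.node twoL12 twoL140) (.node twoL76 twoL204)) (.node (.node twoL44 twoL172) (.node twoL108 twoL236))) (.node (.node (.node twoL28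 twoL156) (.node twoL92 twoL220)) (.node (.node twoL60 twoL188) (.node twoL124 twoL252)))))) (.node (.node (.node (.node (.node (.node twoL2 twoL130) (.node twoL66 twoL194)) (.node (.node twoL34 twoL162) (.node twoL98 twoL226))) (.node (.node (.node twoL18 twoL146) (.node twoL82 twoL210)) (.node (.node twoL50 twoL178) (.node twoL114 twoL242)))) (.node (.node (.node (.node twoL10 twoL138) (.node twoL74 twoL202)) (.node (.node twoL42 twoL170) (.node twoL106 twoL234))) (.node (.node (.node twoL26 twoL154) (.node twoL90 twoL218)) (.node (.node twoL58 twoL186) (.node twoL122 twoL250))))) (.node (.node (.node (.node (.node twoL6 twoL134) (.node twoL70 twoL198)) (.node (.node twoL38 twoL166) (.node twoL102 twoL230))) (.node (.node (.node twoL22 twoL150) (.node twoL86 twoL214)) (.node (.node twoL54 twoL182) (.node twoL118 twoL246)))) (.node (.node (.node (.node twoL14 twoL142) (.node twoL78 twoL206)) (.node (.node twoL46 twoL174) (.node twoL110 twoL238))) (.node (.node (.node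 twoL30 twoL158) (.node twoL94 twoL222)) (.node (.node twoL62 twoL190) (.node twoL126 twoL254))))))) (.node (.node (.node (.node (.node (.node (.node twoL1 twoL129) (.node twoL65 twoL193)) (.node (.node twoL33 twoL161) (.node twoL97 twoL225))) (.node (.node (.node twoL17 twoL145) (.node twoL81 twoL209)) (.node (.node twoL49 twoL177) (.node twoL113 twoL241)))) (.node (.node (.node (.node twoL9 twoL137) (.node twoL73 twoL201)) (.node (.node twoL41 twoL169) (.node twoL105 twoL233))) (.node (.node (.node twoL25 twoL153) (.node twoL89 twoL217)) (.node (.node twoL57 twoL185) (.node twoL121 twoL249))))) (.node (.node (.node (.node (.node twoL5 twoL133) (.node twoL69 twoL197)) (.node (.node twoL37 twoL165) (.node twoL101 twoL229))) (.node (.node (.node twoL21 twoL149) (.node twoL85 twoL213)) (.node (.node twoL53 twoL181) (.node twoL117 twoL245)))) (.node (.node (.node (.node twoL13 twoL141) (.node twoL77 twoL205)) (.node (.node twoL45 twoL173) (.node twoL109 twoL237))) (.node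 (.node (.node twoL29 twoL157) (.node twoL93 twoL221)) (.node (.node twoL61 twoL189) (.node twoL125 twoL253)))))) (.node (.node (.node (.node (.node (.node twoL3 twoL131) (.node twoL67 twoL195)) (.node (.node twoL35 twoL163) (.node twoL99 twoL227))) (.node (.node (.node twoL19 twoL147) (.node twoL83 twoL211)) (.node (.node twoL51 twoL179) (.node twoL115 twoL243)))) (.node (.node (.node (.node twoL11 twoL139) (.node twoL75 twoL203)) (.node (.node twoL43 twoL171) (.node twoL107 twoL235))) (.node (.node (.node twoL27 twoL155) (.node twoL91 twoL219)) (.node (.node twoL59 twoL187) (.node twoL123 twoL251))))) (.node (.node (.node (.node (.node twoL7 twoL135) (.node twoL71 twoL199)) (.node (.node twoL39 twoL167) (.node twoL103 twoL231))) (.node (.node (.node twoL23 twoL151) (.node twoL87 twoL215)) (.node (.node twoL55 twoL183) (.node twoL119 twoL247)))) (.node (.node (.node (.node twoL15 twoL143) (.node twoL79 twoL207)) (.node (.node twoL47 twoL175) (.node twoL111 twoL239)))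 (.node (.node (.node twoL31 twoL159) (.node twoL95 twoL223)) (.node (.node twoL63 twoL191) (.node twoL127 twoL255))))))))

def twoKind0 : Janko.Tree (ℕ) :=
  (.node (.node (.node (.node (.node (.node (.node (.leaf 0) (.leaf 2)) (.leaf 3)) (.node (.leaf 3) (.leaf 3))) (.node (.node (.leaf 3) (.leaf 3)) (.node (.leaf 0) (.leaf 3)))) (.node (.node (.node (.leaf 3) (.leaf 3)) (.node (.leaf 3) (.leaf 3))) (.node (.node (.leaf 3) (.leaf 3)) (.node (.leaf 3) (.leaf 3))))) (.node (.node (.node (.node (.leaf 3) (.leaf 3)) (.node (.leaf 3) (.leaf 3))) (.node (.node (.leaf 3) (.leaf 3)) (.node (.leaf 3) (.leaf 3)))) (.node (.node (.node (.leaf 3) (.leaf 0)) (.node (.leaf 3) (.leaf 3))) (.node (.node (.leaf 3) (.leaf 3)) (.node (.leaf 3) (.leaf 3)))))) (.node (.node (.node (.node (.node (.leaf 3) (.leaf 3)) (.node (.leaf 0) (.leaf 3))) (.node (.node (.leaf 0) (.leaf 3)) (.node (.leaf 3) (.leaf 3)))) (.node (.node (.node (.leaf 3) (.leaf 3)) (.node (.leaf 3) (.leaf 3))) (.node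 (.node (.leaf 3) (.leaf 3)) (.node (.leaf 3) (.leaf 3))))) (.node (.node (.node (.node (.leaf 3) (.leaf 3)) (.node (.leaf 0) (.leaf 3))) (.node (.node (.leaf 3) (.leaf 3)) (.node (.leaf 3) (.leaf 3)))) (.node (.node (.node (.leaf 3) (.leaf 3)) (.node (.leaf 3) (.leaf 3))) (.node (.node (.leaf 0) (.leaf 3)) (.node (.leaf 3) (.leaf 3)))))))

def twoKind1 : Janko.Tree (ℕ) :=
  (.node (.node (.node (.node (.node (.node (.node (.leaf 0) (.leaf 2)) (.leaf 3)) (.node (.leaf 3) (.leaf 3))) (.node (.node (.leaf 0) (.leaf 3)) (.node (.leaf 3) (.leaf 3)))) (.node (.node (.node (.leaf 0) (.leaf 3)) (.node (.leaf 0) (.leaf 3))) (.node (.node (.leaf 3) (.leaf 3)) (.node (.leaf 3) (.leaf 3))))) (.node (.node (.node (.node (.leaf 3) (.leaf 0)) (.node (.leaf 0) (.leaf 3))) (.node (.node (.leaf 3) (.leaf 3)) (.node (.leaf 3) (.leaf 3)))) (.node (.node (.node (.leaf 0) (.leaf 3)) (.node (.leaf 0) (.leaf 3))) (.node (.node (.leaf 0) (.leaf 3)) (.node (.leaf 0) (.leaf 3)))))) (.node (.node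 (.node (.node (.node (.leaf 0) (.leaf 0)) (.node (.leaf 3) (.leaf 0))) (.node (.node (.leaf 3) (.leaf 3)) (.node (.leaf 3) (.leaf 3)))) (.node (.node (.node (.leaf 0) (.leaf 3)) (.node (.leaf 0) (.leaf 3))) (.node (.node (.leaf 3) (.leaf 0)) (.node (.leaf 3) (.leaf 3))))) (.node (.node (.node (.node (.leaf 3) (.leaf 3)) (.node (.leaf 3) (.leaf 3))) (.node (.node (.leaf 0) (.leaf 0)) (.node (.leaf 0) (.leaf 3)))) (.node (.node (.node (.leaf 3) (.leaf 3)) (.node (.leaf 3) (.leaf 3))) (.node (.node (.leaf 3) (.leaf 3)) (.node (.leaf 3) (.leaf 3)))))))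

def twoKind2 : Janko.Tree (ℕ) :=
  (.node (.node (.node (.node (.node (.node (.node (.leaf 0) (.leaf 2)) (.leaf 3)) (.node (.leaf 3) (.leaf 3))) (.node (.node (.leaf 0) (.leaf 3)) (.node (.leaf 3) (.leaf 3)))) (.node (.node (.node (.leaf 3) (.leaf 0)) (.node (.leaf 0) (.leaf 3))) (.node (.node (.leaf 0) (.leaf 3)) (.node (.leaf 3) (.leaf 3))))) (.node (.node (.node (.node (.leaf 0) (.leaf 3)) (.node (.leaf 0) (.leaf 3))) (.node (.node (.leaf 3) (.leaf 3)) (.node (.leaf 3) (.leaf 3)))) (.node (.node (.node (.leaf 3) (.leaf 0)) (.node (.leaf 3) (.leaf 3))) (.node (.node (.leaf 3) (.leaf 3)) (.node (.leaf 3) (.leaf 3)))))) (.node (.node (.node (.node (.node (.leaf 3) (.leaf 3)) (.node (.leaf 0) (.leaf 3))) (.node (.node (.leaf 0) (.leaf 3)) (.node (.leaf 0) (.leaf 3)))) (.node (.node (.node (.leaf 3) (.leaf 3)) (.node (.leaf 3) (.leaf 3))) (.node (.node (.leaf 3) (.leaf 3)) (.node (.leaf 3) (.leaf 3))))) (.node (.node (.node (.node (.leaf 3) (.leaf 3)) (.node (.leaf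 3) (.leaf 0))) (.node (.node (.leaf 3) (.leaf 3)) (.node (.leaf 3) (.leaf 3)))) (.node (.node (.node (.leaf 3) (.leaf 0)) (.node (.leaf 3) (.leaf 3))) (.node (.node (.leaf 0) (.leaf 0)) (.node (.leaf 3) (.leaf 3)))))))

def twoKind3 : Janko.Tree (ℕ) :=
  (.node (.node (.node (.node (.node (.node (.node (.leaf 0) (.leaf 2)) (.leaf 3)) (.node (.leaf 3) (.leaf 3))) (.node (.node (.leaf 3) (.leaf 0)) (.node (.leaf 0) (.leaf 3)))) (.node (.node (.node (.leaf 3) (.leaf 0)) (.node (.leaf 3) (.leaf 0))) (.node (.node (.leaf 0) (.leaf 3)) (.node (.leaf 3) (.leaf 3))))) (.node (.node (.node (.node (.leaf 0) (.leaf 3)) (.node (.leaf 3) (.leaf 3))) (.node (.node (.leaf 0) (.leaf 0)) (.node (.leaf 3) (.leaf 3)))) (.node (.node (.node (.leaf 0) (.leaf 0)) (.node (.leaf 3) (.leaf 3))) (.node (.node (.leaf 0) (.leaf 3)) (.node (.leaf 0) (.leaf 3)))))) (.node (.node (.node (.node (.node (.leaf 0) (.leaf 0)) (.node (.leaf 0) (.leaf 3))) (.node (.node (.leaf 0) (.leaf 3)) (.node (.leaf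 0) (.leaf 3)))) (.node (.node (.node (.leaf 3) (.leaf 3)) (.node (.leaf 0) (.leaf 3))) (.node (.node (.leaf 3) (.leaf 3)) (.node (.leaf 0) (.leaf 3))))) (.node (.node (.node (.node (.leaf 3) (.leaf 0)) (.node (.leaf 0) (.leaf 0))) (.node (.node (.leaf 0) (.leaf 3)) (.node (.leaf 3) (.leaf 3)))) (.node (.node (.node (.leaf 0) (.leaf 0)) (.node (.leaf 0) (.leaf 3))) (.node (.node (.leaf 0) (.leaf 0)) (.node (.leaf 3) (.leaf 0)))))))

def twoKind4 : Janko.Tree (ℕ) :=
  (.node (.node (.node (.node (.node (.node (.node (.leaf 3) (.leaf 2)) (.leaf 3)) (.node (.leaf 3) (.leaf 3))) (.node (.node (.leaf 3) (.leaf 3)) (.node (.leaf 3) (.leaf 3)))) (.node (.node (.node (.leaf 3) (.leaf 3)) (.node (.leaf 3) (.leaf 3))) (.node (.node (.leaf 3) (.leaf 3)) (.node (.leaf 3) (.leaf 3))))) (.node (.node (.node (.node (.leaf 3) (.leaf 0)) (.node (.leaf 3) (.leaf 3))) (.node (.node (.leaf 3) (.leaf 3)) (.node (.leaf 3) (.leaf 3)))) (.node (.node (.node (.leaf 3) (.leaf 3)) (.node (.leaf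 0) (.leaf 0))) (.node (.node (.leaf 3) (.leaf 0)) (.node (.leaf 3) (.leaf 3)))))) (.node (.node (.node (.node (.node (.leaf 3) (.leaf 3)) (.node (.leaf 3) (.leaf 3))) (.node (.node (.leaf 3) (.leaf 3)) (.node (.leaf 3) (.leaf 0)))) (.node (.node (.node (.leaf 3) (.leaf 3)) (.node (.leaf 3) (.leaf 3))) (.node (.node (.leaf 3) (.leaf 3)) (.node (.leaf 3) (.leaf 3))))) (.node (.node (.node (.node (.leaf 3) (.leaf 3)) (.node (.leaf 3) (.leaf 3))) (.node (.node (.leaf 3) (.leaf 3)) (.node (.leaf 0) (.leaf 3)))) (.node (.node (.node (.leaf 3) (.leaf 3)) (.node (.leaf 3) (.leaf 3))) (.node (.node (.leaf 3) (.leaf 3)) (.node (.leaf 3) (.leaf 3)))))))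

def twoKind5 : Janko.Tree (ℕ) :=
  (.node (.node (.node (.node (.node (.node (.node (.leaf 0) (.leaf 2)) (.leaf 0)) (.node (.leaf 0) (.leaf 0))) (.node (.node (.leaf 0) (.leaf 0)) (.node (.leaf 3) (.leaf 0)))) (.node (.node (.node (.leaf 3) (.leaf 3)) (.node (.leaf 0) (.leaf 0))) (.node (.node (.leaf 0) (.leaf 3)) (.node (.leaf 0) (.leaf 3))))) (.node (.node (.node (.node (.leaf 0) (.leaf 3)) (.node (.leaf 0) (.leaf 3))) (.node (.node (.leaf 0) (.leaf 3)) (.node (.leaf 0) (.leaf 3)))) (.node (.node (.node (.leaf 3) (.leaf 3)) (.node (.leaf 3) (.leaf 3))) (.node (.node (.leaf 0) (.leaf 3)) (.node (.leaf 3) (.leaf 3)))))) (.node (.node (.node (.node (.node (.leaf 3) (.leaf 3)) (.node (.leaf 3) (.leaf 3))) (.node (.node (.leaf 0) (.leaf 3)) (.node (.leaf 3) (.leaf 3)))) (.node (.node (.node (.leaf 3) (.leaf 3)) (.node (.leaf 3) (.leaf 0))) (.node (.node (.leaf 3) (.leaf 3)) (.node (.leaf 3) (.leaf 3))))) (.node (.node (.node (.node (.leaf 3) (.leaf 3)) (.node (.leaf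 0) (.leaf 3))) (.node (.node (.leaf 3) (.leaf 3)) (.node (.leaf 3) (.leaf 3)))) (.node (.node (.node (.leaf 0) (.leaf 0)) (.node (.leaf 3) (.leaf 3))) (.node (.node (.leaf 0) (.leaf 3)) (.node (.leaf 3) (.leaf 3)))))))

def twoKind6 : Janko.Tree (ℕ) :=
  (.node (.node (.node (.node (.node (.node (.node (.leaf 0) (.leaf 2)) (.leaf 3)) (.node (.leaf 3) (.leaf 3))) (.node (.node (.leaf 3) (.leaf 3)) (.node (.leaf 3) (.leaf 3)))) (.node (.node (.node (.leaf 0) (.leaf 3)) (.node (.leaf 3) (.leaf 3))) (.node (.node (.leaf 3) (.leaf 0)) (.node (.leaf 3) (.leaf 3))))) (.node (.node (.node (.node (.leaf 3) (.leaf 0)) (.node (.leaf 3) (.leaf 3))) (.node (.node (.leaf 3) (.leaf 3)) (.node (.leaf 3) (.leaf 3)))) (.node (.node (.node (.leaf 3) (.leaf 3)) (.node (.leaf 0) (.leaf 0))) (.node (.node (.leaf 3) (.leaf 3)) (.node (.leaf 3) (.leaf 3)))))) (.node (.node (.node (.node (.node (.leaf 3) (.leaf 3)) (.node (.leaf 0) (.leaf 3))) (.node (.node (.leaf 0) (.leaf 3)) (.node (.leaf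 3) (.leaf 0)))) (.node (.node (.node (.leaf 0) (.leaf 3)) (.node (.leaf 3) (.leaf 3))) (.node (.node (.leaf 0) (.leaf 0)) (.node (.leaf 0) (.leaf 3))))) (.node (.node (.node (.node (.leaf 3) (.leaf 3)) (.node (.leaf 3) (.leaf 3))) (.node (.node (.leaf 3) (.leaf 3)) (.node (.leaf 3) (.leaf 3)))) (.node (.node (.node (.leaf 3) (.leaf 0)) (.node (.leaf 3) (.leaf 3))) (.node (.node (.leaf 0) (.leaf 0)) (.node (.leaf 3) (.leaf 3)))))))

def twoKind7 : Janko.Tree (ℕ) :=
  (.node (.node (.node (.node (.node (.node (.node (.leaf 0) (.leaf 3)) (.leaf 3)) (.node (.leaf 0) (.leaf 0))) (.node (.node (.leaf 0) (.leaf 3)) (.node (.leaf 3) (.leaf 0)))) (.node (.node (.node (.leaf 0) (.leaf 0)) (.node (.leaf 0) (.leaf 3))) (.node (.node (.leaf 3) (.leaf 0)) (.node (.leaf 3) (.leaf 3))))) (.node (.node (.node (.node (.leaf 0) (.leaf 0)) (.node (.leaf 3) (.leaf 3))) (.node (.node (.leaf 3) (.leaf 3)) (.node (.leaf 3) (.leaf 3)))) (.node (.node (.node (.leaf 3) (.leaf 0)) (.node (.leaf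 0) (.leaf 0))) (.node (.node (.leaf 3) (.leaf 3)) (.node (.leaf 3) (.leaf 3)))))) (.node (.node (.node (.node (.node (.leaf 3) (.leaf 3)) (.node (.leaf 0) (.leaf 0))) (.node (.node (.leaf 3) (.leaf 3)) (.node (.leaf 3) (.leaf 0)))) (.node (.node (.node (.leaf 3) (.leaf 3)) (.node (.leaf 3) (.leaf 3))) (.node (.node (.leaf 0) (.leaf 3)) (.node (.leaf 0) (.leaf 3))))) (.node (.node (.node (.node (.leaf 0) (.leaf 3)) (.node (.leaf 3) (.leaf 3))) (.node (.node (.leaf 3) (.leaf 3)) (.node (.leaf 3) (.leaf 3)))) (.node (.node (.node (.leaf 3) (.leaf 3)) (.node (.leaf 3) (.leaf 3))) (.node (.node (.leaf 0) (.leaf 0)) (.node (.leaf 0) (.leaf 3)))))))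

def twoKind8 : Janko.Tree (ℕ) :=
  (.node (.node (.node (.node (.node (.node (.node (.leaf 0) (.leaf 2)) (.leaf 3)) (.node (.leaf 3) (.leaf 3))) (.node (.node (.leaf 3) (.leaf 3)) (.node (.leaf 3) (.leaf 3)))) (.node (.node (.node (.leaf 3) (.leaf 3)) (.node (.leaf 3) (.leaf 3))) (.node (.node (.leaf 0) (.leaf 3)) (.node (.leaf 3) (.leaf 3))))) (.node (.node (.node (.node (.leaf 3) (.leaf 3)) (.node (.leaf 3) (.leaf 3))) (.node (.node (.leaf 3) (.leaf 3)) (.node (.leaf 3) (.leaf 3)))) (.node (.node (.node (.leaf 0) (.leaf 3)) (.node (.leaf 3) (.leaf 3))) (.node (.node (.leaf 0) (.leaf 3)) (.node (.leaf 0) (.leaf 3)))))) (.node (.node (.node (.node (.node (.leaf 3) (.leaf 0)) (.node (.leaf 3) (.leaf 3))) (.node (.node (.leaf 3) (.leaf 3)) (.node (.leaf 0) (.leaf 3)))) (.node (.node (.node (.leaf 3) (.leaf 3)) (.node (.leaf 3) (.leaf 3))) (.node (.node (.leaf 3) (.leaf 3)) (.node (.leaf 3) (.leaf 3))))) (.node (.node (.node (.node (.leaf 3) (.leaf 3)) (.node (.leaf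 3) (.leaf 3))) (.node (.node (.leaf 0) (.leaf 3)) (.node (.leaf 3) (.leaf 3)))) (.node (.node (.node (.leaf 3) (.leaf 3)) (.node (.leaf 3) (.leaf 0))) (.node (.node (.leaf 3) (.leaf 3)) (.node (.leaf 3) (.leaf 3)))))))

def twoKind9 : Janko.Tree (ℕ) :=
  (.node (.node (.node (.node (.node (.node (.node (.leaf 3) (.leaf 2)) (.leaf 3)) (.node (.leaf 0) (.leaf 3))) (.node (.node (.leaf 3) (.leaf 3)) (.node (.leaf 3) (.leaf 3)))) (.node (.node (.node (.leaf 0) (.leaf 3)) (.node (.leaf 3) (.leaf 0))) (.node (.node (.leaf 3) (.leaf 0)) (.node (.leaf 3) (.leaf 3))))) (.node (.node (.node (.node (.leaf 0) (.leaf 3)) (.node (.leaf 3) (.leaf 3))) (.node (.node (.leaf 0) (.leaf 0)) (.node (.leaf 3) (.leaf 3)))) (.node (.node (.node (.leaf 3) (.leaf 0)) (.node (.leaf 0) (.leaf 0))) (.node (.node (.leaf 3) (.leaf 3)) (.node (.leaf 3) (.leaf 3)))))) (.node (.node (.node (.node (.node (.leaf 3) (.leaf 3)) (.node (.leaf 0) (.leaf 0))) (.node (.node (.leaf 0) (.leaf 0)) (.node (.leaf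 3) (.leaf 0)))) (.node (.node (.node (.leaf 0) (.leaf 0)) (.node (.leaf 3) (.leaf 3))) (.node (.node (.leaf 0) (.leaf 0)) (.node (.leaf 0) (.leaf 3))))) (.node (.node (.node (.node (.leaf 0) (.leaf 0)) (.node (.leaf 0) (.leaf 3))) (.node (.node (.leaf 3) (.leaf 3)) (.node (.leaf 3) (.leaf 3)))) (.node (.node (.node (.leaf 0) (.leaf 3)) (.node (.leaf 3) (.leaf 3))) (.node (.node (.leaf 0) (.leaf 3)) (.node (.leaf 0) (.leaf 3)))))))

def twoKind10 : Janko.Tree (ℕ) :=
  (.node (.node (.node (.node (.node (.node (.node (.leaf 0) (.leaf 2)) (.leaf 0)) (.node (.leaf 3) (.leaf 3))) (.node (.node (.leaf 3) (.leaf 3)) (.node (.leaf 3) (.leaf 3)))) (.node (.node (.node (.leaf 3) (.leaf 3)) (.node (.leaf 3) (.leaf 3))) (.node (.node (.leaf 3) (.leaf 3)) (.node (.leaf 3) (.leaf 3))))) (.node (.node (.node (.node (.leaf 3) (.leaf 3)) (.node (.leaf 3) (.leaf 0))) (.node (.node (.leaf 3) (.leaf 3)) (.node (.leaf 0) (.leaf 3)))) (.node (.node (.node (.leaf 0) (.leaf 3)) (.node (.leaf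 3) (.leaf 3))) (.node (.node (.leaf 0) (.leaf 3)) (.node (.leaf 0) (.leaf 3)))))) (.node (.node (.node (.node (.node (.leaf 0) (.leaf 3)) (.node (.leaf 3) (.leaf 3))) (.node (.node (.leaf 3) (.leaf 3)) (.node (.leaf 3) (.leaf 3)))) (.node (.node (.node (.leaf 3) (.leaf 3)) (.node (.leaf 3) (.leaf 3))) (.node (.node (.leaf 3) (.leaf 3)) (.node (.leaf 3) (.leaf 3))))) (.node (.node (.node (.node (.leaf 3) (.leaf 3)) (.node (.leaf 0) (.leaf 3))) (.node (.node (.leaf 3) (.leaf 3)) (.node (.leaf 0) (.leaf 3)))) (.node (.node (.node (.leaf 3) (.leaf 3)) (.node (.leaf 0) (.leaf 0))) (.node (.node (.leaf 3) (.leaf 3)) (.node (.leaf 3) (.leaf 3)))))))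

def twoKind11 : Janko.Tree (ℕ) :=
  (.node (.node (.node (.node (.node (.node (.node (.leaf 0) (.leaf 3)) (.leaf 3)) (.node (.leaf 3) (.leaf 3))) (.node (.node (.leaf 3) (.leaf 0)) (.node (.leaf 0) (.leaf 3)))) (.node (.node (.node (.leaf 3) (.leaf 3)) (.node (.leaf 3) (.leaf 3))) (.node (.node (.leaf 3) (.leaf 0)) (.node (.leaf 0) (.leaf 0))))) (.node (.node (.node (.node (.leaf 3) (.leaf 3)) (.node (.leaf 3) (.leaf 3))) (.node (.node (.leaf 3) (.leaf 3)) (.node (.leaf 3) (.leaf 3)))) (.node (.node (.node (.leaf 0) (.leaf 3)) (.node (.leaf 3) (.leaf 3))) (.node (.node (.leaf 0) (.leaf 3)) (.node (.leaf 0) (.leaf 3)))))) (.node (.node (.node (.node (.node (.leaf 0) (.leaf 0)) (.node (.leaf 0) (.leaf 3))) (.node (.node (.leaf 3) (.leaf 3)) (.node (.leaf 3) (.leaf 3)))) (.node (.node (.node (.leaf 0) (.leaf 3)) (.node (.leaf 0) (.leaf 3))) (.node (.node (.leaf 0) (.leaf 3)) (.node (.leaf 0) (.leaf 3))))) (.node (.node (.node (.node (.leaf 3) (.leaf 3)) (.node (.leaf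 0) (.leaf 3))) (.node (.node (.leaf 0) (.leaf 3)) (.node (.leaf 3) (.leaf 3)))) (.node (.node (.node (.leaf 3) (.leaf 0)) (.node (.leaf 0) (.leaf 0))) (.node (.node (.leaf 0) (.leaf 0)) (.node (.leaf 3) (.leaf 3)))))))

def twoKind12 : Janko.Tree (ℕ) :=
  (.node (.node (.node (.node (.node (.node (.node (.leaf 3) (.leaf 3)) (.leaf 3)) (.node (.leaf 3) (.leaf 3))) (.node (.node (.leaf 0) (.leaf 3)) (.node (.leaf 3) (.leaf 3)))) (.node (.node (.node (.leaf 0) (.leaf 3)) (.node (.leaf 3) (.leaf 3))) (.node (.node (.leaf 3) (.leaf 3)) (.node (.leaf 3) (.leaf 3))))) (.node (.node (.node (.node (.leaf 0) (.leaf 3)) (.node (.leaf 3) (.leaf 3))) (.node (.node (.leaf 0) (.leaf 3)) (.node (.leaf 3) (.leaf 3)))) (.node (.node (.node (.leaf 3) (.leaf 0)) (.node (.leaf 3) (.leaf 3))) (.node (.node (.leaf 3) (.leaf 3)) (.node (.leaf 3) (.leaf 3)))))) (.node (.node (.node (.node (.node (.leaf 3) (.leaf 3)) (.node (.leaf 3) (.leaf 3))) (.node (.node (.leaf 3) (.leaf 3)) (.node (.leaf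 3) (.leaf 3)))) (.node (.node (.node (.leaf 3) (.leaf 3)) (.node (.leaf 3) (.leaf 3))) (.node (.node (.leaf 3) (.leaf 3)) (.node (.leaf 3) (.leaf 3))))) (.node (.node (.node (.node (.leaf 3) (.leaf 3)) (.node (.leaf 3) (.leaf 3))) (.node (.node (.leaf 3) (.leaf 3)) (.node (.leaf 3) (.leaf 3)))) (.node (.node (.node (.leaf 0) (.leaf 3)) (.node (.leaf 3) (.leaf 3))) (.node (.node (.leaf 3) (.leaf 3)) (.node (.leaf 3) (.leaf 3)))))))

def twoKind13 : Janko.Tree (ℕ) :=
  (.node (.node (.node (.node (.node (.node (.node (.leaf 0) (.leaf 3)) (.leaf 0)) (.node (.leaf 3) (.leaf 3))) (.node (.node (.leaf 3) (.leaf 0)) (.node (.leaf 0) (.leaf 3)))) (.node (.node (.node (.leaf 3) (.leaf 3)) (.node (.leaf 3) (.leaf 3))) (.node (.node (.leaf 0) (.leaf 3)) (.node (.leaf 0) (.leaf 3))))) (.node (.node (.node (.node (.leaf 3) (.leaf 0)) (.node (.leaf 3) (.leaf 3))) (.node (.node (.leaf 3) (.leaf 3)) (.node (.leaf 3) (.leaf 3)))) (.node (.node (.node (.leaf 0) (.leaf 3)) (.node (.leaf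 3) (.leaf 3))) (.node (.node (.leaf 0) (.leaf 3)) (.node (.leaf 0) (.leaf 3)))))) (.node (.node (.node (.node (.node (.leaf 0) (.leaf 0)) (.node (.leaf 3) (.leaf 3))) (.node (.node (.leaf 3) (.leaf 3)) (.node (.leaf 0) (.leaf 3)))) (.node (.node (.node (.leaf 3) (.leaf 3)) (.node (.leaf 0) (.leaf 3))) (.node (.node (.leaf 3) (.leaf 0)) (.node (.leaf 3) (.leaf 3))))) (.node (.node (.node (.node (.leaf 0) (.leaf 3)) (.node (.leaf 0) (.leaf 3))) (.node (.node (.leaf 0) (.leaf 3)) (.node (.leaf 0) (.leaf 3)))) (.node (.node (.node (.leaf 3) (.leaf 3)) (.node (.leaf 0) (.leaf 3))) (.node (.node (.leaf 3) (.leaf 3)) (.node (.leaf 3) (.leaf 3)))))))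

def twoKind14 : Janko.Tree (ℕ) :=
  (.node (.node (.node (.node (.node (.node (.node (.leaf 3) (.leaf 3)) (.leaf 3)) (.node (.leaf 3) (.leaf 3))) (.node (.node (.leaf 0) (.leaf 3)) (.node (.leaf 3) (.leaf 3)))) (.node (.node (.node (.leaf 3) (.leaf 3)) (.node (.leaf 0) (.leaf 3))) (.node (.node (.leaf 3) (.leaf 3)) (.node (.leaf 3) (.leaf 3))))) (.node (.node (.node (.node (.leaf 3) (.leaf 3)) (.node (.leaf 0) (.leaf 3))) (.node (.node (.leaf 0) (.leaf 3)) (.node (.leaf 3) (.leaf 3)))) (.node (.node (.node (.leaf 3) (.leaf 3)) (.node (.leaf 0) (.leaf 3))) (.node (.node (.leaf 0) (.leaf 0)) (.node (.leaf 3) (.leaf 3)))))) (.node (.node (.node (.node (.node (.leaf 3) (.leaf 3)) (.node (.leaf 3) (.leaf 0))) (.node (.node (.leaf 3) (.leaf 0)) (.node (.leaf 3) (.leaf 3)))) (.node (.node (.node (.leaf 3) (.leaf 3)) (.node (.leaf 3) (.leaf 3))) (.node (.node (.leaf 3) (.leaf 3)) (.node (.leaf 3) (.leaf 3))))) (.node (.node (.node (.node (.leaf 3) (.leaf 0)) (.node (.leaf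 3) (.leaf 3))) (.node (.node (.leaf 3) (.leaf 3)) (.node (.leaf 3) (.leaf 3)))) (.node (.node (.node (.leaf 0) (.leaf 3)) (.node (.leaf 3) (.leaf 3))) (.node (.node (.leaf 3) (.leaf 3)) (.node (.leaf 3) (.leaf 3)))))))

def twoKind15 : Janko.Tree (ℕ) :=
  (.node (.node (.node (.node (.node (.node (.node (.leaf 0) (.leaf 3)) (.leaf 3)) (.node (.leaf 0) (.leaf 3))) (.node (.node (.leaf 0) (.leaf 3)) (.node (.leaf 3) (.leaf 3)))) (.node (.node (.node (.leaf 3) (.leaf 3)) (.node (.leaf 0) (.leaf 3))) (.node (.node (.leaf 3) (.leaf 3)) (.node (.leaf 3) (.leaf 3))))) (.node (.node (.node (.node (.leaf 0) (.leaf 0)) (.node (.leaf 0) (.leaf 3))) (.node (.node (.leaf 0) (.leaf 3)) (.node (.leaf 0) (.leaf 3)))) (.node (.node (.node (.leaf 3) (.leaf 3)) (.node (.leaf 3) (.leaf 3))) (.node (.node (.leaf 3) (.leaf 3)) (.node (.leaf 0) (.leaf 3)))))) (.node (.node (.node (.node (.node (.leaf 0) (.leaf 0)) (.node (.leaf 3) (.leaf 3))) (.node (.node (.leaf 3) (.leaf 3)) (.node (.leaf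 0) (.leaf 3)))) (.node (.node (.node (.leaf 3) (.leaf 3)) (.node (.leaf 3) (.leaf 3))) (.node (.node (.leaf 3) (.leaf 3)) (.node (.leaf 3) (.leaf 3))))) (.node (.node (.node (.node (.leaf 3) (.leaf 3)) (.node (.leaf 0) (.leaf 3))) (.node (.node (.leaf 3) (.leaf 3)) (.node (.leaf 3) (.leaf 3)))) (.node (.node (.node (.leaf 0) (.leaf 3)) (.node (.leaf 3) (.leaf 0))) (.node (.node (.leaf 3) (.leaf 3)) (.node (.leaf 0) (.leaf 3)))))))

def twoKind16 : Janko.Tree (ℕ) :=
  (.node (.node (.node (.node (.node (.node (.node (.leaf 3) (.leaf 2)) (.leaf 0)) (.node (.leaf 3) (.leaf 3))) (.node (.node (.leaf 3) (.leaf 3)) (.node (.leaf 0) (.leaf 3)))) (.node (.node (.node (.leaf 3) (.leaf 3)) (.node (.leaf 3) (.leaf 3))) (.node (.node (.leaf 3) (.leaf 3)) (.node (.leaf 0) (.leaf 3))))) (.node (.node (.node (.node (.leaf 3) (.leaf 3)) (.node (.leaf 3) (.leaf 3))) (.node (.node (.leaf 3) (.leaf 3)) (.node (.leaf 3) (.leaf 3)))) (.node (.node (.node (.leaf 3) (.leaf 3)) (.node (.leaf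 3) (.leaf 3))) (.node (.node (.leaf 3) (.leaf 3)) (.node (.leaf 3) (.leaf 3)))))) (.node (.node (.node (.node (.node (.leaf 3) (.leaf 3)) (.node (.leaf 0) (.leaf 0))) (.node (.node (.leaf 3) (.leaf 3)) (.node (.leaf 3) (.leaf 3)))) (.node (.node (.node (.leaf 0) (.leaf 3)) (.node (.leaf 0) (.leaf 3))) (.node (.node (.leaf 0) (.leaf 3)) (.node (.leaf 3) (.leaf 3))))) (.node (.node (.node (.node (.leaf 0) (.leaf 3)) (.node (.leaf 3) (.leaf 3))) (.node (.node (.leaf 3) (.leaf 3)) (.node (.leaf 0) (.leaf 3)))) (.node (.node (.node (.leaf 3) (.leaf 3)) (.node (.leaf 3) (.leaf 3))) (.node (.node (.leaf 3) (.leaf 3)) (.node (.leaf 3) (.leaf 3)))))))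

def twoKind17 : Janko.Tree (ℕ) :=
  (.node (.node (.node (.node (.node (.node (.node (.leaf 0) (.leaf 3)) (.leaf 3)) (.node (.leaf 0) (.leaf 3))) (.node (.node (.leaf 0) (.leaf 3)) (.node (.leaf 3) (.leaf 0)))) (.node (.node (.node (.leaf 0) (.leaf 3)) (.node (.leaf 0) (.leaf 3))) (.node (.node (.leaf 0) (.leaf 0)) (.node (.leaf 3) (.leaf 3))))) (.node (.node (.node (.node (.leaf 3) (.leaf 3)) (.node (.leaf 0) (.leaf 0))) (.node (.node (.leaf 0) (.leaf 0)) (.node (.leaf 3) (.leaf 3)))) (.node (.node (.node (.leaf 3) (.leaf 0)) (.node (.leaf 0) (.leaf 3))) (.node (.node (.leaf 0) (.leaf 3)) (.node (.leaf 3) (.leaf 3)))))) (.node (.node (.node (.node (.node (.leaf 0) (.leaf 3)) (.node (.leaf 3) (.leaf 3))) (.node (.node (.leaf 0) (.leaf 0)) (.node (.leaf 3) (.leaf 3)))) (.node (.node (.node (.leaf 3) (.leaf 3)) (.node (.leaf 3) (.leaf 3))) (.node (.node (.leaf 3) (.leaf 3)) (.node (.leaf 3) (.leaf 0))))) (.node (.node (.node (.node (.leaf 3) (.leaf 3)) (.node (.leaf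 3) (.leaf 0))) (.node (.node (.leaf 3) (.leaf 3)) (.node (.leaf 3) (.leaf 0)))) (.node (.node (.node (.leaf 0) (.leaf 3)) (.node (.leaf 0) (.leaf 3))) (.node (.node (.leaf 3) (.leaf 3)) (.node (.leaf 0) (.leaf 3)))))))

def twoKind18 : Janko.Tree (ℕ) :=
  (.node (.node (.node (.node (.node (.node (.node (.leaf 3) (.leaf 3)) (.leaf 3)) (.node (.leaf 3) (.leaf 3))) (.node (.node (.leaf 0) (.leaf 3)) (.node (.leaf 0) (.leaf 3)))) (.node (.node (.node (.leaf 3) (.leaf 3)) (.node (.leaf 3) (.leaf 3))) (.node (.node (.leaf 3) (.leaf 3)) (.node (.leaf 0) (.leaf 3))))) (.node (.node (.node (.node (.leaf 3) (.leaf 3)) (.node (.leaf 3) (.leaf 3))) (.node (.node (.leaf 0) (.leaf 3)) (.node (.leaf 3) (.leaf 3)))) (.node (.node (.node (.leaf 0) (.leaf 3)) (.node (.leaf 3) (.leaf 3))) (.node (.node (.leaf 3) (.leaf 3)) (.node (.leaf 3) (.leaf 3)))))) (.node (.node (.node (.node (.node (.leaf 3) (.leaf 3)) (.node (.leaf 3) (.leaf 0))) (.node (.node (.leaf 0) (.leaf 3)) (.node (.leaf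 3) (.leaf 3)))) (.node (.node (.node (.leaf 0) (.leaf 0)) (.node (.leaf 3) (.leaf 3))) (.node (.node (.leaf 3) (.leaf 3)) (.node (.leaf 3) (.leaf 3))))) (.node (.node (.node (.node (.leaf 0) (.leaf 3)) (.node (.leaf 3) (.leaf 3))) (.node (.node (.leaf 3) (.leaf 3)) (.node (.leaf 3) (.leaf 3)))) (.node (.node (.node (.leaf 0) (.leaf 0)) (.node (.leaf 0) (.leaf 3))) (.node (.node (.leaf 0) (.leaf 3)) (.node (.leaf 3) (.leaf 3)))))))

def twoKind19 : Janko.Tree (ℕ) :=
  (.node (.node (.node (.node (.node (.node (.node (.leaf 3) (.leaf 2)) (.leaf 3)) (.node (.leaf 3) (.leaf 0))) (.node (.node (.leaf 0) (.leaf 0)) (.node (.leaf 0) (.leaf 3)))) (.node (.node (.node (.leaf 3) (.leaf 0)) (.node (.leaf 0) (.leaf 3))) (.node (.node (.leaf 3) (.leaf 3)) (.node (.leaf 0) (.leaf 0))))) (.node (.node (.node (.node (.leaf 3) (.leaf 3)) (.node (.leaf 0) (.leaf 3))) (.node (.node (.leaf 0) (.leaf 3)) (.node (.leaf 3) (.leaf 3)))) (.node (.node (.node (.leaf 3) (.leaf 3)) (.node (.leaf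 0) (.leaf 3))) (.node (.node (.leaf 3) (.leaf 0)) (.node (.leaf 3) (.leaf 3)))))) (.node (.node (.node (.node (.node (.leaf 3) (.leaf 3)) (.node (.leaf 0) (.leaf 0))) (.node (.node (.leaf 3) (.leaf 3)) (.node (.leaf 3) (.leaf 3)))) (.node (.node (.node (.leaf 0) (.leaf 3)) (.node (.leaf 0) (.leaf 3))) (.node (.node (.leaf 0) (.leaf 3)) (.node (.leaf 0) (.leaf 3))))) (.node (.node (.node (.node (.leaf 0) (.leaf 0)) (.node (.leaf 3) (.leaf 3))) (.node (.node (.leaf 3) (.leaf 3)) (.node (.leaf 3) (.leaf 3)))) (.node (.node (.node (.leaf 0) (.leaf 3)) (.node (.leaf 0) (.leaf 0))) (.node (.node (.leaf 3) (.leaf 3)) (.node (.leaf 3) (.leaf 3)))))))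

def twoKind20 : Janko.Tree (ℕ) :=
  (.node (.node (.node (.node (.node (.node (.node (.leaf 0) (.leaf 3)) (.leaf 3)) (.node (.leaf 0) (.leaf 3))) (.node (.node (.leaf 3) (.leaf 3)) (.node (.leaf 3) (.leaf 3)))) (.node (.node (.node (.leaf 3) (.leaf 3)) (.node (.leaf 3) (.leaf 3))) (.node (.node (.leaf 0) (.leaf 3)) (.node (.leaf 3) (.leaf 3))))) (.node (.node (.node (.node (.leaf 3) (.leaf 3)) (.node (.leaf 3) (.leaf 3))) (.node (.node (.leaf 3) (.leaf 3)) (.node (.leaf 3) (.leaf 3)))) (.node (.node (.node (.leaf 3) (.leaf 3)) (.node (.leaf 3) (.leaf 3))) (.node (.node (.leaf 3) (.leaf 3)) (.node (.leaf 3) (.leaf 3)))))) (.node (.node (.node (.node (.node (.leaf 0) (.leaf 0)) (.node (.leaf 3) (.leaf 3))) (.node (.node (.leaf 3) (.leaf 3)) (.node (.leaf 3) (.leaf 3)))) (.node (.node (.node (.leaf 3) (.leaf 3)) (.node (.leaf 3) (.leaf 0))) (.node (.node (.leaf 3) (.leaf 3)) (.node (.leaf 3) (.leaf 3))))) (.node (.node (.node (.node (.leaf 3) (.leaf 3)) (.node (.leaf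 3) (.leaf 0))) (.node (.node (.leaf 3) (.leaf 3)) (.node (.leaf 3) (.leaf 3)))) (.node (.node (.node (.leaf 3) (.leaf 3)) (.node (.leaf 3) (.leaf 3))) (.node (.node (.leaf 3) (.leaf 3)) (.node (.leaf 0) (.leaf 3)))))))

def twoKind21 : Janko.Tree (ℕ) :=
  (.node (.node (.node (.node (.node (.node (.node (.leaf 3) (.leaf 3)) (.leaf 0)) (.node (.leaf 3) (.leaf 0))) (.node (.node (.leaf 0) (.leaf 3)) (.node (.leaf 3) (.leaf 3)))) (.node (.node (.node (.leaf 0) (.leaf 0)) (.node (.leaf 0) (.leaf 3))) (.node (.node (.leaf 3) (.leaf 3)) (.node (.leaf 0) (.leaf 3))))) (.node (.node (.node (.node (.leaf 0) (.leaf 0)) (.node (.leaf 0) (.leaf 3))) (.node (.node (.leaf 0) (.leaf 3)) (.node (.leaf 0) (.leaf 3)))) (.node (.node (.node (.leaf 0) (.leaf 3)) (.node (.leaf 3) (.leaf 3))) (.node (.node (.leaf 3) (.leaf 3)) (.node (.leaf 3) (.leaf 3)))))) (.node (.node (.node (.node (.node (.leaf 3) (.leaf 3)) (.node (.leaf 3) (.leaf 0))) (.node (.node (.leaf 0) (.leaf 3)) (.node (.leaf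 3) (.leaf 3)))) (.node (.node (.node (.leaf 0) (.leaf 3)) (.node (.leaf 3) (.leaf 3))) (.node (.node (.leaf 3) (.leaf 3)) (.node (.leaf 0) (.leaf 3))))) (.node (.node (.node (.node (.leaf 0) (.leaf 3)) (.node (.leaf 3) (.leaf 3))) (.node (.node (.leaf 3) (.leaf 0)) (.node (.leaf 0) (.leaf 3)))) (.node (.node (.node (.leaf 0) (.leaf 3)) (.node (.leaf 0) (.leaf 3))) (.node (.node (.leaf 0) (.leaf 3)) (.node (.leaf 3) (.leaf 3)))))))

def twoKind22 : Janko.Tree (ℕ) :=
  (.node (.node (.node (.node (.node (.node (.node (.leaf 0) (.leaf 3)) (.leaf 3)) (.node (.leaf 0) (.leaf 3))) (.node (.node (.leaf 3) (.leaf 0)) (.node (.leaf 0) (.leaf 3)))) (.node (.node (.node (.leaf 3) (.leaf 3)) (.node (.leaf 3) (.leaf 3))) (.node (.node (.leaf 0) (.leaf 3)) (.node (.leaf 0) (.leaf 3))))) (.node (.node (.node (.node (.leaf 3) (.leaf 3)) (.node (.leaf 3) (.leaf 3))) (.node (.node (.leaf 3) (.leaf 0)) (.node (.leaf 3) (.leaf 3)))) (.node (.node (.node (.leaf 3) (.leaf 3)) (.node (.leaf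 3) (.leaf 3))) (.node (.node (.leaf 3) (.leaf 3)) (.node (.leaf 3) (.leaf 3)))))) (.node (.node (.node (.node (.node (.leaf 3) (.leaf 0)) (.node (.leaf 0) (.leaf 3))) (.node (.node (.leaf 3) (.leaf 3)) (.node (.leaf 3) (.leaf 0)))) (.node (.node (.node (.leaf 3) (.leaf 3)) (.node (.leaf 3) (.leaf 3))) (.node (.node (.leaf 3) (.leaf 3)) (.node (.leaf 3) (.leaf 3))))) (.node (.node (.node (.node (.leaf 0) (.leaf 3)) (.node (.leaf 0) (.leaf 3))) (.node (.node (.leaf 3) (.leaf 3)) (.node (.leaf 3) (.leaf 3)))) (.node (.node (.node (.leaf 3) (.leaf 3)) (.node (.leaf 3) (.leaf 0))) (.node (.node (.leaf 3) (.leaf 3)) (.node (.leaf 3) (.leaf 3)))))))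

def twoKind23 : Janko.Tree (ℕ) :=
  (.node (.node (.node (.node (.node (.node (.node (.leaf 0) (.leaf 3)) (.leaf 3)) (.node (.leaf 0) (.leaf 3))) (.node (.node (.leaf 0) (.leaf 3)) (.node (.leaf 3) (.leaf 3)))) (.node (.node (.node (.leaf 0) (.leaf 3)) (.node (.leaf 3) (.leaf 3))) (.node (.node (.leaf 0) (.leaf 3)) (.node (.leaf 3) (.leaf 3))))) (.node (.node (.node (.node (.leaf 0) (.leaf 3)) (.node (.leaf 3) (.leaf 3))) (.node (.node (.leaf 0) (.leaf 0)) (.node (.leaf 3) (.leaf 3)))) (.node (.node (.node (.leaf 0) (.leaf 3)) (.node (.leaf 3) (.leaf 3))) (.node (.node (.leaf 3) (.leaf 3)) (.node (.leaf 3) (.leaf 3)))))) (.node (.node (.node (.node (.node (.leaf 0) (.leaf 0)) (.node (.leaf 0) (.leaf 3))) (.node (.node (.leaf 3) (.leaf 3)) (.node (.leaf 0) (.leaf 0)))) (.node (.node (.node (.leaf 3) (.leaf 0)) (.node (.leaf 3) (.leaf 3))) (.node (.node (.leaf 3) (.leaf 0)) (.node (.leaf 3) (.leaf 3))))) (.node (.node (.node (.node (.leaf 0) (.leaf 3)) (.node (.leaf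 0) (.leaf 0))) (.node (.node (.leaf 3) (.leaf 3)) (.node (.leaf 0) (.leaf 3)))) (.node (.node (.node (.leaf 0) (.leaf 3)) (.node (.leaf 0) (.leaf 3))) (.node (.node (.leaf 3) (.leaf 0)) (.node (.leaf 0) (.leaf 3)))))))

def twoKind24 : Janko.Tree (ℕ) :=
  (.node (.node (.node (.node (.node (.node (.node (.leaf 3) (.leaf 3)) (.leaf 0)) (.node (.leaf 3) (.leaf 3))) (.node (.node (.leaf 3) (.leaf 3)) (.node (.leaf 3) (.leaf 3)))) (.node (.node (.node (.leaf 3) (.leaf 0)) (.node (.leaf 3) (.leaf 3))) (.node (.node (.leaf 3) (.leaf 3)) (.node (.leaf 3) (.leaf 3))))) (.node (.node (.node (.node (.leaf 3) (.leaf 3)) (.node (.leaf 0) (.leaf 3))) (.node (.node (.leaf 3) (.leaf 3)) (.node (.leaf 0) (.leaf 3)))) (.node (.node (.node (.leaf 3) (.leaf 3)) (.node (.leaf 3) (.leaf 3))) (.node (.node (.leaf 3) (.leaf 3)) (.node (.leaf 3) (.leaf 3)))))) (.node (.node (.node (.node (.node (.leaf 3) (.leaf 3)) (.node (.leaf 3) (.leaf 3))) (.node (.node (.leaf 3) (.leaf 3)) (.node (.leaf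 3) (.leaf 3)))) (.node (.node (.node (.leaf 3) (.leaf 3)) (.node (.leaf 3) (.leaf 3))) (.node (.node (.leaf 3) (.leaf 3)) (.node (.leaf 0) (.leaf 3))))) (.node (.node (.node (.node (.leaf 3) (.leaf 3)) (.node (.leaf 3) (.leaf 3))) (.node (.node (.leaf 3) (.leaf 3)) (.node (.leaf 3) (.leaf 3)))) (.node (.node (.node (.leaf 3) (.leaf 3)) (.node (.leaf 3) (.leaf 3))) (.node (.node (.leaf 0) (.leaf 3)) (.node (.leaf 3) (.leaf 3)))))))

def twoKind25 : Janko.Tree (ℕ) :=
  (.node (.node (.node (.node (.node (.node (.node (.leaf 0) (.leaf 3)) (.leaf 3)) (.node (.leaf 0) (.leaf 3))) (.node (.node (.leaf 3) (.leaf 0)) (.node (.leaf 0) (.leaf 3)))) (.node (.node (.node (.leaf 3) (.leaf 3)) (.node (.leaf 0) (.leaf 3))) (.node (.node (.leaf 0) (.leaf 3)) (.node (.leaf 3) (.leaf 3))))) (.node (.node (.node (.node (.leaf 0) (.leaf 3)) (.node (.leaf 3) (.leaf 3))) (.node (.node (.leaf 3) (.leaf 3)) (.node (.leaf 3) (.leaf 3)))) (.node (.node (.node (.leaf 3) (.leaf 0)) (.node (.leaf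 3) (.leaf 3))) (.node (.node (.leaf 0) (.leaf 3)) (.node (.leaf 3) (.leaf 3)))))) (.node (.node (.node (.node (.node (.leaf 0) (.leaf 3)) (.node (.leaf 0) (.leaf 3))) (.node (.node (.leaf 3) (.leaf 0)) (.node (.leaf 0) (.leaf 0)))) (.node (.node (.node (.leaf 3) (.leaf 3)) (.node (.leaf 3) (.leaf 3))) (.node (.node (.leaf 0) (.leaf 0)) (.node (.leaf 3) (.leaf 3))))) (.node (.node (.node (.node (.leaf 0) (.leaf 3)) (.node (.leaf 0) (.leaf 3))) (.node (.node (.leaf 0) (.leaf 3)) (.node (.leaf 0) (.leaf 3)))) (.node (.node (.node (.leaf 3) (.leaf 0)) (.node (.leaf 3) (.leaf 3))) (.node (.node (.leaf 3) (.leaf 3)) (.node (.leaf 3) (.leaf 3)))))))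

def twoKind26 : Janko.Tree (ℕ) :=
  (.node (.node (.node (.node (.node (.node (.node (.leaf 3) (.leaf 3)) (.leaf 0)) (.node (.leaf 0) (.leaf 3))) (.node (.node (.leaf 3) (.leaf 3)) (.node (.leaf 3) (.leaf 3)))) (.node (.node (.node (.leaf 3) (.leaf 3)) (.node (.leaf 0) (.leaf 3))) (.node (.node (.leaf 0) (.leaf 3)) (.node (.leaf 3) (.leaf 3))))) (.node (.node (.node (.node (.leaf 3) (.leaf 3)) (.node (.leaf 3) (.leaf 3))) (.node (.node (.leaf 3) (.leaf 3)) (.node (.leaf 3) (.leaf 3)))) (.node (.node (.node (.leaf 3) (.leaf 3)) (.node (.leaf 3) (.leaf 3))) (.node (.node (.leaf 0) (.leaf 0)) (.node (.leaf 0) (.leaf 3)))))) (.node (.node (.node (.node (.node (.leaf 3) (.leaf 0)) (.node (.leaf 3) (.leaf 3))) (.node (.node (.leaf 3) (.leaf 3)) (.node (.leaf 3) (.leaf 3)))) (.node (.node (.node (.leaf 0) (.leaf 3)) (.node (.leaf 3) (.leaf 3))) (.node (.node (.leaf 3) (.leaf 3)) (.node (.leaf 3) (.leaf 3))))) (.node (.node (.node (.node (.leaf 3) (.leaf 3)) (.node (.leaf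 3) (.leaf 3))) (.node (.node (.leaf 0) (.leaf 3)) (.node (.leaf 3) (.leaf 3)))) (.node (.node (.node (.leaf 3) (.leaf 3)) (.node (.leaf 3) (.leaf 3))) (.node (.node (.leaf 3) (.leaf 3)) (.node (.leaf 3) (.leaf 3)))))))

def twoKind27 : Janko.Tree (ℕ) :=
  (.node (.node (.node (.node (.node (.node (.node (.leaf 0) (.leaf 2)) (.leaf 0)) (.node (.leaf 3) (.leaf 3))) (.node (.node (.leaf 3) (.leaf 0)) (.node (.leaf 0) (.leaf 3)))) (.node (.node (.node (.leaf 0) (.leaf 3)) (.node (.leaf 0) (.leaf 3))) (.node (.node (.leaf 3) (.leaf 3)) (.node (.leaf 0) (.leaf 3))))) (.node (.node (.node (.node (.leaf 3) (.leaf 0)) (.node (.leaf 0) (.leaf 3))) (.node (.node (.leaf 3) (.leaf 3)) (.node (.leaf 3) (.leaf 3)))) (.node (.node (.node (.leaf 0) (.leaf 3)) (.node (.leaf 0) (.leaf 3))) (.node (.node (.leaf 3) (.leaf 0)) (.node (.leaf 0) (.leaf 3)))))) (.node (.node (.node (.node (.node (.leaf 3) (.leaf 0)) (.node (.leaf 0) (.leaf 3))) (.node (.node (.leaf 3) (.leaf 3)) (.node (.leaf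 3) (.leaf 3)))) (.node (.node (.node (.leaf 3) (.leaf 3)) (.node (.leaf 0) (.leaf 3))) (.node (.node (.leaf 3) (.leaf 3)) (.node (.leaf 0) (.leaf 3))))) (.node (.node (.node (.node (.leaf 0) (.leaf 3)) (.node (.leaf 0) (.leaf 3))) (.node (.node (.leaf 0) (.leaf 3)) (.node (.leaf 3) (.leaf 3)))) (.node (.node (.node (.leaf 3) (.leaf 3)) (.node (.leaf 3) (.leaf 3))) (.node (.node (.leaf 0) (.leaf 0)) (.node (.leaf 3) (.leaf 3)))))))

def twoKind28 : Janko.Tree (ℕ) :=
  (.node (.node (.node (.node (.node (.node (.node (.leaf 3) (.leaf 3)) (.leaf 3)) (.node (.leaf 3) (.leaf 3))) (.node (.node (.leaf 3) (.leaf 3)) (.node (.leaf 3) (.leaf 3)))) (.node (.node (.node (.leaf 3) (.leaf 3)) (.node (.leaf 3) (.leaf 3))) (.node (.node (.leaf 3) (.leaf 3)) (.node (.leaf 3) (.leaf 3))))) (.node (.node (.node (.node (.leaf 0) (.leaf 3)) (.node (.leaf 3) (.leaf 3))) (.node (.node (.leaf 0) (.leaf 3)) (.node (.leaf 3) (.leaf 3)))) (.node (.node (.node (.leaf 3) (.leaf 3)) (.node (.leaf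 3) (.leaf 3))) (.node (.node (.leaf 3) (.leaf 3)) (.node (.leaf 3) (.leaf 3)))))) (.node (.node (.node (.node (.node (.leaf 3) (.leaf 3)) (.node (.leaf 3) (.leaf 3))) (.node (.node (.leaf 3) (.leaf 3)) (.node (.leaf 3) (.leaf 3)))) (.node (.node (.node (.leaf 3) (.leaf 0)) (.node (.leaf 3) (.leaf 3))) (.node (.node (.leaf 0) (.leaf 3)) (.node (.leaf 3) (.leaf 3))))) (.node (.node (.node (.node (.leaf 3) (.leaf 3)) (.node (.leaf 3) (.leaf 3))) (.node (.node (.leaf 3) (.leaf 3)) (.node (.leaf 0) (.leaf 3)))) (.node (.node (.node (.leaf 3) (.leaf 3)) (.node (.leaf 3) (.leaf 3))) (.node (.node (.leaf 3) (.leaf 3)) (.node (.leaf 3) (.leaf 3)))))))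

def twoKind29 : Janko.Tree (ℕ) :=
  (.node (.node (.node (.node (.node (.node (.node (.leaf 0) (.leaf 3)) (.leaf 0)) (.node (.leaf 0) (.leaf 3))) (.node (.node (.leaf 3) (.leaf 3)) (.node (.leaf 3) (.leaf 3)))) (.node (.node (.node (.leaf 0) (.leaf 0)) (.node (.leaf 0) (.leaf 3))) (.node (.node (.leaf 0) (.leaf 0)) (.node (.leaf 3) (.leaf 3))))) (.node (.node (.node (.node (.leaf 3) (.leaf 0)) (.node (.leaf 3) (.leaf 0))) (.node (.node (.leaf 3) (.leaf 3)) (.node (.leaf 3) (.leaf 3)))) (.node (.node (.node (.leaf 0) (.leaf 3)) (.node (.leaf 3) (.leaf 0))) (.node (.node (.leaf 0) (.leaf 0)) (.node (.leaf 3) (.leaf 0)))))) (.node (.node (.node (.node (.node (.leaf 0) (.leaf 0)) (.node (.leaf 3) (.leaf 3))) (.node (.node (.leaf 3) (.leaf 0)) (.node (.leaf 0) (.leaf 3)))) (.node (.node (.node (.leaf 0) (.leaf 3)) (.node (.leaf 0) (.leaf 3))) (.node (.node (.leaf 3) (.leaf 0)) (.node (.leaf 3) (.leaf 3))))) (.node (.node (.node (.node (.leaf 3) (.leaf 0)) (.node (.leaf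 3) (.leaf 3))) (.node (.node (.leaf 0) (.leaf 3)) (.node (.leaf 3) (.leaf 3)))) (.node (.node (.node (.leaf 3) (.leaf 3)) (.node (.leaf 3) (.leaf 3))) (.node (.node (.leaf 0) (.leaf 3)) (.node (.leaf 0) (.leaf 3)))))))

def twoKind30 : Janko.Tree (ℕ) :=
  (.node (.node (.node (.node (.node (.node (.node (.leaf 3) (.leaf 3)) (.leaf 3)) (.node (.leaf 3) (.leaf 3))) (.node (.node (.leaf 0) (.leaf 3)) (.node (.leaf 3) (.leaf 3)))) (.node (.node (.node (.leaf 3) (.leaf 3)) (.node (.leaf 3) (.leaf 0))) (.node (.node (.leaf 3) (.leaf 3)) (.node (.leaf 3) (.leaf 3))))) (.node (.node (.node (.node (.leaf 0) (.leaf 3)) (.node (.leaf 3) (.leaf 3))) (.node (.node (.leaf 3) (.leaf 3)) (.node (.leaf 0) (.leaf 3)))) (.node (.node (.node (.leaf 3) (.leaf 3)) (.node (.leaf 3) (.leaf 3))) (.node (.node (.leaf 3) (.leaf 3)) (.node (.leaf 3) (.leaf 3)))))) (.node (.node (.node (.node (.node (.leaf 3) (.leaf 3)) (.node (.leaf 3) (.leaf 3))) (.node (.node (.leaf 0) (.leaf 3)) (.node (.leaf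 3) (.leaf 3)))) (.node (.node (.node (.leaf 3) (.leaf 3)) (.node (.leaf 3) (.leaf 3))) (.node (.node (.leaf 0) (.leaf 3)) (.node (.leaf 3) (.leaf 3))))) (.node (.node (.node (.node (.leaf 3) (.leaf 3)) (.node (.leaf 3) (.leaf 3))) (.node (.node (.leaf 3) (.leaf 3)) (.node (.leaf 0) (.leaf 3)))) (.node (.node (.node (.leaf 0) (.leaf 3)) (.node (.leaf 0) (.leaf 3))) (.node (.node (.leaf 3) (.leaf 3)) (.node (.leaf 3) (.leaf 3)))))))

def twoKind31 : Janko.Tree (ℕ) :=
  (.node (.node (.node (.node (.node (.node (.node (.leaf 3) (.leaf 3)) (.leaf 3)) (.node (.leaf 0) (.leaf 3))) (.node (.node (.leaf 3) (.leaf 3)) (.node (.leaf 3) (.leaf 3)))) (.node (.node (.node (.leaf 3) (.leaf 3)) (.node (.leaf 0) (.leaf 0))) (.node (.node (.leaf 0) (.leaf 0)) (.node (.leaf 3) (.leaf 3))))) (.node (.node (.node (.node (.leaf 0) (.leaf 3)) (.node (.leaf 3) (.leaf 3))) (.node (.node (.leaf 0) (.leaf 3)) (.node (.leaf 3) (.leaf 3)))) (.node (.node (.node (.leaf 3) (.leaf 0)) (.node (.leaf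 3) (.leaf 3))) (.node (.node (.leaf 3) (.leaf 3)) (.node (.leaf 3) (.leaf 3)))))) (.node (.node (.node (.node (.node (.leaf 0) (.leaf 0)) (.node (.leaf 3) (.leaf 3))) (.node (.node (.leaf 0) (.leaf 3)) (.node (.leaf 0) (.leaf 3)))) (.node (.node (.node (.leaf 0) (.leaf 3)) (.node (.leaf 3) (.leaf 3))) (.node (.node (.leaf 0) (.leaf 3)) (.node (.leaf 3) (.leaf 3))))) (.node (.node (.node (.node (.leaf 3) (.leaf 3)) (.node (.leaf 3) (.leaf 3))) (.node (.node (.leaf 0) (.leaf 3)) (.node (.leaf 0) (.leaf 3)))) (.node (.node (.node (.leaf 3) (.leaf 0)) (.node (.leaf 0) (.leaf 3))) (.node (.node (.leaf 3) (.leaf 3)) (.node (.leaf 3) (.leaf 3)))))))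

def twoKind32 : Janko.Tree (ℕ) :=
  (.node (.node (.node (.node (.node (.node (.node (.leaf 3) (.leaf 3)) (.leaf 3)) (.node (.leaf 3) (.leaf 3))) (.node (.node (.leaf 3) (.leaf 3)) (.node (.leaf 3) (.leaf 3)))) (.node (.node (.node (.leaf 0) (.leaf 3)) (.node (.leaf 3) (.leaf 3))) (.node (.node (.leaf 3) (.leaf 3)) (.node (.leaf 3) (.leaf 3))))) (.node (.node (.node (.node (.leaf 3) (.leaf 0)) (.node (.leaf 3) (.leaf 3))) (.node (.node (.leaf 3) (.leaf 3)) (.node (.leaf 3) (.leaf 3)))) (.node (.node (.node (.leaf 0) (.leaf 3)) (.node (.leaf 3) (.leaf 3))) (.node (.node (.leaf 3) (.leaf 3)) (.node (.leaf 0) (.leaf 3)))))) (.node (.node (.node (.node (.node (.leaf 3) (.leaf 3)) (.node (.leaf 3) (.leaf 3))) (.node (.node (.leaf 3) (.leaf 3)) (.node (.leaf 3) (.leaf 3)))) (.node (.node (.node (.leaf 3) (.leaf 3)) (.node (.leaf 0) (.leaf 3))) (.node (.node (.leaf 3) (.leaf 3)) (.node (.leaf 3) (.leaf 3))))) (.node (.node (.node (.node (.leaf 3) (.leaf 0)) (.node (.leaf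 0) (.leaf 0))) (.node (.node (.leaf 3) (.leaf 3)) (.node (.leaf 3) (.leaf 3)))) (.node (.node (.node (.leaf 3) (.leaf 3)) (.node (.leaf 3) (.leaf 3))) (.node (.node (.leaf 3) (.leaf 3)) (.node (.leaf 3) (.leaf 3)))))))

def twoKind33 : Janko.Tree (ℕ) :=
  (.node (.node (.node (.node (.node (.node (.node (.leaf 0) (.leaf 3)) (.leaf 0)) (.node (.leaf 3) (.leaf 3))) (.node (.node (.leaf 0) (.leaf 0)) (.node (.leaf 0) (.leaf 3)))) (.node (.node (.node (.leaf 3) (.leaf 3)) (.node (.leaf 3) (.leaf 3))) (.node (.node (.leaf 3) (.leaf 3)) (.node (.leaf 3) (.leaf 3))))) (.node (.node (.node (.node (.leaf 0) (.leaf 3)) (.node (.leaf 0) (.leaf 3))) (.node (.node (.leaf 0) (.leaf 3)) (.node (.leaf 0) (.leaf 3)))) (.node (.node (.node (.leaf 3) (.leaf 3)) (.node (.leaf 3) (.leaf 3))) (.node (.node (.leaf 3) (.leaf 0)) (.node (.leaf 3) (.leaf 3)))))) (.node (.node (.node (.node (.node (.leaf 0) (.leaf 3)) (.node (.leaf 3) (.leaf 3))) (.node (.node (.leaf 0) (.leaf 3)) (.node (.leaf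 3) (.leaf 3)))) (.node (.node (.node (.leaf 3) (.leaf 0)) (.node (.leaf 3) (.leaf 0))) (.node (.node (.leaf 0) (.leaf 3)) (.node (.leaf 3) (.leaf 3))))) (.node (.node (.node (.node (.leaf 3) (.leaf 3)) (.node (.leaf 3) (.leaf 3))) (.node (.node (.leaf 3) (.leaf 0)) (.node (.leaf 0) (.leaf 3)))) (.node (.node (.node (.leaf 0) (.leaf 0)) (.node (.leaf 0) (.leaf 3))) (.node (.node (.leaf 0) (.leaf 3)) (.node (.leaf 3) (.leaf 3)))))))

def twoKind34 : Janko.Tree (ℕ) :=
  (.node (.node (.node (.node (.node (.node (.node (.leaf 0) (.leaf 3)) (.leaf 3)) (.node (.leaf 3) (.leaf 3))) (.node (.node (.leaf 3) (.leaf 3)) (.node (.leaf 3) (.leaf 3)))) (.node (.node (.node (.leaf 0) (.leaf 3)) (.node (.leaf 3) (.leaf 0))) (.node (.node (.leaf 3) (.leaf 3)) (.node (.leaf 0) (.leaf 3))))) (.node (.node (.node (.node (.leaf 3) (.leaf 3)) (.node (.leaf 3) (.leaf 0))) (.node (.node (.leaf 3) (.leaf 3)) (.node (.leaf 3) (.leaf 3)))) (.node (.node (.node (.leaf 0) (.leaf 3)) (.node (.leaf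 0) (.leaf 0))) (.node (.node (.leaf 3) (.leaf 3)) (.node (.leaf 3) (.leaf 3)))))) (.node (.node (.node (.node (.node (.leaf 3) (.leaf 3)) (.node (.leaf 3) (.leaf 0))) (.node (.node (.leaf 3) (.leaf 3)) (.node (.leaf 3) (.leaf 3)))) (.node (.node (.node (.leaf 3) (.leaf 3)) (.node (.leaf 0) (.leaf 3))) (.node (.node (.leaf 3) (.leaf 3)) (.node (.leaf 3) (.leaf 3))))) (.node (.node (.node (.node (.leaf 0) (.leaf 3)) (.node (.leaf 3) (.leaf 3))) (.node (.node (.leaf 3) (.leaf 3)) (.node (.leaf 3) (.leaf 3)))) (.node (.node (.node (.leaf 3) (.leaf 3)) (.node (.leaf 3) (.leaf 3))) (.node (.node (.leaf 0) (.leaf 3)) (.node (.leaf 0) (.leaf 3)))))))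

def twoKind35 : Janko.Tree (ℕ) :=
  (.node (.node (.node (.node (.node (.node (.node (.leaf 0) (.leaf 3)) (.leaf 3)) (.node (.leaf 3) (.leaf 3))) (.node (.node (.leaf 3) (.leaf 0)) (.node (.leaf 3) (.leaf 3)))) (.node (.node (.node (.leaf 0) (.leaf 3)) (.node (.leaf 3) (.leaf 0))) (.node (.node (.leaf 3) (.leaf 3)) (.node (.leaf 0) (.leaf 3))))) (.node (.node (.node (.node (.leaf 3) (.leaf 3)) (.node (.leaf 0) (.leaf 3))) (.node (.node (.leaf 0) (.leaf 3)) (.node (.leaf 0) (.leaf 3)))) (.node (.node (.node (.leaf 0) (.leaf 3)) (.node (.leaf 3) (.leaf 3))) (.node (.node (.leaf 3) (.leaf 3)) (.node (.leaf 3) (.leaf 3)))))) (.node (.node (.node (.node (.node (.leaf 3) (.leaf 3)) (.node (.leaf 0) (.leaf 0))) (.node (.node (.leaf 0) (.leaf 3)) (.node (.leaf 3) (.leaf 3)))) (.node (.node (.node (.leaf 0) (.leaf 3)) (.node (.leaf 0) (.leaf 0))) (.node (.node (.leaf 0) (.leaf 3)) (.node (.leaf 0) (.leaf 3))))) (.node (.node (.node (.node (.leaf 3) (.leaf 3)) (.node (.leaf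 0) (.leaf 3))) (.node (.node (.leaf 3) (.leaf 3)) (.node (.leaf 3) (.leaf 3)))) (.node (.node (.node (.leaf 3) (.leaf 3)) (.node (.leaf 0) (.leaf 3))) (.node (.node (.leaf 0) (.leaf 3)) (.node (.leaf 3) (.leaf 3)))))))

def twoKind36 : Janko.Tree (ℕ) :=
  (.node (.node (.node (.node (.node (.node (.node (.leaf 3) (.leaf 3)) (.leaf 3)) (.node (.leaf 3) (.leaf 3))) (.node (.node (.leaf 0) (.leaf 3)) (.node (.leaf 0) (.leaf 3)))) (.node (.node (.node (.leaf 3) (.leaf 3)) (.node (.leaf 3) (.leaf 3))) (.node (.node (.leaf 0) (.leaf 3)) (.node (.leaf 3) (.leaf 3))))) (.node (.node (.node (.node (.leaf 3) (.leaf 3)) (.node (.leaf 3) (.leaf 3))) (.node (.node (.leaf 3) (.leaf 3)) (.node (.leaf 3) (.leaf 3)))) (.node (.node (.node (.leaf 3) (.leaf 0)) (.node (.leaf 3) (.leaf 3))) (.node (.node (.leaf 3) (.leaf 3)) (.node (.leaf 3) (.leaf 3)))))) (.node (.node (.node (.node (.node (.leaf 0) (.leaf 3)) (.node (.leaf 3) (.leaf 3))) (.node (.node (.leaf 3) (.leaf 3)) (.node (.leaf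 3) (.leaf 3)))) (.node (.node (.node (.leaf 3) (.leaf 3)) (.node (.leaf 3) (.leaf 3))) (.node (.node (.leaf 3) (.leaf 3)) (.node (.leaf 3) (.leaf 3))))) (.node (.node (.node (.node (.leaf 3) (.leaf 3)) (.node (.leaf 3) (.leaf 3))) (.node (.node (.leaf 3) (.leaf 0)) (.node (.leaf 3) (.leaf 3)))) (.node (.node (.node (.leaf 0) (.leaf 3)) (.node (.leaf 3) (.leaf 3))) (.node (.node (.leaf 3) (.leaf 3)) (.node (.leaf 3) (.leaf 3)))))))

def twoKind37 : Janko.Tree (ℕ) :=
  (.node (.node (.node (.node (.node (.node (.node (.leaf 0) (.leaf 3)) (.leaf 3)) (.node (.leaf 3) (.leaf 3))) (.node (.node (.leaf 3) (.leaf 3)) (.node (.leaf 3) (.leaf 3)))) (.node (.node (.node (.leaf 0) (.leaf 0)) (.node (.leaf 3) (.leaf 3))) (.node (.node (.leaf 3) (.leaf 0)) (.node (.leaf 0) (.leaf 3))))) (.node (.node (.node (.node (.leaf 3) (.leaf 0)) (.node (.leaf 0) (.leaf 0))) (.node (.node (.leaf 0) (.leaf 0)) (.node (.leaf 3) (.leaf 3)))) (.node (.node (.node (.leaf 0) (.leaf 3)) (.node (.leaf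 0) (.leaf 0))) (.node (.node (.leaf 3) (.leaf 3)) (.node (.leaf 0) (.leaf 3)))))) (.node (.node (.node (.node (.node (.leaf 3) (.leaf 3)) (.node (.leaf 0) (.leaf 0))) (.node (.node (.leaf 0) (.leaf 3)) (.node (.leaf 3) (.leaf 3)))) (.node (.node (.node (.leaf 0) (.leaf 0)) (.node (.leaf 3) (.leaf 3))) (.node (.node (.leaf 0) (.leaf 3)) (.node (.leaf 0) (.leaf 3))))) (.node (.node (.node (.node (.leaf 0) (.leaf 3)) (.node (.leaf 3) (.leaf 3))) (.node (.node (.leaf 3) (.leaf 3)) (.node (.leaf 3) (.leaf 0)))) (.node (.node (.node (.leaf 3) (.leaf 3)) (.node (.leaf 3) (.leaf 3))) (.node (.node (.leaf 0) (.leaf 3)) (.node (.leaf 3) (.leaf 3)))))))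

def twoKind38 : Janko.Tree (ℕ) :=
  (.node (.node (.node (.node (.node (.node (.node (.leaf 3) (.leaf 3)) (.leaf 3)) (.node (.leaf 0) (.leaf 3))) (.node (.node (.leaf 3) (.leaf 3)) (.node (.leaf 0) (.leaf 3)))) (.node (.node (.node (.leaf 0) (.leaf 3)) (.node (.leaf 0) (.leaf 3))) (.node (.node (.leaf 0) (.leaf 3)) (.node (.leaf 3) (.leaf 3))))) (.node (.node (.node (.node (.leaf 0) (.leaf 3)) (.node (.leaf 3) (.leaf 3))) (.node (.node (.leaf 3) (.leaf 3)) (.node (.leaf 3) (.leaf 3)))) (.node (.node (.node (.leaf 3) (.leaf 0)) (.node (.leaf 3) (.leaf 3))) (.node (.node (.leaf 0) (.leaf 3)) (.node (.leaf 3) (.leaf 3)))))) (.node (.node (.node (.node (.node (.leaf 0) (.leaf 3)) (.node (.leaf 3) (.leaf 3))) (.node (.node (.leaf 3) (.leaf 3)) (.node (.leaf 3) (.leaf 3)))) (.node (.node (.node (.leaf 3) (.leaf 3)) (.node (.leaf 0) (.leaf 3))) (.node (.node (.leaf 3) (.leaf 3)) (.node (.leaf 3) (.leaf 3))))) (.node (.node (.node (.node (.leaf 3) (.leaf 3)) (.node (.leaf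 3) (.leaf 3))) (.node (.node (.leaf 0) (.leaf 0)) (.node (.leaf 0) (.leaf 3)))) (.node (.node (.node (.leaf 3) (.leaf 0)) (.node (.leaf 3) (.leaf 3))) (.node (.node (.leaf 3) (.leaf 3)) (.node (.leaf 3) (.leaf 3)))))))

def twoKind39 : Janko.Tree (ℕ) :=
  (.node (.node (.node (.node (.node (.node (.node (.leaf 0) (.leaf 3)) (.leaf 0)) (.node (.leaf 0) (.leaf 3))) (.node (.node (.leaf 0) (.leaf 3)) (.node (.leaf 0) (.leaf 0)))) (.node (.node (.node (.leaf 3) (.leaf 3)) (.node (.leaf 0) (.leaf 0))) (.node (.node (.leaf 0) (.leaf 3)) (.node (.leaf 3) (.leaf 3))))) (.node (.node (.node (.node (.leaf 3) (.leaf 3)) (.node (.leaf 3) (.leaf 3))) (.node (.node (.leaf 3) (.leaf 3)) (.node (.leaf 3) (.leaf 0)))) (.node (.node (.node (.leaf 3) (.leaf 0)) (.node (.leaf 3) (.leaf 3))) (.node (.node (.leaf 0) (.leaf 3)) (.node (.leaf 0) (.leaf 3)))))) (.node (.node (.node (.node (.node (.leaf 0) (.leaf 0)) (.node (.leaf 3) (.leaf 0))) (.node (.node (.leaf 3) (.leaf 0)) (.node (.leaf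 0) (.leaf 3)))) (.node (.node (.node (.leaf 3) (.leaf 3)) (.node (.leaf 3) (.leaf 3))) (.node (.node (.leaf 3) (.leaf 3)) (.node (.leaf 3) (.leaf 3))))) (.node (.node (.node (.node (.leaf 3) (.leaf 3)) (.node (.leaf 3) (.leaf 3))) (.node (.node (.leaf 0) (.leaf 0)) (.node (.leaf 3) (.leaf 3)))) (.node (.node (.node (.leaf 0) (.leaf 3)) (.node (.leaf 3) (.leaf 0))) (.node (.node (.leaf 0) (.leaf 0)) (.node (.leaf 0) (.leaf 3)))))))

def twoKind40 : Janko.Tree (ℕ) :=
  (.node (.node (.node (.node (.node (.node (.node (.leaf 3) (.leaf 3)) (.leaf 3)) (.node (.leaf 3) (.leaf 3))) (.node (.node (.leaf 3) (.leaf 3)) (.node (.leaf 3) (.leaf 3)))) (.node (.node (.node (.leaf 3) (.leaf 3)) (.node (.leaf 3) (.leaf 3))) (.node (.node (.leaf 3) (.leaf 3)) (.node (.leaf 3) (.leaf 3))))) (.node (.node (.node (.node (.leaf 3) (.leaf 3)) (.node (.leaf 3) (.leaf 3))) (.node (.node (.leaf 0) (.leaf 3)) (.node (.leaf 3) (.leaf 3)))) (.node (.node (.node (.leaf 3) (.leaf 3)) (.node (.leaf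 0) (.leaf 3))) (.node (.node (.leaf 3) (.leaf 3)) (.node (.leaf 3) (.leaf 3)))))) (.node (.node (.node (.node (.node (.leaf 3) (.leaf 3)) (.node (.leaf 0) (.leaf 3))) (.node (.node (.leaf 0) (.leaf 3)) (.node (.leaf 3) (.leaf 3)))) (.node (.node (.node (.leaf 0) (.leaf 3)) (.node (.leaf 3) (.leaf 3))) (.node (.node (.leaf 3) (.leaf 3)) (.node (.leaf 0) (.leaf 3))))) (.node (.node (.node (.node (.leaf 0) (.leaf 3)) (.node (.leaf 3) (.leaf 3))) (.node (.node (.leaf 3) (.leaf 3)) (.node (.leaf 3) (.leaf 3)))) (.node (.node (.node (.leaf 3) (.leaf 3)) (.node (.leaf 0) (.leaf 3))) (.node (.node (.leaf 3) (.leaf 3)) (.node (.leaf 3) (.leaf 3)))))))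

def twoKind41 : Janko.Tree (ℕ) :=
  (.node (.node (.node (.node (.node (.node (.node (.leaf 0) (.leaf 3)) (.leaf 0)) (.node (.leaf 0) (.leaf 3))) (.node (.node (.leaf 0) (.leaf 3)) (.node (.leaf 3) (.leaf 3)))) (.node (.node (.node (.leaf 0) (.leaf 3)) (.node (.leaf 0) (.leaf 3))) (.node (.node (.leaf 0) (.leaf 3)) (.node (.leaf 0) (.leaf 3))))) (.node (.node (.node (.node (.leaf 0) (.leaf 3)) (.node (.leaf 3) (.leaf 0))) (.node (.node (.leaf 3) (.leaf 3)) (.node (.leaf 3) (.leaf 3)))) (.node (.node (.node (.leaf 3) (.leaf 0)) (.node (.leaf 3) (.leaf 3))) (.node (.node (.leaf 0) (.leaf 0)) (.node (.leaf 3) (.leaf 3)))))) (.node (.node (.node (.node (.node (.leaf 0) (.leaf 3)) (.node (.leaf 3) (.leaf 3))) (.node (.node (.leaf 3) (.leaf 0)) (.node (.leaf 0) (.leaf 3)))) (.node (.node (.node (.leaf 3) (.leaf 3)) (.node (.leaf 0) (.leaf 3))) (.node (.node (.leaf 3) (.leaf 0)) (.node (.leaf 3) (.leaf 3))))) (.node (.node (.node (.node (.leaf 3) (.leaf 0)) (.node (.leaf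 0) (.leaf 3))) (.node (.node (.leaf 3) (.leaf 0)) (.node (.leaf 0) (.leaf 3)))) (.node (.node (.node (.leaf 0) (.leaf 3)) (.node (.leaf 3) (.leaf 0))) (.node (.node (.leaf 3) (.leaf 3)) (.node (.leaf 3) (.leaf 3)))))))

def twoKind42 : Janko.Tree (ℕ) :=
  (.node (.node (.node (.node (.node (.node (.node (.leaf 3) (.leaf 3)) (.leaf 3)) (.node (.leaf 3) (.leaf 3))) (.node (.node (.leaf 3) (.leaf 3)) (.node (.leaf 3) (.leaf 3)))) (.node (.node (.node (.leaf 3) (.leaf 3)) (.node (.leaf 3) (.leaf 3))) (.node (.node (.leaf 0) (.leaf 3)) (.node (.leaf 0) (.leaf 3))))) (.node (.node (.node (.node (.leaf 3) (.leaf 3)) (.node (.leaf 3) (.leaf 3))) (.node (.node (.leaf 0) (.leaf 3)) (.node (.leaf 3) (.leaf 3)))) (.node (.node (.node (.leaf 0) (.leaf 0)) (.node (.leaf 0) (.leaf 3))) (.node (.node (.leaf 3) (.leaf 3)) (.node (.leaf 3) (.leaf 3)))))) (.node (.node (.node (.node (.node (.leaf 3) (.leaf 3)) (.node (.leaf 3) (.leaf 3))) (.node (.node (.leaf 3) (.leaf 3)) (.node (.leaf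 3) (.leaf 3)))) (.node (.node (.node (.leaf 0) (.leaf 3)) (.node (.leaf 3) (.leaf 3))) (.node (.node (.leaf 3) (.leaf 3)) (.node (.leaf 0) (.leaf 3))))) (.node (.node (.node (.node (.leaf 3) (.leaf 3)) (.node (.leaf 3) (.leaf 0))) (.node (.node (.leaf 3) (.leaf 3)) (.node (.leaf 3) (.leaf 3)))) (.node (.node (.node (.leaf 3) (.leaf 0)) (.node (.leaf 3) (.leaf 3))) (.node (.node (.leaf 3) (.leaf 3)) (.node (.leaf 3) (.leaf 3)))))))

def twoKind43 : Janko.Tree (ℕ) :=
  (.node (.node (.node (.node (.node (.node (.node (.leaf 3) (.leaf 3)) (.leaf 3)) (.node (.leaf 0) (.leaf 0))) (.node (.node (.leaf 3) (.leaf 0)) (.node (.leaf 3) (.leaf 3)))) (.node (.node (.node (.leaf 0) (.leaf 0)) (.node (.leaf 0) (.leaf 3))) (.node (.node (.leaf 0) (.leaf 3)) (.node (.leaf 0) (.leaf 3))))) (.node (.node (.node (.node (.leaf 0) (.leaf 3)) (.node (.leaf 0) (.leaf 3))) (.node (.node (.leaf 0) (.leaf 0)) (.node (.leaf 3) (.leaf 3)))) (.node (.node (.node (.leaf 0) (.leaf 3)) (.node (.leaf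 0) (.leaf 3))) (.node (.node (.leaf 0) (.leaf 3)) (.node (.leaf 3) (.leaf 3)))))) (.node (.node (.node (.node (.node (.leaf 3) (.leaf 0)) (.node (.leaf 0) (.leaf 3))) (.node (.node (.leaf 0) (.leaf 3)) (.node (.leaf 3) (.leaf 3)))) (.node (.node (.node (.leaf 0) (.leaf 3)) (.node (.leaf 0) (.leaf 3))) (.node (.node (.leaf 3) (.leaf 3)) (.node (.leaf 0) (.leaf 3))))) (.node (.node (.node (.node (.leaf 0) (.leaf 3)) (.node (.leaf 3) (.leaf 3))) (.node (.node (.leaf 0) (.leaf 3)) (.node (.leaf 0) (.leaf 3)))) (.node (.node (.node (.leaf 3) (.leaf 0)) (.node (.leaf 0) (.leaf 3))) (.node (.node (.leaf 3) (.leaf 3)) (.node (.leaf 3) (.leaf 3)))))))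

def twoKind44 : Janko.Tree (ℕ) :=
  (.node (.node (.node (.node (.node (.node (.node (.leaf 0) (.leaf 3)) (.leaf 0)) (.node (.leaf 3) (.leaf 3))) (.node (.node (.leaf 3) (.leaf 3)) (.node (.leaf 3) (.leaf 3)))) (.node (.node (.node (.leaf 3) (.leaf 3)) (.node (.leaf 3) (.leaf 3))) (.node (.node (.leaf 3) (.leaf 3)) (.node (.leaf 3) (.leaf 3))))) (.node (.node (.node (.node (.leaf 3) (.leaf 3)) (.node (.leaf 3) (.leaf 3))) (.node (.node (.leaf 3) (.leaf 3)) (.node (.leaf 3) (.leaf 3)))) (.node (.node (.node (.leaf 3) (.leaf 3)) (.node (.leaf 3) (.leaf 3))) (.node (.node (.leaf 3) (.leaf 3)) (.node (.leaf 3) (.leaf 3)))))) (.node (.node (.node (.node (.node (.leaf 0) (.leaf 3)) (.node (.leaf 3) (.leaf 3))) (.node (.node (.leaf 3) (.leaf 3)) (.node (.leaf 3) (.leaf 3)))) (.node (.node (.node (.leaf 3) (.leaf 3)) (.node (.leaf 3) (.leaf 3))) (.node (.node (.leaf 3) (.leaf 0)) (.node (.leaf 3) (.leaf 3))))) (.node (.node (.node (.node (.leaf 3) (.leaf 3)) (.node (.leaf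 0) (.leaf 3))) (.node (.node (.leaf 3) (.leaf 0)) (.node (.leaf 3) (.leaf 3)))) (.node (.node (.node (.leaf 3) (.leaf 3)) (.node (.leaf 3) (.leaf 3))) (.node (.node (.leaf 3) (.leaf 3)) (.node (.leaf 3) (.leaf 3)))))))

def twoKind45 : Janko.Tree (ℕ) :=
  (.node (.node (.node (.node (.node (.node (.node (.leaf 3) (.leaf 3)) (.leaf 3)) (.node (.leaf 0) (.leaf 0))) (.node (.node (.leaf 3) (.leaf 3)) (.node (.leaf 0) (.leaf 3)))) (.node (.node (.node (.leaf 3) (.leaf 3)) (.node (.leaf 3) (.leaf 3))) (.node (.node (.leaf 0) (.leaf 0)) (.node (.leaf 0) (.leaf 3))))) (.node (.node (.node (.node (.leaf 0) (.leaf 0)) (.node (.leaf 0) (.leaf 3))) (.node (.node (.leaf 0) (.leaf 0)) (.node (.leaf 3) (.leaf 3)))) (.node (.node (.node (.leaf 0) (.leaf 3)) (.node (.leaf 0) (.leaf 3))) (.node (.node (.leaf 0) (.leaf 3)) (.node (.leaf 3) (.leaf 0)))))) (.node (.node (.node (.node (.node (.leaf 3) (.leaf 0)) (.node (.leaf 3) (.leaf 0))) (.node (.node (.leaf 3) (.leaf 0)) (.node (.leaf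 0) (.leaf 0)))) (.node (.node (.node (.leaf 0) (.leaf 0)) (.node (.leaf 3) (.leaf 3))) (.node (.node (.leaf 0) (.leaf 3)) (.node (.leaf 3) (.leaf 3))))) (.node (.node (.node (.node (.leaf 0) (.leaf 3)) (.node (.leaf 3) (.leaf 3))) (.node (.node (.leaf 0) (.leaf 3)) (.node (.leaf 3) (.leaf 3)))) (.node (.node (.node (.leaf 0) (.leaf 0)) (.node (.leaf 3) (.leaf 0))) (.node (.node (.leaf 3) (.leaf 3)) (.node (.leaf 0) (.leaf 3)))))))

def twoKind46 : Janko.Tree (ℕ) :=
  (.node (.node (.node (.node (.node (.node (.node (.leaf 0) (.leaf 3)) (.leaf 0)) (.node (.leaf 3) (.leaf 3))) (.node (.node (.leaf 0) (.leaf 3)) (.node (.leaf 3) (.leaf 3)))) (.node (.node (.node (.leaf 3) (.leaf 3)) (.node (.leaf 3) (.leaf 3))) (.node (.node (.leaf 3) (.leaf 3)) (.node (.leaf 3) (.leaf 3))))) (.node (.node (.node (.node (.leaf 3) (.leaf 3)) (.node (.leaf 3) (.leaf 3))) (.node (.node (.leaf 3) (.leaf 3)) (.node (.leaf 3) (.leaf 3)))) (.node (.node (.node (.leaf 3) (.leaf 3)) (.node (.leaf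 3) (.leaf 3))) (.node (.node (.leaf 3) (.leaf 3)) (.node (.leaf 3) (.leaf 3)))))) (.node (.node (.node (.node (.node (.leaf 0) (.leaf 3)) (.node (.leaf 3) (.leaf 3))) (.node (.node (.leaf 3) (.leaf 3)) (.node (.leaf 3) (.leaf 3)))) (.node (.node (.node (.leaf 3) (.leaf 3)) (.node (.leaf 3) (.leaf 3))) (.node (.node (.leaf 3) (.leaf 0)) (.node (.leaf 0) (.leaf 3))))) (.node (.node (.node (.node (.leaf 3) (.leaf 3)) (.node (.leaf 0) (.leaf 3))) (.node (.node (.leaf 3) (.leaf 0)) (.node (.leaf 3) (.leaf 3)))) (.node (.node (.node (.leaf 3) (.leaf 3)) (.node (.leaf 3) (.leaf 3))) (.node (.node (.leaf 0) (.leaf 3)) (.node (.leaf 3) (.leaf 3)))))))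

def twoKind47 : Janko.Tree (ℕ) :=
  (.node (.node (.node (.node (.node (.node (.node (.leaf 0) (.leaf 3)) (.leaf 0)) (.node (.leaf 3) (.leaf 3))) (.node (.node (.leaf 0) (.leaf 3)) (.node (.leaf 0) (.leaf 3)))) (.node (.node (.node (.leaf 3) (.leaf 3)) (.node (.leaf 3) (.leaf 3))) (.node (.node (.leaf 0) (.leaf 3)) (.node (.leaf 0) (.leaf 3))))) (.node (.node (.node (.node (.leaf 3) (.leaf 3)) (.node (.leaf 3) (.leaf 3))) (.node (.node (.leaf 3) (.leaf 3)) (.node (.leaf 3) (.leaf 3)))) (.node (.node (.node (.leaf 3) (.leaf 0)) (.node (.leaf 3) (.leaf 3))) (.node (.node (.leaf 3) (.leaf 3)) (.node (.leaf 0) (.leaf 3)))))) (.node (.node (.node (.node (.node (.leaf 0) (.leaf 0)) (.node (.leaf 3) (.leaf 3))) (.node (.node (.leaf 3) (.leaf 0)) (.node (.leaf 3) (.leaf 3)))) (.node (.node (.node (.leaf 3) (.leaf 3)) (.node (.leaf 3) (.leaf 0))) (.node (.node (.leaf 0) (.leaf 0)) (.node (.leaf 3) (.leaf 3))))) (.node (.node (.node (.node (.leaf 3) (.leaf 3)) (.node (.leaf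 0) (.leaf 0))) (.node (.node (.leaf 3) (.leaf 0)) (.node (.leaf 3) (.leaf 3)))) (.node (.node (.node (.leaf 3) (.leaf 0)) (.node (.leaf 3) (.leaf 3))) (.node (.node (.leaf 0) (.leaf 3)) (.node (.leaf 3) (.leaf 3)))))))

def twoKind48 : Janko.Tree (ℕ) :=
  (.node (.node (.node (.node (.node (.node (.node (.leaf 3) (.leaf 3)) (.leaf 3)) (.node (.leaf 3) (.leaf 3))) (.node (.node (.leaf 3) (.leaf 3)) (.node (.leaf 3) (.leaf 3)))) (.node (.node (.node (.leaf 3) (.leaf 3)) (.node (.leaf 0) (.leaf 3))) (.node (.node (.leaf 3) (.leaf 3)) (.node (.leaf 3) (.leaf 3))))) (.node (.node (.node (.node (.leaf 0) (.leaf 3)) (.node (.leaf 3) (.leaf 3))) (.node (.node (.leaf 3) (.leaf 0)) (.node (.leaf 3) (.leaf 3)))) (.node (.node (.node (.leaf 0) (.leaf 3)) (.node (.leaf 3) (.leaf 3))) (.node (.node (.leaf 0) (.leaf 3)) (.node (.leaf 3) (.leaf 3)))))) (.node (.node (.node (.node (.node (.leaf 3) (.leaf 3)) (.node (.leaf 3) (.leaf 3))) (.node (.node (.leaf 3) (.leaf 3)) (.node (.leaf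 0) (.leaf 3)))) (.node (.node (.node (.leaf 3) (.leaf 3)) (.node (.leaf 3) (.leaf 3))) (.node (.node (.leaf 3) (.leaf 3)) (.node (.leaf 3) (.leaf 3))))) (.node (.node (.node (.node (.leaf 3) (.leaf 3)) (.node (.leaf 3) (.leaf 3))) (.node (.node (.leaf 0) (.leaf 3)) (.node (.leaf 3) (.leaf 3)))) (.node (.node (.node (.leaf 0) (.leaf 3)) (.node (.leaf 3) (.leaf 3))) (.node (.node (.leaf 3) (.leaf 3)) (.node (.leaf 0) (.leaf 3)))))))

def twoKind49 : Janko.Tree (ℕ) :=
  (.node (.node (.node (.node (.node (.node (.node (.leaf 0) (.leaf 3)) (.leaf 3)) (.node (.leaf 0) (.leaf 3))) (.node (.node (.leaf 0) (.leaf 0)) (.node (.leaf 0) (.leaf 3)))) (.node (.node (.node (.leaf 3) (.leaf 3)) (.node (.leaf 3) (.leaf 3))) (.node (.node (.leaf 3) (.leaf 3)) (.node (.leaf 3) (.leaf 3))))) (.node (.node (.node (.node (.leaf 3) (.leaf 3)) (.node (.leaf 3) (.leaf 3))) (.node (.node (.leaf 3) (.leaf 3)) (.node (.leaf 0) (.leaf 3)))) (.node (.node (.node (.leaf 3) (.leaf 3)) (.node (.leaf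 3) (.leaf 0))) (.node (.node (.leaf 3) (.leaf 3)) (.node (.leaf 0) (.leaf 3)))))) (.node (.node (.node (.node (.node (.leaf 0) (.leaf 3)) (.node (.leaf 3) (.leaf 3))) (.node (.node (.leaf 0) (.leaf 3)) (.node (.leaf 3) (.leaf 3)))) (.node (.node (.node (.leaf 3) (.leaf 3)) (.node (.leaf 0) (.leaf 0))) (.node (.node (.leaf 0) (.leaf 3)) (.node (.leaf 0) (.leaf 0))))) (.node (.node (.node (.node (.leaf 0) (.leaf 3)) (.node (.leaf 0) (.leaf 3))) (.node (.node (.leaf 3) (.leaf 0)) (.node (.leaf 3) (.leaf 0)))) (.node (.node (.node (.leaf 3) (.leaf 3)) (.node (.leaf 0) (.leaf 3))) (.node (.node (.leaf 0) (.leaf 0)) (.node (.leaf 3) (.leaf 3)))))))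

def twoKind50 : Janko.Tree (ℕ) :=
  (.node (.node (.node (.node (.node (.node (.node (.leaf 3) (.leaf 3)) (.leaf 3)) (.node (.leaf 0) (.leaf 3))) (.node (.node (.leaf 3) (.leaf 3)) (.node (.leaf 3) (.leaf 0)))) (.node (.node (.node (.leaf 3) (.leaf 0)) (.node (.leaf 3) (.leaf 3))) (.node (.node (.leaf 3) (.leaf 3)) (.node (.leaf 3) (.leaf 3))))) (.node (.node (.node (.node (.leaf 3) (.leaf 0)) (.node (.leaf 0) (.leaf 3))) (.node (.node (.leaf 0) (.leaf 3)) (.node (.leaf 3) (.leaf 3)))) (.node (.node (.node (.leaf 3) (.leaf 3)) (.node (.leaf 3) (.leaf 3))) (.node (.node (.leaf 3) (.leaf 3)) (.node (.leaf 3) (.leaf 3)))))) (.node (.node (.node (.node (.node (.leaf 0) (.leaf 3)) (.node (.leaf 3) (.leaf 3))) (.node (.node (.leaf 3) (.leaf 3)) (.node (.leaf 0) (.leaf 3)))) (.node (.node (.node (.leaf 0) (.leaf 3)) (.node (.leaf 3) (.leaf 3))) (.node (.node (.leaf 3) (.leaf 3)) (.node (.leaf 3) (.leaf 3))))) (.node (.node (.node (.node (.leaf 3) (.leaf 3)) (.node (.leaf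 3) (.leaf 3))) (.node (.node (.leaf 3) (.leaf 3)) (.node (.leaf 3) (.leaf 3)))) (.node (.node (.node (.leaf 0) (.leaf 3)) (.node (.leaf 3) (.leaf 3))) (.node (.node (.leaf 3) (.leaf 3)) (.node (.leaf 3) (.leaf 3)))))))

def twoKind51 : Janko.Tree (ℕ) :=
  (.node (.node (.node (.node (.node (.node (.node (.leaf 3) (.leaf 3)) (.leaf 3)) (.node (.leaf 0) (.leaf 3))) (.node (.node (.leaf 3) (.leaf 3)) (.node (.leaf 0) (.leaf 0)))) (.node (.node (.node (.leaf 0) (.leaf 0)) (.node (.leaf 0) (.leaf 0))) (.node (.node (.leaf 3) (.leaf 0)) (.node (.leaf 3) (.leaf 3))))) (.node (.node (.node (.node (.leaf 3) (.leaf 0)) (.node (.leaf 3) (.leaf 0))) (.node (.node (.leaf 0) (.leaf 0)) (.node (.leaf 3) (.leaf 3)))) (.node (.node (.node (.leaf 3) (.leaf 3)) (.node (.leaf 0) (.leaf 3))) (.node (.node (.leaf 0) (.leaf 3)) (.node (.leaf 3) (.leaf 3)))))) (.node (.node (.node (.node (.node (.leaf 0) (.leaf 3)) (.node (.leaf 0) (.leaf 3))) (.node (.node (.leaf 0) (.leaf 3)) (.node (.leaf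 0) (.leaf 3)))) (.node (.node (.node (.leaf 0) (.leaf 3)) (.node (.leaf 3) (.leaf 3))) (.node (.node (.leaf 3) (.leaf 0)) (.node (.leaf 0) (.leaf 3))))) (.node (.node (.node (.node (.leaf 0) (.leaf 3)) (.node (.leaf 3) (.leaf 3))) (.node (.node (.leaf 0) (.leaf 3)) (.node (.leaf 0) (.leaf 3)))) (.node (.node (.node (.leaf 0) (.leaf 3)) (.node (.leaf 3) (.leaf 3))) (.node (.node (.leaf 0) (.leaf 3)) (.node (.leaf 3) (.leaf 0)))))))

def twoKind52 : Janko.Tree (ℕ) :=
  (.node (.node (.node (.node (.node (.node (.node (.leaf 0) (.leaf 3)) (.leaf 3)) (.node (.leaf 3) (.leaf 3))) (.node (.node (.leaf 3) (.leaf 3)) (.node (.leaf 3) (.leaf 3)))) (.node (.node (.node (.leaf 3) (.leaf 3)) (.node (.leaf 3) (.leaf 3))) (.node (.node (.leaf 3) (.leaf 3)) (.node (.leaf 3) (.leaf 3))))) (.node (.node (.node (.node (.leaf 0) (.leaf 3)) (.node (.leaf 3) (.leaf 3))) (.node (.node (.leaf 0) (.leaf 3)) (.node (.leaf 0) (.leaf 3)))) (.node (.node (.node (.leaf 3) (.leaf 3)) (.node (.leaf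 3) (.leaf 3))) (.node (.node (.leaf 3) (.leaf 3)) (.node (.leaf 3) (.leaf 3)))))) (.node (.node (.node (.node (.node (.leaf 3) (.leaf 3)) (.node (.leaf 3) (.leaf 3))) (.node (.node (.leaf 3) (.leaf 3)) (.node (.leaf 3) (.leaf 3)))) (.node (.node (.node (.leaf 3) (.leaf 3)) (.node (.leaf 0) (.leaf 3))) (.node (.node (.leaf 3) (.leaf 3)) (.node (.leaf 3) (.leaf 3))))) (.node (.node (.node (.node (.leaf 3) (.leaf 3)) (.node (.leaf 3) (.leaf 3))) (.node (.node (.leaf 3) (.leaf 3)) (.node (.leaf 3) (.leaf 3)))) (.node (.node (.node (.leaf 0) (.leaf 0)) (.node (.leaf 0) (.leaf 3))) (.node (.node (.leaf 3) (.leaf 0)) (.node (.leaf 3) (.leaf 3)))))))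

def twoKind53 : Janko.Tree (ℕ) :=
  (.node (.node (.node (.node (.node (.node (.node (.leaf 3) (.leaf 3)) (.leaf 3)) (.node (.leaf 0) (.leaf 3))) (.node (.node (.leaf 0) (.leaf 3)) (.node (.leaf 3) (.leaf 3)))) (.node (.node (.node (.leaf 0) (.leaf 0)) (.node (.leaf 3) (.leaf 3))) (.node (.node (.leaf 3) (.leaf 3)) (.node (.leaf 3) (.leaf 3))))) (.node (.node (.node (.node (.leaf 3) (.leaf 0)) (.node (.leaf 0) (.leaf 0))) (.node (.node (.leaf 3) (.leaf 3)) (.node (.leaf 3) (.leaf 3)))) (.node (.node (.node (.leaf 0) (.leaf 3)) (.node (.leaf 0) (.leaf 3))) (.node (.node (.leaf 3) (.leaf 0)) (.node (.leaf 0) (.leaf 3)))))) (.node (.node (.node (.node (.node (.leaf 3) (.leaf 3)) (.node (.leaf 0) (.leaf 3))) (.node (.node (.leaf 0) (.leaf 3)) (.node (.leaf 3) (.leaf 0)))) (.node (.node (.node (.leaf 0) (.leaf 3)) (.node (.leaf 3) (.leaf 3))) (.node (.node (.leaf 3) (.leaf 0)) (.node (.leaf 3) (.leaf 3))))) (.node (.node (.node (.node (.leaf 0) (.leaf 0)) (.node (.leaf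 0) (.leaf 3))) (.node (.node (.leaf 3) (.leaf 3)) (.node (.leaf 3) (.leaf 3)))) (.node (.node (.node (.leaf 3) (.leaf 3)) (.node (.leaf 3) (.leaf 3))) (.node (.node (.leaf 3) (.leaf 3)) (.node (.leaf 3) (.leaf 0)))))))

def twoKind54 : Janko.Tree (ℕ) :=
  (.node (.node (.node (.node (.node (.node (.node (.leaf 0) (.leaf 3)) (.leaf 0)) (.node (.leaf 3) (.leaf 3))) (.node (.node (.leaf 3) (.leaf 3)) (.node (.leaf 3) (.leaf 3)))) (.node (.node (.node (.leaf 3) (.leaf 3)) (.node (.leaf 3) (.leaf 3))) (.node (.node (.leaf 0) (.leaf 3)) (.node (.leaf 0) (.leaf 3))))) (.node (.node (.node (.node (.leaf 0) (.leaf 3)) (.node (.leaf 3) (.leaf 3))) (.node (.node (.leaf 0) (.leaf 3)) (.node (.leaf 0) (.leaf 0)))) (.node (.node (.node (.leaf 3) (.leaf 0)) (.node (.leaf 3) (.leaf 0))) (.node (.node (.leaf 3) (.leaf 3)) (.node (.leaf 3) (.leaf 3)))))) (.node (.node (.node (.node (.node (.leaf 3) (.leaf 3)) (.node (.leaf 3) (.leaf 3))) (.node (.node (.leaf 3) (.leaf 3)) (.node (.leaf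 3) (.leaf 3)))) (.node (.node (.node (.leaf 3) (.leaf 0)) (.node (.leaf 0) (.leaf 3))) (.node (.node (.leaf 3) (.leaf 3)) (.node (.leaf 3) (.leaf 3))))) (.node (.node (.node (.node (.leaf 3) (.leaf 3)) (.node (.leaf 3) (.leaf 0))) (.node (.node (.leaf 3) (.leaf 3)) (.node (.leaf 3) (.leaf 3)))) (.node (.node (.node (.leaf 0) (.leaf 3)) (.node (.leaf 0) (.leaf 3))) (.node (.node (.leaf 3) (.leaf 0)) (.node (.leaf 0) (.leaf 3)))))))

def twoKind55 : Janko.Tree (ℕ) :=
  (.node (.node (.node (.node (.node (.node (.node (.leaf 0) (.leaf 3)) (.leaf 3)) (.node (.leaf 0) (.leaf 3))) (.node (.node (.leaf 3) (.leaf 0)) (.node (.leaf 3) (.leaf 3)))) (.node (.node (.node (.leaf 3) (.leaf 3)) (.node (.leaf 3) (.leaf 0))) (.node (.node (.leaf 3) (.leaf 3)) (.node (.leaf 0) (.leaf 3))))) (.node (.node (.node (.node (.leaf 0) (.leaf 3)) (.node (.leaf 0) (.leaf 3))) (.node (.node (.leaf 0) (.leaf 3)) (.node (.leaf 0) (.leaf 3)))) (.node (.node (.node (.leaf 3) (.leaf 0)) (.node (.leaf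 3) (.leaf 3))) (.node (.node (.leaf 3) (.leaf 3)) (.node (.leaf 0) (.leaf 3)))))) (.node (.node (.node (.node (.node (.leaf 0) (.leaf 0)) (.node (.leaf 3) (.leaf 3))) (.node (.node (.leaf 3) (.leaf 3)) (.node (.leaf 0) (.leaf 3)))) (.node (.node (.node (.leaf 3) (.leaf 3)) (.node (.leaf 0) (.leaf 3))) (.node (.node (.leaf 0) (.leaf 0)) (.node (.leaf 3) (.leaf 3))))) (.node (.node (.node (.node (.leaf 3) (.leaf 3)) (.node (.leaf 3) (.leaf 0))) (.node (.node (.leaf 3) (.leaf 3)) (.node (.leaf 3) (.leaf 3)))) (.node (.node (.node (.leaf 0) (.leaf 0)) (.node (.leaf 0) (.leaf 3))) (.node (.node (.leaf 3) (.leaf 0)) (.node (.leaf 3) (.leaf 3)))))))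

def twoKind56 : Janko.Tree (ℕ) :=
  (.node (.node (.node (.node (.node (.node (.node (.leaf 3) (.leaf 3)) (.leaf 3)) (.node (.leaf 3) (.leaf 3))) (.node (.node (.leaf 0) (.leaf 3)) (.node (.leaf 3) (.leaf 3)))) (.node (.node (.node (.leaf 3) (.leaf 3)) (.node (.leaf 3) (.leaf 3))) (.node (.node (.leaf 3) (.leaf 3)) (.node (.leaf 3) (.leaf 3))))) (.node (.node (.node (.node (.leaf 3) (.leaf 3)) (.node (.leaf 3) (.leaf 3))) (.node (.node (.leaf 3) (.leaf 3)) (.node (.leaf 3) (.leaf 3)))) (.node (.node (.node (.leaf 3) (.leaf 3)) (.node (.leaf 3) (.leaf 3))) (.node (.node (.leaf 3) (.leaf 3)) (.node (.leaf 3) (.leaf 3)))))) (.node (.node (.node (.node (.node (.leaf 3) (.leaf 3)) (.node (.leaf 0) (.leaf 3))) (.node (.node (.leaf 3) (.leaf 3)) (.node (.leaf 3) (.leaf 3)))) (.node (.node (.node (.leaf 0) (.leaf 3)) (.node (.leaf 3) (.leaf 3))) (.node (.node (.leaf 3) (.leaf 3)) (.node (.leaf 3) (.leaf 3))))) (.node (.node (.node (.node (.leaf 3) (.leaf 3)) (.node (.leaf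 3) (.leaf 3))) (.node (.node (.leaf 3) (.leaf 3)) (.node (.leaf 3) (.leaf 3)))) (.node (.node (.node (.leaf 3) (.leaf 3)) (.node (.leaf 3) (.leaf 3))) (.node (.node (.leaf 0) (.leaf 3)) (.node (.leaf 3) (.leaf 3)))))))

def twoKind57 : Janko.Tree (ℕ) :=
  (.node (.node (.node (.node (.node (.node (.node (.leaf 0) (.leaf 3)) (.leaf 0)) (.node (.leaf 3) (.leaf 3))) (.node (.node (.leaf 3) (.leaf 0)) (.node (.leaf 3) (.leaf 3)))) (.node (.node (.node (.leaf 0) (.leaf 3)) (.node (.leaf 0) (.leaf 3))) (.node (.node (.leaf 0) (.leaf 0)) (.node (.leaf 0) (.leaf 3))))) (.node (.node (.node (.node (.leaf 0) (.leaf 3)) (.node (.leaf 3) (.leaf 0))) (.node (.node (.leaf 0) (.leaf 3)) (.node (.leaf 0) (.leaf 3)))) (.node (.node (.node (.leaf 0) (.leaf 0)) (.node (.leaf 0) (.leaf 0))) (.node (.node (.leaf 0) (.leaf 3)) (.node (.leaf 3) (.leaf 3)))))) (.node (.node (.node (.node (.node (.leaf 0) (.leaf 0)) (.node (.leaf 3) (.leaf 0))) (.node (.node (.leaf 3) (.leaf 0)) (.node (.leaf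 3) (.leaf 3)))) (.node (.node (.node (.leaf 3) (.leaf 3)) (.node (.leaf 3) (.leaf 3))) (.node (.node (.leaf 3) (.leaf 3)) (.node (.leaf 0) (.leaf 3))))) (.node (.node (.node (.node (.leaf 3) (.leaf 3)) (.node (.leaf 3) (.leaf 0))) (.node (.node (.leaf 0) (.leaf 0)) (.node (.leaf 3) (.leaf 0)))) (.node (.node (.node (.leaf 0) (.leaf 3)) (.node (.leaf 0) (.leaf 3))) (.node (.node (.leaf 3) (.leaf 0)) (.node (.leaf 0) (.leaf 3)))))))

def twoKind58 : Janko.Tree (ℕ) :=
  (.node (.node (.node (.node (.node (.node (.node (.leaf 0) (.leaf 3)) (.leaf 3)) (.node (.leaf 3) (.leaf 3))) (.node (.node (.leaf 3) (.leaf 3)) (.node (.leaf 3) (.leaf 3)))) (.node (.node (.node (.leaf 3) (.leaf 3)) (.node (.leaf 3) (.leaf 3))) (.node (.node (.leaf 3) (.leaf 3)) (.node (.leaf 3) (.leaf 3))))) (.node (.node (.node (.node (.leaf 3) (.leaf 0)) (.node (.leaf 3) (.leaf 3))) (.node (.node (.leaf 0) (.leaf 3)) (.node (.leaf 0) (.leaf 3)))) (.node (.node (.node (.leaf 3) (.leaf 3)) (.node (.leaf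 3) (.leaf 3))) (.node (.node (.leaf 3) (.leaf 3)) (.node (.leaf 3) (.leaf 3)))))) (.node (.node (.node (.node (.node (.leaf 3) (.leaf 3)) (.node (.leaf 0) (.leaf 3))) (.node (.node (.leaf 3) (.leaf 3)) (.node (.leaf 3) (.leaf 3)))) (.node (.node (.node (.leaf 3) (.leaf 3)) (.node (.leaf 3) (.leaf 3))) (.node (.node (.leaf 3) (.leaf 3)) (.node (.leaf 3) (.leaf 3))))) (.node (.node (.node (.node (.leaf 3) (.leaf 0)) (.node (.leaf 3) (.leaf 3))) (.node (.node (.leaf 3) (.leaf 3)) (.node (.leaf 0) (.leaf 3)))) (.node (.node (.node (.leaf 0) (.leaf 3)) (.node (.leaf 3) (.leaf 3))) (.node (.node (.leaf 3) (.leaf 3)) (.node (.leaf 3) (.leaf 3)))))))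

def twoKind59 : Janko.Tree (ℕ) :=
  (.node (.node (.node (.node (.node (.node (.node (.leaf 0) (.leaf 3)) (.leaf 0)) (.node (.leaf 3) (.leaf 3))) (.node (.node (.leaf 3) (.leaf 3)) (.node (.leaf 3) (.leaf 3)))) (.node (.node (.node (.leaf 3) (.leaf 3)) (.node (.leaf 3) (.leaf 3))) (.node (.node (.leaf 3) (.leaf 3)) (.node (.leaf 0) (.leaf 3))))) (.node (.node (.node (.node (.leaf 3) (.leaf 3)) (.node (.leaf 3) (.leaf 3))) (.node (.node (.leaf 0) (.leaf 3)) (.node (.leaf 3) (.leaf 3)))) (.node (.node (.node (.leaf 3) (.leaf 3)) (.node (.leaf 0) (.leaf 3))) (.node (.node (.leaf 0) (.leaf 3)) (.node (.leaf 3) (.leaf 3)))))) (.node (.node (.node (.node (.node (.leaf 3) (.leaf 3)) (.node (.leaf 0) (.leaf 0))) (.node (.node (.leaf 0) (.leaf 3)) (.node (.leaf 3) (.leaf 3)))) (.node (.node (.node (.leaf 3) (.leaf 3)) (.node (.leaf 3) (.leaf 3))) (.node (.node (.leaf 3) (.leaf 3)) (.node (.leaf 3) (.leaf 3))))) (.node (.node (.node (.node (.leaf 0) (.leaf 3)) (.node (.leaf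 3) (.leaf 3))) (.node (.node (.leaf 0) (.leaf 3)) (.node (.leaf 3) (.leaf 3)))) (.node (.node (.node (.leaf 0) (.leaf 3)) (.node (.leaf 3) (.leaf 3))) (.node (.node (.leaf 0) (.leaf 3)) (.node (.leaf 0) (.leaf 3)))))))

def twoKind60 : Janko.Tree (ℕ) :=
  (.node (.node (.node (.node (.node (.node (.node (.leaf 3) (.leaf 3)) (.leaf 3)) (.node (.leaf 3) (.leaf 3))) (.node (.node (.leaf 3) (.leaf 0)) (.node (.leaf 3) (.leaf 3)))) (.node (.node (.node (.leaf 0) (.leaf 3)) (.node (.leaf 0) (.leaf 3))) (.node (.node (.leaf 0) (.leaf 3)) (.node (.leaf 3) (.leaf 3))))) (.node (.node (.node (.node (.leaf 0) (.leaf 3)) (.node (.leaf 0) (.leaf 3))) (.node (.node (.leaf 3) (.leaf 3)) (.node (.leaf 3) (.leaf 3)))) (.node (.node (.node (.leaf 0) (.leaf 3)) (.node (.leaf 3) (.leaf 3))) (.node (.node (.leaf 3) (.leaf 3)) (.node (.leaf 3) (.leaf 3)))))) (.node (.node (.node (.node (.node (.leaf 0) (.leaf 0)) (.node (.leaf 3) (.leaf 3))) (.node (.node (.leaf 3) (.leaf 0)) (.node (.leaf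 3) (.leaf 3)))) (.node (.node (.node (.leaf 3) (.leaf 3)) (.node (.leaf 3) (.leaf 3))) (.node (.node (.leaf 3) (.leaf 3)) (.node (.leaf 0) (.leaf 3))))) (.node (.node (.node (.node (.leaf 3) (.leaf 0)) (.node (.leaf 3) (.leaf 3))) (.node (.node (.leaf 3) (.leaf 3)) (.node (.leaf 3) (.leaf 3)))) (.node (.node (.node (.leaf 3) (.leaf 3)) (.node (.leaf 3) (.leaf 3))) (.node (.node (.leaf 3) (.leaf 3)) (.node (.leaf 3) (.leaf 3)))))))

def twoKind61 : Janko.Tree (ℕ) :=
  (.node (.node (.node (.node (.node (.node (.node (.leaf 0) (.leaf 3)) (.leaf 3)) (.node (.leaf 3) (.leaf 0))) (.node (.node (.leaf 0) (.leaf 3)) (.node (.leaf 3) (.leaf 3)))) (.node (.node (.node (.leaf 3) (.leaf 3)) (.node (.leaf 3) (.leaf 3))) (.node (.node (.leaf 3) (.leaf 0)) (.node (.leaf 3) (.leaf 3))))) (.node (.node (.node (.node (.leaf 3) (.leaf 0)) (.node (.leaf 3) (.leaf 3))) (.node (.node (.leaf 0) (.leaf 3)) (.node (.leaf 3) (.leaf 3)))) (.node (.node (.node (.leaf 3) (.leaf 0)) (.node (.leaf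 3) (.leaf 0))) (.node (.node (.leaf 0) (.leaf 0)) (.node (.leaf 3) (.leaf 3)))))) (.node (.node (.node (.node (.node (.leaf 3) (.leaf 3)) (.node (.leaf 3) (.leaf 3))) (.node (.node (.leaf 0) (.leaf 3)) (.node (.leaf 0) (.leaf 0)))) (.node (.node (.node (.leaf 0) (.leaf 3)) (.node (.leaf 0) (.leaf 3))) (.node (.node (.leaf 0) (.leaf 3)) (.node (.leaf 3) (.leaf 3))))) (.node (.node (.node (.node (.leaf 0) (.leaf 3)) (.node (.leaf 0) (.leaf 0))) (.node (.node (.leaf 0) (.leaf 3)) (.node (.leaf 0) (.leaf 3)))) (.node (.node (.node (.leaf 0) (.leaf 0)) (.node (.leaf 0) (.leaf 3))) (.node (.node (.leaf 3) (.leaf 3)) (.node (.leaf 3) (.leaf 3)))))))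

def twoKind62 : Janko.Tree (ℕ) :=
  (.node (.node (.node (.node (.node (.node (.node (.leaf 3) (.leaf 3)) (.leaf 3)) (.node (.leaf 0) (.leaf 3))) (.node (.node (.leaf 3) (.leaf 3)) (.node (.leaf 3) (.leaf 3)))) (.node (.node (.node (.leaf 0) (.leaf 3)) (.node (.leaf 0) (.leaf 3))) (.node (.node (.leaf 3) (.leaf 3)) (.node (.leaf 3) (.leaf 3))))) (.node (.node (.node (.node (.leaf 0) (.leaf 3)) (.node (.leaf 0) (.leaf 3))) (.node (.node (.leaf 3) (.leaf 0)) (.node (.leaf 3) (.leaf 3)))) (.node (.node (.node (.leaf 0) (.leaf 3)) (.node (.leaf 3) (.leaf 3))) (.node (.node (.leaf 3) (.leaf 0)) (.node (.leaf 3) (.leaf 3)))))) (.node (.node (.node (.node (.node (.leaf 0) (.leaf 3)) (.node (.leaf 0) (.leaf 3))) (.node (.node (.leaf 3) (.leaf 0)) (.node (.leaf 3) (.leaf 3)))) (.node (.node (.node (.leaf 3) (.leaf 3)) (.node (.leaf 0) (.leaf 3))) (.node (.node (.leaf 3) (.leaf 3)) (.node (.leaf 0) (.leaf 3))))) (.node (.node (.node (.node (.leaf 3) (.leaf 0)) (.node (.leaf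 3) (.leaf 3))) (.node (.node (.leaf 3) (.leaf 0)) (.node (.leaf 3) (.leaf 3)))) (.node (.node (.node (.leaf 3) (.leaf 3)) (.node (.leaf 3) (.leaf 0))) (.node (.node (.leaf 3) (.leaf 3)) (.node (.leaf 3) (.leaf 3)))))))

def twoKind63 : Janko.Tree (ℕ) :=
  (.node (.node (.node (.node (.node (.node (.node (.leaf 0) (.leaf 3)) (.leaf 0)) (.node (.leaf 0) (.leaf 3))) (.node (.node (.leaf 0) (.leaf 0)) (.node (.leaf 0) (.leaf 3)))) (.node (.node (.node (.leaf 0) (.leaf 0)) (.node (.leaf 0) (.leaf 3))) (.node (.node (.leaf 0) (.leaf 0)) (.node (.leaf 3) (.leaf 3))))) (.node (.node (.node (.node (.leaf 0) (.leaf 3)) (.node (.leaf 0) (.leaf 3))) (.node (.node (.leaf 0) (.leaf 3)) (.node (.leaf 3) (.leaf 3)))) (.node (.node (.node (.leaf 0) (.leaf 3)) (.node (.leaf 3) (.leaf 3))) (.node (.node (.leaf 3) (.leaf 3)) (.node (.leaf 0) (.leaf 3)))))) (.node (.node (.node (.node (.node (.leaf 0) (.leaf 0)) (.node (.leaf 3) (.leaf 3))) (.node (.node (.leaf 3) (.leaf 0)) (.node (.leaf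 0) (.leaf 3)))) (.node (.node (.node (.leaf 3) (.leaf 3)) (.node (.leaf 0) (.leaf 3))) (.node (.node (.leaf 3) (.leaf 3)) (.node (.leaf 0) (.leaf 3))))) (.node (.node (.node (.node (.leaf 3) (.leaf 0)) (.node (.leaf 0) (.leaf 3))) (.node (.node (.leaf 3) (.leaf 0)) (.node (.leaf 3) (.leaf 3)))) (.node (.node (.node (.leaf 0) (.leaf 3)) (.node (.leaf 3) (.leaf 0))) (.node (.node (.leaf 3) (.leaf 3)) (.node (.leaf 3) (.leaf 3)))))))

def twoKind64 : Janko.Tree (ℕ) :=
  (.node (.node (.node (.node (.node (.node (.node (.leaf 3) (.leaf 3)) (.leaf 3)) (.node (.leaf 3) (.leaf 0))) (.node (.node (.leaf 3) (.leaf 3)) (.node (.leaf 3) (.leaf 3)))) (.node (.node (.node (.leaf 3) (.leaf 3)) (.node (.leaf 3) (.leaf 3))) (.node (.node (.leaf 3) (.leaf 3)) (.node (.leaf 0) (.leaf 3))))) (.node (.node (.node (.node (.leaf 3) (.leaf 3)) (.node (.leaf 3) (.leaf 3))) (.node (.node (.leaf 3) (.leaf 3)) (.node (.leaf 3) (.leaf 3)))) (.node (.node (.node (.leaf 3) (.leaf 0)) (.node (.leaf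 3) (.leaf 3))) (.node (.node (.leaf 3) (.leaf 3)) (.node (.leaf 3) (.leaf 3)))))) (.node (.node (.node (.node (.node (.leaf 3) (.leaf 3)) (.node (.leaf 3) (.leaf 3))) (.node (.node (.leaf 3) (.leaf 3)) (.node (.leaf 3) (.leaf 3)))) (.node (.node (.node (.leaf 3) (.leaf 3)) (.node (.leaf 3) (.leaf 3))) (.node (.node (.leaf 0) (.leaf 3)) (.node (.leaf 3) (.leaf 3))))) (.node (.node (.node (.node (.leaf 0) (.leaf 3)) (.node (.leaf 3) (.leaf 3))) (.node (.node (.leaf 3) (.leaf 3)) (.node (.leaf 0) (.leaf 3)))) (.node (.node (.node (.leaf 3) (.leaf 3)) (.node (.leaf 3) (.leaf 3))) (.node (.node (.leaf 3) (.leaf 3)) (.node (.leaf 3) (.leaf 3)))))))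

def twoKind65 : Janko.Tree (ℕ) :=
  (.node (.node (.node (.node (.node (.node (.node (.leaf 0) (.leaf 3)) (.leaf 3)) (.node (.leaf 0) (.leaf 3))) (.node (.node (.leaf 0) (.leaf 3)) (.node (.leaf 0) (.leaf 3)))) (.node (.node (.node (.leaf 0) (.leaf 0)) (.node (.leaf 0) (.leaf 3))) (.node (.node (.leaf 0) (.leaf 3)) (.node (.leaf 3) (.leaf 3))))) (.node (.node (.node (.node (.leaf 0) (.leaf 3)) (.node (.leaf 0) (.leaf 3))) (.node (.node (.leaf 3) (.leaf 3)) (.node (.leaf 3) (.leaf 0)))) (.node (.node (.node (.leaf 0) (.leaf 3)) (.node (.leaf 0) (.leaf 3))) (.node (.node (.leaf 3) (.leaf 3)) (.node (.leaf 0) (.leaf 3)))))) (.node (.node (.node (.node (.node (.leaf 0) (.leaf 3)) (.node (.leaf 0) (.leaf 0))) (.node (.node (.leaf 3) (.leaf 3)) (.node (.leaf 3) (.leaf 3)))) (.node (.node (.node (.leaf 3) (.leaf 3)) (.node (.leaf 0) (.leaf 3))) (.node (.node (.leaf 3) (.leaf 3)) (.node (.leaf 3) (.leaf 3))))) (.node (.node (.node (.node (.leaf 3) (.leaf 0)) (.node (.leaf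 0) (.leaf 3))) (.node (.node (.leaf 3) (.leaf 3)) (.node (.leaf 3) (.leaf 3)))) (.node (.node (.node (.leaf 3) (.leaf 3)) (.node (.leaf 3) (.leaf 3))) (.node (.node (.leaf 0) (.leaf 3)) (.node (.leaf 3) (.leaf 3)))))))

def twoKind66 : Janko.Tree (ℕ) :=
  (.node (.node (.node (.node (.node (.node (.node (.leaf 3) (.leaf 3)) (.leaf 3)) (.node (.leaf 3) (.leaf 0))) (.node (.node (.leaf 3) (.leaf 3)) (.node (.leaf 3) (.leaf 3)))) (.node (.node (.node (.leaf 0) (.leaf 3)) (.node (.leaf 3) (.leaf 3))) (.node (.node (.leaf 3) (.leaf 3)) (.node (.leaf 3) (.leaf 3))))) (.node (.node (.node (.node (.leaf 3) (.leaf 3)) (.node (.leaf 3) (.leaf 3))) (.node (.node (.leaf 3) (.leaf 3)) (.node (.leaf 3) (.leaf 3)))) (.node (.node (.node (.leaf 0) (.leaf 0)) (.node (.leaf 3) (.leaf 3))) (.node (.node (.leaf 3) (.leaf 3)) (.node (.leaf 3) (.leaf 3)))))) (.node (.node (.node (.node (.node (.leaf 0) (.leaf 3)) (.node (.leaf 3) (.leaf 3))) (.node (.node (.leaf 0) (.leaf 3)) (.node (.leaf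 3) (.leaf 3)))) (.node (.node (.node (.leaf 3) (.leaf 0)) (.node (.leaf 3) (.leaf 3))) (.node (.node (.leaf 0) (.leaf 3)) (.node (.leaf 3) (.leaf 3))))) (.node (.node (.node (.node (.leaf 0) (.leaf 3)) (.node (.leaf 3) (.leaf 3))) (.node (.node (.leaf 3) (.leaf 3)) (.node (.leaf 0) (.leaf 3)))) (.node (.node (.node (.leaf 3) (.leaf 3)) (.node (.leaf 3) (.leaf 0))) (.node (.node (.leaf 3) (.leaf 3)) (.node (.leaf 3) (.leaf 3)))))))

def twoKind67 : Janko.Tree (ℕ) :=
  (.node (.node (.node (.node (.node (.node (.node (.leaf 3) (.leaf 3)) (.leaf 3)) (.node (.leaf 0) (.leaf 0))) (.node (.node (.leaf 3) (.leaf 3)) (.node (.leaf 3) (.leaf 3)))) (.node (.node (.node (.leaf 0) (.leaf 3)) (.node (.leaf 0) (.leaf 0))) (.node (.node (.leaf 3) (.leaf 3)) (.node (.leaf 0) (.leaf 3))))) (.node (.node (.node (.node (.leaf 0) (.leaf 0)) (.node (.leaf 0) (.leaf 3))) (.node (.node (.leaf 3) (.leaf 0)) (.node (.leaf 3) (.leaf 3)))) (.node (.node (.node (.leaf 3) (.leaf 0)) (.node (.leaf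 3) (.leaf 3))) (.node (.node (.leaf 0) (.leaf 3)) (.node (.leaf 3) (.leaf 3)))))) (.node (.node (.node (.node (.node (.leaf 0) (.leaf 3)) (.node (.leaf 0) (.leaf 3))) (.node (.node (.leaf 3) (.leaf 0)) (.node (.leaf 3) (.leaf 0)))) (.node (.node (.node (.leaf 0) (.leaf 0)) (.node (.leaf 0) (.leaf 3))) (.node (.node (.leaf 0) (.leaf 0)) (.node (.leaf 3) (.leaf 3))))) (.node (.node (.node (.node (.leaf 0) (.leaf 3)) (.node (.leaf 3) (.leaf 3))) (.node (.node (.leaf 0) (.leaf 0)) (.node (.leaf 0) (.leaf 3)))) (.node (.node (.node (.leaf 3) (.leaf 3)) (.node (.leaf 3) (.leaf 3))) (.node (.node (.leaf 3) (.leaf 3)) (.node (.leaf 3) (.leaf 3)))))))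

def twoKind68 : Janko.Tree (ℕ) :=
  (.node (.node (.node (.node (.node (.node (.node (.leaf 0) (.leaf 3)) (.leaf 0)) (.node (.leaf 3) (.leaf 3))) (.node (.node (.leaf 0) (.leaf 3)) (.node (.leaf 0) (.leaf 3)))) (.node (.node (.node (.leaf 3) (.leaf 3)) (.node (.leaf 3) (.leaf 3))) (.node (.node (.leaf 3) (.leaf 3)) (.node (.leaf 3) (.leaf 3))))) (.node (.node (.node (.node (.leaf 3) (.leaf 3)) (.node (.leaf 3) (.leaf 3))) (.node (.node (.leaf 3) (.leaf 3)) (.node (.leaf 3) (.leaf 3)))) (.node (.node (.node (.leaf 3) (.leaf 3)) (.node (.leaf 3) (.leaf 3))) (.node (.node (.leaf 3) (.leaf 3)) (.node (.leaf 3) (.leaf 3)))))) (.node (.node (.node (.node (.node (.leaf 3) (.leaf 3)) (.node (.leaf 3) (.leaf 3))) (.node (.node (.leaf 3) (.leaf 3)) (.node (.leaf 3) (.leaf 3)))) (.node (.node (.node (.leaf 3) (.leaf 3)) (.node (.leaf 3) (.leaf 3))) (.node (.node (.leaf 3) (.leaf 3)) (.node (.leaf 3) (.leaf 3))))) (.node (.node (.node (.node (.leaf 0) (.leaf 3)) (.node (.leaf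 3) (.leaf 3))) (.node (.node (.leaf 3) (.leaf 3)) (.node (.leaf 3) (.leaf 3)))) (.node (.node (.node (.leaf 3) (.leaf 3)) (.node (.leaf 3) (.leaf 3))) (.node (.node (.leaf 0) (.leaf 3)) (.node (.leaf 3) (.leaf 3)))))))

def twoKind69 : Janko.Tree (ℕ) :=
  (.node (.node (.node (.node (.node (.node (.node (.leaf 3) (.leaf 3)) (.leaf 3)) (.node (.leaf 3) (.leaf 0))) (.node (.node (.leaf 3) (.leaf 0)) (.node (.leaf 3) (.leaf 3)))) (.node (.node (.node (.leaf 0) (.leaf 3)) (.node (.leaf 0) (.leaf 3))) (.node (.node (.leaf 3) (.leaf 3)) (.node (.leaf 3) (.leaf 3))))) (.node (.node (.node (.node (.leaf 3) (.leaf 0)) (.node (.leaf 3) (.leaf 0))) (.node (.node (.leaf 3) (.leaf 3)) (.node (.leaf 3) (.leaf 3)))) (.node (.node (.node (.leaf 0) (.leaf 0)) (.node (.leaf 3) (.leaf 3))) (.node (.node (.leaf 0) (.leaf 3)) (.node (.leaf 0) (.leaf 3)))))) (.node (.node (.node (.node (.node (.leaf 0) (.leaf 3)) (.node (.leaf 3) (.leaf 3))) (.node (.node (.leaf 0) (.leaf 3)) (.node (.leaf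 0) (.leaf 0)))) (.node (.node (.node (.leaf 0) (.leaf 0)) (.node (.leaf 3) (.leaf 3))) (.node (.node (.leaf 0) (.leaf 0)) (.node (.leaf 0) (.leaf 3))))) (.node (.node (.node (.node (.leaf 3) (.leaf 0)) (.node (.leaf 3) (.leaf 0))) (.node (.node (.leaf 0) (.leaf 0)) (.node (.leaf 0) (.leaf 3)))) (.node (.node (.node (.leaf 3) (.leaf 3)) (.node (.leaf 3) (.leaf 3))) (.node (.node (.leaf 3) (.leaf 3)) (.node (.leaf 3) (.leaf 3)))))))

def twoKind70 : Janko.Tree (ℕ) :=
  (.node (.node (.node (.node (.node (.node (.node (.leaf 0) (.leaf 3)) (.leaf 0)) (.node (.leaf 3) (.leaf 3))) (.node (.node (.leaf 0) (.leaf 3)) (.node (.leaf 3) (.leaf 3)))) (.node (.node (.node (.leaf 3) (.leaf 0)) (.node (.leaf 3) (.leaf 3))) (.node (.node (.leaf 0) (.leaf 3)) (.node (.leaf 3) (.leaf 3))))) (.node (.node (.node (.node (.leaf 3) (.leaf 3)) (.node (.leaf 3) (.leaf 3))) (.node (.node (.leaf 0) (.leaf 3)) (.node (.leaf 3) (.leaf 3)))) (.node (.node (.node (.leaf 3) (.leaf 3)) (.node (.leaf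 3) (.leaf 3))) (.node (.node (.leaf 3) (.leaf 3)) (.node (.leaf 3) (.leaf 3)))))) (.node (.node (.node (.node (.node (.leaf 3) (.leaf 3)) (.node (.leaf 3) (.leaf 3))) (.node (.node (.leaf 3) (.leaf 3)) (.node (.leaf 3) (.leaf 3)))) (.node (.node (.node (.leaf 3) (.leaf 3)) (.node (.leaf 3) (.leaf 3))) (.node (.node (.leaf 3) (.leaf 3)) (.node (.leaf 3) (.leaf 3))))) (.node (.node (.node (.node (.leaf 0) (.leaf 3)) (.node (.leaf 3) (.leaf 3))) (.node (.node (.leaf 3) (.leaf 3)) (.node (.leaf 3) (.leaf 3)))) (.node (.node (.node (.leaf 0) (.leaf 3)) (.node (.leaf 0) (.leaf 3))) (.node (.node (.leaf 0) (.leaf 3)) (.node (.leaf 3) (.leaf 3)))))))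

def twoKind71 : Janko.Tree (ℕ) :=
  (.node (.node (.node (.node (.node (.node (.node (.leaf 0) (.leaf 3)) (.leaf 0)) (.node (.leaf 3) (.leaf 3))) (.node (.node (.leaf 0) (.leaf 3)) (.node (.leaf 0) (.leaf 3)))) (.node (.node (.node (.leaf 0) (.leaf 3)) (.node (.leaf 3) (.leaf 3))) (.node (.node (.leaf 0) (.leaf 0)) (.node (.leaf 3) (.leaf 3))))) (.node (.node (.node (.node (.leaf 0) (.leaf 3)) (.node (.leaf 3) (.leaf 3))) (.node (.node (.leaf 3) (.leaf 3)) (.node (.leaf 3) (.leaf 0)))) (.node (.node (.node (.leaf 0) (.leaf 3)) (.node (.leaf 0) (.leaf 3))) (.node (.node (.leaf 3) (.leaf 3)) (.node (.leaf 3) (.leaf 3)))))) (.node (.node (.node (.node (.node (.leaf 0) (.leaf 3)) (.node (.leaf 3) (.leaf 3))) (.node (.node (.leaf 0) (.leaf 3)) (.node (.leaf 3) (.leaf 3)))) (.node (.node (.node (.leaf 3) (.leaf 3)) (.node (.leaf 3) (.leaf 0))) (.node (.node (.leaf 3) (.leaf 3)) (.node (.leaf 0) (.leaf 3))))) (.node (.node (.node (.node (.leaf 0) (.leaf 3)) (.node (.leaf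 0) (.leaf 3))) (.node (.node (.leaf 3) (.leaf 3)) (.node (.leaf 3) (.leaf 0)))) (.node (.node (.node (.leaf 0) (.leaf 0)) (.node (.leaf 0) (.leaf 0))) (.node (.node (.leaf 0) (.leaf 3)) (.node (.leaf 3) (.leaf 3)))))))

def twoKind72 : Janko.Tree (ℕ) :=
  (.node (.node (.node (.node (.node (.node (.node (.leaf 3) (.leaf 3)) (.leaf 3)) (.node (.leaf 0) (.leaf 0))) (.node (.node (.leaf 3) (.leaf 3)) (.node (.leaf 3) (.leaf 3)))) (.node (.node (.node (.leaf 3) (.leaf 3)) (.node (.leaf 3) (.leaf 3))) (.node (.node (.leaf 3) (.leaf 3)) (.node (.leaf 3) (.leaf 3))))) (.node (.node (.node (.node (.leaf 3) (.leaf 3)) (.node (.leaf 3) (.leaf 0))) (.node (.node (.leaf 3) (.leaf 3)) (.node (.leaf 3) (.leaf 3)))) (.node (.node (.node (.leaf 3) (.leaf 0)) (.node (.leaf 3) (.leaf 3))) (.node (.node (.leaf 3) (.leaf 3)) (.node (.leaf 0) (.leaf 3)))))) (.node (.node (.node (.node (.node (.leaf 3) (.leaf 3)) (.node (.leaf 3) (.leaf 3))) (.node (.node (.leaf 3) (.leaf 3)) (.node (.leaf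 3) (.leaf 3)))) (.node (.node (.node (.leaf 3) (.leaf 3)) (.node (.leaf 3) (.leaf 3))) (.node (.node (.leaf 3) (.leaf 3)) (.node (.leaf 3) (.leaf 3))))) (.node (.node (.node (.node (.leaf 3) (.leaf 3)) (.node (.leaf 3) (.leaf 3))) (.node (.node (.leaf 0) (.leaf 3)) (.node (.leaf 3) (.leaf 3)))) (.node (.node (.node (.leaf 3) (.leaf 3)) (.node (.leaf 3) (.leaf 3))) (.node (.node (.leaf 3) (.leaf 3)) (.node (.leaf 3) (.leaf 3)))))))

def twoKind73 : Janko.Tree (ℕ) :=
  (.node (.node (.node (.node (.node (.node (.node (.leaf 0) (.leaf 3)) (.leaf 0)) (.node (.leaf 3) (.leaf 3))) (.node (.node (.leaf 0) (.leaf 3)) (.node (.leaf 3) (.leaf 3)))) (.node (.node (.node (.leaf 3) (.leaf 3)) (.node (.leaf 3) (.leaf 3))) (.node (.node (.leaf 0) (.leaf 3)) (.node (.leaf 0) (.leaf 3))))) (.node (.node (.node (.node (.leaf 0) (.leaf 3)) (.node (.leaf 0) (.leaf 3))) (.node (.node (.leaf 0) (.leaf 0)) (.node (.leaf 3) (.leaf 3)))) (.node (.node (.node (.leaf 3) (.leaf 3)) (.node (.leaf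 0) (.leaf 3))) (.node (.node (.leaf 3) (.leaf 3)) (.node (.leaf 3) (.leaf 3)))))) (.node (.node (.node (.node (.node (.leaf 3) (.leaf 0)) (.node (.leaf 0) (.leaf 0))) (.node (.node (.leaf 3) (.leaf 0)) (.node (.leaf 3) (.leaf 3)))) (.node (.node (.node (.leaf 0) (.leaf 3)) (.node (.leaf 3) (.leaf 0))) (.node (.node (.leaf 3) (.leaf 0)) (.node (.leaf 0) (.leaf 3))))) (.node (.node (.node (.node (.leaf 0) (.leaf 3)) (.node (.leaf 3) (.leaf 3))) (.node (.node (.leaf 3) (.leaf 3)) (.node (.leaf 3) (.leaf 0)))) (.node (.node (.node (.leaf 0) (.leaf 0)) (.node (.leaf 0) (.leaf 3))) (.node (.node (.leaf 0) (.leaf 0)) (.node (.leaf 0) (.leaf 3)))))))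

def twoKind74 : Janko.Tree (ℕ) :=
  (.node (.node (.node (.node (.node (.node (.node (.leaf 3) (.leaf 3)) (.leaf 3)) (.node (.leaf 3) (.leaf 0))) (.node (.node (.leaf 3) (.leaf 0)) (.node (.leaf 3) (.leaf 3)))) (.node (.node (.node (.leaf 3) (.leaf 3)) (.node (.leaf 3) (.leaf 3))) (.node (.node (.leaf 3) (.leaf 3)) (.node (.leaf 3) (.leaf 3))))) (.node (.node (.node (.node (.leaf 3) (.leaf 3)) (.node (.leaf 3) (.leaf 0))) (.node (.node (.leaf 3) (.leaf 3)) (.node (.leaf 3) (.leaf 3)))) (.node (.node (.node (.leaf 3) (.leaf 0)) (.node (.leaf 3) (.leaf 3))) (.node (.node (.leaf 0) (.leaf 3)) (.node (.leaf 0) (.leaf 3)))))) (.node (.node (.node (.node (.node (.leaf 3) (.leaf 3)) (.node (.leaf 3) (.leaf 3))) (.node (.node (.leaf 3) (.leaf 3)) (.node (.leaf 3) (.leaf 3)))) (.node (.node (.node (.leaf 3) (.leaf 0)) (.node (.leaf 3) (.leaf 3))) (.node (.node (.leaf 0) (.leaf 3)) (.node (.leaf 3) (.leaf 3))))) (.node (.node (.node (.node (.leaf 0) (.leaf 3)) (.node (.leaf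 3) (.leaf 3))) (.node (.node (.leaf 0) (.leaf 3)) (.node (.leaf 3) (.leaf 3)))) (.node (.node (.node (.leaf 3) (.leaf 3)) (.node (.leaf 3) (.leaf 3))) (.node (.node (.leaf 3) (.leaf 3)) (.node (.leaf 3) (.leaf 3)))))))

def twoKind75 : Janko.Tree (ℕ) :=
  (.node (.node (.node (.node (.node (.node (.node (.leaf 3) (.leaf 3)) (.leaf 3)) (.node (.leaf 0) (.leaf 0))) (.node (.node (.leaf 3) (.leaf 3)) (.node (.leaf 3) (.leaf 3)))) (.node (.node (.node (.leaf 3) (.leaf 3)) (.node (.leaf 3) (.leaf 3))) (.node (.node (.leaf 3) (.leaf 3)) (.node (.leaf 3) (.leaf 3))))) (.node (.node (.node (.node (.leaf 3) (.leaf 0)) (.node (.leaf 3) (.leaf 0))) (.node (.node (.leaf 3) (.leaf 3)) (.node (.leaf 0) (.leaf 3)))) (.node (.node (.node (.leaf 3) (.leaf 0)) (.node (.leaf 3) (.leaf 3))) (.node (.node (.leaf 3) (.leaf 3)) (.node (.leaf 0) (.leaf 3)))))) (.node (.node (.node (.node (.node (.leaf 3) (.leaf 3)) (.node (.leaf 3) (.leaf 3))) (.node (.node (.leaf 3) (.leaf 0)) (.node (.leaf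 0) (.leaf 3)))) (.node (.node (.node (.leaf 3) (.leaf 0)) (.node (.leaf 3) (.leaf 3))) (.node (.node (.leaf 3) (.leaf 3)) (.node (.leaf 0) (.leaf 3))))) (.node (.node (.node (.node (.leaf 0) (.leaf 0)) (.node (.leaf 3) (.leaf 3))) (.node (.node (.leaf 0) (.leaf 0)) (.node (.leaf 0) (.leaf 3)))) (.node (.node (.node (.leaf 0) (.leaf 3)) (.node (.leaf 0) (.leaf 3))) (.node (.node (.leaf 2) (.leaf 3)) (.node (.leaf 3) (.leaf 3)))))))

def twoKind76 : Janko.Tree (ℕ) :=
  (.node (.node (.node (.node (.node (.node (.node (.leaf 0) (.leaf 3)) (.leaf 3)) (.node (.leaf 3) (.leaf 3))) (.node (.node (.leaf 3) (.leaf 3)) (.node (.leaf 3) (.leaf 3)))) (.node (.node (.node (.leaf 3) (.leaf 3)) (.node (.leaf 3) (.leaf 3))) (.node (.node (.leaf 3) (.leaf 3)) (.node (.leaf 0) (.leaf 3))))) (.node (.node (.node (.node (.leaf 0) (.leaf 3)) (.node (.leaf 3) (.leaf 3))) (.node (.node (.leaf 0) (.leaf 0)) (.node (.leaf 3) (.leaf 3)))) (.node (.node (.node (.leaf 0) (.leaf 3)) (.node (.leaf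 0) (.leaf 3))) (.node (.node (.leaf 3) (.leaf 3)) (.node (.leaf 3) (.leaf 3)))))) (.node (.node (.node (.node (.node (.leaf 3) (.leaf 0)) (.node (.leaf 0) (.leaf 3))) (.node (.node (.leaf 0) (.leaf 3)) (.node (.leaf 3) (.leaf 3)))) (.node (.node (.node (.leaf 0) (.leaf 3)) (.node (.leaf 3) (.leaf 3))) (.node (.node (.leaf 3) (.leaf 3)) (.node (.leaf 3) (.leaf 3))))) (.node (.node (.node (.node (.leaf 3) (.leaf 3)) (.node (.leaf 3) (.leaf 3))) (.node (.node (.leaf 3) (.leaf 3)) (.node (.leaf 3) (.leaf 3)))) (.node (.node (.node (.leaf 3) (.leaf 3)) (.node (.leaf 3) (.leaf 3))) (.node (.node (.leaf 3) (.leaf 3)) (.node (.leaf 0) (.leaf 3)))))))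

def twoKind77 : Janko.Tree (ℕ) :=
  (.node (.node (.node (.node (.node (.node (.node (.leaf 3) (.leaf 3)) (.leaf 3)) (.node (.leaf 3) (.leaf 0))) (.node (.node (.leaf 3) (.leaf 3)) (.node (.leaf 0) (.leaf 3)))) (.node (.node (.node (.leaf 3) (.leaf 3)) (.node (.leaf 3) (.leaf 0))) (.node (.node (.leaf 0) (.leaf 3)) (.node (.leaf 3) (.leaf 3))))) (.node (.node (.node (.node (.leaf 3) (.leaf 0)) (.node (.leaf 3) (.leaf 3))) (.node (.node (.leaf 3) (.leaf 3)) (.node (.leaf 0) (.leaf 0)))) (.node (.node (.node (.leaf 3) (.leaf 0)) (.node (.leaf 3) (.leaf 0))) (.node (.node (.leaf 0) (.leaf 0)) (.node (.leaf 3) (.leaf 3)))))) (.node (.node (.node (.node (.node (.leaf 3) (.leaf 3)) (.node (.leaf 3) (.leaf 3))) (.node (.node (.leaf 3) (.leaf 3)) (.node (.leaf 0) (.leaf 3)))) (.node (.node (.node (.leaf 3) (.leaf 0)) (.node (.leaf 3) (.leaf 3))) (.node (.node (.leaf 0) (.leaf 3)) (.node (.leaf 3) (.leaf 3))))) (.node (.node (.node (.node (.leaf 0) (.leaf 0)) (.node (.leaf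 0) (.leaf 3))) (.node (.node (.leaf 0) (.leaf 0)) (.node (.leaf 0) (.leaf 0)))) (.node (.node (.node (.leaf 0) (.leaf 0)) (.node (.leaf 3) (.leaf 3))) (.node (.node (.leaf 0) (.leaf 3)) (.node (.leaf 3) (.leaf 3)))))))

def twoKind78 : Janko.Tree (ℕ) :=
  (.node (.node (.node (.node (.node (.node (.leaf 0) (.leaf 0)) (.node (.leaf 3) (.leaf 3))) (.node (.node (.leaf 0) (.leaf 3)) (.node (.leaf 3) (.leaf 3)))) (.node (.node (.node (.leaf 0) (.leaf 3)) (.node (.leaf 0) (.leaf 3))) (.node (.node (.leaf 3) (.leaf 3)) (.node (.leaf 0) (.leaf 3))))) (.node (.node (.node (.node (.leaf 0) (.leaf 3)) (.node (.leaf 0) (.leaf 3))) (.node (.node (.leaf 3) (.leaf 3)) (.node (.leaf 3) (.leaf 3)))) (.node (.node (.node (.leaf 0) (.leaf 3)) (.node (.leaf 3) (.leaf 3))) (.node (.node (.leaf 3) (.leaf 3)) (.node (.leaf 3) (.leaf 3)))))) (.node (.node (.node (.node (.node (.leaf 0) (.leaf 0)) (.node (.leaf 0) (.leaf 3))) (.node (.node (.leaf 0) (.leaf 3)) (.node (.leaf 3) (.leaf 3))))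 (.node (.node (.node (.leaf 0) (.leaf 3)) (.node (.leaf 3) (.leaf 3))) (.node (.node (.leaf 3) (.leaf 3)) (.node (.leaf 3) (.leaf 3))))) (.node (.node (.node (.node (.leaf 3) (.leaf 3)) (.node (.leaf 3) (.leaf 3))) (.node (.node (.leaf 0) (.leaf 3)) (.node (.leaf 3) (.leaf 3)))) (.node (.node (.node (.leaf 3) (.leaf 3)) (.node (.leaf 3) (.leaf 3))) (.node (.node (.leaf 3) (.leaf 3)) (.node (.leaf 0) (.leaf 3)))))))

def twoKind79 : Janko.Tree (ℕ) :=
  (.node (.node (.node (.node (.node (.node (.leaf 0) (.leaf 0)) (.node (.leaf 3) (.leaf 3))) (.node (.node (.leaf 3) (.leaf 0)) (.node (.leaf 0) (.leaf 3)))) (.node (.node (.node (.leaf 3) (.leaf 3)) (.node (.leaf 0) (.leaf 3))) (.node (.node (.leaf 3) (.leaf 3)) (.node (.leaf 0) (.leaf 3))))) (.node (.node (.node (.node (.leaf 0) (.leaf 0)) (.node (.leaf 0) (.leaf 0))) (.node (.node (.leaf 0) (.leaf 3)) (.node (.leaf 3) (.leaf 3)))) (.node (.node (.node (.leaf 0) (.leaf 3)) (.node (.leaf 3) (.leaf 3))) (.node (.node (.leaf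 0) (.leaf 3)) (.node (.leaf 0) (.leaf 3)))))) (.node (.node (.node (.node (.node (.leaf 0) (.leaf 0)) (.node (.leaf 0) (.leaf 0))) (.node (.node (.leaf 0) (.leaf 3)) (.node (.leaf 3) (.leaf 3)))) (.node (.node (.node (.leaf 0) (.leaf 0)) (.node (.leaf 0) (.leaf 3))) (.node (.node (.leaf 0) (.leaf 3)) (.node (.leaf 3) (.leaf 0))))) (.node (.node (.node (.node (.leaf 0) (.leaf 3)) (.node (.leaf 3) (.leaf 3))) (.node (.node (.leaf 3) (.leaf 3)) (.node (.leaf 3) (.leaf 3)))) (.node (.node (.node (.leaf 3) (.leaf 3)) (.node (.leaf 3) (.leaf 0))) (.node (.node (.leaf 3) (.leaf 3)) (.node (.leaf 0) (.leaf 3)))))))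

def twoKind80 : Janko.Tree (ℕ) :=
  (.node (.node (.node (.node (.node (.node (.leaf 3) (.leaf 3)) (.node (.leaf 3) (.leaf 3))) (.node (.node (.leaf 3) (.leaf 3)) (.node (.leaf 3) (.leaf 3)))) (.node (.node (.node (.leaf 3) (.leaf 3)) (.node (.leaf 3) (.leaf 0))) (.node (.node (.leaf 0) (.leaf 3)) (.node (.leaf 3) (.leaf 3))))) (.node (.node (.node (.node (.leaf 3) (.leaf 3)) (.node (.leaf 3) (.leaf 3))) (.node (.node (.leaf 3) (.leaf 3)) (.node (.leaf 0) (.leaf 3)))) (.node (.node (.node (.leaf 3) (.leaf 3)) (.node (.leaf 3) (.leaf 3))) (.node (.node (.leaf 3) (.leaf 3)) (.node (.leaf 3) (.leaf 3)))))) (.node (.node (.node (.node (.node (.leaf 3) (.leaf 3)) (.node (.leaf 3) (.leaf 3))) (.node (.node (.leaf 3) (.leaf 3)) (.node (.leaf 0) (.leaf 3)))) (.node (.node (.node (.leaf 3) (.leaf 3)) (.node (.leaf 3) (.leaf 3))) (.node (.node (.leaf 3) (.leaf 3)) (.node (.leaf 3) (.leaf 3))))) (.node (.node (.node (.node (.leaf 3) (.leaf 3)) (.node (.leaf 0) (.leaf 3))) (.node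 (.node (.leaf 3) (.leaf 3)) (.node (.leaf 3) (.leaf 3)))) (.node (.node (.node (.leaf 0) (.leaf 3)) (.node (.leaf 0) (.leaf 3))) (.node (.node (.leaf 3) (.leaf 3)) (.node (.leaf 3) (.leaf 3)))))))

def twoKind81 : Janko.Tree (ℕ) :=
  (.node (.node (.node (.node (.node (.node (.leaf 3) (.leaf 0)) (.node (.leaf 0) (.leaf 3))) (.node (.node (.leaf 0) (.leaf 3)) (.node (.leaf 0) (.leaf 0)))) (.node (.node (.node (.leaf 0) (.leaf 3)) (.node (.leaf 0) (.leaf 3))) (.node (.node (.leaf 3) (.leaf 3)) (.node (.leaf 0) (.leaf 3))))) (.node (.node (.node (.node (.leaf 0) (.leaf 3)) (.node (.leaf 0) (.leaf 0))) (.node (.node (.leaf 0) (.leaf 3)) (.node (.leaf 3) (.leaf 3)))) (.node (.node (.node (.leaf 0) (.leaf 3)) (.node (.leaf 0) (.leaf 0))) (.node (.node (.leaf 3) (.leaf 3)) (.node (.leaf 3) (.leaf 3)))))) (.node (.node (.node (.node (.node (.leaf 0) (.leaf 3)) (.node (.leaf 3) (.leaf 3))) (.node (.node (.leaf 0) (.leaf 3)) (.node (.leaf 3) (.leaf 3)))) (.node (.node (.node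 (.leaf 0) (.leaf 3)) (.node (.leaf 0) (.leaf 3))) (.node (.node (.leaf 3) (.leaf 3)) (.node (.leaf 3) (.leaf 3))))) (.node (.node (.node (.node (.leaf 3) (.leaf 3)) (.node (.leaf 3) (.leaf 0))) (.node (.node (.leaf 0) (.leaf 3)) (.node (.leaf 0) (.leaf 3)))) (.node (.node (.node (.leaf 3) (.leaf 3)) (.node (.leaf 3) (.leaf 3))) (.node (.node (.leaf 3) (.leaf 3)) (.node (.leaf 0) (.leaf 3)))))))

def twoKind82 : Janko.Tree (ℕ) :=
  (.node (.node (.node (.node (.node (.node (.leaf 0) (.leaf 3)) (.node (.leaf 3) (.leaf 3))) (.node (.node (.leaf 3) (.leaf 3)) (.node (.leaf 3) (.leaf 3)))) (.node (.node (.node (.leaf 3) (.leaf 3)) (.node (.leaf 3) (.leaf 0))) (.node (.node (.leaf 3) (.leaf 3)) (.node (.leaf 3) (.leaf 3))))) (.node (.node (.node (.node (.leaf 0) (.leaf 3)) (.node (.leaf 3) (.leaf 3))) (.node (.node (.leaf 3) (.leaf 3)) (.node (.leaf 3) (.leaf 3)))) (.node (.node (.node (.leaf 0) (.leaf 3)) (.node (.leaf 3) (.leaf 3))) (.node (.node (.leaf 3) (.leaf 0)) (.node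 (.leaf 3) (.leaf 0)))))) (.node (.node (.node (.node (.node (.leaf 3) (.leaf 0)) (.node (.leaf 3) (.leaf 3))) (.node (.node (.leaf 3) (.leaf 3)) (.node (.leaf 3) (.leaf 3)))) (.node (.node (.node (.leaf 0) (.leaf 3)) (.node (.leaf 3) (.leaf 3))) (.node (.node (.leaf 3) (.leaf 3)) (.node (.leaf 3) (.leaf 3))))) (.node (.node (.node (.node (.leaf 3) (.leaf 3)) (.node (.leaf 0) (.leaf 3))) (.node (.node (.leaf 3) (.leaf 3)) (.node (.leaf 3) (.leaf 3)))) (.node (.node (.node (.leaf 3) (.leaf 3)) (.node (.leaf 3) (.leaf 3))) (.node (.node (.leaf 3) (.leaf 3)) (.node (.leaf 0) (.leaf 3)))))))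

def twoKind83 : Janko.Tree (ℕ) :=
  (.node (.node (.node (.node (.node (.node (.leaf 0) (.leaf 3)) (.node (.leaf 3) (.leaf 3))) (.node (.node (.leaf 0) (.leaf 3)) (.node (.leaf 3) (.leaf 3)))) (.node (.node (.node (.leaf 3) (.leaf 3)) (.node (.leaf 0) (.leaf 0))) (.node (.node (.leaf 3) (.leaf 0)) (.node (.leaf 3) (.leaf 3))))) (.node (.node (.node (.node (.leaf 3) (.leaf 3)) (.node (.leaf 3) (.leaf 0))) (.node (.node (.leaf 3) (.leaf 3)) (.node (.leaf 0) (.leaf 0)))) (.node (.node (.node (.leaf 0) (.leaf 3)) (.node (.leaf 0) (.leaf 3))) (.node (.node (.leaf 3) (.leaf 3)) (.node (.leaf 3) (.leaf 3)))))) (.node (.node (.node (.node (.node (.leaf 0) (.leaf 3)) (.node (.leaf 3) (.leaf 3))) (.node (.node (.leaf 0) (.leaf 3)) (.node (.leaf 3) (.leaf 0)))) (.node (.node (.node (.leaf 0) (.leaf 3)) (.node (.leaf 3) (.leaf 3))) (.node (.node (.leaf 0) (.leaf 0)) (.node (.leaf 3) (.leaf 3))))) (.node (.node (.node (.node (.leaf 3) (.leaf 3)) (.node (.leaf 0) (.leaf 3))) (.node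 (.node (.leaf 0) (.leaf 0)) (.node (.leaf 0) (.leaf 3)))) (.node (.node (.node (.leaf 0) (.leaf 3)) (.node (.leaf 0) (.leaf 0))) (.node (.node (.leaf 3) (.leaf 3)) (.node (.leaf 3) (.leaf 3)))))))

def twoKind84 : Janko.Tree (ℕ) :=
  (.node (.node (.node (.node (.node (.node (.leaf 3) (.leaf 3)) (.node (.leaf 0) (.leaf 3))) (.node (.node (.leaf 3) (.leaf 3)) (.node (.leaf 3) (.leaf 3)))) (.node (.node (.node (.leaf 0) (.leaf 3)) (.node (.leaf 3) (.leaf 3))) (.node (.node (.leaf 3) (.leaf 3)) (.node (.leaf 3) (.leaf 3))))) (.node (.node (.node (.node (.leaf 3) (.leaf 3)) (.node (.leaf 0) (.leaf 3))) (.node (.node (.leaf 3) (.leaf 3)) (.node (.leaf 3) (.leaf 3)))) (.node (.node (.node (.leaf 3) (.leaf 3)) (.node (.leaf 3) (.leaf 3))) (.node (.node (.leaf 0) (.leaf 3)) (.node (.leaf 3) (.leaf 3)))))) (.node (.node (.node (.node (.node (.leaf 3) (.leaf 3)) (.node (.leaf 3) (.leaf 3))) (.node (.node (.leaf 3) (.leaf 3)) (.node (.leaf 3) (.leaf 3)))) (.node (.node (.node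 (.leaf 3) (.leaf 3)) (.node (.leaf 0) (.leaf 3))) (.node (.node (.leaf 3) (.leaf 3)) (.node (.leaf 3) (.leaf 3))))) (.node (.node (.node (.node (.leaf 3) (.leaf 3)) (.node (.leaf 3) (.leaf 3))) (.node (.node (.leaf 3) (.leaf 3)) (.node (.leaf 3) (.leaf 3)))) (.node (.node (.node (.leaf 3) (.leaf 0)) (.node (.leaf 3) (.leaf 3))) (.node (.node (.leaf 3) (.leaf 3)) (.node (.leaf 3) (.leaf 3)))))))

def twoKind85 : Janko.Tree (ℕ) :=
  (.node (.node (.node (.node (.node (.node (.leaf 0) (.leaf 3)) (.node (.leaf 3) (.leaf 0))) (.node (.node (.leaf 3) (.leaf 0)) (.node (.leaf 3) (.leaf 3)))) (.node (.node (.node (.leaf 3) (.leaf 3)) (.node (.leaf 3) (.leaf 0))) (.node (.node (.leaf 0) (.leaf 0)) (.node (.leaf 0) (.leaf 3))))) (.node (.node (.node (.node (.leaf 0) (.leaf 3)) (.node (.leaf 3) (.leaf 3))) (.node (.node (.leaf 0) (.leaf 3)) (.node (.leaf 3) (.leaf 3)))) (.node (.node (.node (.leaf 0) (.leaf 0)) (.node (.leaf 0) (.leaf 3))) (.node (.node (.leaf 3) (.leaf 3)) (.node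 (.leaf 0) (.leaf 3)))))) (.node (.node (.node (.node (.node (.leaf 0) (.leaf 3)) (.node (.leaf 0) (.leaf 0))) (.node (.node (.leaf 3) (.leaf 3)) (.node (.leaf 0) (.leaf 0)))) (.node (.node (.node (.leaf 0) (.leaf 3)) (.node (.leaf 3) (.leaf 3))) (.node (.node (.leaf 0) (.leaf 0)) (.node (.leaf 3) (.leaf 3))))) (.node (.node (.node (.node (.leaf 3) (.leaf 0)) (.node (.leaf 0) (.leaf 3))) (.node (.node (.leaf 3) (.leaf 3)) (.node (.leaf 3) (.leaf 3)))) (.node (.node (.node (.leaf 3) (.leaf 3)) (.node (.leaf 3) (.leaf 3))) (.node (.node (.leaf 0) (.leaf 0)) (.node (.leaf 3) (.leaf 3)))))))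

def twoKind86 : Janko.Tree (ℕ) :=
  (.node (.node (.node (.node (.node (.node (.leaf 3) (.leaf 3)) (.node (.leaf 0) (.leaf 3))) (.node (.node (.leaf 3) (.leaf 3)) (.node (.leaf 3) (.leaf 3)))) (.node (.node (.node (.leaf 3) (.leaf 3)) (.node (.leaf 3) (.leaf 3))) (.node (.node (.leaf 3) (.leaf 3)) (.node (.leaf 3) (.leaf 3))))) (.node (.node (.node (.node (.leaf 3) (.leaf 3)) (.node (.leaf 3) (.leaf 3))) (.node (.node (.leaf 0) (.leaf 0)) (.node (.leaf 3) (.leaf 3)))) (.node (.node (.node (.leaf 3) (.leaf 3)) (.node (.leaf 3) (.leaf 3))) (.node (.node (.leaf 0) (.leaf 3)) (.node (.leaf 3) (.leaf 3)))))) (.node (.node (.node (.node (.node (.leaf 3) (.leaf 3)) (.node (.leaf 0) (.leaf 3))) (.node (.node (.leaf 3) (.leaf 3)) (.node (.leaf 3) (.leaf 3)))) (.node (.node (.node (.leaf 3) (.leaf 3)) (.node (.leaf 3) (.leaf 3))) (.node (.node (.leaf 3) (.leaf 3)) (.node (.leaf 3) (.leaf 3))))) (.node (.node (.node (.node (.leaf 0) (.leaf 3)) (.node (.leaf 3) (.leaf 3))) (.node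 (.node (.leaf 3) (.leaf 3)) (.node (.leaf 3) (.leaf 0)))) (.node (.node (.node (.leaf 3) (.leaf 0)) (.node (.leaf 3) (.leaf 3))) (.node (.node (.leaf 3) (.leaf 3)) (.node (.leaf 3) (.leaf 3)))))))

def twoKind87 : Janko.Tree (ℕ) :=
  (.node (.node (.node (.node (.node (.node (.leaf 0) (.leaf 3)) (.node (.leaf 0) (.leaf 3))) (.node (.node (.leaf 3) (.leaf 3)) (.node (.leaf 3) (.leaf 3)))) (.node (.node (.node (.leaf 0) (.leaf 0)) (.node (.leaf 3) (.leaf 3))) (.node (.node (.leaf 0) (.leaf 3)) (.node (.leaf 3) (.leaf 3))))) (.node (.node (.node (.node (.leaf 0) (.leaf 0)) (.node (.leaf 3) (.leaf 3))) (.node (.node (.leaf 0) (.leaf 3)) (.node (.leaf 3) (.leaf 3)))) (.node (.node (.node (.leaf 0) (.leaf 3)) (.node (.leaf 3) (.leaf 3))) (.node (.node (.leaf 0) (.leaf 3)) (.node (.leaf 0) (.leaf 3)))))) (.node (.node (.node (.node (.node (.leaf 3) (.leaf 0)) (.node (.leaf 0) (.leaf 3))) (.node (.node (.leaf 3) (.leaf 0)) (.node (.leaf 0) (.leaf 3)))) (.node (.node (.node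 (.leaf 0) (.leaf 3)) (.node (.leaf 0) (.leaf 3))) (.node (.node (.leaf 3) (.leaf 3)) (.node (.leaf 0) (.leaf 3))))) (.node (.node (.node (.node (.leaf 0) (.leaf 3)) (.node (.leaf 3) (.leaf 3))) (.node (.node (.leaf 3) (.leaf 3)) (.node (.leaf 3) (.leaf 0)))) (.node (.node (.node (.leaf 3) (.leaf 0)) (.node (.leaf 3) (.leaf 3))) (.node (.node (.leaf 0) (.leaf 3)) (.node (.leaf 3) (.leaf 3)))))))

def twoKind88 : Janko.Tree (ℕ) :=
  (.node (.node (.node (.node (.node (.node (.leaf 3) (.leaf 3)) (.node (.leaf 3) (.leaf 3))) (.node (.node (.leaf 3) (.leaf 0)) (.node (.leaf 3) (.leaf 3)))) (.node (.node (.node (.leaf 3) (.leaf 3)) (.node (.leaf 0) (.leaf 3))) (.node (.node (.leaf 3) (.leaf 0)) (.node (.leaf 3) (.leaf 3))))) (.node (.node (.node (.node (.leaf 3) (.leaf 3)) (.node (.leaf 3) (.leaf 3))) (.node (.node (.leaf 3) (.leaf 3)) (.node (.leaf 3) (.leaf 3)))) (.node (.node (.node (.leaf 3) (.leaf 3)) (.node (.leaf 0) (.leaf 3))) (.node (.node (.leaf 3) (.leaf 0)) (.node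 (.leaf 3) (.leaf 3)))))) (.node (.node (.node (.node (.node (.leaf 3) (.leaf 3)) (.node (.leaf 3) (.leaf 3))) (.node (.node (.leaf 3) (.leaf 3)) (.node (.leaf 3) (.leaf 0)))) (.node (.node (.node (.leaf 3) (.leaf 0)) (.node (.leaf 3) (.leaf 0))) (.node (.node (.leaf 0) (.leaf 3)) (.node (.leaf 3) (.leaf 3))))) (.node (.node (.node (.node (.leaf 3) (.leaf 3)) (.node (.leaf 3) (.leaf 3))) (.node (.node (.leaf 3) (.leaf 3)) (.node (.leaf 3) (.leaf 3)))) (.node (.node (.node (.leaf 3) (.leaf 3)) (.node (.leaf 3) (.leaf 3))) (.node (.node (.leaf 3) (.leaf 3)) (.node (.leaf 3) (.leaf 3)))))))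

def twoKind89 : Janko.Tree (ℕ) :=
  (.node (.node (.node (.node (.node (.node (.leaf 0) (.leaf 3)) (.node (.leaf 0) (.leaf 3))) (.node (.node (.leaf 3) (.leaf 3)) (.node (.leaf 3) (.leaf 3)))) (.node (.node (.node (.leaf 0) (.leaf 0)) (.node (.leaf 3) (.leaf 3))) (.node (.node (.leaf 0) (.leaf 3)) (.node (.leaf 3) (.leaf 3))))) (.node (.node (.node (.node (.leaf 3) (.leaf 3)) (.node (.leaf 0) (.leaf 3))) (.node (.node (.leaf 0) (.leaf 3)) (.node (.leaf 0) (.leaf 3)))) (.node (.node (.node (.leaf 3) (.leaf 3)) (.node (.leaf 3) (.leaf 3))) (.node (.node (.leaf 0) (.leaf 3)) (.node (.leaf 3) (.leaf 3)))))) (.node (.node (.node (.node (.node (.leaf 0) (.leaf 3)) (.node (.leaf 0) (.leaf 0))) (.node (.node (.leaf 0) (.leaf 0)) (.node (.leaf 3) (.leaf 3)))) (.node (.node (.node (.leaf 3) (.leaf 3)) (.node (.leaf 3) (.leaf 3))) (.node (.node (.leaf 3) (.leaf 3)) (.node (.leaf 0) (.leaf 3))))) (.node (.node (.node (.node (.leaf 0) (.leaf 3)) (.node (.leaf 3) (.leaf 0))) (.node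 (.node (.leaf 3) (.leaf 3)) (.node (.leaf 0) (.leaf 3)))) (.node (.node (.node (.leaf 0) (.leaf 0)) (.node (.leaf 0) (.leaf 3))) (.node (.node (.leaf 0) (.leaf 3)) (.node (.leaf 3) (.leaf 3)))))))

def twoKind90 : Janko.Tree (ℕ) :=
  (.node (.node (.node (.node (.node (.node (.leaf 3) (.leaf 3)) (.node (.leaf 3) (.leaf 0))) (.node (.node (.leaf 3) (.leaf 3)) (.node (.leaf 0) (.leaf 3)))) (.node (.node (.node (.leaf 3) (.leaf 3)) (.node (.leaf 3) (.leaf 3))) (.node (.node (.leaf 3) (.leaf 3)) (.node (.leaf 3) (.leaf 3))))) (.node (.node (.node (.node (.leaf 3) (.leaf 3)) (.node (.leaf 3) (.leaf 3))) (.node (.node (.leaf 3) (.leaf 3)) (.node (.leaf 3) (.leaf 3)))) (.node (.node (.node (.leaf 3) (.leaf 0)) (.node (.leaf 0) (.leaf 3))) (.node (.node (.leaf 3) (.leaf 3)) (.node (.leaf 3) (.leaf 3)))))) (.node (.node (.node (.node (.node (.leaf 3) (.leaf 3)) (.node (.leaf 3) (.leaf 3))) (.node (.node (.leaf 3) (.leaf 3)) (.node (.leaf 3) (.leaf 3)))) (.node (.node (.node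 (.leaf 3) (.leaf 3)) (.node (.leaf 3) (.leaf 0))) (.node (.node (.leaf 0) (.leaf 3)) (.node (.leaf 3) (.leaf 3))))) (.node (.node (.node (.node (.leaf 3) (.leaf 0)) (.node (.leaf 0) (.leaf 0))) (.node (.node (.leaf 0) (.leaf 3)) (.node (.leaf 3) (.leaf 3)))) (.node (.node (.node (.leaf 3) (.leaf 3)) (.node (.leaf 3) (.leaf 3))) (.node (.node (.leaf 3) (.leaf 3)) (.node (.leaf 3) (.leaf 3)))))))

def twoKind91 : Janko.Tree (ℕ) :=
  (.node (.node (.node (.node (.node (.node (.leaf 3) (.leaf 3)) (.node (.leaf 0) (.leaf 0))) (.node (.node (.leaf 0) (.leaf 3)) (.node (.leaf 0) (.leaf 3)))) (.node (.node (.node (.leaf 3) (.leaf 3)) (.node (.leaf 0) (.leaf 3))) (.node (.node (.leaf 3) (.leaf 0)) (.node (.leaf 3) (.leaf 3))))) (.node (.node (.node (.node (.leaf 3) (.leaf 3)) (.node (.leaf 3) (.leaf 3))) (.node (.node (.leaf 0) (.leaf 0)) (.node (.leaf 3) (.leaf 3)))) (.node (.node (.node (.leaf 3) (.leaf 0)) (.node (.leaf 0) (.leaf 3))) (.node (.node (.leaf 0) (.leaf 3)) (.node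 (.leaf 3) (.leaf 3)))))) (.node (.node (.node (.node (.node (.leaf 3) (.leaf 3)) (.node (.leaf 0) (.leaf 0))) (.node (.node (.leaf 3) (.leaf 3)) (.node (.leaf 3) (.leaf 0)))) (.node (.node (.node (.leaf 3) (.leaf 0)) (.node (.leaf 3) (.leaf 0))) (.node (.node (.leaf 0) (.leaf 3)) (.node (.leaf 3) (.leaf 3))))) (.node (.node (.node (.node (.leaf 0) (.leaf 0)) (.node (.leaf 3) (.leaf 3))) (.node (.node (.leaf 0) (.leaf 3)) (.node (.leaf 3) (.leaf 3)))) (.node (.node (.node (.leaf 3) (.leaf 0)) (.node (.leaf 0) (.leaf 3))) (.node (.node (.leaf 3) (.leaf 3)) (.node (.leaf 3) (.leaf 3)))))))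

def twoKind92 : Janko.Tree (ℕ) :=
  (.node (.node (.node (.node (.node (.node (.leaf 0) (.leaf 0)) (.node (.leaf 3) (.leaf 3))) (.node (.node (.leaf 3) (.leaf 3)) (.node (.leaf 3) (.leaf 3)))) (.node (.node (.node (.leaf 3) (.leaf 0)) (.node (.leaf 3) (.leaf 3))) (.node (.node (.leaf 0) (.leaf 3)) (.node (.leaf 3) (.leaf 3))))) (.node (.node (.node (.node (.leaf 3) (.leaf 3)) (.node (.leaf 3) (.leaf 3))) (.node (.node (.leaf 3) (.leaf 3)) (.node (.leaf 3) (.leaf 3)))) (.node (.node (.node (.leaf 3) (.leaf 3)) (.node (.leaf 3) (.leaf 3))) (.node (.node (.leaf 3) (.leaf 3)) (.node (.leaf 3) (.leaf 3)))))) (.node (.node (.node (.node (.node (.leaf 0) (.leaf 3)) (.node (.leaf 3) (.leaf 3))) (.node (.node (.leaf 3) (.leaf 3)) (.node (.leaf 3) (.leaf 3)))) (.node (.node (.node (.leaf 3) (.leaf 3)) (.node (.leaf 3) (.leaf 3))) (.node (.node (.leaf 3) (.leaf 0)) (.node (.leaf 0) (.leaf 3))))) (.node (.node (.node (.node (.leaf 3) (.leaf 3)) (.node (.leaf 3) (.leaf 3))) (.node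 (.node (.leaf 3) (.leaf 3)) (.node (.leaf 3) (.leaf 3)))) (.node (.node (.node (.leaf 0) (.leaf 3)) (.node (.leaf 3) (.leaf 3))) (.node (.node (.leaf 3) (.leaf 3)) (.node (.leaf 3) (.leaf 3)))))))

def twoKind93 : Janko.Tree (ℕ) :=
  (.node (.node (.node (.node (.node (.node (.leaf 3) (.leaf 3)) (.node (.leaf 0) (.leaf 3))) (.node (.node (.leaf 0) (.leaf 3)) (.node (.leaf 0) (.leaf 3)))) (.node (.node (.node (.leaf 0) (.leaf 3)) (.node (.leaf 3) (.leaf 3))) (.node (.node (.leaf 3) (.leaf 3)) (.node (.leaf 3) (.leaf 3))))) (.node (.node (.node (.node (.leaf 3) (.leaf 3)) (.node (.leaf 0) (.leaf 3))) (.node (.node (.leaf 3) (.leaf 3)) (.node (.leaf 3) (.leaf 3)))) (.node (.node (.node (.leaf 3) (.leaf 3)) (.node (.leaf 0) (.leaf 3))) (.node (.node (.leaf 3) (.leaf 0)) (.node (.leaf 0) (.leaf 0)))))) (.node (.node (.node (.node (.node (.leaf 3) (.leaf 0)) (.node (.leaf 3) (.leaf 3))) (.node (.node (.leaf 3) (.leaf 0)) (.node (.leaf 3) (.leaf 3)))) (.node (.node (.node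 (.leaf 3) (.leaf 0)) (.node (.leaf 0) (.leaf 0))) (.node (.node (.leaf 0) (.leaf 3)) (.node (.leaf 3) (.leaf 3))))) (.node (.node (.node (.node (.leaf 0) (.leaf 0)) (.node (.leaf 0) (.leaf 3))) (.node (.node (.leaf 0) (.leaf 3)) (.node (.leaf 3) (.leaf 3)))) (.node (.node (.node (.leaf 3) (.leaf 3)) (.node (.leaf 3) (.leaf 3))) (.node (.node (.leaf 3) (.leaf 0)) (.node (.leaf 3) (.leaf 3)))))))

def twoKind94 : Janko.Tree (ℕ) :=
  (.node (.node (.node (.node (.node (.node (.leaf 0) (.leaf 0)) (.node (.leaf 3) (.leaf 3))) (.node (.node (.leaf 3) (.leaf 0)) (.node (.leaf 3) (.leaf 3)))) (.node (.node (.node (.leaf 3) (.leaf 3)) (.node (.leaf 3) (.leaf 3))) (.node (.node (.leaf 0) (.leaf 3)) (.node (.leaf 0) (.leaf 3))))) (.node (.node (.node (.node (.leaf 0) (.leaf 3)) (.node (.leaf 0) (.leaf 3))) (.node (.node (.leaf 3) (.leaf 3)) (.node (.leaf 0) (.leaf 3)))) (.node (.node (.node (.leaf 0) (.leaf 3)) (.node (.leaf 3) (.leaf 3))) (.node (.node (.leaf 3) (.leaf 3)) (.node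 (.leaf 3) (.leaf 3)))))) (.node (.node (.node (.node (.node (.leaf 0) (.leaf 3)) (.node (.leaf 3) (.leaf 3))) (.node (.node (.leaf 0) (.leaf 3)) (.node (.leaf 3) (.leaf 3)))) (.node (.node (.node (.leaf 0) (.leaf 3)) (.node (.leaf 3) (.leaf 3))) (.node (.node (.leaf 3) (.leaf 0)) (.node (.leaf 3) (.leaf 3))))) (.node (.node (.node (.node (.leaf 3) (.leaf 3)) (.node (.leaf 3) (.leaf 3))) (.node (.node (.leaf 3) (.leaf 3)) (.node (.leaf 3) (.leaf 3)))) (.node (.node (.node (.leaf 0) (.leaf 3)) (.node (.leaf 3) (.leaf 3))) (.node (.node (.leaf 3) (.leaf 3)) (.node (.leaf 3) (.leaf 3)))))))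

def twoKind95 : Janko.Tree (ℕ) :=
  (.node (.node (.node (.node (.node (.node (.leaf 0) (.leaf 0)) (.node (.leaf 3) (.leaf 0))) (.node (.node (.leaf 3) (.leaf 3)) (.node (.leaf 3) (.leaf 0)))) (.node (.node (.node (.leaf 0) (.leaf 0)) (.node (.leaf 3) (.leaf 3))) (.node (.node (.leaf 0) (.leaf 3)) (.node (.leaf 0) (.leaf 0))))) (.node (.node (.node (.node (.leaf 0) (.leaf 3)) (.node (.leaf 3) (.leaf 0))) (.node (.node (.leaf 3) (.leaf 3)) (.node (.leaf 3) (.leaf 3)))) (.node (.node (.node (.leaf 3) (.leaf 0)) (.node (.leaf 3) (.leaf 3))) (.node (.node (.leaf 3) (.leaf 3)) (.node (.leaf 3) (.leaf 3)))))) (.node (.node (.node (.node (.node (.leaf 0) (.leaf 3)) (.node (.leaf 3) (.leaf 3))) (.node (.node (.leaf 0) (.leaf 3)) (.node (.leaf 3) (.leaf 3)))) (.node (.node (.node (.leaf 3) (.leaf 3)) (.node (.leaf 0) (.leaf 3))) (.node (.node (.leaf 3) (.leaf 0)) (.node (.leaf 0) (.leaf 0))))) (.node (.node (.node (.node (.leaf 3) (.leaf 3)) (.node (.leaf 0) (.leaf 3))) (.node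 (.node (.leaf 0) (.leaf 0)) (.node (.leaf 0) (.leaf 3)))) (.node (.node (.node (.leaf 0) (.leaf 3)) (.node (.leaf 3) (.leaf 3))) (.node (.node (.leaf 0) (.leaf 3)) (.node (.leaf 3) (.leaf 3)))))))

def twoKind96 : Janko.Tree (ℕ) :=
  (.node (.node (.node (.node (.node (.node (.leaf 3) (.leaf 3)) (.node (.leaf 3) (.leaf 3))) (.node (.node (.leaf 3) (.leaf 3)) (.node (.leaf 3) (.leaf 3)))) (.node (.node (.node (.leaf 3) (.leaf 3)) (.node (.leaf 3) (.leaf 3))) (.node (.node (.leaf 3) (.leaf 3)) (.node (.leaf 3) (.leaf 3))))) (.node (.node (.node (.node (.leaf 3) (.leaf 3)) (.node (.leaf 3) (.leaf 3))) (.node (.node (.leaf 3) (.leaf 0)) (.node (.leaf 3) (.leaf 3)))) (.node (.node (.node (.leaf 3) (.leaf 3)) (.node (.leaf 3) (.leaf 3))) (.node (.node (.leaf 3) (.leaf 3)) (.node (.leaf 3) (.leaf 3)))))) (.node (.node (.node (.node (.node (.leaf 3) (.leaf 0)) (.node (.leaf 3) (.leaf 3))) (.node (.node (.leaf 3) (.leaf 3)) (.node (.leaf 3) (.leaf 3)))) (.node (.node (.node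 (.leaf 3) (.leaf 3)) (.node (.leaf 3) (.leaf 3))) (.node (.node (.leaf 3) (.leaf 3)) (.node (.leaf 3) (.leaf 3))))) (.node (.node (.node (.node (.leaf 0) (.leaf 3)) (.node (.leaf 3) (.leaf 3))) (.node (.node (.leaf 3) (.leaf 3)) (.node (.leaf 3) (.leaf 3)))) (.node (.node (.node (.leaf 3) (.leaf 3)) (.node (.leaf 3) (.leaf 3))) (.node (.node (.leaf 3) (.leaf 3)) (.node (.leaf 3) (.leaf 3)))))))

def twoKind97 : Janko.Tree (ℕ) :=
  (.node (.node (.node (.node (.node (.node (.leaf 0) (.leaf 3)) (.node (.leaf 3) (.leaf 0))) (.node (.node (.leaf 3) (.leaf 0)) (.node (.leaf 3) (.leaf 3)))) (.node (.node (.node (.leaf 0) (.leaf 3)) (.node (.leaf 0) (.leaf 3))) (.node (.node (.leaf 0) (.leaf 3)) (.node (.leaf 0) (.leaf 0))))) (.node (.node (.node (.node (.leaf 0) (.leaf 3)) (.node (.leaf 0) (.leaf 0))) (.node (.node (.leaf 3) (.leaf 3)) (.node (.leaf 3) (.leaf 3)))) (.node (.node (.node (.leaf 0) (.leaf 0)) (.node (.leaf 3) (.leaf 3))) (.node (.node (.leaf 0) (.leaf 0)) (.node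 (.leaf 3) (.leaf 3)))))) (.node (.node (.node (.node (.node (.leaf 0) (.leaf 3)) (.node (.leaf 3) (.leaf 3))) (.node (.node (.leaf 0) (.leaf 0)) (.node (.leaf 0) (.leaf 3)))) (.node (.node (.node (.leaf 0) (.leaf 3)) (.node (.leaf 0) (.leaf 3))) (.node (.node (.leaf 3) (.leaf 3)) (.node (.leaf 3) (.leaf 3))))) (.node (.node (.node (.node (.leaf 3) (.leaf 3)) (.node (.leaf 3) (.leaf 3))) (.node (.node (.leaf 0) (.leaf 3)) (.node (.leaf 0) (.leaf 3)))) (.node (.node (.node (.leaf 0) (.leaf 3)) (.node (.leaf 3) (.leaf 3))) (.node (.node (.leaf 3) (.leaf 3)) (.node (.leaf 3) (.leaf 3)))))))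

def twoKind98 : Janko.Tree (ℕ) :=
  (.node (.node (.node (.node (.node (.node (.leaf 3) (.leaf 0)) (.node (.leaf 3) (.leaf 3))) (.node (.node (.leaf 0) (.leaf 3)) (.node (.leaf 3) (.leaf 3)))) (.node (.node (.node (.leaf 3) (.leaf 3)) (.node (.leaf 3) (.leaf 3))) (.node (.node (.leaf 3) (.leaf 3)) (.node (.leaf 3) (.leaf 3))))) (.node (.node (.node (.node (.leaf 3) (.leaf 3)) (.node (.leaf 3) (.leaf 3))) (.node (.node (.leaf 0) (.leaf 0)) (.node (.leaf 3) (.leaf 3)))) (.node (.node (.node (.leaf 3) (.leaf 3)) (.node (.leaf 3) (.leaf 3))) (.node (.node (.leaf 3) (.leaf 3)) (.node (.leaf 3) (.leaf 3)))))) (.node (.node (.node (.node (.node (.leaf 0) (.leaf 0)) (.node (.leaf 3) (.leaf 3))) (.node (.node (.leaf 3) (.leaf 3)) (.node (.leaf 3) (.leaf 3)))) (.node (.node (.node (.leaf 3) (.leaf 3)) (.node (.leaf 3) (.leaf 3))) (.node (.node (.leaf 0) (.leaf 3)) (.node (.leaf 3) (.leaf 3))))) (.node (.node (.node (.node (.leaf 3) (.leaf 3)) (.node (.leaf 3) (.leaf 3))) (.node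 (.node (.leaf 3) (.leaf 3)) (.node (.leaf 3) (.leaf 3)))) (.node (.node (.node (.leaf 3) (.leaf 3)) (.node (.leaf 3) (.leaf 3))) (.node (.node (.leaf 3) (.leaf 3)) (.node (.leaf 3) (.leaf 3)))))))

def twoKind99 : Janko.Tree (ℕ) :=
  (.node (.node (.node (.node (.node (.node (.leaf 3) (.leaf 0)) (.node (.leaf 3) (.leaf 3))) (.node (.node (.leaf 3) (.leaf 0)) (.node (.leaf 0) (.leaf 3)))) (.node (.node (.node (.leaf 3) (.leaf 3)) (.node (.leaf 0) (.leaf 3))) (.node (.node (.leaf 3) (.leaf 3)) (.node (.leaf 0) (.leaf 3))))) (.node (.node (.node (.node (.leaf 0) (.leaf 3)) (.node (.leaf 3) (.leaf 3))) (.node (.node (.leaf 0) (.leaf 0)) (.node (.leaf 0) (.leaf 3)))) (.node (.node (.node (.leaf 3) (.leaf 3)) (.node (.leaf 0) (.leaf 3))) (.node (.node (.leaf 3) (.leaf 3)) (.node (.leaf 0) (.leaf 0)))))) (.node (.node (.node (.node (.node (.leaf 0) (.leaf 0)) (.node (.leaf 3) (.leaf 0))) (.node (.node (.leaf 3) (.leaf 3)) (.node (.leaf 3) (.leaf 3)))) (.node (.node (.node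 (.leaf 3) (.leaf 3)) (.node (.leaf 3) (.leaf 3))) (.node (.node (.leaf 0) (.leaf 3)) (.node (.leaf 3) (.leaf 3))))) (.node (.node (.node (.node (.leaf 0) (.leaf 3)) (.node (.leaf 0) (.leaf 3))) (.node (.node (.leaf 3) (.leaf 3)) (.node (.leaf 3) (.leaf 3)))) (.node (.node (.node (.leaf 0) (.leaf 3)) (.node (.leaf 0) (.leaf 3))) (.node (.node (.leaf 3) (.leaf 3)) (.node (.leaf 0) (.leaf 3)))))))

def twoKind100 : Janko.Tree (ℕ) :=
  (.node (.node (.node (.node (.node (.node (.leaf 0) (.leaf 3)) (.node (.leaf 3) (.leaf 3))) (.node (.node (.leaf 3) (.leaf 3)) (.node (.leaf 3) (.leaf 3)))) (.node (.node (.node (.leaf 3) (.leaf 3)) (.node (.leaf 3) (.leaf 3))) (.node (.node (.leaf 3) (.leaf 3)) (.node (.leaf 3) (.leaf 3))))) (.node (.node (.node (.node (.leaf 3) (.leaf 3)) (.node (.leaf 3) (.leaf 3))) (.node (.node (.leaf 3) (.leaf 3)) (.node (.leaf 3) (.leaf 3)))) (.node (.node (.node (.leaf 0) (.leaf 3)) (.node (.leaf 3) (.leaf 3))) (.node (.node (.leaf 3) (.leaf 3))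 (.node (.leaf 3) (.leaf 3)))))) (.node (.node (.node (.node (.node (.leaf 3) (.leaf 3)) (.node (.leaf 3) (.leaf 3))) (.node (.node (.leaf 0) (.leaf 3)) (.node (.leaf 3) (.leaf 3)))) (.node (.node (.node (.leaf 0) (.leaf 3)) (.node (.leaf 3) (.leaf 3))) (.node (.node (.leaf 3) (.leaf 3)) (.node (.leaf 3) (.leaf 3))))) (.node (.node (.node (.node (.leaf 3) (.leaf 3)) (.node (.leaf 3) (.leaf 3))) (.node (.node (.leaf 3) (.leaf 3)) (.node (.leaf 0) (.leaf 3)))) (.node (.node (.node (.leaf 3) (.leaf 3)) (.node (.leaf 3) (.leaf 3))) (.node (.node (.leaf 3) (.leaf 3)) (.node (.leaf 3) (.leaf 3)))))))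

def twoKind101 : Janko.Tree (ℕ) :=
  (.node (.node (.node (.node (.node (.node (.leaf 3) (.leaf 0)) (.node (.leaf 3) (.leaf 3))) (.node (.node (.leaf 0) (.leaf 3)) (.node (.leaf 3) (.leaf 3)))) (.node (.node (.node (.leaf 3) (.leaf 3)) (.node (.leaf 3) (.leaf 0))) (.node (.node (.leaf 3) (.leaf 3)) (.node (.leaf 3) (.leaf 3))))) (.node (.node (.node (.node (.leaf 0) (.leaf 3)) (.node (.leaf 3) (.leaf 0))) (.node (.node (.leaf 0) (.leaf 0)) (.node (.leaf 3) (.leaf 3)))) (.node (.node (.node (.leaf 3) (.leaf 3)) (.node (.leaf 3) (.leaf 3))) (.node (.node (.leaf 3) (.leaf 3)) (.node (.leaf 0) (.leaf 3)))))) (.node (.node (.node (.node (.node (.leaf 0) (.leaf 0)) (.node (.leaf 3) (.leaf 3))) (.node (.node (.leaf 3) (.leaf 3)) (.node (.leaf 3) (.leaf 3)))) (.node (.node (.node (.leaf 3) (.leaf 3)) (.node (.leaf 3) (.leaf 3))) (.node (.node (.leaf 0) (.leaf 0)) (.node (.leaf 0) (.leaf 3))))) (.node (.node (.node (.node (.leaf 3) (.leaf 3)) (.node (.leaf 0) (.leaf 3))) (.node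 (.node (.leaf 0) (.leaf 0)) (.node (.leaf 3) (.leaf 3)))) (.node (.node (.node (.leaf 0) (.leaf 3)) (.node (.leaf 0) (.leaf 0))) (.node (.node (.leaf 0) (.leaf 3)) (.node (.leaf 0) (.leaf 3)))))))

def twoKind102 : Janko.Tree (ℕ) :=
  (.node (.node (.node (.node (.node (.node (.leaf 0) (.leaf 3)) (.node (.leaf 0) (.leaf 3))) (.node (.node (.leaf 3) (.leaf 3)) (.node (.leaf 3) (.leaf 3)))) (.node (.node (.node (.leaf 3) (.leaf 3)) (.node (.leaf 3) (.leaf 3))) (.node (.node (.leaf 0) (.leaf 3)) (.node (.leaf 3) (.leaf 3))))) (.node (.node (.node (.node (.leaf 3) (.leaf 3)) (.node (.leaf 3) (.leaf 3))) (.node (.node (.leaf 3) (.leaf 3)) (.node (.leaf 3) (.leaf 3)))) (.node (.node (.node (.leaf 3) (.leaf 3)) (.node (.leaf 0) (.leaf 3))) (.node (.node (.leaf 0) (.leaf 3)) (.node (.leaf 3) (.leaf 3)))))) (.node (.node (.node (.node (.node (.leaf 3) (.leaf 3)) (.node (.leaf 3) (.leaf 3))) (.node (.node (.leaf 3) (.leaf 3)) (.node (.leaf 0) (.leaf 3)))) (.node (.node (.node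 (.leaf 3) (.leaf 3)) (.node (.leaf 3) (.leaf 3))) (.node (.node (.leaf 3) (.leaf 3)) (.node (.leaf 3) (.leaf 3))))) (.node (.node (.node (.node (.leaf 3) (.leaf 0)) (.node (.leaf 3) (.leaf 3))) (.node (.node (.leaf 3) (.leaf 3)) (.node (.leaf 3) (.leaf 3)))) (.node (.node (.node (.leaf 3) (.leaf 0)) (.node (.leaf 3) (.leaf 3))) (.node (.node (.leaf 3) (.leaf 0)) (.node (.leaf 3) (.leaf 3)))))))

def twoKind103 : Janko.Tree (ℕ) :=
  (.node (.node (.node (.node (.node (.node (.leaf 0) (.leaf 0)) (.node (.leaf 0) (.leaf 0))) (.node (.node (.leaf 3) (.leaf 3)) (.node (.leaf 3) (.leaf 0)))) (.node (.node (.node (.leaf 0) (.leaf 0)) (.node (.leaf 3) (.leaf 3))) (.node (.node (.leaf 3) (.leaf 3)) (.node (.leaf 3) (.leaf 3))))) (.node (.node (.node (.node (.leaf 3) (.leaf 0)) (.node (.leaf 3) (.leaf 3))) (.node (.node (.leaf 0) (.leaf 3)) (.node (.leaf 3) (.leaf 3)))) (.node (.node (.node (.leaf 0) (.leaf 0)) (.node (.leaf 3) (.leaf 3))) (.node (.node (.leaf 0) (.leaf 3))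 (.node (.leaf 3) (.leaf 3)))))) (.node (.node (.node (.node (.node (.leaf 0) (.leaf 3)) (.node (.leaf 0) (.leaf 3))) (.node (.node (.leaf 3) (.leaf 3)) (.node (.leaf 0) (.leaf 3)))) (.node (.node (.node (.leaf 0) (.leaf 3)) (.node (.leaf 3) (.leaf 3))) (.node (.node (.leaf 3) (.leaf 3)) (.node (.leaf 0) (.leaf 3))))) (.node (.node (.node (.node (.leaf 3) (.leaf 3)) (.node (.leaf 3) (.leaf 3))) (.node (.node (.leaf 3) (.leaf 3)) (.node (.leaf 3) (.leaf 3)))) (.node (.node (.node (.leaf 3) (.leaf 0)) (.node (.leaf 3) (.leaf 3))) (.node (.node (.leaf 3) (.leaf 3)) (.node (.leaf 3) (.leaf 3)))))))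

def twoKind104 : Janko.Tree (ℕ) :=
  (.node (.node (.node (.node (.node (.node (.leaf 3) (.leaf 3)) (.node (.leaf 3) (.leaf 3))) (.node (.node (.leaf 0) (.leaf 3)) (.node (.leaf 3) (.leaf 3)))) (.node (.node (.node (.leaf 3) (.leaf 3)) (.node (.leaf 3) (.leaf 3))) (.node (.node (.leaf 3) (.leaf 3)) (.node (.leaf 0) (.leaf 3))))) (.node (.node (.node (.node (.leaf 3) (.leaf 3)) (.node (.leaf 3) (.leaf 3))) (.node (.node (.leaf 3) (.leaf 3)) (.node (.leaf 3) (.leaf 3)))) (.node (.node (.node (.leaf 3) (.leaf 3)) (.node (.leaf 3) (.leaf 3))) (.node (.node (.leaf 3) (.leaf 3)) (.node (.leaf 0) (.leaf 3)))))) (.node (.node (.node (.node (.node (.leaf 3) (.leaf 3)) (.node (.leaf 3) (.leaf 3))) (.node (.node (.leaf 3) (.leaf 3)) (.node (.leaf 3) (.leaf 3)))) (.node (.node (.node (.leaf 3) (.leaf 3)) (.node (.leaf 3) (.leaf 3))) (.node (.node (.leaf 3) (.leaf 3)) (.node (.leaf 3) (.leaf 3))))) (.node (.node (.node (.node (.leaf 3) (.leaf 3)) (.node (.leaf 0) (.leaf 3))) (.node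 (.node (.leaf 0) (.leaf 3)) (.node (.leaf 3) (.leaf 3)))) (.node (.node (.node (.leaf 0) (.leaf 3)) (.node (.leaf 3) (.leaf 3))) (.node (.node (.leaf 0) (.leaf 3)) (.node (.leaf 0) (.leaf 3)))))))

def twoKind105 : Janko.Tree (ℕ) :=
  (.node (.node (.node (.node (.node (.node (.leaf 0) (.leaf 3)) (.node (.leaf 0) (.leaf 0))) (.node (.node (.leaf 3) (.leaf 3)) (.node (.leaf 3) (.leaf 3)))) (.node (.node (.node (.leaf 0) (.leaf 0)) (.node (.leaf 3) (.leaf 3))) (.node (.node (.leaf 0) (.leaf 3)) (.node (.leaf 3) (.leaf 3))))) (.node (.node (.node (.node (.leaf 0) (.leaf 0)) (.node (.leaf 3) (.leaf 3))) (.node (.node (.leaf 3) (.leaf 0)) (.node (.leaf 3) (.leaf 3)))) (.node (.node (.node (.leaf 0) (.leaf 0)) (.node (.leaf 0) (.leaf 3))) (.node (.node (.leaf 0) (.leaf 0)) (.node (.leaf 3) (.leaf 3)))))) (.node (.node (.node (.node (.node (.leaf 3) (.leaf 3)) (.node (.leaf 0) (.leaf 3))) (.node (.node (.leaf 0) (.leaf 3)) (.node (.leaf 0) (.leaf 3)))) (.node (.node (.node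 (.leaf 0) (.leaf 3)) (.node (.leaf 3) (.leaf 3))) (.node (.node (.leaf 0) (.leaf 3)) (.node (.leaf 0) (.leaf 3))))) (.node (.node (.node (.node (.leaf 0) (.leaf 3)) (.node (.leaf 3) (.leaf 0))) (.node (.node (.leaf 3) (.leaf 3)) (.node (.leaf 0) (.leaf 3)))) (.node (.node (.node (.leaf 3) (.leaf 3)) (.node (.leaf 0) (.leaf 3))) (.node (.node (.leaf 3) (.leaf 3)) (.node (.leaf 3) (.leaf 3)))))))

def twoKind106 : Janko.Tree (ℕ) :=
  (.node (.node (.node (.node (.node (.node (.leaf 0) (.leaf 3)) (.node (.leaf 3) (.leaf 3))) (.node (.node (.leaf 0) (.leaf 3)) (.node (.leaf 3) (.leaf 3)))) (.node (.node (.node (.leaf 3) (.leaf 3)) (.node (.leaf 3) (.leaf 3))) (.node (.node (.leaf 3) (.leaf 3)) (.node (.leaf 3) (.leaf 3))))) (.node (.node (.node (.node (.leaf 3) (.leaf 3)) (.node (.leaf 0) (.leaf 3))) (.node (.node (.leaf 3) (.leaf 3)) (.node (.leaf 3) (.leaf 0)))) (.node (.node (.node (.leaf 3) (.leaf 3)) (.node (.leaf 3) (.leaf 3))) (.node (.node (.leaf 3) (.leaf 3))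 (.node (.leaf 3) (.leaf 3)))))) (.node (.node (.node (.node (.node (.leaf 3) (.leaf 3)) (.node (.leaf 3) (.leaf 3))) (.node (.node (.leaf 3) (.leaf 3)) (.node (.leaf 3) (.leaf 3)))) (.node (.node (.node (.leaf 3) (.leaf 0)) (.node (.leaf 0) (.leaf 0))) (.node (.node (.leaf 3) (.leaf 0)) (.node (.leaf 3) (.leaf 3))))) (.node (.node (.node (.node (.leaf 3) (.leaf 3)) (.node (.leaf 0) (.leaf 3))) (.node (.node (.leaf 0) (.leaf 0)) (.node (.leaf 3) (.leaf 3)))) (.node (.node (.node (.leaf 3) (.leaf 3)) (.node (.leaf 3) (.leaf 3))) (.node (.node (.leaf 0) (.leaf 3)) (.node (.leaf 3) (.leaf 3)))))))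

def twoKind107 : Janko.Tree (ℕ) :=
  (.node (.node (.node (.node (.node (.node (.leaf 0) (.leaf 3)) (.node (.leaf 0) (.leaf 3))) (.node (.node (.leaf 0) (.leaf 3)) (.node (.leaf 0) (.leaf 3)))) (.node (.node (.node (.leaf 3) (.leaf 3)) (.node (.leaf 0) (.leaf 3))) (.node (.node (.leaf 0) (.leaf 0)) (.node (.leaf 0) (.leaf 3))))) (.node (.node (.node (.node (.leaf 3) (.leaf 3)) (.node (.leaf 3) (.leaf 3))) (.node (.node (.leaf 3) (.leaf 3)) (.node (.leaf 3) (.leaf 0)))) (.node (.node (.node (.leaf 3) (.leaf 0)) (.node (.leaf 3) (.leaf 3))) (.node (.node (.leaf 3) (.leaf 3)) (.node (.leaf 3) (.leaf 3)))))) (.node (.node (.node (.node (.node (.leaf 3) (.leaf 3)) (.node (.leaf 3) (.leaf 3))) (.node (.node (.leaf 3) (.leaf 0)) (.node (.leaf 3) (.leaf 0)))) (.node (.node (.node (.leaf 3) (.leaf 3)) (.node (.leaf 0) (.leaf 0))) (.node (.node (.leaf 3) (.leaf 0)) (.node (.leaf 3) (.leaf 3))))) (.node (.node (.node (.node (.leaf 0) (.leaf 3)) (.node (.leaf 0) (.leaf 3))) (.node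 (.node (.leaf 0) (.leaf 0)) (.node (.leaf 0) (.leaf 3)))) (.node (.node (.node (.leaf 3) (.leaf 3)) (.node (.leaf 3) (.leaf 3))) (.node (.node (.leaf 0) (.leaf 0)) (.node (.leaf 0) (.leaf 3)))))))

def twoKind108 : Janko.Tree (ℕ) :=
  (.node (.node (.node (.node (.node (.node (.leaf 3) (.leaf 0)) (.node (.leaf 3) (.leaf 3))) (.node (.node (.leaf 3) (.leaf 3)) (.node (.leaf 3) (.leaf 3)))) (.node (.node (.node (.leaf 0) (.leaf 3)) (.node (.leaf 3) (.leaf 3))) (.node (.node (.leaf 3) (.leaf 3)) (.node (.leaf 3) (.leaf 3))))) (.node (.node (.node (.node (.leaf 0) (.leaf 0)) (.node (.leaf 3) (.leaf 3))) (.node (.node (.leaf 0) (.leaf 3)) (.node (.leaf 3) (.leaf 3)))) (.node (.node (.node (.leaf 3) (.leaf 3)) (.node (.leaf 0) (.leaf 3))) (.node (.node (.leaf 0) (.leaf 3)) (.node (.leaf 3) (.leaf 3)))))) (.node (.node (.node (.node (.node (.leaf 3) (.leaf 3)) (.node (.leaf 0) (.leaf 3))) (.node (.node (.leaf 3) (.leaf 3)) (.node (.leaf 3) (.leaf 3)))) (.node (.node (.node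 (.leaf 3) (.leaf 3)) (.node (.leaf 3) (.leaf 3))) (.node (.node (.leaf 0) (.leaf 3)) (.node (.leaf 3) (.leaf 3))))) (.node (.node (.node (.node (.leaf 3) (.leaf 3)) (.node (.leaf 3) (.leaf 3))) (.node (.node (.leaf 0) (.leaf 3)) (.node (.leaf 3) (.leaf 3)))) (.node (.node (.node (.leaf 3) (.leaf 3)) (.node (.leaf 3) (.leaf 3))) (.node (.node (.leaf 3) (.leaf 3)) (.node (.leaf 3) (.leaf 3)))))))

def twoKind109 : Janko.Tree (ℕ) :=
  (.node (.node (.node (.node (.node (.node (.leaf 3) (.leaf 3)) (.node (.leaf 3) (.leaf 3))) (.node (.node (.leaf 0) (.leaf 3)) (.node (.leaf 0) (.leaf 3)))) (.node (.node (.node (.leaf 3) (.leaf 0)) (.node (.leaf 0) (.leaf 3))) (.node (.node (.leaf 3) (.leaf 0)) (.node (.leaf 3) (.leaf 3))))) (.node (.node (.node (.node (.leaf 3) (.leaf 3)) (.node (.leaf 0) (.leaf 3))) (.node (.node (.leaf 3) (.leaf 3)) (.node (.leaf 0) (.leaf 3)))) (.node (.node (.node (.leaf 3) (.leaf 3)) (.node (.leaf 3) (.leaf 3))) (.node (.node (.leaf 3) (.leaf 3))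 (.node (.leaf 0) (.leaf 3)))))) (.node (.node (.node (.node (.node (.leaf 3) (.leaf 3)) (.node (.leaf 3) (.leaf 3))) (.node (.node (.leaf 0) (.leaf 0)) (.node (.leaf 3) (.leaf 0)))) (.node (.node (.node (.leaf 0) (.leaf 0)) (.node (.leaf 3) (.leaf 0))) (.node (.node (.leaf 3) (.leaf 3)) (.node (.leaf 3) (.leaf 3))))) (.node (.node (.node (.node (.leaf 0) (.leaf 0)) (.node (.leaf 0) (.leaf 3))) (.node (.node (.leaf 3) (.leaf 0)) (.node (.leaf 0) (.leaf 0)))) (.node (.node (.node (.leaf 3) (.leaf 0)) (.node (.leaf 3) (.leaf 3))) (.node (.node (.leaf 0) (.leaf 3)) (.node (.leaf 3) (.leaf 3)))))))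

def twoKind110 : Janko.Tree (ℕ) :=
  (.node (.node (.node (.node (.node (.node (.leaf 3) (.leaf 3)) (.node (.leaf 3) (.leaf 3))) (.node (.node (.leaf 3) (.leaf 3)) (.node (.leaf 3) (.leaf 3)))) (.node (.node (.node (.leaf 0) (.leaf 3)) (.node (.leaf 3) (.leaf 3))) (.node (.node (.leaf 3) (.leaf 3)) (.node (.leaf 3) (.leaf 3))))) (.node (.node (.node (.node (.leaf 0) (.leaf 3)) (.node (.leaf 3) (.leaf 3))) (.node (.node (.leaf 3) (.leaf 3)) (.node (.leaf 3) (.leaf 3)))) (.node (.node (.node (.leaf 0) (.leaf 3)) (.node (.leaf 3) (.leaf 3))) (.node (.node (.leaf 3) (.leaf 3)) (.node (.leaf 3) (.leaf 3)))))) (.node (.node (.node (.node (.node (.leaf 0) (.leaf 0)) (.node (.leaf 3) (.leaf 3))) (.node (.node (.leaf 3) (.leaf 3)) (.node (.leaf 0) (.leaf 3)))) (.node (.node (.node (.leaf 3) (.leaf 3)) (.node (.leaf 3) (.leaf 3))) (.node (.node (.leaf 0) (.leaf 3)) (.node (.leaf 3) (.leaf 3))))) (.node (.node (.node (.node (.leaf 3) (.leaf 3)) (.node (.leaf 3) (.leaf 0))) (.node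 (.node (.leaf 0) (.leaf 3)) (.node (.leaf 3) (.leaf 3)))) (.node (.node (.node (.leaf 3) (.leaf 3)) (.node (.leaf 3) (.leaf 3))) (.node (.node (.leaf 3) (.leaf 3)) (.node (.leaf 3) (.leaf 3)))))))

def twoKind111 : Janko.Tree (ℕ) :=
  (.node (.node (.node (.node (.node (.node (.leaf 0) (.leaf 0)) (.node (.leaf 3) (.leaf 0))) (.node (.node (.leaf 3) (.leaf 3)) (.node (.leaf 3) (.leaf 3)))) (.node (.node (.node (.leaf 0) (.leaf 3)) (.node (.leaf 3) (.leaf 3))) (.node (.node (.leaf 3) (.leaf 3)) (.node (.leaf 3) (.leaf 3))))) (.node (.node (.node (.node (.leaf 0) (.leaf 0)) (.node (.leaf 3) (.leaf 0))) (.node (.node (.leaf 0) (.leaf 3)) (.node (.leaf 3) (.leaf 3)))) (.node (.node (.node (.leaf 0) (.leaf 0)) (.node (.leaf 3) (.leaf 3))) (.node (.node (.leaf 3) (.leaf 3)) (.node (.leaf 0) (.leaf 3)))))) (.node (.node (.node (.node (.node (.leaf 0) (.leaf 0)) (.node (.leaf 0) (.leaf 0))) (.node (.node (.leaf 3) (.leaf 3)) (.node (.leaf 3) (.leaf 3)))) (.node (.node (.node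 (.leaf 3) (.leaf 3)) (.node (.leaf 0) (.leaf 3))) (.node (.node (.leaf 0) (.leaf 0)) (.node (.leaf 3) (.leaf 3))))) (.node (.node (.node (.node (.leaf 3) (.leaf 3)) (.node (.leaf 3) (.leaf 3))) (.node (.node (.leaf 0) (.leaf 0)) (.node (.leaf 3) (.leaf 3)))) (.node (.node (.node (.leaf 0) (.leaf 0)) (.node (.leaf 3) (.leaf 3))) (.node (.node (.leaf 3) (.leaf 3)) (.node (.leaf 3) (.leaf 3)))))))

def twoKind112 : Janko.Tree (ℕ) :=
  (.node (.node (.node (.node (.node (.node (.leaf 3) (.leaf 3)) (.node (.leaf 0) (.leaf 3))) (.node (.node (.leaf 3) (.leaf 3)) (.node (.leaf 3) (.leaf 3)))) (.node (.node (.node (.leaf 0) (.leaf 3)) (.node (.leaf 3) (.leaf 3))) (.node (.node (.leaf 3) (.leaf 3)) (.node (.leaf 3) (.leaf 3))))) (.node (.node (.node (.node (.leaf 3) (.leaf 3)) (.node (.leaf 0) (.leaf 3))) (.node (.node (.leaf 3) (.leaf 3)) (.node (.leaf 0) (.leaf 3)))) (.node (.node (.node (.leaf 3) (.leaf 3)) (.node (.leaf 3) (.leaf 3))) (.node (.node (.leaf 3) (.leaf 3))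 (.node (.leaf 3) (.leaf 3)))))) (.node (.node (.node (.node (.node (.leaf 3) (.leaf 3)) (.node (.leaf 3) (.leaf 3))) (.node (.node (.leaf 0) (.leaf 3)) (.node (.leaf 3) (.leaf 3)))) (.node (.node (.node (.leaf 0) (.leaf 3)) (.node (.leaf 3) (.leaf 3))) (.node (.node (.leaf 3) (.leaf 3)) (.node (.leaf 3) (.leaf 3))))) (.node (.node (.node (.node (.leaf 0) (.leaf 3)) (.node (.leaf 3) (.leaf 3))) (.node (.node (.leaf 3) (.leaf 3)) (.node (.leaf 0) (.leaf 3)))) (.node (.node (.node (.leaf 3) (.leaf 3)) (.node (.leaf 0) (.leaf 3))) (.node (.node (.leaf 3) (.leaf 3)) (.node (.leaf 3) (.leaf 3)))))))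

def twoKind113 : Janko.Tree (ℕ) :=
  (.node (.node (.node (.node (.node (.node (.leaf 0) (.leaf 0)) (.node (.leaf 3) (.leaf 3))) (.node (.node (.leaf 3) (.leaf 0)) (.node (.leaf 0) (.leaf 3)))) (.node (.node (.node (.leaf 3) (.leaf 3)) (.node (.leaf 0) (.leaf 0))) (.node (.node (.leaf 3) (.leaf 3)) (.node (.leaf 0) (.leaf 3))))) (.node (.node (.node (.node (.leaf 0) (.leaf 3)) (.node (.leaf 3) (.leaf 0))) (.node (.node (.leaf 3) (.leaf 0)) (.node (.leaf 3) (.leaf 0)))) (.node (.node (.node (.leaf 0) (.leaf 3)) (.node (.leaf 0) (.leaf 3))) (.node (.node (.leaf 0) (.leaf 3)) (.node (.leaf 3) (.leaf 3)))))) (.node (.node (.node (.node (.node (.leaf 0) (.leaf 0)) (.node (.leaf 3) (.leaf 0))) (.node (.node (.leaf 3) (.leaf 3)) (.node (.leaf 0) (.leaf 3)))) (.node (.node (.node (.leaf 3) (.leaf 3)) (.node (.leaf 0) (.leaf 3))) (.node (.node (.leaf 0) (.leaf 3)) (.node (.leaf 3) (.leaf 3))))) (.node (.node (.node (.node (.leaf 3) (.leaf 3)) (.node (.leaf 3) (.leaf 3))) (.node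 (.node (.leaf 0) (.leaf 3)) (.node (.leaf 3) (.leaf 3)))) (.node (.node (.node (.leaf 0) (.leaf 3)) (.node (.leaf 3) (.leaf 3))) (.node (.node (.leaf 3) (.leaf 0)) (.node (.leaf 0) (.leaf 3)))))))

def twoKind114 : Janko.Tree (ℕ) :=
  (.node (.node (.node (.node (.node (.node (.leaf 3) (.leaf 3)) (.node (.leaf 3) (.leaf 3))) (.node (.node (.leaf 3) (.leaf 3)) (.node (.leaf 3) (.leaf 3)))) (.node (.node (.node (.leaf 0) (.leaf 0)) (.node (.leaf 3) (.leaf 3))) (.node (.node (.leaf 3) (.leaf 0)) (.node (.leaf 3) (.leaf 3))))) (.node (.node (.node (.node (.leaf 0) (.leaf 3)) (.node (.leaf 3) (.leaf 3))) (.node (.node (.leaf 3) (.leaf 3)) (.node (.leaf 3) (.leaf 3)))) (.node (.node (.node (.leaf 3) (.leaf 3)) (.node (.leaf 3) (.leaf 3))) (.node (.node (.leaf 3) (.leaf 0)) (.node (.leaf 3) (.leaf 3)))))) (.node (.node (.node (.node (.node (.leaf 3) (.leaf 3)) (.node (.leaf 3) (.leaf 3))) (.node (.node (.leaf 0) (.leaf 3)) (.node (.leaf 3) (.leaf 0)))) (.node (.node (.node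 (.leaf 0) (.leaf 3)) (.node (.leaf 3) (.leaf 3))) (.node (.node (.leaf 3) (.leaf 0)) (.node (.leaf 0) (.leaf 0))))) (.node (.node (.node (.node (.leaf 0) (.leaf 3)) (.node (.leaf 0) (.leaf 3))) (.node (.node (.leaf 0) (.leaf 3)) (.node (.leaf 0) (.leaf 3)))) (.node (.node (.node (.leaf 3) (.leaf 3)) (.node (.leaf 0) (.leaf 3))) (.node (.node (.leaf 0) (.leaf 3)) (.node (.leaf 3) (.leaf 3)))))))

def twoKind115 : Janko.Tree (ℕ) :=
  (.node (.node (.node (.node (.node (.node (.leaf 3) (.leaf 3)) (.node (.leaf 0) (.leaf 3))) (.node (.node (.leaf 0) (.leaf 3)) (.node (.leaf 3) (.leaf 3)))) (.node (.node (.node (.leaf 0) (.leaf 3)) (.node (.leaf 0) (.leaf 3))) (.node (.node (.leaf 0) (.leaf 3)) (.node (.leaf 0) (.leaf 3))))) (.node (.node (.node (.node (.leaf 0) (.leaf 3)) (.node (.leaf 3) (.leaf 3))) (.node (.node (.leaf 3) (.leaf 3)) (.node (.leaf 3) (.leaf 3)))) (.node (.node (.node (.leaf 3) (.leaf 3)) (.node (.leaf 3) (.leaf 3))) (.node (.node (.leaf 3) (.leaf 0))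 (.node (.leaf 3) (.leaf 3)))))) (.node (.node (.node (.node (.node (.leaf 0) (.leaf 3)) (.node (.leaf 3) (.leaf 3))) (.node (.node (.leaf 0) (.leaf 3)) (.node (.leaf 3) (.leaf 3)))) (.node (.node (.node (.leaf 0) (.leaf 3)) (.node (.leaf 3) (.leaf 3))) (.node (.node (.leaf 3) (.leaf 3)) (.node (.leaf 0) (.leaf 3))))) (.node (.node (.node (.node (.leaf 0) (.leaf 3)) (.node (.leaf 0) (.leaf 3))) (.node (.node (.leaf 0) (.leaf 3)) (.node (.leaf 0) (.leaf 3)))) (.node (.node (.node (.leaf 3) (.leaf 3)) (.node (.leaf 0) (.leaf 3))) (.node (.node (.leaf 3) (.leaf 3)) (.node (.leaf 3) (.leaf 3)))))))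

def twoKind116 : Janko.Tree (ℕ) :=
  (.node (.node (.node (.node (.node (.node (.leaf 0) (.leaf 0)) (.node (.leaf 3) (.leaf 3))) (.node (.node (.leaf 3) (.leaf 0)) (.node (.leaf 3) (.leaf 3)))) (.node (.node (.node (.leaf 3) (.leaf 3)) (.node (.leaf 3) (.leaf 3))) (.node (.node (.leaf 3) (.leaf 3)) (.node (.leaf 3) (.leaf 3))))) (.node (.node (.node (.node (.leaf 3) (.leaf 3)) (.node (.leaf 3) (.leaf 3))) (.node (.node (.leaf 3) (.leaf 3)) (.node (.leaf 3) (.leaf 3)))) (.node (.node (.node (.leaf 3) (.leaf 3)) (.node (.leaf 0) (.leaf 3))) (.node (.node (.leaf 3) (.leaf 3)) (.node (.leaf 3) (.leaf 3)))))) (.node (.node (.node (.node (.node (.leaf 3) (.leaf 3)) (.node (.leaf 3) (.leaf 0))) (.node (.node (.leaf 3) (.leaf 0)) (.node (.leaf 3) (.leaf 3)))) (.node (.node (.node (.leaf 0) (.leaf 3)) (.node (.leaf 0) (.leaf 3))) (.node (.node (.leaf 0) (.leaf 3)) (.node (.leaf 3) (.leaf 3))))) (.node (.node (.node (.node (.leaf 3) (.leaf 3)) (.node (.leaf 3) (.leaf 0))) (.node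 (.node (.leaf 3) (.leaf 0)) (.node (.leaf 3) (.leaf 3)))) (.node (.node (.node (.leaf 0) (.leaf 3)) (.node (.leaf 3) (.leaf 3))) (.node (.node (.leaf 3) (.leaf 3)) (.node (.leaf 3) (.leaf 3)))))))

def twoKind117 : Janko.Tree (ℕ) :=
  (.node (.node (.node (.node (.node (.node (.leaf 3) (.leaf 3)) (.node (.leaf 3) (.leaf 3))) (.node (.node (.leaf 0) (.leaf 3)) (.node (.leaf 3) (.leaf 3)))) (.node (.node (.node (.leaf 0) (.leaf 3)) (.node (.leaf 3) (.leaf 3))) (.node (.node (.leaf 0) (.leaf 3)) (.node (.leaf 3) (.leaf 3))))) (.node (.node (.node (.node (.leaf 0) (.leaf 3)) (.node (.leaf 3) (.leaf 3))) (.node (.node (.leaf 0) (.leaf 3)) (.node (.leaf 3) (.leaf 3)))) (.node (.node (.node (.leaf 0) (.leaf 3)) (.node (.leaf 3) (.leaf 3))) (.node (.node (.leaf 0) (.leaf 0)) (.node (.leaf 3) (.leaf 3)))))) (.node (.node (.node (.node (.node (.leaf 0) (.leaf 3)) (.node (.leaf 0) (.leaf 3))) (.node (.node (.leaf 0) (.leaf 3)) (.node (.leaf 3) (.leaf 3)))) (.node (.node (.node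 (.leaf 3) (.leaf 0)) (.node (.leaf 3) (.leaf 3))) (.node (.node (.leaf 3) (.leaf 3)) (.node (.leaf 0) (.leaf 3))))) (.node (.node (.node (.node (.leaf 0) (.leaf 3)) (.node (.leaf 0) (.leaf 3))) (.node (.node (.leaf 0) (.leaf 3)) (.node (.leaf 0) (.leaf 3)))) (.node (.node (.node (.leaf 3) (.leaf 3)) (.node (.leaf 0) (.leaf 3))) (.node (.node (.leaf 0) (.leaf 3)) (.node (.leaf 3) (.leaf 3)))))))

def twoKind118 : Janko.Tree (ℕ) :=
  (.node (.node (.node (.node (.node (.node (.leaf 0) (.leaf 0)) (.node (.leaf 3) (.leaf 3))) (.node (.node (.leaf 3) (.leaf 0)) (.node (.leaf 0) (.leaf 3)))) (.node (.node (.node (.leaf 0) (.leaf 3)) (.node (.leaf 3) (.leaf 3))) (.node (.node (.leaf 3) (.leaf 3)) (.node (.leaf 3) (.leaf 3))))) (.node (.node (.node (.node (.leaf 3) (.leaf 3)) (.node (.leaf 0) (.leaf 3))) (.node (.node (.leaf 3) (.leaf 3)) (.node (.leaf 3) (.leaf 3)))) (.node (.node (.node (.leaf 3) (.leaf 0)) (.node (.leaf 0) (.leaf 3))) (.node (.node (.leaf 0) (.leaf 3))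 (.node (.leaf 3) (.leaf 3)))))) (.node (.node (.node (.node (.node (.leaf 3) (.leaf 0)) (.node (.leaf 3) (.leaf 3))) (.node (.node (.leaf 0) (.leaf 0)) (.node (.leaf 3) (.leaf 3)))) (.node (.node (.node (.leaf 0) (.leaf 3)) (.node (.leaf 3) (.leaf 3))) (.node (.node (.leaf 0) (.leaf 3)) (.node (.leaf 3) (.leaf 3))))) (.node (.node (.node (.node (.leaf 3) (.leaf 3)) (.node (.leaf 3) (.leaf 3))) (.node (.node (.leaf 3) (.leaf 3)) (.node (.leaf 3) (.leaf 3)))) (.node (.node (.node (.leaf 0) (.leaf 3)) (.node (.leaf 3) (.leaf 3))) (.node (.node (.leaf 3) (.leaf 3)) (.node (.leaf 0) (.leaf 3)))))))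

def twoKind119 : Janko.Tree (ℕ) :=
  (.node (.node (.node (.node (.node (.node (.leaf 0) (.leaf 0)) (.node (.leaf 3) (.leaf 3))) (.node (.node (.leaf 3) (.leaf 0)) (.node (.leaf 3) (.leaf 3)))) (.node (.node (.node (.leaf 0) (.leaf 0)) (.node (.leaf 3) (.leaf 3))) (.node (.node (.leaf 3) (.leaf 0)) (.node (.leaf 3) (.leaf 0))))) (.node (.node (.node (.node (.leaf 0) (.leaf 0)) (.node (.leaf 3) (.leaf 3))) (.node (.node (.leaf 3) (.leaf 3)) (.node (.leaf 0) (.leaf 3)))) (.node (.node (.node (.leaf 3) (.leaf 0)) (.node (.leaf 0) (.leaf 3))) (.node (.node (.leaf 3) (.leaf 3)) (.node (.leaf 3) (.leaf 3)))))) (.node (.node (.node (.node (.node (.leaf 3) (.leaf 0)) (.node (.leaf 0) (.leaf 0))) (.node (.node (.leaf 3) (.leaf 0)) (.node (.leaf 0) (.leaf 0)))) (.node (.node (.node (.leaf 0) (.leaf 3)) (.node (.leaf 0) (.leaf 3))) (.node (.node (.leaf 0) (.leaf 0)) (.node (.leaf 3) (.leaf 3))))) (.node (.node (.node (.node (.leaf 3) (.leaf 3)) (.node (.leaf 3) (.leaf 3))) (.node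 (.node (.leaf 0) (.leaf 0)) (.node (.leaf 3) (.leaf 3)))) (.node (.node (.node (.leaf 0) (.leaf 0)) (.node (.leaf 0) (.leaf 3))) (.node (.node (.leaf 0) (.leaf 3)) (.node (.leaf 3) (.leaf 3)))))))

def twoKind120 : Janko.Tree (ℕ) :=
  (.node (.node (.node (.node (.node (.node (.leaf 3) (.leaf 3)) (.node (.leaf 3) (.leaf 3))) (.node (.node (.leaf 3) (.leaf 3)) (.node (.leaf 3) (.leaf 3)))) (.node (.node (.node (.leaf 3) (.leaf 3)) (.node (.leaf 0) (.leaf 3))) (.node (.node (.leaf 3) (.leaf 3)) (.node (.leaf 3) (.leaf 3))))) (.node (.node (.node (.node (.leaf 3) (.leaf 3)) (.node (.leaf 3) (.leaf 0))) (.node (.node (.leaf 0) (.leaf 3)) (.node (.leaf 3) (.leaf 3)))) (.node (.node (.node (.leaf 0) (.leaf 3)) (.node (.leaf 3) (.leaf 3))) (.node (.node (.leaf 3) (.leaf 3)) (.node (.leaf 3) (.leaf 3)))))) (.node (.node (.node (.node (.node (.leaf 0) (.leaf 3)) (.node (.leaf 3) (.leaf 3))) (.node (.node (.leaf 3) (.leaf 3)) (.node (.leaf 3) (.leaf 3)))) (.node (.node (.node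 (.leaf 3) (.leaf 3)) (.node (.leaf 3) (.leaf 3))) (.node (.node (.leaf 3) (.leaf 3)) (.node (.leaf 3) (.leaf 3))))) (.node (.node (.node (.node (.leaf 3) (.leaf 3)) (.node (.leaf 3) (.leaf 3))) (.node (.node (.leaf 3) (.leaf 3)) (.node (.leaf 3) (.leaf 3)))) (.node (.node (.node (.leaf 3) (.leaf 3)) (.node (.leaf 3) (.leaf 3))) (.node (.node (.leaf 3) (.leaf 3)) (.node (.leaf 3) (.leaf 3)))))))

def twoKind121 : Janko.Tree (ℕ) :=
  (.node (.node (.node (.node (.node (.node (.leaf 0) (.leaf 3)) (.node (.leaf 0) (.leaf 3))) (.node (.node (.leaf 0) (.leaf 0)) (.node (.leaf 3) (.leaf 3)))) (.node (.node (.node (.leaf 0) (.leaf 3)) (.node (.leaf 3) (.leaf 0))) (.node (.node (.leaf 3) (.leaf 3)) (.node (.leaf 3) (.leaf 0))))) (.node (.node (.node (.node (.leaf 3) (.leaf 0)) (.node (.leaf 0) (.leaf 3))) (.node (.node (.leaf 3) (.leaf 3)) (.node (.leaf 0) (.leaf 0)))) (.node (.node (.node (.leaf 3) (.leaf 0)) (.node (.leaf 0) (.leaf 3))) (.node (.node (.leaf 0) (.leaf 3))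 (.node (.leaf 0) (.leaf 3)))))) (.node (.node (.node (.node (.node (.leaf 3) (.leaf 0)) (.node (.leaf 0) (.leaf 3))) (.node (.node (.leaf 0) (.leaf 3)) (.node (.leaf 3) (.leaf 3)))) (.node (.node (.node (.leaf 0) (.leaf 3)) (.node (.leaf 3) (.leaf 3))) (.node (.node (.leaf 3) (.leaf 3)) (.node (.leaf 3) (.leaf 3))))) (.node (.node (.node (.node (.leaf 3) (.leaf 3)) (.node (.leaf 0) (.leaf 0))) (.node (.node (.leaf 3) (.leaf 0)) (.node (.leaf 3) (.leaf 0)))) (.node (.node (.node (.leaf 0) (.leaf 0)) (.node (.leaf 3) (.leaf 0))) (.node (.node (.leaf 3) (.leaf 3)) (.node (.leaf 3) (.leaf 3)))))))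

def twoKind122 : Janko.Tree (ℕ) :=
  (.node (.node (.node (.node (.node (.node (.leaf 0) (.leaf 3)) (.node (.leaf 3) (.leaf 3))) (.node (.node (.leaf 3) (.leaf 0)) (.node (.leaf 3) (.leaf 3)))) (.node (.node (.node (.leaf 3) (.leaf 3)) (.node (.leaf 0) (.leaf 3))) (.node (.node (.leaf 0) (.leaf 3)) (.node (.leaf 3) (.leaf 3))))) (.node (.node (.node (.node (.leaf 3) (.leaf 3)) (.node (.leaf 3) (.leaf 0))) (.node (.node (.leaf 0) (.leaf 3)) (.node (.leaf 3) (.leaf 3)))) (.node (.node (.node (.leaf 3) (.leaf 3)) (.node (.leaf 3) (.leaf 3))) (.node (.node (.leaf 3) (.leaf 3)) (.node (.leaf 3) (.leaf 3)))))) (.node (.node (.node (.node (.node (.leaf 3) (.leaf 0)) (.node (.leaf 3) (.leaf 3))) (.node (.node (.leaf 3) (.leaf 3)) (.node (.leaf 3) (.leaf 3)))) (.node (.node (.node (.leaf 0) (.leaf 3)) (.node (.leaf 3) (.leaf 3))) (.node (.node (.leaf 0) (.leaf 3)) (.node (.leaf 3) (.leaf 3))))) (.node (.node (.node (.node (.leaf 0) (.leaf 3)) (.node (.leaf 3) (.leaf 3))) (.node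 (.node (.leaf 3) (.leaf 3)) (.node (.leaf 3) (.leaf 3)))) (.node (.node (.node (.leaf 3) (.leaf 3)) (.node (.leaf 3) (.leaf 3))) (.node (.node (.leaf 3) (.leaf 3)) (.node (.leaf 3) (.leaf 3)))))))

def twoKind123 : Janko.Tree (ℕ) :=
  (.node (.node (.node (.node (.node (.node (.leaf 0) (.leaf 0)) (.node (.leaf 0) (.leaf 0))) (.node (.node (.leaf 0) (.leaf 3)) (.node (.leaf 0) (.leaf 3)))) (.node (.node (.node (.leaf 0) (.leaf 3)) (.node (.leaf 0) (.leaf 3))) (.node (.node (.leaf 3) (.leaf 3)) (.node (.leaf 0) (.leaf 3))))) (.node (.node (.node (.node (.leaf 3) (.leaf 3)) (.node (.leaf 3) (.leaf 0))) (.node (.node (.leaf 0) (.leaf 3)) (.node (.leaf 3) (.leaf 3)))) (.node (.node (.node (.leaf 3) (.leaf 3)) (.node (.leaf 3) (.leaf 0))) (.node (.node (.leaf 3) (.leaf 0)) (.node (.leaf 3) (.leaf 3)))))) (.node (.node (.node (.node (.node (.leaf 0) (.leaf 3)) (.node (.leaf 3) (.leaf 3))) (.node (.node (.leaf 0) (.leaf 0)) (.node (.leaf 3) (.leaf 3)))) (.node (.node (.node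 (.leaf 0) (.leaf 3)) (.node (.leaf 3) (.leaf 3))) (.node (.node (.leaf 0) (.leaf 3)) (.node (.leaf 0) (.leaf 3))))) (.node (.node (.node (.node (.leaf 3) (.leaf 3)) (.node (.leaf 3) (.leaf 3))) (.node (.node (.leaf 3) (.leaf 0)) (.node (.leaf 0) (.leaf 0)))) (.node (.node (.node (.leaf 3) (.leaf 3)) (.node (.leaf 3) (.leaf 3))) (.node (.node (.leaf 0) (.leaf 0)) (.node (.leaf 0) (.leaf 3)))))))

def twoKind124 : Janko.Tree (ℕ) :=
  (.node (.node (.node (.node (.node (.node (.leaf 3) (.leaf 3)) (.node (.leaf 3) (.leaf 3))) (.node (.node (.leaf 3) (.leaf 3)) (.node (.leaf 3) (.leaf 3)))) (.node (.node (.node (.leaf 3) (.leaf 3)) (.node (.leaf 3) (.leaf 3))) (.node (.node (.leaf 3) (.leaf 3)) (.node (.leaf 3) (.leaf 3))))) (.node (.node (.node (.node (.leaf 3) (.leaf 3)) (.node (.leaf 0) (.leaf 3))) (.node (.node (.leaf 3) (.leaf 3)) (.node (.leaf 3) (.leaf 3)))) (.node (.node (.node (.leaf 3) (.leaf 3)) (.node (.leaf 3) (.leaf 3))) (.node (.node (.leaf 3) (.leaf 3))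 (.node (.leaf 3) (.leaf 3)))))) (.node (.node (.node (.node (.node (.leaf 3) (.leaf 3)) (.node (.leaf 3) (.leaf 3))) (.node (.node (.leaf 3) (.leaf 3)) (.node (.leaf 3) (.leaf 3)))) (.node (.node (.node (.leaf 3) (.leaf 3)) (.node (.leaf 3) (.leaf 3))) (.node (.node (.leaf 3) (.leaf 3)) (.node (.leaf 3) (.leaf 3))))) (.node (.node (.node (.node (.leaf 3) (.leaf 3)) (.node (.leaf 3) (.leaf 3))) (.node (.node (.leaf 3) (.leaf 3)) (.node (.leaf 3) (.leaf 3)))) (.node (.node (.node (.leaf 0) (.leaf 3)) (.node (.leaf 3) (.leaf 3))) (.node (.node (.leaf 3) (.leaf 3)) (.node (.leaf 3) (.leaf 3)))))))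

def twoKind125 : Janko.Tree (ℕ) :=
  (.node (.node (.node (.node (.node (.node (.leaf 0) (.leaf 0)) (.node (.leaf 3) (.leaf 3))) (.node (.node (.leaf 3) (.leaf 3)) (.node (.leaf 3) (.leaf 3)))) (.node (.node (.node (.leaf 3) (.leaf 0)) (.node (.leaf 0) (.leaf 3))) (.node (.node (.leaf 0) (.leaf 0)) (.node (.leaf 0) (.leaf 3))))) (.node (.node (.node (.node (.leaf 3) (.leaf 3)) (.node (.leaf 3) (.leaf 3))) (.node (.node (.leaf 0) (.leaf 0)) (.node (.leaf 3) (.leaf 3)))) (.node (.node (.node (.leaf 0) (.leaf 3)) (.node (.leaf 0) (.leaf 3))) (.node (.node (.leaf 3) (.leaf 0)) (.node (.leaf 3) (.leaf 0)))))) (.node (.node (.node (.node (.node (.leaf 0) (.leaf 3)) (.node (.leaf 3) (.leaf 3))) (.node (.node (.leaf 3) (.leaf 3)) (.node (.leaf 0) (.leaf 0)))) (.node (.node (.node (.leaf 0) (.leaf 3)) (.node (.leaf 3) (.leaf 3))) (.node (.node (.leaf 0) (.leaf 3)) (.node (.leaf 3) (.leaf 3))))) (.node (.node (.node (.node (.leaf 0) (.leaf 0)) (.node (.leaf 3) (.leaf 0))) (.node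 (.node (.leaf 3) (.leaf 3)) (.node (.leaf 3) (.leaf 3)))) (.node (.node (.node (.leaf 3) (.leaf 0)) (.node (.leaf 0) (.leaf 3))) (.node (.node (.leaf 0) (.leaf 0)) (.node (.leaf 3) (.leaf 3)))))))

def twoKind126 : Janko.Tree (ℕ) :=
  (.node (.node (.node (.node (.node (.node (.leaf 3) (.leaf 3)) (.node (.leaf 3) (.leaf 3))) (.node (.node (.leaf 3) (.leaf 3)) (.node (.leaf 3) (.leaf 3)))) (.node (.node (.node (.leaf 3) (.leaf 3)) (.node (.leaf 3) (.leaf 3))) (.node (.node (.leaf 3) (.leaf 3)) (.node (.leaf 3) (.leaf 3))))) (.node (.node (.node (.node (.leaf 0) (.leaf 3)) (.node (.leaf 3) (.leaf 3))) (.node (.node (.leaf 3) (.leaf 3)) (.node (.leaf 3) (.leaf 3)))) (.node (.node (.node (.leaf 3) (.leaf 3)) (.node (.leaf 3) (.leaf 3))) (.node (.node (.leaf 3) (.leaf 3)) (.node (.leaf 0) (.leaf 3)))))) (.node (.node (.node (.node (.node (.leaf 3) (.leaf 3)) (.node (.leaf 3) (.leaf 3))) (.node (.node (.leaf 3) (.leaf 3)) (.node (.leaf 3) (.leaf 3)))) (.node (.node (.node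 (.leaf 3) (.leaf 3)) (.node (.leaf 3) (.leaf 3))) (.node (.node (.leaf 3) (.leaf 3)) (.node (.leaf 3) (.leaf 3))))) (.node (.node (.node (.node (.leaf 3) (.leaf 3)) (.node (.leaf 0) (.leaf 3))) (.node (.node (.leaf 0) (.leaf 3)) (.node (.leaf 0) (.leaf 3)))) (.node (.node (.node (.leaf 0) (.leaf 3)) (.node (.leaf 3) (.leaf 3))) (.node (.node (.leaf 3) (.leaf 3)) (.node (.leaf 3) (.leaf 3)))))))

def twoKind127 : Janko.Tree (ℕ) :=
  (.node (.node (.node (.node (.node (.node (.leaf 0) (.leaf 3)) (.node (.leaf 3) (.leaf 3))) (.node (.node (.leaf 0) (.leaf 3)) (.node (.leaf 3) (.leaf 3)))) (.node (.node (.node (.leaf 3) (.leaf 3)) (.node (.leaf 0) (.leaf 3))) (.node (.node (.leaf 3) (.leaf 0)) (.node (.leaf 3) (.leaf 3))))) (.node (.node (.node (.node (.leaf 0) (.leaf 0)) (.node (.leaf 3) (.leaf 3))) (.node (.node (.leaf 0) (.leaf 3)) (.node (.leaf 3) (.leaf 3)))) (.node (.node (.node (.leaf 0) (.leaf 0)) (.node (.leaf 3) (.leaf 3))) (.node (.node (.leaf 3) (.leaf 0))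 (.node (.leaf 0) (.leaf 3)))))) (.node (.node (.node (.node (.node (.leaf 3) (.leaf 0)) (.node (.leaf 3) (.leaf 3))) (.node (.node (.leaf 3) (.leaf 3)) (.node (.leaf 3) (.leaf 3)))) (.node (.node (.node (.leaf 0) (.leaf 3)) (.node (.leaf 0) (.leaf 3))) (.node (.node (.leaf 0) (.leaf 0)) (.node (.leaf 3) (.leaf 3))))) (.node (.node (.node (.node (.leaf 0) (.leaf 3)) (.node (.leaf 0) (.leaf 3))) (.node (.node (.leaf 0) (.leaf 3)) (.node (.leaf 3) (.leaf 3)))) (.node (.node (.node (.leaf 0) (.leaf 3)) (.node (.leaf 3) (.leaf 3))) (.node (.node (.leaf 3) (.leaf 3)) (.node (.leaf 3) (.leaf 3)))))))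

def twoKind128 : Janko.Tree (ℕ) :=
  (.node (.node (.node (.node (.node (.node (.leaf 3) (.leaf 0)) (.node (.leaf 3) (.leaf 3))) (.node (.node (.leaf 3) (.leaf 3)) (.node (.leaf 3) (.leaf 3)))) (.node (.node (.node (.leaf 3) (.leaf 3)) (.node (.leaf 3) (.leaf 3))) (.node (.node (.leaf 0) (.leaf 3)) (.node (.leaf 3) (.leaf 3))))) (.node (.node (.node (.node (.leaf 3) (.leaf 3)) (.node (.leaf 3) (.leaf 3))) (.node (.node (.leaf 3) (.leaf 3)) (.node (.leaf 3) (.leaf 3)))) (.node (.node (.node (.leaf 3) (.leaf 3)) (.node (.leaf 3) (.leaf 3))) (.node (.node (.leaf 3) (.leaf 3)) (.node (.leaf 3) (.leaf 3)))))) (.node (.node (.node (.node (.node (.leaf 0) (.leaf 3)) (.node (.leaf 3) (.leaf 3))) (.node (.node (.leaf 0) (.leaf 3)) (.node (.leaf 3) (.leaf 3)))) (.node (.node (.node (.leaf 3) (.leaf 3)) (.node (.leaf 3) (.leaf 3))) (.node (.node (.leaf 3) (.leaf 3)) (.node (.leaf 3) (.leaf 3))))) (.node (.node (.node (.node (.leaf 3) (.leaf 3)) (.node (.leaf 3) (.leaf 3))) (.node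 (.node (.leaf 3) (.leaf 0)) (.node (.leaf 3) (.leaf 3)))) (.node (.node (.node (.leaf 3) (.leaf 3)) (.node (.leaf 3) (.leaf 3))) (.node (.node (.leaf 0) (.leaf 3)) (.node (.leaf 3) (.leaf 3)))))))

def twoKind129 : Janko.Tree (ℕ) :=
  (.node (.node (.node (.node (.node (.node (.leaf 3) (.leaf 3)) (.node (.leaf 3) (.leaf 0))) (.node (.node (.leaf 0) (.leaf 3)) (.node (.leaf 3) (.leaf 3)))) (.node (.node (.node (.leaf 3) (.leaf 3)) (.node (.leaf 3) (.leaf 3))) (.node (.node (.leaf 3) (.leaf 3)) (.node (.leaf 0) (.leaf 3))))) (.node (.node (.node (.node (.leaf 0) (.leaf 0)) (.node (.leaf 0) (.leaf 0))) (.node (.node (.leaf 0) (.leaf 3)) (.node (.leaf 3) (.leaf 3)))) (.node (.node (.node (.leaf 0) (.leaf 3)) (.node (.leaf 3) (.leaf 3))) (.node (.node (.leaf 3) (.leaf 3)) (.node (.leaf 0) (.leaf 3)))))) (.node (.node (.node (.node (.node (.leaf 3) (.leaf 3)) (.node (.leaf 3) (.leaf 3))) (.node (.node (.leaf 3) (.leaf 0)) (.node (.leaf 3) (.leaf 3)))) (.node (.node (.node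 (.leaf 3) (.leaf 3)) (.node (.leaf 0) (.leaf 0))) (.node (.node (.leaf 3) (.leaf 0)) (.node (.leaf 3) (.leaf 3))))) (.node (.node (.node (.node (.leaf 0) (.leaf 3)) (.node (.leaf 0) (.leaf 3))) (.node (.node (.leaf 0) (.leaf 3)) (.node (.leaf 0) (.leaf 3)))) (.node (.node (.node (.leaf 0) (.leaf 3)) (.node (.leaf 3) (.leaf 3))) (.node (.node (.leaf 3) (.leaf 0)) (.node (.leaf 3) (.leaf 3)))))))

def twoKind130 : Janko.Tree (ℕ) :=
  (.node (.node (.node (.node (.node (.node (.leaf 3) (.leaf 3)) (.node (.leaf 3) (.leaf 3))) (.node (.node (.leaf 3) (.leaf 3)) (.node (.leaf 0) (.leaf 3)))) (.node (.node (.node (.leaf 0) (.leaf 3)) (.node (.leaf 3) (.leaf 0))) (.node (.node (.leaf 0) (.leaf 3)) (.node (.leaf 3) (.leaf 3))))) (.node (.node (.node (.node (.leaf 3) (.leaf 3)) (.node (.leaf 3) (.leaf 3))) (.node (.node (.leaf 3) (.leaf 3)) (.node (.leaf 0) (.leaf 3)))) (.node (.node (.node (.leaf 3) (.leaf 3)) (.node (.leaf 3) (.leaf 3))) (.node (.node (.leaf 0) (.leaf 3))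 (.node (.leaf 3) (.leaf 3)))))) (.node (.node (.node (.node (.node (.leaf 0) (.leaf 3)) (.node (.leaf 0) (.leaf 3))) (.node (.node (.leaf 0) (.leaf 3)) (.node (.leaf 3) (.leaf 3)))) (.node (.node (.node (.leaf 3) (.leaf 3)) (.node (.leaf 3) (.leaf 3))) (.node (.node (.leaf 3) (.leaf 3)) (.node (.leaf 3) (.leaf 3))))) (.node (.node (.node (.node (.leaf 3) (.leaf 0)) (.node (.leaf 3) (.leaf 3))) (.node (.node (.leaf 3) (.leaf 0)) (.node (.leaf 3) (.leaf 3)))) (.node (.node (.node (.leaf 0) (.leaf 3)) (.node (.leaf 0) (.leaf 3))) (.node (.node (.leaf 0) (.leaf 3)) (.node (.leaf 3) (.leaf 3)))))))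

def twoKind131 : Janko.Tree (ℕ) :=
  (.node (.node (.node (.node (.node (.node (.leaf 3) (.leaf 3)) (.node (.leaf 0) (.leaf 3))) (.node (.node (.leaf 3) (.leaf 3)) (.node (.leaf 0) (.leaf 3)))) (.node (.node (.node (.leaf 0) (.leaf 3)) (.node (.leaf 3) (.leaf 3))) (.node (.node (.leaf 0) (.leaf 3)) (.node (.leaf 3) (.leaf 3))))) (.node (.node (.node (.node (.leaf 0) (.leaf 3)) (.node (.leaf 0) (.leaf 3))) (.node (.node (.leaf 3) (.leaf 3)) (.node (.leaf 3) (.leaf 3)))) (.node (.node (.node (.leaf 3) (.leaf 3)) (.node (.leaf 0) (.leaf 3))) (.node (.node (.leaf 3) (.leaf 3)) (.node (.leaf 3) (.leaf 3)))))) (.node (.node (.node (.node (.node (.leaf 0) (.leaf 3)) (.node (.leaf 0) (.leaf 3))) (.node (.node (.leaf 0) (.leaf 3)) (.node (.leaf 0) (.leaf 0)))) (.node (.node (.node (.leaf 3) (.leaf 3)) (.node (.leaf 3) (.leaf 3))) (.node (.node (.leaf 3) (.leaf 3)) (.node (.leaf 0) (.leaf 3))))) (.node (.node (.node (.node (.leaf 3) (.leaf 3)) (.node (.leaf 3) (.leaf 3))) (.node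 (.node (.leaf 0) (.leaf 0)) (.node (.leaf 3) (.leaf 3)))) (.node (.node (.node (.leaf 3) (.leaf 3)) (.node (.leaf 0) (.leaf 3))) (.node (.node (.leaf 0) (.leaf 3)) (.node (.leaf 3) (.leaf 3)))))))

def twoKind132 : Janko.Tree (ℕ) :=
  (.node (.node (.node (.node (.node (.node (.leaf 3) (.leaf 3)) (.node (.leaf 3) (.leaf 3))) (.node (.node (.leaf 0) (.leaf 3)) (.node (.leaf 3) (.leaf 3)))) (.node (.node (.node (.leaf 3) (.leaf 3)) (.node (.leaf 3) (.leaf 3))) (.node (.node (.leaf 3) (.leaf 3)) (.node (.leaf 3) (.leaf 3))))) (.node (.node (.node (.node (.leaf 3) (.leaf 3)) (.node (.leaf 3) (.leaf 3))) (.node (.node (.leaf 3) (.leaf 3)) (.node (.leaf 3) (.leaf 3)))) (.node (.node (.node (.leaf 0) (.leaf 3)) (.node (.leaf 3) (.leaf 3))) (.node (.node (.leaf 3) (.leaf 3)) (.node (.leaf 3) (.leaf 3)))))) (.node (.node (.node (.node (.node (.leaf 3) (.leaf 3)) (.node (.leaf 3) (.leaf 3))) (.node (.node (.leaf 3) (.leaf 3)) (.node (.leaf 3) (.leaf 3)))) (.node (.node (.node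 (.leaf 3) (.leaf 3)) (.node (.leaf 3) (.leaf 3))) (.node (.node (.leaf 0) (.leaf 0)) (.node (.leaf 3) (.leaf 3))))) (.node (.node (.node (.node (.leaf 0) (.leaf 3)) (.node (.leaf 0) (.leaf 3))) (.node (.node (.leaf 3) (.leaf 3)) (.node (.leaf 0) (.leaf 3)))) (.node (.node (.node (.leaf 3) (.leaf 3)) (.node (.leaf 3) (.leaf 3))) (.node (.node (.leaf 3) (.leaf 3)) (.node (.leaf 3) (.leaf 3)))))))

def twoKind133 : Janko.Tree (ℕ) :=
  (.node (.node (.node (.node (.node (.node (.leaf 3) (.leaf 0)) (.node (.leaf 0) (.leaf 3))) (.node (.node (.leaf 3) (.leaf 3)) (.node (.leaf 0) (.leaf 3)))) (.node (.node (.node (.leaf 0) (.leaf 0)) (.node (.leaf 0) (.leaf 3))) (.node (.node (.leaf 0) (.leaf 3)) (.node (.leaf 3) (.leaf 3))))) (.node (.node (.node (.node (.leaf 0) (.leaf 3)) (.node (.leaf 0) (.leaf 3))) (.node (.node (.leaf 3) (.leaf 0)) (.node (.leaf 3) (.leaf 3)))) (.node (.node (.node (.leaf 3) (.leaf 0)) (.node (.leaf 0) (.leaf 3))) (.node (.node (.leaf 0) (.leaf 3))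 (.node (.leaf 3) (.leaf 3)))))) (.node (.node (.node (.node (.node (.leaf 0) (.leaf 3)) (.node (.leaf 3) (.leaf 3))) (.node (.node (.leaf 0) (.leaf 3)) (.node (.leaf 3) (.leaf 3)))) (.node (.node (.node (.leaf 3) (.leaf 3)) (.node (.leaf 0) (.leaf 3))) (.node (.node (.leaf 3) (.leaf 3)) (.node (.leaf 0) (.leaf 3))))) (.node (.node (.node (.node (.leaf 3) (.leaf 0)) (.node (.leaf 3) (.leaf 0))) (.node (.node (.leaf 0) (.leaf 3)) (.node (.leaf 3) (.leaf 3)))) (.node (.node (.node (.leaf 0) (.leaf 3)) (.node (.leaf 3) (.leaf 0))) (.node (.node (.leaf 0) (.leaf 3)) (.node (.leaf 0) (.leaf 3)))))))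

def twoKind134 : Janko.Tree (ℕ) :=
  (.node (.node (.node (.node (.node (.node (.leaf 0) (.leaf 3)) (.node (.leaf 3) (.leaf 0))) (.node (.node (.leaf 0) (.leaf 3)) (.node (.leaf 3) (.leaf 3)))) (.node (.node (.node (.leaf 3) (.leaf 3)) (.node (.leaf 3) (.leaf 3))) (.node (.node (.leaf 3) (.leaf 3)) (.node (.leaf 3) (.leaf 3))))) (.node (.node (.node (.node (.leaf 3) (.leaf 3)) (.node (.leaf 3) (.leaf 0))) (.node (.node (.leaf 3) (.leaf 0)) (.node (.leaf 3) (.leaf 3)))) (.node (.node (.node (.leaf 0) (.leaf 3)) (.node (.leaf 3) (.leaf 3))) (.node (.node (.leaf 3) (.leaf 3)) (.node (.leaf 0) (.leaf 3)))))) (.node (.node (.node (.node (.node (.leaf 3) (.leaf 0)) (.node (.leaf 3) (.leaf 3))) (.node (.node (.leaf 0) (.leaf 0)) (.node (.leaf 0) (.leaf 3)))) (.node (.node (.node (.leaf 0) (.leaf 3)) (.node (.leaf 3) (.leaf 3))) (.node (.node (.leaf 3) (.leaf 3)) (.node (.leaf 3) (.leaf 3))))) (.node (.node (.node (.node (.leaf 3) (.leaf 3)) (.node (.leaf 0) (.leaf 3))) (.node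 (.node (.leaf 3) (.leaf 3)) (.node (.leaf 3) (.leaf 3)))) (.node (.node (.node (.leaf 3) (.leaf 3)) (.node (.leaf 3) (.leaf 3))) (.node (.node (.leaf 3) (.leaf 3)) (.node (.leaf 3) (.leaf 3)))))))

def twoKind135 : Janko.Tree (ℕ) :=
  (.node (.node (.node (.node (.node (.node (.leaf 0) (.leaf 3)) (.node (.leaf 3) (.leaf 0))) (.node (.node (.leaf 0) (.leaf 3)) (.node (.leaf 3) (.leaf 3)))) (.node (.node (.node (.leaf 0) (.leaf 3)) (.node (.leaf 3) (.leaf 0))) (.node (.node (.leaf 3) (.leaf 0)) (.node (.leaf 3) (.leaf 3))))) (.node (.node (.node (.node (.leaf 3) (.leaf 0)) (.node (.leaf 3) (.leaf 0))) (.node (.node (.leaf 3) (.leaf 3)) (.node (.leaf 0) (.leaf 3)))) (.node (.node (.node (.leaf 0) (.leaf 3)) (.node (.leaf 3) (.leaf 3))) (.node (.node (.leaf 3) (.leaf 3)) (.node (.leaf 3) (.leaf 3)))))) (.node (.node (.node (.node (.node (.leaf 3) (.leaf 3)) (.node (.leaf 0) (.leaf 0))) (.node (.node (.leaf 0) (.leaf 0)) (.node (.leaf 0) (.leaf 3)))) (.node (.node (.node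 (.leaf 0) (.leaf 3)) (.node (.leaf 3) (.leaf 3))) (.node (.node (.leaf 0) (.leaf 3)) (.node (.leaf 3) (.leaf 3))))) (.node (.node (.node (.node (.leaf 3) (.leaf 3)) (.node (.leaf 0) (.leaf 3))) (.node (.node (.leaf 3) (.leaf 0)) (.node (.leaf 3) (.leaf 0)))) (.node (.node (.node (.leaf 0) (.leaf 0)) (.node (.leaf 3) (.leaf 3))) (.node (.node (.leaf 3) (.leaf 3)) (.node (.leaf 3) (.leaf 3)))))))

def twoKind136 : Janko.Tree (ℕ) :=
  (.node (.node (.node (.node (.node (.node (.leaf 3) (.leaf 3)) (.node (.leaf 3) (.leaf 3))) (.node (.node (.leaf 3) (.leaf 3)) (.node (.leaf 0) (.leaf 3)))) (.node (.node (.node (.leaf 3) (.leaf 3)) (.node (.leaf 3) (.leaf 3))) (.node (.node (.leaf 3) (.leaf 3)) (.node (.leaf 0) (.leaf 3))))) (.node (.node (.node (.node (.leaf 0) (.leaf 3)) (.node (.leaf 0) (.leaf 3))) (.node (.node (.leaf 3) (.leaf 3)) (.node (.leaf 3) (.leaf 3)))) (.node (.node (.node (.leaf 3) (.leaf 3)) (.node (.leaf 0) (.leaf 3))) (.node (.node (.leaf 0) (.leaf 0))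 (.node (.leaf 3) (.leaf 3)))))) (.node (.node (.node (.node (.node (.leaf 0) (.leaf 3)) (.node (.leaf 3) (.leaf 3))) (.node (.node (.leaf 3) (.leaf 3)) (.node (.leaf 3) (.leaf 3)))) (.node (.node (.node (.leaf 3) (.leaf 3)) (.node (.leaf 3) (.leaf 3))) (.node (.node (.leaf 3) (.leaf 3)) (.node (.leaf 3) (.leaf 3))))) (.node (.node (.node (.node (.leaf 3) (.leaf 3)) (.node (.leaf 3) (.leaf 3))) (.node (.node (.leaf 0) (.leaf 3)) (.node (.leaf 3) (.leaf 3)))) (.node (.node (.node (.leaf 3) (.leaf 3)) (.node (.leaf 3) (.leaf 3))) (.node (.node (.leaf 3) (.leaf 3)) (.node (.leaf 0) (.leaf 3)))))))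

def twoKind137 : Janko.Tree (ℕ) :=
  (.node (.node (.node (.node (.node (.node (.leaf 0) (.leaf 3)) (.node (.leaf 0) (.leaf 0))) (.node (.node (.leaf 0) (.leaf 0)) (.node (.leaf 3) (.leaf 3)))) (.node (.node (.node (.leaf 0) (.leaf 3)) (.node (.leaf 3) (.leaf 3))) (.node (.node (.leaf 3) (.leaf 3)) (.node (.leaf 3) (.leaf 3))))) (.node (.node (.node (.node (.leaf 3) (.leaf 3)) (.node (.leaf 3) (.leaf 3))) (.node (.node (.leaf 0) (.leaf 3)) (.node (.leaf 3) (.leaf 3)))) (.node (.node (.node (.leaf 0) (.leaf 3)) (.node (.leaf 3) (.leaf 3))) (.node (.node (.leaf 3) (.leaf 3)) (.node (.leaf 0) (.leaf 3)))))) (.node (.node (.node (.node (.node (.leaf 3) (.leaf 3)) (.node (.leaf 0) (.leaf 0))) (.node (.node (.leaf 0) (.leaf 3)) (.node (.leaf 0) (.leaf 3)))) (.node (.node (.node (.leaf 0) (.leaf 0)) (.node (.leaf 3) (.leaf 0))) (.node (.node (.leaf 0) (.leaf 0)) (.node (.leaf 0) (.leaf 0))))) (.node (.node (.node (.node (.leaf 3) (.leaf 3)) (.node (.leaf 3) (.leaf 3))) (.node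 (.node (.leaf 3) (.leaf 0)) (.node (.leaf 0) (.leaf 3)))) (.node (.node (.node (.leaf 3) (.leaf 0)) (.node (.leaf 3) (.leaf 3))) (.node (.node (.leaf 3) (.leaf 3)) (.node (.leaf 3) (.leaf 3)))))))

def twoKind138 : Janko.Tree (ℕ) :=
  (.node (.node (.node (.node (.node (.node (.leaf 3) (.leaf 3)) (.node (.leaf 3) (.leaf 3))) (.node (.node (.leaf 3) (.leaf 3)) (.node (.leaf 3) (.leaf 3)))) (.node (.node (.node (.leaf 3) (.leaf 0)) (.node (.leaf 0) (.leaf 3))) (.node (.node (.leaf 3) (.leaf 3)) (.node (.leaf 0) (.leaf 3))))) (.node (.node (.node (.node (.leaf 3) (.leaf 0)) (.node (.leaf 0) (.leaf 3))) (.node (.node (.leaf 3) (.leaf 3)) (.node (.leaf 3) (.leaf 3)))) (.node (.node (.node (.leaf 3) (.leaf 0)) (.node (.leaf 0) (.leaf 0))) (.node (.node (.leaf 3) (.leaf 3)) (.node (.leaf 3) (.leaf 3)))))) (.node (.node (.node (.node (.node (.leaf 0) (.leaf 3)) (.node (.leaf 3) (.leaf 3))) (.node (.node (.leaf 3) (.leaf 3)) (.node (.leaf 3) (.leaf 3)))) (.node (.node (.node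 (.leaf 3) (.leaf 3)) (.node (.leaf 0) (.leaf 3))) (.node (.node (.leaf 3) (.leaf 3)) (.node (.leaf 3) (.leaf 3))))) (.node (.node (.node (.node (.leaf 3) (.leaf 3)) (.node (.leaf 0) (.leaf 3))) (.node (.node (.leaf 3) (.leaf 3)) (.node (.leaf 3) (.leaf 3)))) (.node (.node (.node (.leaf 3) (.leaf 3)) (.node (.leaf 3) (.leaf 3))) (.node (.node (.leaf 0) (.leaf 0)) (.node (.leaf 3) (.leaf 3)))))))

def twoKind139 : Janko.Tree (ℕ) :=
  (.node (.node (.node (.node (.node (.node (.leaf 0) (.leaf 3)) (.node (.leaf 0) (.leaf 0))) (.node (.node (.leaf 3) (.leaf 3)) (.node (.leaf 3) (.leaf 3)))) (.node (.node (.node (.leaf 3) (.leaf 0)) (.node (.leaf 0) (.leaf 3))) (.node (.node (.leaf 0) (.leaf 3)) (.node (.leaf 0) (.leaf 3))))) (.node (.node (.node (.node (.leaf 0) (.leaf 3)) (.node (.leaf 0) (.leaf 0))) (.node (.node (.leaf 0) (.leaf 3)) (.node (.leaf 3) (.leaf 3)))) (.node (.node (.node (.leaf 3) (.leaf 0)) (.node (.leaf 0) (.leaf 3))) (.node (.node (.leaf 3) (.leaf 0))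 (.node (.leaf 3) (.leaf 3)))))) (.node (.node (.node (.node (.node (.leaf 0) (.leaf 3)) (.node (.leaf 3) (.leaf 3))) (.node (.node (.leaf 0) (.leaf 0)) (.node (.leaf 0) (.leaf 3)))) (.node (.node (.node (.leaf 0) (.leaf 3)) (.node (.leaf 3) (.leaf 3))) (.node (.node (.leaf 3) (.leaf 3)) (.node (.leaf 3) (.leaf 3))))) (.node (.node (.node (.node (.leaf 0) (.leaf 3)) (.node (.leaf 0) (.leaf 3))) (.node (.node (.leaf 0) (.leaf 0)) (.node (.leaf 3) (.leaf 3)))) (.node (.node (.node (.leaf 3) (.leaf 3)) (.node (.leaf 0) (.leaf 3))) (.node (.node (.leaf 0) (.leaf 0)) (.node (.leaf 3) (.leaf 3)))))))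

def twoKind140 : Janko.Tree (ℕ) :=
  (.node (.node (.node (.node (.node (.node (.leaf 3) (.leaf 3)) (.node (.leaf 3) (.leaf 3))) (.node (.node (.leaf 3) (.leaf 3)) (.node (.leaf 3) (.leaf 3)))) (.node (.node (.node (.leaf 0) (.leaf 3)) (.node (.leaf 3) (.leaf 3))) (.node (.node (.leaf 3) (.leaf 3)) (.node (.leaf 3) (.leaf 3))))) (.node (.node (.node (.node (.leaf 3) (.leaf 3)) (.node (.leaf 3) (.leaf 3))) (.node (.node (.leaf 3) (.leaf 3)) (.node (.leaf 3) (.leaf 3)))) (.node (.node (.node (.leaf 3) (.leaf 3)) (.node (.leaf 3) (.leaf 3))) (.node (.node (.leaf 3) (.leaf 3)) (.node (.leaf 3) (.leaf 3)))))) (.node (.node (.node (.node (.node (.leaf 3) (.leaf 3)) (.node (.leaf 0) (.leaf 3))) (.node (.node (.leaf 3) (.leaf 3)) (.node (.leaf 3) (.leaf 3)))) (.node (.node (.node (.leaf 3) (.leaf 3)) (.node (.leaf 3) (.leaf 3))) (.node (.node (.leaf 0) (.leaf 3)) (.node (.leaf 3) (.leaf 3))))) (.node (.node (.node (.node (.leaf 3) (.leaf 3)) (.node (.leaf 3) (.leaf 3))) (.node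 (.node (.leaf 3) (.leaf 3)) (.node (.leaf 0) (.leaf 3)))) (.node (.node (.node (.leaf 3) (.leaf 3)) (.node (.leaf 3) (.leaf 3))) (.node (.node (.leaf 3) (.leaf 3)) (.node (.leaf 3) (.leaf 3)))))))

def twoKind141 : Janko.Tree (ℕ) :=
  (.node (.node (.node (.node (.node (.node (.leaf 0) (.leaf 0)) (.node (.leaf 3) (.leaf 3))) (.node (.node (.leaf 3) (.leaf 3)) (.node (.leaf 0) (.leaf 3)))) (.node (.node (.node (.leaf 3) (.leaf 3)) (.node (.leaf 3) (.leaf 0))) (.node (.node (.leaf 0) (.leaf 0)) (.node (.leaf 0) (.leaf 3))))) (.node (.node (.node (.node (.leaf 0) (.leaf 0)) (.node (.leaf 0) (.leaf 3))) (.node (.node (.leaf 0) (.leaf 3)) (.node (.leaf 0) (.leaf 3)))) (.node (.node (.node (.leaf 3) (.leaf 0)) (.node (.leaf 0) (.leaf 3))) (.node (.node (.leaf 3) (.leaf 0)) (.node (.leaf 3) (.leaf 3)))))) (.node (.node (.node (.node (.node (.leaf 0) (.leaf 0)) (.node (.leaf 3) (.leaf 3))) (.node (.node (.leaf 3) (.leaf 3)) (.node (.leaf 3) (.leaf 3)))) (.node (.node (.node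 (.leaf 0) (.leaf 3)) (.node (.leaf 3) (.leaf 3))) (.node (.node (.leaf 3) (.leaf 3)) (.node (.leaf 3) (.leaf 3))))) (.node (.node (.node (.node (.leaf 0) (.leaf 0)) (.node (.leaf 0) (.leaf 3))) (.node (.node (.leaf 3) (.leaf 3)) (.node (.leaf 3) (.leaf 3)))) (.node (.node (.node (.leaf 0) (.leaf 0)) (.node (.leaf 0) (.leaf 0))) (.node (.node (.leaf 0) (.leaf 3)) (.node (.leaf 3) (.leaf 3)))))))

def twoKind142 : Janko.Tree (ℕ) :=
  (.node (.node (.node (.node (.node (.node (.leaf 3) (.leaf 3)) (.node (.leaf 3) (.leaf 3))) (.node (.node (.leaf 3) (.leaf 3)) (.node (.leaf 3) (.leaf 3)))) (.node (.node (.node (.leaf 3) (.leaf 3)) (.node (.leaf 3) (.leaf 3))) (.node (.node (.leaf 3) (.leaf 3)) (.node (.leaf 3) (.leaf 3))))) (.node (.node (.node (.node (.leaf 3) (.leaf 3)) (.node (.leaf 3) (.leaf 0))) (.node (.node (.leaf 3) (.leaf 3)) (.node (.leaf 3) (.leaf 3)))) (.node (.node (.node (.leaf 0) (.leaf 3)) (.node (.leaf 3) (.leaf 3))) (.node (.node (.leaf 0) (.leaf 3))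 (.node (.leaf 3) (.leaf 3)))))) (.node (.node (.node (.node (.node (.leaf 3) (.leaf 3)) (.node (.leaf 3) (.leaf 0))) (.node (.node (.leaf 3) (.leaf 0)) (.node (.leaf 3) (.leaf 0)))) (.node (.node (.node (.leaf 3) (.leaf 3)) (.node (.leaf 3) (.leaf 3))) (.node (.node (.leaf 0) (.leaf 3)) (.node (.leaf 0) (.leaf 3))))) (.node (.node (.node (.node (.leaf 3) (.leaf 3)) (.node (.leaf 3) (.leaf 0))) (.node (.node (.leaf 3) (.leaf 3)) (.node (.leaf 0) (.leaf 3)))) (.node (.node (.node (.leaf 0) (.leaf 3)) (.node (.leaf 3) (.leaf 3))) (.node (.node (.leaf 3) (.leaf 3)) (.node (.leaf 3) (.leaf 3)))))))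

def twoKind143 : Janko.Tree (ℕ) :=
  (.node (.node (.node (.node (.node (.node (.leaf 3) (.leaf 3)) (.node (.leaf 3) (.leaf 3))) (.node (.node (.leaf 0) (.leaf 0)) (.node (.leaf 3) (.leaf 3)))) (.node (.node (.node (.leaf 0) (.leaf 3)) (.node (.leaf 3) (.leaf 3))) (.node (.node (.leaf 3) (.leaf 3)) (.node (.leaf 0) (.leaf 3))))) (.node (.node (.node (.node (.leaf 3) (.leaf 0)) (.node (.leaf 3) (.leaf 3))) (.node (.node (.leaf 3) (.leaf 3)) (.node (.leaf 3) (.leaf 3)))) (.node (.node (.node (.leaf 3) (.leaf 0)) (.node (.leaf 3) (.leaf 3))) (.node (.node (.leaf 3) (.leaf 3)) (.node (.leaf 0) (.leaf 3)))))) (.node (.node (.node (.node (.node (.leaf 0) (.leaf 3)) (.node (.leaf 0) (.leaf 3))) (.node (.node (.leaf 3) (.leaf 0)) (.node (.leaf 3) (.leaf 3)))) (.node (.node (.node (.leaf 3) (.leaf 3)) (.node (.leaf 0) (.leaf 3))) (.node (.node (.leaf 0) (.leaf 3)) (.node (.leaf 3) (.leaf 3))))) (.node (.node (.node (.node (.leaf 3) (.leaf 3)) (.node (.leaf 0) (.leaf 0))) (.node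 (.node (.leaf 3) (.leaf 3)) (.node (.leaf 0) (.leaf 3)))) (.node (.node (.node (.leaf 0) (.leaf 3)) (.node (.leaf 3) (.leaf 3))) (.node (.node (.leaf 3) (.leaf 3)) (.node (.leaf 0) (.leaf 3)))))))

def twoKind144 : Janko.Tree (ℕ) :=
  (.node (.node (.node (.node (.node (.node (.leaf 0) (.leaf 3)) (.node (.leaf 0) (.leaf 0))) (.node (.node (.leaf 3) (.leaf 3)) (.node (.leaf 3) (.leaf 3)))) (.node (.node (.node (.leaf 3) (.leaf 3)) (.node (.leaf 0) (.leaf 3))) (.node (.node (.leaf 3) (.leaf 3)) (.node (.leaf 3) (.leaf 3))))) (.node (.node (.node (.node (.leaf 3) (.leaf 3)) (.node (.leaf 3) (.leaf 3))) (.node (.node (.leaf 3) (.leaf 3)) (.node (.leaf 3) (.leaf 3)))) (.node (.node (.node (.leaf 3) (.leaf 3)) (.node (.leaf 3) (.leaf 3))) (.node (.node (.leaf 3) (.leaf 3)) (.node (.leaf 3) (.leaf 3)))))) (.node (.node (.node (.node (.node (.leaf 3) (.leaf 3)) (.node (.leaf 3) (.leaf 3))) (.node (.node (.leaf 3) (.leaf 3)) (.node (.leaf 0) (.leaf 3)))) (.node (.node (.node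 (.leaf 0) (.leaf 3)) (.node (.leaf 3) (.leaf 3))) (.node (.node (.leaf 3) (.leaf 3)) (.node (.leaf 3) (.leaf 3))))) (.node (.node (.node (.node (.leaf 0) (.leaf 3)) (.node (.leaf 3) (.leaf 3))) (.node (.node (.leaf 3) (.leaf 3)) (.node (.leaf 3) (.leaf 3)))) (.node (.node (.node (.leaf 3) (.leaf 0)) (.node (.leaf 3) (.leaf 3))) (.node (.node (.leaf 3) (.leaf 3)) (.node (.leaf 3) (.leaf 3)))))))

def twoKind145 : Janko.Tree (ℕ) :=
  (.node (.node (.node (.node (.node (.node (.leaf 3) (.leaf 3)) (.node (.leaf 3) (.leaf 3))) (.node (.node (.leaf 0) (.leaf 3)) (.node (.leaf 3) (.leaf 3)))) (.node (.node (.node (.leaf 3) (.leaf 3)) (.node (.leaf 3) (.leaf 3))) (.node (.node (.leaf 0) (.leaf 0)) (.node (.leaf 3) (.leaf 3))))) (.node (.node (.node (.node (.leaf 0) (.leaf 3)) (.node (.leaf 3) (.leaf 3))) (.node (.node (.leaf 3) (.leaf 3)) (.node (.leaf 3) (.leaf 3)))) (.node (.node (.node (.leaf 0) (.leaf 3)) (.node (.leaf 3) (.leaf 3))) (.node (.node (.leaf 0) (.leaf 3))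 (.node (.leaf 3) (.leaf 3)))))) (.node (.node (.node (.node (.node (.leaf 3) (.leaf 3)) (.node (.leaf 3) (.leaf 3))) (.node (.node (.leaf 3) (.leaf 3)) (.node (.leaf 3) (.leaf 3)))) (.node (.node (.node (.leaf 3) (.leaf 3)) (.node (.leaf 3) (.leaf 0))) (.node (.node (.leaf 3) (.leaf 0)) (.node (.leaf 3) (.leaf 3))))) (.node (.node (.node (.node (.leaf 3) (.leaf 0)) (.node (.leaf 3) (.leaf 0))) (.node (.node (.leaf 0) (.leaf 3)) (.node (.leaf 0) (.leaf 3)))) (.node (.node (.node (.leaf 0) (.leaf 3)) (.node (.leaf 3) (.leaf 3))) (.node (.node (.leaf 0) (.leaf 3)) (.node (.leaf 0) (.leaf 3)))))))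

def twoKind146 : Janko.Tree (ℕ) :=
  (.node (.node (.node (.node (.node (.node (.leaf 0) (.leaf 3)) (.node (.leaf 0) (.leaf 3))) (.node (.node (.leaf 3) (.leaf 3)) (.node (.leaf 0) (.leaf 3)))) (.node (.node (.node (.leaf 3) (.leaf 3)) (.node (.leaf 3) (.leaf 3))) (.node (.node (.leaf 3) (.leaf 3)) (.node (.leaf 3) (.leaf 3))))) (.node (.node (.node (.node (.leaf 3) (.leaf 3)) (.node (.leaf 0) (.leaf 3))) (.node (.node (.leaf 3) (.leaf 3)) (.node (.leaf 0) (.leaf 3)))) (.node (.node (.node (.leaf 3) (.leaf 3)) (.node (.leaf 0) (.leaf 3))) (.node (.node (.leaf 3) (.leaf 3)) (.node (.leaf 3) (.leaf 3)))))) (.node (.node (.node (.node (.node (.leaf 3) (.leaf 3)) (.node (.leaf 3) (.leaf 3))) (.node (.node (.leaf 0) (.leaf 3)) (.node (.leaf 3) (.leaf 3)))) (.node (.node (.node (.leaf 3) (.leaf 3)) (.node (.leaf 3) (.leaf 3))) (.node (.node (.leaf 3) (.leaf 3)) (.node (.leaf 3) (.leaf 3))))) (.node (.node (.node (.node (.leaf 0) (.leaf 3)) (.node (.leaf 3) (.leaf 3))) (.node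 (.node (.leaf 3) (.leaf 3)) (.node (.leaf 3) (.leaf 3)))) (.node (.node (.node (.leaf 3) (.leaf 0)) (.node (.leaf 0) (.leaf 3))) (.node (.node (.leaf 3) (.leaf 3)) (.node (.leaf 3) (.leaf 3)))))))

def twoKind147 : Janko.Tree (ℕ) :=
  (.node (.node (.node (.node (.node (.node (.leaf 0) (.leaf 0)) (.node (.leaf 0) (.leaf 0))) (.node (.node (.leaf 3) (.leaf 3)) (.node (.leaf 0) (.leaf 3)))) (.node (.node (.node (.leaf 3) (.leaf 3)) (.node (.leaf 3) (.leaf 3))) (.node (.node (.leaf 0) (.leaf 3)) (.node (.leaf 3) (.leaf 3))))) (.node (.node (.node (.node (.leaf 0) (.leaf 3)) (.node (.leaf 3) (.leaf 0))) (.node (.node (.leaf 0) (.leaf 3)) (.node (.leaf 3) (.leaf 3)))) (.node (.node (.node (.leaf 0) (.leaf 3)) (.node (.leaf 3) (.leaf 3))) (.node (.node (.leaf 3) (.leaf 3)) (.node (.leaf 3) (.leaf 3)))))) (.node (.node (.node (.node (.node (.leaf 0) (.leaf 0)) (.node (.leaf 3) (.leaf 0))) (.node (.node (.leaf 3) (.leaf 0)) (.node (.leaf 0) (.leaf 3)))) (.node (.node (.node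 (.leaf 0) (.leaf 3)) (.node (.leaf 3) (.leaf 3))) (.node (.node (.leaf 0) (.leaf 3)) (.node (.leaf 0) (.leaf 3))))) (.node (.node (.node (.node (.leaf 0) (.leaf 3)) (.node (.leaf 3) (.leaf 3))) (.node (.node (.leaf 3) (.leaf 0)) (.node (.leaf 3) (.leaf 3)))) (.node (.node (.node (.leaf 3) (.leaf 0)) (.node (.leaf 3) (.leaf 3))) (.node (.node (.leaf 3) (.leaf 3)) (.node (.leaf 3) (.leaf 3)))))))

def twoKind148 : Janko.Tree (ℕ) :=
  (.node (.node (.node (.node (.node (.node (.leaf 3) (.leaf 3)) (.node (.leaf 3) (.leaf 3))) (.node (.node (.leaf 3) (.leaf 3)) (.node (.leaf 3) (.leaf 3)))) (.node (.node (.node (.leaf 3) (.leaf 3)) (.node (.leaf 3) (.leaf 3))) (.node (.node (.leaf 3) (.leaf 3)) (.node (.leaf 3) (.leaf 3))))) (.node (.node (.node (.node (.leaf 3) (.leaf 3)) (.node (.leaf 3) (.leaf 3))) (.node (.node (.leaf 3) (.leaf 3)) (.node (.leaf 0) (.leaf 3)))) (.node (.node (.node (.leaf 3) (.leaf 0)) (.node (.leaf 3) (.leaf 3))) (.node (.node (.leaf 0) (.leaf 3))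 (.node (.leaf 3) (.leaf 3)))))) (.node (.node (.node (.node (.node (.leaf 3) (.leaf 3)) (.node (.leaf 3) (.leaf 3))) (.node (.node (.leaf 3) (.leaf 3)) (.node (.leaf 3) (.leaf 3)))) (.node (.node (.node (.leaf 3) (.leaf 3)) (.node (.leaf 3) (.leaf 3))) (.node (.node (.leaf 3) (.leaf 3)) (.node (.leaf 3) (.leaf 3))))) (.node (.node (.node (.node (.leaf 3) (.leaf 3)) (.node (.leaf 0) (.leaf 3))) (.node (.node (.leaf 0) (.leaf 3)) (.node (.leaf 3) (.leaf 3)))) (.node (.node (.node (.leaf 3) (.leaf 3)) (.node (.leaf 3) (.leaf 3))) (.node (.node (.leaf 2) (.leaf 3)) (.node (.leaf 3) (.leaf 3)))))))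

def twoKind149 : Janko.Tree (ℕ) :=
  (.node (.node (.node (.node (.node (.node (.leaf 0) (.leaf 3)) (.node (.leaf 0) (.leaf 0))) (.node (.node (.leaf 0) (.leaf 0)) (.node (.leaf 0) (.leaf 3)))) (.node (.node (.node (.leaf 0) (.leaf 3)) (.node (.leaf 3) (.leaf 3))) (.node (.node (.leaf 3) (.leaf 3)) (.node (.leaf 0) (.leaf 3))))) (.node (.node (.node (.node (.leaf 0) (.leaf 0)) (.node (.leaf 0) (.leaf 3))) (.node (.node (.leaf 3) (.leaf 0)) (.node (.leaf 3) (.leaf 3)))) (.node (.node (.node (.leaf 3) (.leaf 3)) (.node (.leaf 0) (.leaf 0))) (.node (.node (.leaf 3) (.leaf 3)) (.node (.leaf 0) (.leaf 3)))))) (.node (.node (.node (.node (.node (.leaf 0) (.leaf 0)) (.node (.leaf 3) (.leaf 3))) (.node (.node (.leaf 0) (.leaf 3)) (.node (.leaf 3) (.leaf 3)))) (.node (.node (.node (.leaf 3) (.leaf 3)) (.node (.leaf 3) (.leaf 3))) (.node (.node (.leaf 0) (.leaf 3)) (.node (.leaf 3) (.leaf 3))))) (.node (.node (.node (.node (.leaf 0) (.leaf 3)) (.node (.leaf 3) (.leaf 3))) (.node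 (.node (.leaf 3) (.leaf 0)) (.node (.leaf 0) (.leaf 0)))) (.node (.node (.node (.leaf 3) (.leaf 3)) (.node (.leaf 0) (.leaf 3))) (.node (.node (.leaf 3) (.leaf 3)) (.node (.leaf 3) (.leaf 3)))))))

def twoKind150 : Janko.Tree (ℕ) :=
  (.node (.node (.node (.node (.node (.node (.leaf 3) (.leaf 3)) (.node (.leaf 3) (.leaf 3))) (.node (.node (.leaf 3) (.leaf 3)) (.node (.leaf 3) (.leaf 3)))) (.node (.node (.node (.leaf 3) (.leaf 3)) (.node (.leaf 3) (.leaf 3))) (.node (.node (.leaf 3) (.leaf 3)) (.node (.leaf 3) (.leaf 3))))) (.node (.node (.node (.node (.leaf 3) (.leaf 3)) (.node (.leaf 3) (.leaf 3))) (.node (.node (.leaf 3) (.leaf 3)) (.node (.leaf 0) (.leaf 3)))) (.node (.node (.node (.leaf 3) (.leaf 3)) (.node (.leaf 3) (.leaf 3))) (.node (.node (.leaf 3) (.leaf 3)) (.node (.leaf 3) (.leaf 3)))))) (.node (.node (.node (.node (.node (.leaf 3) (.leaf 3)) (.node (.leaf 3) (.leaf 3))) (.node (.node (.leaf 3) (.leaf 3)) (.node (.leaf 3) (.leaf 3)))) (.node (.node (.node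 (.leaf 3) (.leaf 0)) (.node (.leaf 0) (.leaf 3))) (.node (.node (.leaf 3) (.leaf 3)) (.node (.leaf 3) (.leaf 3))))) (.node (.node (.node (.node (.leaf 3) (.leaf 3)) (.node (.leaf 3) (.leaf 3))) (.node (.node (.leaf 0) (.leaf 3)) (.node (.leaf 3) (.leaf 3)))) (.node (.node (.node (.leaf 3) (.leaf 3)) (.node (.leaf 3) (.leaf 3))) (.node (.node (.leaf 0) (.leaf 3)) (.node (.leaf 3) (.leaf 3)))))))

def twoKind151 : Janko.Tree (ℕ) :=
  (.node (.node (.node (.node (.node (.node (.leaf 3) (.leaf 3)) (.node (.leaf 0) (.leaf 0))) (.node (.node (.leaf 3) (.leaf 3)) (.node (.leaf 3) (.leaf 3)))) (.node (.node (.node (.leaf 0) (.leaf 3)) (.node (.leaf 0) (.leaf 0))) (.node (.node (.leaf 0) (.leaf 0)) (.node (.leaf 3) (.leaf 3))))) (.node (.node (.node (.node (.leaf 3) (.leaf 0)) (.node (.leaf 0) (.leaf 3))) (.node (.node (.leaf 3) (.leaf 3)) (.node (.leaf 0) (.leaf 3)))) (.node (.node (.node (.leaf 3) (.leaf 0)) (.node (.leaf 0) (.leaf 3))) (.node (.node (.leaf 3) (.leaf 3))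 (.node (.leaf 3) (.leaf 3)))))) (.node (.node (.node (.node (.node (.leaf 3) (.leaf 3)) (.node (.leaf 0) (.leaf 3))) (.node (.node (.leaf 3) (.leaf 3)) (.node (.leaf 3) (.leaf 3)))) (.node (.node (.node (.leaf 3) (.leaf 3)) (.node (.leaf 0) (.leaf 0))) (.node (.node (.leaf 3) (.leaf 3)) (.node (.leaf 3) (.leaf 0))))) (.node (.node (.node (.node (.leaf 3) (.leaf 3)) (.node (.leaf 0) (.leaf 0))) (.node (.node (.leaf 0) (.leaf 3)) (.node (.leaf 3) (.leaf 3)))) (.node (.node (.node (.leaf 3) (.leaf 3)) (.node (.leaf 3) (.leaf 3))) (.node (.node (.leaf 0) (.leaf 3)) (.node (.leaf 3) (.leaf 0)))))))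

def twoKind152 : Janko.Tree (ℕ) :=
  (.node (.node (.node (.node (.node (.node (.leaf 0) (.leaf 0)) (.node (.leaf 3) (.leaf 3))) (.node (.node (.leaf 0) (.leaf 3)) (.node (.leaf 3) (.leaf 3)))) (.node (.node (.node (.leaf 3) (.leaf 3)) (.node (.leaf 3) (.leaf 3))) (.node (.node (.leaf 3) (.leaf 3)) (.node (.leaf 3) (.leaf 3))))) (.node (.node (.node (.node (.leaf 3) (.leaf 3)) (.node (.leaf 3) (.leaf 3))) (.node (.node (.leaf 3) (.leaf 3)) (.node (.leaf 3) (.leaf 3)))) (.node (.node (.node (.leaf 3) (.leaf 3)) (.node (.leaf 3) (.leaf 3))) (.node (.node (.leaf 3) (.leaf 3)) (.node (.leaf 3) (.leaf 3)))))) (.node (.node (.node (.node (.node (.leaf 0) (.leaf 3)) (.node (.leaf 3) (.leaf 3))) (.node (.node (.leaf 0) (.leaf 3)) (.node (.leaf 3) (.leaf 3)))) (.node (.node (.node (.leaf 3) (.leaf 3)) (.node (.leaf 3) (.leaf 3))) (.node (.node (.leaf 3) (.leaf 3)) (.node (.leaf 3) (.leaf 3))))) (.node (.node (.node (.node (.leaf 0) (.leaf 3)) (.node (.leaf 3) (.leaf 3))) (.node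 (.node (.leaf 3) (.leaf 0)) (.node (.leaf 3) (.leaf 3)))) (.node (.node (.node (.leaf 3) (.leaf 3)) (.node (.leaf 3) (.leaf 3))) (.node (.node (.leaf 3) (.leaf 3)) (.node (.leaf 3) (.leaf 3)))))))

def twoKind153 : Janko.Tree (ℕ) :=
  (.node (.node (.node (.node (.node (.node (.leaf 3) (.leaf 3)) (.node (.leaf 3) (.leaf 3))) (.node (.node (.leaf 3) (.leaf 3)) (.node (.leaf 0) (.leaf 3)))) (.node (.node (.node (.leaf 0) (.leaf 0)) (.node (.leaf 0) (.leaf 0))) (.node (.node (.leaf 0) (.leaf 3)) (.node (.leaf 3) (.leaf 3))))) (.node (.node (.node (.node (.leaf 3) (.leaf 3)) (.node (.leaf 3) (.leaf 3))) (.node (.node (.leaf 0) (.leaf 3)) (.node (.leaf 0) (.leaf 3)))) (.node (.node (.node (.leaf 3) (.leaf 0)) (.node (.leaf 3) (.leaf 3))) (.node (.node (.leaf 0) (.leaf 0)) (.node (.leaf 3) (.leaf 3)))))) (.node (.node (.node (.node (.node (.leaf 3) (.leaf 3)) (.node (.leaf 0) (.leaf 0))) (.node (.node (.leaf 3) (.leaf 3)) (.node (.leaf 3) (.leaf 3)))) (.node (.node (.node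 (.leaf 0) (.leaf 0)) (.node (.leaf 0) (.leaf 0))) (.node (.node (.leaf 0) (.leaf 3)) (.node (.leaf 3) (.leaf 3))))) (.node (.node (.node (.node (.leaf 3) (.leaf 3)) (.node (.leaf 0) (.leaf 0))) (.node (.node (.leaf 0) (.leaf 3)) (.node (.leaf 3) (.leaf 3)))) (.node (.node (.node (.leaf 3) (.leaf 0)) (.node (.leaf 3) (.leaf 3))) (.node (.node (.leaf 0) (.leaf 3)) (.node (.leaf 3) (.leaf 3)))))))

def twoKind154 : Janko.Tree (ℕ) :=
  (.node (.node (.node (.node (.node (.node (.leaf 0) (.leaf 0)) (.node (.leaf 3) (.leaf 3))) (.node (.node (.leaf 0) (.leaf 0)) (.node (.leaf 3) (.leaf 3)))) (.node (.node (.node (.leaf 3) (.leaf 3)) (.node (.leaf 3) (.leaf 3))) (.node (.node (.leaf 3) (.leaf 3)) (.node (.leaf 0) (.leaf 3))))) (.node (.node (.node (.node (.leaf 3) (.leaf 3)) (.node (.leaf 3) (.leaf 3))) (.node (.node (.leaf 3) (.leaf 3)) (.node (.leaf 3) (.leaf 3)))) (.node (.node (.node (.leaf 3) (.leaf 3)) (.node (.leaf 3) (.leaf 3))) (.node (.node (.leaf 3) (.leaf 3))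 (.node (.leaf 3) (.leaf 3)))))) (.node (.node (.node (.node (.node (.leaf 0) (.leaf 0)) (.node (.leaf 3) (.leaf 3))) (.node (.node (.leaf 3) (.leaf 3)) (.node (.leaf 3) (.leaf 3)))) (.node (.node (.node (.leaf 3) (.leaf 3)) (.node (.leaf 3) (.leaf 3))) (.node (.node (.leaf 3) (.leaf 0)) (.node (.leaf 0) (.leaf 3))))) (.node (.node (.node (.node (.leaf 0) (.leaf 3)) (.node (.leaf 3) (.leaf 3))) (.node (.node (.leaf 3) (.leaf 3)) (.node (.leaf 3) (.leaf 3)))) (.node (.node (.node (.leaf 0) (.leaf 3)) (.node (.leaf 3) (.leaf 3))) (.node (.node (.leaf 3) (.leaf 3)) (.node (.leaf 0) (.leaf 3)))))))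

def twoKind155 : Janko.Tree (ℕ) :=
  (.node (.node (.node (.node (.node (.node (.leaf 0) (.leaf 0)) (.node (.leaf 3) (.leaf 3))) (.node (.node (.leaf 0) (.leaf 3)) (.node (.leaf 0) (.leaf 3)))) (.node (.node (.node (.leaf 3) (.leaf 3)) (.node (.leaf 3) (.leaf 3))) (.node (.node (.leaf 3) (.leaf 3)) (.node (.leaf 0) (.leaf 3))))) (.node (.node (.node (.node (.leaf 0) (.leaf 3)) (.node (.leaf 3) (.leaf 0))) (.node (.node (.leaf 3) (.leaf 3)) (.node (.leaf 3) (.leaf 3)))) (.node (.node (.node (.leaf 0) (.leaf 0)) (.node (.leaf 0) (.leaf 0))) (.node (.node (.leaf 0) (.leaf 3)) (.node (.leaf 0) (.leaf 3)))))) (.node (.node (.node (.node (.node (.leaf 0) (.leaf 3)) (.node (.leaf 3) (.leaf 0))) (.node (.node (.leaf 0) (.leaf 3)) (.node (.leaf 3) (.leaf 3)))) (.node (.node (.node (.leaf 3) (.leaf 3)) (.node (.leaf 3) (.leaf 3))) (.node (.node (.leaf 3) (.leaf 0)) (.node (.leaf 0) (.leaf 3))))) (.node (.node (.node (.node (.leaf 0) (.leaf 0)) (.node (.leaf 3) (.leaf 0))) (.node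 (.node (.leaf 0) (.leaf 0)) (.node (.leaf 0) (.leaf 3)))) (.node (.node (.node (.leaf 0) (.leaf 0)) (.node (.leaf 0) (.leaf 0))) (.node (.node (.leaf 3) (.leaf 3)) (.node (.leaf 3) (.leaf 3)))))))

def twoKind156 : Janko.Tree (ℕ) :=
  (.node (.node (.node (.node (.node (.node (.leaf 3) (.leaf 3)) (.node (.leaf 3) (.leaf 0))) (.node (.node (.leaf 3) (.leaf 3)) (.node (.leaf 3) (.leaf 3)))) (.node (.node (.node (.leaf 0) (.leaf 3)) (.node (.leaf 3) (.leaf 3))) (.node (.node (.leaf 0) (.leaf 3)) (.node (.leaf 3) (.leaf 3))))) (.node (.node (.node (.node (.leaf 3) (.leaf 3)) (.node (.leaf 3) (.leaf 3))) (.node (.node (.leaf 0) (.leaf 3)) (.node (.leaf 3) (.leaf 3)))) (.node (.node (.node (.leaf 3) (.leaf 3)) (.node (.leaf 3) (.leaf 3))) (.node (.node (.leaf 3) (.leaf 3)) (.node (.leaf 3) (.leaf 3)))))) (.node (.node (.node (.node (.node (.leaf 3) (.leaf 3)) (.node (.leaf 3) (.leaf 3))) (.node (.node (.leaf 3) (.leaf 3)) (.node (.leaf 3) (.leaf 3)))) (.node (.node (.node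 (.leaf 0) (.leaf 0)) (.node (.leaf 0) (.leaf 3))) (.node (.node (.leaf 0) (.leaf 3)) (.node (.leaf 3) (.leaf 3))))) (.node (.node (.node (.node (.leaf 3) (.leaf 3)) (.node (.leaf 0) (.leaf 3))) (.node (.node (.leaf 3) (.leaf 3)) (.node (.leaf 3) (.leaf 3)))) (.node (.node (.node (.leaf 3) (.leaf 3)) (.node (.leaf 3) (.leaf 3))) (.node (.node (.leaf 0) (.leaf 3)) (.node (.leaf 3) (.leaf 3)))))))

def twoKind157 : Janko.Tree (ℕ) :=
  (.node (.node (.node (.node (.node (.node (.leaf 0) (.leaf 0)) (.node (.leaf 0) (.leaf 3))) (.node (.node (.leaf 0) (.leaf 3)) (.node (.leaf 3) (.leaf 3)))) (.node (.node (.node (.leaf 3) (.leaf 3)) (.node (.leaf 3) (.leaf 0))) (.node (.node (.leaf 3) (.leaf 0)) (.node (.leaf 3) (.leaf 3))))) (.node (.node (.node (.node (.leaf 0) (.leaf 3)) (.node (.leaf 3) (.leaf 0))) (.node (.node (.leaf 3) (.leaf 3)) (.node (.leaf 0) (.leaf 3)))) (.node (.node (.node (.leaf 0) (.leaf 3)) (.node (.leaf 3) (.leaf 3))) (.node (.node (.leaf 0) (.leaf 3))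 (.node (.leaf 3) (.leaf 0)))))) (.node (.node (.node (.node (.node (.leaf 0) (.leaf 3)) (.node (.leaf 0) (.leaf 3))) (.node (.node (.leaf 0) (.leaf 3)) (.node (.leaf 3) (.leaf 3)))) (.node (.node (.node (.leaf 3) (.leaf 3)) (.node (.leaf 3) (.leaf 3))) (.node (.node (.leaf 3) (.leaf 0)) (.node (.leaf 0) (.leaf 3))))) (.node (.node (.node (.node (.leaf 0) (.leaf 0)) (.node (.leaf 3) (.leaf 3))) (.node (.node (.leaf 0) (.leaf 3)) (.node (.leaf 0) (.leaf 3)))) (.node (.node (.node (.leaf 0) (.leaf 3)) (.node (.leaf 0) (.leaf 0))) (.node (.node (.leaf 3) (.leaf 3)) (.node (.leaf 3) (.leaf 3)))))))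

def twoKind158 : Janko.Tree (ℕ) :=
  (.node (.node (.node (.node (.node (.node (.leaf 0) (.leaf 0)) (.node (.leaf 3) (.leaf 0))) (.node (.node (.leaf 0) (.leaf 3)) (.node (.leaf 3) (.leaf 3)))) (.node (.node (.node (.leaf 0) (.leaf 3)) (.node (.leaf 0) (.leaf 3))) (.node (.node (.leaf 0) (.leaf 3)) (.node (.leaf 3) (.leaf 3))))) (.node (.node (.node (.node (.leaf 3) (.leaf 3)) (.node (.leaf 3) (.leaf 3))) (.node (.node (.leaf 0) (.leaf 0)) (.node (.leaf 3) (.leaf 3)))) (.node (.node (.node (.leaf 3) (.leaf 3)) (.node (.leaf 3) (.leaf 3))) (.node (.node (.leaf 3) (.leaf 3)) (.node (.leaf 0) (.leaf 3)))))) (.node (.node (.node (.node (.node (.leaf 0) (.leaf 0)) (.node (.leaf 3) (.leaf 3))) (.node (.node (.leaf 3) (.leaf 3)) (.node (.leaf 3) (.leaf 3)))) (.node (.node (.node (.leaf 0) (.leaf 3)) (.node (.leaf 3) (.leaf 3))) (.node (.node (.leaf 0) (.leaf 3)) (.node (.leaf 3) (.leaf 3))))) (.node (.node (.node (.node (.leaf 0) (.leaf 3)) (.node (.leaf 0) (.leaf 3))) (.node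 (.node (.leaf 3) (.leaf 3)) (.node (.leaf 3) (.leaf 3)))) (.node (.node (.node (.leaf 3) (.leaf 3)) (.node (.leaf 3) (.leaf 3))) (.node (.node (.leaf 0) (.leaf 0)) (.node (.leaf 3) (.leaf 3)))))))

def twoKind159 : Janko.Tree (ℕ) :=
  (.node (.node (.node (.node (.node (.node (.leaf 0) (.leaf 3)) (.node (.leaf 3) (.leaf 0))) (.node (.node (.leaf 0) (.leaf 0)) (.node (.leaf 3) (.leaf 3)))) (.node (.node (.node (.leaf 0) (.leaf 0)) (.node (.leaf 3) (.leaf 3))) (.node (.node (.leaf 0) (.leaf 3)) (.node (.leaf 3) (.leaf 3))))) (.node (.node (.node (.node (.leaf 3) (.leaf 0)) (.node (.leaf 0) (.leaf 3))) (.node (.node (.leaf 0) (.leaf 3)) (.node (.leaf 3) (.leaf 3)))) (.node (.node (.node (.leaf 3) (.leaf 3)) (.node (.leaf 3) (.leaf 3))) (.node (.node (.leaf 3) (.leaf 3)) (.node (.leaf 0) (.leaf 3)))))) (.node (.node (.node (.node (.node (.leaf 3) (.leaf 0)) (.node (.leaf 3) (.leaf 3))) (.node (.node (.leaf 3) (.leaf 0)) (.node (.leaf 3) (.leaf 3)))) (.node (.node (.node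 (.leaf 0) (.leaf 3)) (.node (.leaf 3) (.leaf 3))) (.node (.node (.leaf 0) (.leaf 3)) (.node (.leaf 3) (.leaf 3))))) (.node (.node (.node (.node (.leaf 3) (.leaf 3)) (.node (.leaf 0) (.leaf 3))) (.node (.node (.leaf 3) (.leaf 3)) (.node (.leaf 3) (.leaf 3)))) (.node (.node (.node (.leaf 0) (.leaf 3)) (.node (.leaf 3) (.leaf 3))) (.node (.node (.leaf 0) (.leaf 3)) (.node (.leaf 0) (.leaf 3)))))))

def twoKind160 : Janko.Tree (ℕ) :=
  (.node (.node (.node (.node (.node (.node (.leaf 3) (.leaf 3)) (.node (.leaf 3) (.leaf 3))) (.node (.node (.leaf 3) (.leaf 3)) (.node (.leaf 3) (.leaf 3)))) (.node (.node (.node (.leaf 3) (.leaf 3)) (.node (.leaf 3) (.leaf 3))) (.node (.node (.leaf 3) (.leaf 3)) (.node (.leaf 3) (.leaf 3))))) (.node (.node (.node (.node (.leaf 0) (.leaf 3)) (.node (.leaf 3) (.leaf 0))) (.node (.node (.leaf 3) (.leaf 3)) (.node (.leaf 3) (.leaf 3)))) (.node (.node (.node (.leaf 3) (.leaf 0)) (.node (.leaf 0) (.leaf 3))) (.node (.node (.leaf 0) (.leaf 3))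 (.node (.leaf 3) (.leaf 3)))))) (.node (.node (.node (.node (.node (.leaf 3) (.leaf 3)) (.node (.leaf 3) (.leaf 3))) (.node (.node (.leaf 3) (.leaf 3)) (.node (.leaf 3) (.leaf 3)))) (.node (.node (.node (.leaf 3) (.leaf 3)) (.node (.leaf 3) (.leaf 3))) (.node (.node (.leaf 3) (.leaf 3)) (.node (.leaf 0) (.leaf 3))))) (.node (.node (.node (.node (.leaf 3) (.leaf 3)) (.node (.leaf 3) (.leaf 3))) (.node (.node (.leaf 0) (.leaf 3)) (.node (.leaf 0) (.leaf 3)))) (.node (.node (.node (.leaf 3) (.leaf 3)) (.node (.leaf 3) (.leaf 3))) (.node (.node (.leaf 3) (.leaf 3)) (.node (.leaf 3) (.leaf 3)))))))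

def twoKind161 : Janko.Tree (ℕ) :=
  (.node (.node (.node (.node (.node (.node (.leaf 3) (.leaf 3)) (.node (.leaf 3) (.leaf 3))) (.node (.node (.leaf 0) (.leaf 3)) (.node (.leaf 3) (.leaf 3)))) (.node (.node (.node (.leaf 0) (.leaf 0)) (.node (.leaf 0) (.leaf 3))) (.node (.node (.leaf 0) (.leaf 3)) (.node (.leaf 3) (.leaf 3))))) (.node (.node (.node (.node (.leaf 3) (.leaf 3)) (.node (.leaf 0) (.leaf 3))) (.node (.node (.leaf 0) (.leaf 3)) (.node (.leaf 3) (.leaf 3)))) (.node (.node (.node (.leaf 3) (.leaf 3)) (.node (.leaf 3) (.leaf 0))) (.node (.node (.leaf 3) (.leaf 3)) (.node (.leaf 0) (.leaf 3)))))) (.node (.node (.node (.node (.node (.leaf 0) (.leaf 0)) (.node (.leaf 3) (.leaf 3))) (.node (.node (.leaf 3) (.leaf 0)) (.node (.leaf 3) (.leaf 3)))) (.node (.node (.node (.leaf 0) (.leaf 0)) (.node (.leaf 0) (.leaf 3))) (.node (.node (.leaf 0) (.leaf 3)) (.node (.leaf 3) (.leaf 3))))) (.node (.node (.node (.node (.leaf 0) (.leaf 0)) (.node (.leaf 3) (.leaf 3))) (.node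 (.node (.leaf 3) (.leaf 3)) (.node (.leaf 3) (.leaf 3)))) (.node (.node (.node (.leaf 0) (.leaf 0)) (.node (.leaf 3) (.leaf 0))) (.node (.node (.leaf 3) (.leaf 3)) (.node (.leaf 3) (.leaf 3)))))))

def twoKind162 : Janko.Tree (ℕ) :=
  (.node (.node (.node (.node (.node (.node (.leaf 3) (.leaf 3)) (.node (.leaf 0) (.leaf 3))) (.node (.node (.leaf 3) (.leaf 3)) (.node (.leaf 0) (.leaf 3)))) (.node (.node (.node (.leaf 3) (.leaf 3)) (.node (.leaf 3) (.leaf 3))) (.node (.node (.leaf 3) (.leaf 0)) (.node (.leaf 3) (.leaf 3))))) (.node (.node (.node (.node (.leaf 0) (.leaf 3)) (.node (.leaf 3) (.leaf 3))) (.node (.node (.leaf 3) (.leaf 3)) (.node (.leaf 3) (.leaf 3)))) (.node (.node (.node (.leaf 0) (.leaf 0)) (.node (.leaf 0) (.leaf 3))) (.node (.node (.leaf 0) (.leaf 3)) (.node (.leaf 3) (.leaf 3)))))) (.node (.node (.node (.node (.node (.leaf 3) (.leaf 3)) (.node (.leaf 0) (.leaf 3))) (.node (.node (.leaf 0) (.leaf 3)) (.node (.leaf 3) (.leaf 3)))) (.node (.node (.node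 (.leaf 3) (.leaf 3)) (.node (.leaf 3) (.leaf 3))) (.node (.node (.leaf 0) (.leaf 3)) (.node (.leaf 3) (.leaf 3))))) (.node (.node (.node (.node (.leaf 3) (.leaf 3)) (.node (.leaf 3) (.leaf 3))) (.node (.node (.leaf 3) (.leaf 3)) (.node (.leaf 0) (.leaf 3)))) (.node (.node (.node (.leaf 3) (.leaf 3)) (.node (.leaf 3) (.leaf 3))) (.node (.node (.leaf 0) (.leaf 3)) (.node (.leaf 3) (.leaf 3)))))))

def twoKind163 : Janko.Tree (ℕ) :=
  (.node (.node (.node (.node (.node (.node (.leaf 0) (.leaf 0)) (.node (.leaf 0) (.leaf 0))) (.node (.node (.leaf 0) (.leaf 3)) (.node (.leaf 3) (.leaf 3)))) (.node (.node (.node (.leaf 3) (.leaf 3)) (.node (.leaf 3) (.leaf 3))) (.node (.node (.leaf 3) (.leaf 3)) (.node (.leaf 0) (.leaf 3))))) (.node (.node (.node (.node (.leaf 0) (.leaf 3)) (.node (.leaf 3) (.leaf 3))) (.node (.node (.leaf 3) (.leaf 0)) (.node (.leaf 0) (.leaf 3)))) (.node (.node (.node (.leaf 3) (.leaf 0)) (.node (.leaf 0) (.leaf 3))) (.node (.node (.leaf 0) (.leaf 3))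 (.node (.leaf 0) (.leaf 3)))))) (.node (.node (.node (.node (.node (.leaf 0) (.leaf 0)) (.node (.leaf 3) (.leaf 0))) (.node (.node (.leaf 0) (.leaf 3)) (.node (.leaf 0) (.leaf 0)))) (.node (.node (.node (.leaf 0) (.leaf 3)) (.node (.leaf 3) (.leaf 3))) (.node (.node (.leaf 0) (.leaf 3)) (.node (.leaf 3) (.leaf 3))))) (.node (.node (.node (.node (.leaf 0) (.leaf 0)) (.node (.leaf 0) (.leaf 3))) (.node (.node (.leaf 3) (.leaf 3)) (.node (.leaf 0) (.leaf 3)))) (.node (.node (.node (.leaf 3) (.leaf 3)) (.node (.leaf 0) (.leaf 3))) (.node (.node (.leaf 0) (.leaf 0)) (.node (.leaf 3) (.leaf 3)))))))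

def twoKind164 : Janko.Tree (ℕ) :=
  (.node (.node (.node (.node (.node (.node (.leaf 3) (.leaf 3)) (.node (.leaf 3) (.leaf 3))) (.node (.node (.leaf 3) (.leaf 3)) (.node (.leaf 3) (.leaf 3)))) (.node (.node (.node (.leaf 3) (.leaf 0)) (.node (.leaf 3) (.leaf 3))) (.node (.node (.leaf 3) (.leaf 3)) (.node (.leaf 3) (.leaf 3))))) (.node (.node (.node (.node (.leaf 0) (.leaf 3)) (.node (.leaf 3) (.leaf 3))) (.node (.node (.leaf 3) (.leaf 3)) (.node (.leaf 3) (.leaf 3)))) (.node (.node (.node (.leaf 3) (.leaf 3)) (.node (.leaf 3) (.leaf 3))) (.node (.node (.leaf 3) (.leaf 3)) (.node (.leaf 3) (.leaf 3)))))) (.node (.node (.node (.node (.node (.leaf 3) (.leaf 3)) (.node (.leaf 3) (.leaf 3))) (.node (.node (.leaf 3) (.leaf 0)) (.node (.leaf 3) (.leaf 3)))) (.node (.node (.node (.leaf 3) (.leaf 0)) (.node (.leaf 0) (.leaf 3))) (.node (.node (.leaf 3) (.leaf 3)) (.node (.leaf 3) (.leaf 3))))) (.node (.node (.node (.node (.leaf 3) (.leaf 3)) (.node (.leaf 3) (.leaf 0))) (.node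 (.node (.leaf 0) (.leaf 3)) (.node (.leaf 3) (.leaf 3)))) (.node (.node (.node (.leaf 0) (.leaf 3)) (.node (.leaf 3) (.leaf 3))) (.node (.node (.leaf 3) (.leaf 3)) (.node (.leaf 3) (.leaf 3)))))))

def twoKind165 : Janko.Tree (ℕ) :=
  (.node (.node (.node (.node (.node (.node (.leaf 0) (.leaf 3)) (.node (.leaf 2) (.leaf 0))) (.node (.node (.leaf 3) (.leaf 3)) (.node (.leaf 3) (.leaf 3)))) (.node (.node (.node (.leaf 3) (.leaf 3)) (.node (.leaf 3) (.leaf 3))) (.node (.node (.leaf 3) (.leaf 3)) (.node (.leaf 0) (.leaf 3))))) (.node (.node (.node (.node (.leaf 3) (.leaf 0)) (.node (.leaf 3) (.leaf 0))) (.node (.node (.leaf 3) (.leaf 3)) (.node (.leaf 0) (.leaf 0)))) (.node (.node (.node (.leaf 0) (.leaf 3)) (.node (.leaf 0) (.leaf 3))) (.node (.node (.leaf 0) (.leaf 3)) (.node (.leaf 3) (.leaf 3)))))) (.node (.node (.node (.node (.node (.leaf 3) (.leaf 3)) (.node (.leaf 3) (.leaf 3))) (.node (.node (.leaf 0) (.leaf 3)) (.node (.leaf 0) (.leaf 3)))) (.node (.node (.node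 (.leaf 0) (.leaf 3)) (.node (.leaf 3) (.leaf 3))) (.node (.node (.leaf 0) (.leaf 3)) (.node (.leaf 0) (.leaf 3))))) (.node (.node (.node (.node (.leaf 3) (.leaf 3)) (.node (.leaf 0) (.leaf 3))) (.node (.node (.leaf 3) (.leaf 0)) (.node (.leaf 0) (.leaf 3)))) (.node (.node (.node (.leaf 3) (.leaf 3)) (.node (.leaf 0) (.leaf 3))) (.node (.node (.leaf 0) (.leaf 3)) (.node (.leaf 0) (.leaf 3)))))))

def twoKind166 : Janko.Tree (ℕ) :=
  (.node (.node (.node (.node (.node (.node (.leaf 3) (.leaf 3)) (.node (.leaf 3) (.leaf 3))) (.node (.node (.leaf 3) (.leaf 3)) (.node (.leaf 3) (.leaf 3)))) (.node (.node (.node (.leaf 0) (.leaf 3)) (.node (.leaf 3) (.leaf 0))) (.node (.node (.leaf 3) (.leaf 3)) (.node (.leaf 3) (.leaf 3))))) (.node (.node (.node (.node (.leaf 0) (.leaf 3)) (.node (.leaf 0) (.leaf 3))) (.node (.node (.leaf 0) (.leaf 3)) (.node (.leaf 3) (.leaf 3)))) (.node (.node (.node (.leaf 3) (.leaf 0)) (.node (.leaf 3) (.leaf 3))) (.node (.node (.leaf 3) (.leaf 3))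 (.node (.leaf 3) (.leaf 3)))))) (.node (.node (.node (.node (.node (.leaf 3) (.leaf 3)) (.node (.leaf 3) (.leaf 3))) (.node (.node (.leaf 3) (.leaf 3)) (.node (.leaf 3) (.leaf 3)))) (.node (.node (.node (.leaf 3) (.leaf 0)) (.node (.leaf 0) (.leaf 3))) (.node (.node (.leaf 3) (.leaf 3)) (.node (.leaf 3) (.leaf 3))))) (.node (.node (.node (.node (.leaf 3) (.leaf 3)) (.node (.leaf 3) (.leaf 3))) (.node (.node (.leaf 0) (.leaf 3)) (.node (.leaf 3) (.leaf 3)))) (.node (.node (.node (.leaf 3) (.leaf 3)) (.node (.leaf 3) (.leaf 3))) (.node (.node (.leaf 3) (.leaf 3)) (.node (.leaf 3) (.leaf 3)))))))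

def twoKind167 : Janko.Tree (ℕ) :=
  (.node (.node (.node (.node (.node (.node (.leaf 3) (.leaf 3)) (.node (.leaf 3) (.leaf 0))) (.node (.node (.leaf 3) (.leaf 3)) (.node (.leaf 3) (.leaf 3)))) (.node (.node (.node (.leaf 3) (.leaf 0)) (.node (.leaf 0) (.leaf 0))) (.node (.node (.leaf 0) (.leaf 3)) (.node (.leaf 3) (.leaf 3))))) (.node (.node (.node (.node (.leaf 0) (.leaf 3)) (.node (.leaf 3) (.leaf 3))) (.node (.node (.leaf 3) (.leaf 3)) (.node (.leaf 3) (.leaf 3)))) (.node (.node (.node (.leaf 3) (.leaf 0)) (.node (.leaf 3) (.leaf 0))) (.node (.node (.leaf 3) (.leaf 3)) (.node (.leaf 3) (.leaf 3)))))) (.node (.node (.node (.node (.node (.leaf 3) (.leaf 3)) (.node (.leaf 0) (.leaf 3))) (.node (.node (.leaf 3) (.leaf 3)) (.node (.leaf 3) (.leaf 3)))) (.node (.node (.node (.leaf 3) (.leaf 0)) (.node (.leaf 0) (.leaf 0))) (.node (.node (.leaf 0) (.leaf 0)) (.node (.leaf 3) (.leaf 3))))) (.node (.node (.node (.node (.leaf 3) (.leaf 3)) (.node (.leaf 3) (.leaf 0))) (.node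 (.node (.leaf 0) (.leaf 3)) (.node (.leaf 3) (.leaf 3)))) (.node (.node (.node (.leaf 0) (.leaf 0)) (.node (.leaf 3) (.leaf 3))) (.node (.node (.leaf 0) (.leaf 3)) (.node (.leaf 3) (.leaf 3)))))))

def twoKind168 : Janko.Tree (ℕ) :=
  (.node (.node (.node (.node (.node (.node (.leaf 0) (.leaf 3)) (.node (.leaf 0) (.leaf 3))) (.node (.node (.leaf 0) (.leaf 3)) (.node (.leaf 3) (.leaf 3)))) (.node (.node (.node (.leaf 3) (.leaf 3)) (.node (.leaf 3) (.leaf 3))) (.node (.node (.leaf 3) (.leaf 3)) (.node (.leaf 3) (.leaf 3))))) (.node (.node (.node (.node (.leaf 3) (.leaf 3)) (.node (.leaf 3) (.leaf 3))) (.node (.node (.leaf 3) (.leaf 0)) (.node (.leaf 3) (.leaf 3)))) (.node (.node (.node (.leaf 0) (.leaf 3)) (.node (.leaf 3) (.leaf 3))) (.node (.node (.leaf 3) (.leaf 3)) (.node (.leaf 0) (.leaf 3)))))) (.node (.node (.node (.node (.node (.leaf 3) (.leaf 0)) (.node (.leaf 3) (.leaf 3))) (.node (.node (.leaf 3) (.leaf 3)) (.node (.leaf 0) (.leaf 3)))) (.node (.node (.node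 (.leaf 0) (.leaf 3)) (.node (.leaf 3) (.leaf 3))) (.node (.node (.leaf 3) (.leaf 3)) (.node (.leaf 3) (.leaf 3))))) (.node (.node (.node (.node (.leaf 3) (.leaf 3)) (.node (.leaf 3) (.leaf 3))) (.node (.node (.leaf 3) (.leaf 0)) (.node (.leaf 3) (.leaf 0)))) (.node (.node (.node (.leaf 3) (.leaf 3)) (.node (.leaf 3) (.leaf 3))) (.node (.node (.leaf 3) (.leaf 3)) (.node (.leaf 3) (.leaf 3)))))))

def twoKind169 : Janko.Tree (ℕ) :=
  (.node (.node (.node (.node (.node (.node (.leaf 3) (.leaf 3)) (.node (.leaf 3) (.leaf 3))) (.node (.node (.leaf 3) (.leaf 0)) (.node (.leaf 3) (.leaf 3)))) (.node (.node (.node (.leaf 0) (.leaf 3)) (.node (.leaf 0) (.leaf 3))) (.node (.node (.leaf 0) (.leaf 3)) (.node (.leaf 3) (.leaf 3))))) (.node (.node (.node (.node (.leaf 0) (.leaf 3)) (.node (.leaf 0) (.leaf 3))) (.node (.node (.leaf 0) (.leaf 3)) (.node (.leaf 3) (.leaf 3)))) (.node (.node (.node (.leaf 3) (.leaf 0)) (.node (.leaf 3) (.leaf 3))) (.node (.node (.leaf 3) (.leaf 3))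 (.node (.leaf 3) (.leaf 3)))))) (.node (.node (.node (.node (.node (.leaf 3) (.leaf 3)) (.node (.leaf 3) (.leaf 0))) (.node (.node (.leaf 0) (.leaf 0)) (.node (.leaf 3) (.leaf 3)))) (.node (.node (.node (.leaf 3) (.leaf 0)) (.node (.leaf 0) (.leaf 0))) (.node (.node (.leaf 3) (.leaf 0)) (.node (.leaf 3) (.leaf 3))))) (.node (.node (.node (.node (.leaf 0) (.leaf 3)) (.node (.leaf 0) (.leaf 0))) (.node (.node (.leaf 0) (.leaf 3)) (.node (.leaf 3) (.leaf 3)))) (.node (.node (.node (.leaf 3) (.leaf 0)) (.node (.leaf 3) (.leaf 3))) (.node (.node (.leaf 3) (.leaf 3)) (.node (.leaf 3) (.leaf 3)))))))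

def twoKind170 : Janko.Tree (ℕ) :=
  (.node (.node (.node (.node (.node (.node (.leaf 0) (.leaf 0)) (.node (.leaf 3) (.leaf 3))) (.node (.node (.leaf 3) (.leaf 3)) (.node (.leaf 3) (.leaf 3)))) (.node (.node (.node (.leaf 3) (.leaf 3)) (.node (.leaf 3) (.leaf 3))) (.node (.node (.leaf 3) (.leaf 3)) (.node (.leaf 0) (.leaf 3))))) (.node (.node (.node (.node (.leaf 0) (.leaf 3)) (.node (.leaf 3) (.leaf 3))) (.node (.node (.leaf 3) (.leaf 3)) (.node (.leaf 3) (.leaf 3)))) (.node (.node (.node (.leaf 0) (.leaf 3)) (.node (.leaf 0) (.leaf 3))) (.node (.node (.leaf 0) (.leaf 3)) (.node (.leaf 3) (.leaf 3)))))) (.node (.node (.node (.node (.node (.leaf 0) (.leaf 3)) (.node (.leaf 3) (.leaf 3))) (.node (.node (.leaf 3) (.leaf 3)) (.node (.leaf 3) (.leaf 3)))) (.node (.node (.node (.leaf 3) (.leaf 3)) (.node (.leaf 0) (.leaf 3))) (.node (.node (.leaf 3) (.leaf 3)) (.node (.leaf 0) (.leaf 3))))) (.node (.node (.node (.node (.leaf 0) (.leaf 3)) (.node (.leaf 3) (.leaf 3))) (.node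 (.node (.leaf 0) (.leaf 0)) (.node (.leaf 0) (.leaf 3)))) (.node (.node (.node (.leaf 3) (.leaf 3)) (.node (.leaf 0) (.leaf 0))) (.node (.node (.leaf 3) (.leaf 3)) (.node (.leaf 0) (.leaf 3)))))))

def twoKind171 : Janko.Tree (ℕ) :=
  (.node (.node (.node (.node (.node (.node (.leaf 0) (.leaf 0)) (.node (.leaf 3) (.leaf 3))) (.node (.node (.leaf 0) (.leaf 3)) (.node (.leaf 3) (.leaf 3)))) (.node (.node (.node (.leaf 0) (.leaf 3)) (.node (.leaf 0) (.leaf 3))) (.node (.node (.leaf 3) (.leaf 3)) (.node (.leaf 3) (.leaf 3))))) (.node (.node (.node (.node (.leaf 0) (.leaf 0)) (.node (.leaf 3) (.leaf 3))) (.node (.node (.leaf 0) (.leaf 3)) (.node (.leaf 3) (.leaf 3)))) (.node (.node (.node (.leaf 0) (.leaf 0)) (.node (.leaf 0) (.leaf 3))) (.node (.node (.leaf 3) (.leaf 3)) (.node (.leaf 0) (.leaf 3)))))) (.node (.node (.node (.node (.node (.leaf 0) (.leaf 0)) (.node (.leaf 3) (.leaf 3))) (.node (.node (.leaf 3) (.leaf 3)) (.node (.leaf 0) (.leaf 3)))) (.node (.node (.node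 (.leaf 3) (.leaf 3)) (.node (.leaf 3) (.leaf 3))) (.node (.node (.leaf 3) (.leaf 3)) (.node (.leaf 0) (.leaf 3))))) (.node (.node (.node (.node (.leaf 0) (.leaf 3)) (.node (.leaf 3) (.leaf 3))) (.node (.node (.leaf 3) (.leaf 0)) (.node (.leaf 3) (.leaf 3)))) (.node (.node (.node (.leaf 3) (.leaf 3)) (.node (.leaf 0) (.leaf 0))) (.node (.node (.leaf 3) (.leaf 3)) (.node (.leaf 3) (.leaf 3)))))))

def twoKind172 : Janko.Tree (ℕ) :=
  (.node (.node (.node (.node (.node (.node (.leaf 3) (.leaf 3)) (.node (.leaf 3) (.leaf 3))) (.node (.node (.leaf 3) (.leaf 0)) (.node (.leaf 3) (.leaf 3)))) (.node (.node (.node (.leaf 3) (.leaf 3)) (.node (.leaf 3) (.leaf 3))) (.node (.node (.leaf 3) (.leaf 3)) (.node (.leaf 3) (.leaf 3))))) (.node (.node (.node (.node (.leaf 3) (.leaf 3)) (.node (.leaf 0) (.leaf 3))) (.node (.node (.leaf 3) (.leaf 3)) (.node (.leaf 3) (.leaf 3)))) (.node (.node (.node (.leaf 3) (.leaf 3)) (.node (.leaf 3) (.leaf 3))) (.node (.node (.leaf 3) (.leaf 3))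 (.node (.leaf 3) (.leaf 3)))))) (.node (.node (.node (.node (.node (.leaf 3) (.leaf 3)) (.node (.leaf 3) (.leaf 3))) (.node (.node (.leaf 0) (.leaf 3)) (.node (.leaf 3) (.leaf 3)))) (.node (.node (.node (.leaf 3) (.leaf 3)) (.node (.leaf 3) (.leaf 0))) (.node (.node (.leaf 0) (.leaf 3)) (.node (.leaf 3) (.leaf 3))))) (.node (.node (.node (.node (.leaf 3) (.leaf 3)) (.node (.leaf 0) (.leaf 3))) (.node (.node (.leaf 3) (.leaf 3)) (.node (.leaf 3) (.leaf 3)))) (.node (.node (.node (.leaf 3) (.leaf 0)) (.node (.leaf 3) (.leaf 3))) (.node (.node (.leaf 0) (.leaf 3)) (.node (.leaf 0) (.leaf 3)))))))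

def twoKind173 : Janko.Tree (ℕ) :=
  (.node (.node (.node (.node (.node (.node (.leaf 0) (.leaf 0)) (.node (.leaf 3) (.leaf 3))) (.node (.node (.leaf 0) (.leaf 3)) (.node (.leaf 0) (.leaf 3)))) (.node (.node (.node (.leaf 0) (.leaf 3)) (.node (.leaf 3) (.leaf 3))) (.node (.node (.leaf 0) (.leaf 3)) (.node (.leaf 0) (.leaf 3))))) (.node (.node (.node (.node (.leaf 0) (.leaf 0)) (.node (.leaf 3) (.leaf 0))) (.node (.node (.leaf 3) (.leaf 0)) (.node (.leaf 0) (.leaf 3)))) (.node (.node (.node (.leaf 0) (.leaf 3)) (.node (.leaf 0) (.leaf 3))) (.node (.node (.leaf 0) (.leaf 3)) (.node (.leaf 3) (.leaf 3)))))) (.node (.node (.node (.node (.node (.leaf 0) (.leaf 3)) (.node (.leaf 3) (.leaf 0))) (.node (.node (.leaf 3) (.leaf 3)) (.node (.leaf 3) (.leaf 3)))) (.node (.node (.node (.leaf 3) (.leaf 0)) (.node (.leaf 0) (.leaf 3))) (.node (.node (.leaf 3) (.leaf 3)) (.node (.leaf 0) (.leaf 3))))) (.node (.node (.node (.node (.leaf 0) (.leaf 0)) (.node (.leaf 3) (.leaf 3))) (.node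 (.node (.leaf 0) (.leaf 3)) (.node (.leaf 0) (.leaf 3)))) (.node (.node (.node (.leaf 0) (.leaf 3)) (.node (.leaf 0) (.leaf 3))) (.node (.node (.leaf 3) (.leaf 3)) (.node (.leaf 3) (.leaf 3)))))))

def twoKind174 : Janko.Tree (ℕ) :=
  (.node (.node (.node (.node (.node (.node (.leaf 0) (.leaf 3)) (.node (.leaf 3) (.leaf 3))) (.node (.node (.leaf 3) (.leaf 3)) (.node (.leaf 3) (.leaf 3)))) (.node (.node (.node (.leaf 3) (.leaf 3)) (.node (.leaf 3) (.leaf 3))) (.node (.node (.leaf 3) (.leaf 3)) (.node (.leaf 3) (.leaf 3))))) (.node (.node (.node (.node (.leaf 3) (.leaf 3)) (.node (.leaf 0) (.leaf 3))) (.node (.node (.leaf 3) (.leaf 3)) (.node (.leaf 3) (.leaf 3)))) (.node (.node (.node (.leaf 3) (.leaf 3)) (.node (.leaf 3) (.leaf 3))) (.node (.node (.leaf 3) (.leaf 3)) (.node (.leaf 3) (.leaf 3)))))) (.node (.node (.node (.node (.node (.leaf 3) (.leaf 3)) (.node (.leaf 0) (.leaf 3))) (.node (.node (.leaf 3) (.leaf 3)) (.node (.leaf 3) (.leaf 3)))) (.node (.node (.node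 (.leaf 3) (.leaf 3)) (.node (.leaf 3) (.leaf 3))) (.node (.node (.leaf 3) (.leaf 0)) (.node (.leaf 3) (.leaf 3))))) (.node (.node (.node (.node (.leaf 3) (.leaf 3)) (.node (.leaf 0) (.leaf 3))) (.node (.node (.leaf 3) (.leaf 0)) (.node (.leaf 3) (.leaf 3)))) (.node (.node (.node (.leaf 3) (.leaf 3)) (.node (.leaf 3) (.leaf 3))) (.node (.node (.leaf 3) (.leaf 3)) (.node (.leaf 0) (.leaf 3)))))))

def twoKind175 : Janko.Tree (ℕ) :=
  (.node (.node (.node (.node (.node (.node (.leaf 0) (.leaf 3)) (.node (.leaf 0) (.leaf 0))) (.node (.node (.leaf 0) (.leaf 3)) (.node (.leaf 3) (.leaf 3)))) (.node (.node (.node (.leaf 3) (.leaf 3)) (.node (.leaf 0) (.leaf 3))) (.node (.node (.leaf 3) (.leaf 3)) (.node (.leaf 3) (.leaf 3))))) (.node (.node (.node (.node (.leaf 0) (.leaf 3)) (.node (.leaf 0) (.leaf 3))) (.node (.node (.leaf 0) (.leaf 3)) (.node (.leaf 3) (.leaf 3)))) (.node (.node (.node (.leaf 3) (.leaf 3)) (.node (.leaf 3) (.leaf 3))) (.node (.node (.leaf 0) (.leaf 3))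 (.node (.leaf 3) (.leaf 3)))))) (.node (.node (.node (.node (.node (.leaf 0) (.leaf 3)) (.node (.leaf 0) (.leaf 3))) (.node (.node (.leaf 3) (.leaf 3)) (.node (.leaf 3) (.leaf 3)))) (.node (.node (.node (.leaf 0) (.leaf 3)) (.node (.leaf 0) (.leaf 0))) (.node (.node (.leaf 0) (.leaf 3)) (.node (.leaf 3) (.leaf 3))))) (.node (.node (.node (.node (.leaf 3) (.leaf 3)) (.node (.leaf 0) (.leaf 3))) (.node (.node (.leaf 3) (.leaf 3)) (.node (.leaf 0) (.leaf 3)))) (.node (.node (.node (.leaf 0) (.leaf 3)) (.node (.leaf 3) (.leaf 3))) (.node (.node (.leaf 0) (.leaf 3)) (.node (.leaf 0) (.leaf 3)))))))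

def twoKind176 : Janko.Tree (ℕ) :=
  (.node (.node (.node (.node (.node (.node (.leaf 3) (.leaf 3)) (.node (.leaf 3) (.leaf 3))) (.node (.node (.leaf 3) (.leaf 3)) (.node (.leaf 3) (.leaf 3)))) (.node (.node (.node (.leaf 0) (.leaf 3)) (.node (.leaf 3) (.leaf 3))) (.node (.node (.leaf 0) (.leaf 3)) (.node (.leaf 3) (.leaf 3))))) (.node (.node (.node (.node (.leaf 3) (.leaf 0)) (.node (.leaf 3) (.leaf 3))) (.node (.node (.leaf 3) (.leaf 3)) (.node (.leaf 0) (.leaf 3)))) (.node (.node (.node (.leaf 3) (.leaf 3)) (.node (.leaf 3) (.leaf 3))) (.node (.node (.leaf 3) (.leaf 3)) (.node (.leaf 3) (.leaf 3)))))) (.node (.node (.node (.node (.node (.leaf 3) (.leaf 3)) (.node (.leaf 3) (.leaf 3))) (.node (.node (.leaf 3) (.leaf 3)) (.node (.leaf 3) (.leaf 0)))) (.node (.node (.node (.leaf 3) (.leaf 3)) (.node (.leaf 3) (.leaf 3))) (.node (.node (.leaf 3) (.leaf 3)) (.node (.leaf 3) (.leaf 3))))) (.node (.node (.node (.node (.leaf 3) (.leaf 0)) (.node (.leaf 3) (.leaf 3))) (.node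 (.node (.leaf 3) (.leaf 3)) (.node (.leaf 3) (.leaf 3)))) (.node (.node (.node (.leaf 3) (.leaf 3)) (.node (.leaf 3) (.leaf 3))) (.node (.node (.leaf 3) (.leaf 3)) (.node (.leaf 3) (.leaf 3)))))))

def twoKind177 : Janko.Tree (ℕ) :=
  (.node (.node (.node (.node (.node (.node (.leaf 0) (.leaf 0)) (.node (.leaf 0) (.leaf 0))) (.node (.node (.leaf 0) (.leaf 3)) (.node (.leaf 0) (.leaf 3)))) (.node (.node (.node (.leaf 3) (.leaf 3)) (.node (.leaf 0) (.leaf 3))) (.node (.node (.leaf 3) (.leaf 3)) (.node (.leaf 3) (.leaf 0))))) (.node (.node (.node (.node (.leaf 3) (.leaf 3)) (.node (.leaf 0) (.leaf 3))) (.node (.node (.leaf 0) (.leaf 0)) (.node (.leaf 3) (.leaf 3)))) (.node (.node (.node (.leaf 3) (.leaf 3)) (.node (.leaf 0) (.leaf 3))) (.node (.node (.leaf 3) (.leaf 0)) (.node (.leaf 3) (.leaf 3)))))) (.node (.node (.node (.node (.node (.leaf 0) (.leaf 0)) (.node (.leaf 0) (.leaf 3))) (.node (.node (.leaf 0) (.leaf 0)) (.node (.leaf 3) (.leaf 3)))) (.node (.node (.node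 (.leaf 0) (.leaf 3)) (.node (.leaf 3) (.leaf 3))) (.node (.node (.leaf 0) (.leaf 3)) (.node (.leaf 0) (.leaf 3))))) (.node (.node (.node (.node (.leaf 3) (.leaf 3)) (.node (.leaf 0) (.leaf 3))) (.node (.node (.leaf 3) (.leaf 3)) (.node (.leaf 3) (.leaf 0)))) (.node (.node (.node (.leaf 0) (.leaf 0)) (.node (.leaf 3) (.leaf 3))) (.node (.node (.leaf 0) (.leaf 3)) (.node (.leaf 0) (.leaf 3)))))))

def twoKind178 : Janko.Tree (ℕ) :=
  (.node (.node (.node (.node (.node (.node (.leaf 3) (.leaf 3)) (.node (.leaf 3) (.leaf 3))) (.node (.node (.leaf 3) (.leaf 3)) (.node (.leaf 3) (.leaf 3)))) (.node (.node (.node (.leaf 3) (.leaf 0)) (.node (.leaf 3) (.leaf 3))) (.node (.node (.leaf 0) (.leaf 3)) (.node (.leaf 3) (.leaf 3))))) (.node (.node (.node (.node (.leaf 3) (.leaf 3)) (.node (.leaf 3) (.leaf 3))) (.node (.node (.leaf 3) (.leaf 3)) (.node (.leaf 0) (.leaf 3)))) (.node (.node (.node (.leaf 3) (.leaf 3)) (.node (.leaf 3) (.leaf 3))) (.node (.node (.leaf 3) (.leaf 3))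 (.node (.leaf 3) (.leaf 3)))))) (.node (.node (.node (.node (.node (.leaf 3) (.leaf 3)) (.node (.leaf 3) (.leaf 3))) (.node (.node (.leaf 3) (.leaf 3)) (.node (.leaf 3) (.leaf 0)))) (.node (.node (.node (.leaf 3) (.leaf 3)) (.node (.leaf 3) (.leaf 3))) (.node (.node (.leaf 3) (.leaf 3)) (.node (.leaf 3) (.leaf 3))))) (.node (.node (.node (.node (.leaf 3) (.leaf 0)) (.node (.leaf 0) (.leaf 3))) (.node (.node (.leaf 3) (.leaf 3)) (.node (.leaf 3) (.leaf 3)))) (.node (.node (.node (.leaf 3) (.leaf 3)) (.node (.leaf 3) (.leaf 3))) (.node (.node (.leaf 3) (.leaf 3)) (.node (.leaf 3) (.leaf 3)))))))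

def twoKind179 : Janko.Tree (ℕ) :=
  (.node (.node (.node (.node (.node (.node (.leaf 0) (.leaf 3)) (.node (.leaf 3) (.leaf 3))) (.node (.node (.leaf 3) (.leaf 3)) (.node (.leaf 0) (.leaf 0)))) (.node (.node (.node (.leaf 3) (.leaf 3)) (.node (.leaf 3) (.leaf 3))) (.node (.node (.leaf 0) (.leaf 3)) (.node (.leaf 0) (.leaf 3))))) (.node (.node (.node (.node (.leaf 3) (.leaf 0)) (.node (.leaf 3) (.leaf 3))) (.node (.node (.leaf 3) (.leaf 3)) (.node (.leaf 0) (.leaf 3)))) (.node (.node (.node (.leaf 0) (.leaf 0)) (.node (.leaf 3) (.leaf 3))) (.node (.node (.leaf 3) (.leaf 3)) (.node (.leaf 3) (.leaf 3)))))) (.node (.node (.node (.node (.node (.leaf 3) (.leaf 3)) (.node (.leaf 3) (.leaf 0))) (.node (.node (.leaf 0) (.leaf 3)) (.node (.leaf 0) (.leaf 0)))) (.node (.node (.node (.leaf 3) (.leaf 0)) (.node (.leaf 3) (.leaf 3))) (.node (.node (.leaf 3) (.leaf 3)) (.node (.leaf 0) (.leaf 3))))) (.node (.node (.node (.node (.leaf 3) (.leaf 0)) (.node (.leaf 0) (.leaf 3))) (.node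 (.node (.leaf 3) (.leaf 0)) (.node (.leaf 0) (.leaf 0)))) (.node (.node (.node (.leaf 3) (.leaf 3)) (.node (.leaf 0) (.leaf 3))) (.node (.node (.leaf 3) (.leaf 3)) (.node (.leaf 3) (.leaf 3)))))))

def twoKind180 : Janko.Tree (ℕ) :=
  (.node (.node (.node (.node (.node (.node (.leaf 3) (.leaf 0)) (.node (.leaf 3) (.leaf 0))) (.node (.node (.leaf 0) (.leaf 3)) (.node (.leaf 3) (.leaf 3)))) (.node (.node (.node (.leaf 3) (.leaf 3)) (.node (.leaf 0) (.leaf 3))) (.node (.node (.leaf 3) (.leaf 3)) (.node (.leaf 3) (.leaf 3))))) (.node (.node (.node (.node (.leaf 3) (.leaf 3)) (.node (.leaf 3) (.leaf 3))) (.node (.node (.leaf 0) (.leaf 3)) (.node (.leaf 3) (.leaf 0)))) (.node (.node (.node (.leaf 3) (.leaf 3)) (.node (.leaf 3) (.leaf 3))) (.node (.node (.leaf 3) (.leaf 3)) (.node (.leaf 3) (.leaf 3)))))) (.node (.node (.node (.node (.node (.leaf 3) (.leaf 3)) (.node (.leaf 0) (.leaf 3))) (.node (.node (.leaf 3) (.leaf 3)) (.node (.leaf 3) (.leaf 3)))) (.node (.node (.node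 (.leaf 0) (.leaf 3)) (.node (.leaf 3) (.leaf 3))) (.node (.node (.leaf 3) (.leaf 3)) (.node (.leaf 3) (.leaf 3))))) (.node (.node (.node (.node (.leaf 3) (.leaf 3)) (.node (.leaf 3) (.leaf 3))) (.node (.node (.leaf 3) (.leaf 3)) (.node (.leaf 3) (.leaf 3)))) (.node (.node (.node (.leaf 3) (.leaf 3)) (.node (.leaf 3) (.leaf 3))) (.node (.node (.leaf 0) (.leaf 3)) (.node (.leaf 3) (.leaf 3)))))))

def twoKind181 : Janko.Tree (ℕ) :=
  (.node (.node (.node (.node (.node (.node (.leaf 3) (.leaf 3)) (.node (.leaf 3) (.leaf 3))) (.node (.node (.leaf 3) (.leaf 0)) (.node (.leaf 0) (.leaf 0)))) (.node (.node (.node (.leaf 3) (.leaf 3)) (.node (.leaf 3) (.leaf 3))) (.node (.node (.leaf 0) (.leaf 3)) (.node (.leaf 0) (.leaf 3))))) (.node (.node (.node (.node (.leaf 3) (.leaf 3)) (.node (.leaf 3) (.leaf 3))) (.node (.node (.leaf 3) (.leaf 3)) (.node (.leaf 3) (.leaf 3)))) (.node (.node (.node (.leaf 0) (.leaf 3)) (.node (.leaf 3) (.leaf 3))) (.node (.node (.leaf 3) (.leaf 3))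 (.node (.leaf 3) (.leaf 3)))))) (.node (.node (.node (.node (.node (.leaf 0) (.leaf 3)) (.node (.leaf 3) (.leaf 3))) (.node (.node (.leaf 0) (.leaf 3)) (.node (.leaf 0) (.leaf 0)))) (.node (.node (.node (.leaf 3) (.leaf 0)) (.node (.leaf 3) (.leaf 3))) (.node (.node (.leaf 3) (.leaf 3)) (.node (.leaf 3) (.leaf 3))))) (.node (.node (.node (.node (.leaf 3) (.leaf 3)) (.node (.leaf 0) (.leaf 0))) (.node (.node (.leaf 0) (.leaf 3)) (.node (.leaf 3) (.leaf 3)))) (.node (.node (.node (.leaf 3) (.leaf 3)) (.node (.leaf 3) (.leaf 3))) (.node (.node (.leaf 3) (.leaf 0)) (.node (.leaf 0) (.leaf 3)))))))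

def twoKind182 : Janko.Tree (ℕ) :=
  (.node (.node (.node (.node (.node (.node (.leaf 3) (.leaf 0)) (.node (.leaf 0) (.leaf 3))) (.node (.node (.leaf 0) (.leaf 3)) (.node (.leaf 3) (.leaf 3)))) (.node (.node (.node (.leaf 3) (.leaf 3)) (.node (.leaf 0) (.leaf 3))) (.node (.node (.leaf 0) (.leaf 3)) (.node (.leaf 3) (.leaf 3))))) (.node (.node (.node (.node (.leaf 0) (.leaf 3)) (.node (.leaf 3) (.leaf 0))) (.node (.node (.leaf 0) (.leaf 3)) (.node (.leaf 0) (.leaf 0)))) (.node (.node (.node (.leaf 3) (.leaf 3)) (.node (.leaf 0) (.leaf 3))) (.node (.node (.leaf 3) (.leaf 3)) (.node (.leaf 3) (.leaf 3)))))) (.node (.node (.node (.node (.node (.leaf 3) (.leaf 3)) (.node (.leaf 3) (.leaf 3))) (.node (.node (.leaf 3) (.leaf 3)) (.node (.leaf 3) (.leaf 3)))) (.node (.node (.node (.leaf 0) (.leaf 3)) (.node (.leaf 0) (.leaf 3))) (.node (.node (.leaf 3) (.leaf 3)) (.node (.leaf 3) (.leaf 3))))) (.node (.node (.node (.node (.leaf 0) (.leaf 3)) (.node (.leaf 3) (.leaf 3))) (.node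 (.node (.leaf 0) (.leaf 3)) (.node (.leaf 3) (.leaf 3)))) (.node (.node (.node (.leaf 3) (.leaf 3)) (.node (.leaf 3) (.leaf 3))) (.node (.node (.leaf 0) (.leaf 3)) (.node (.leaf 3) (.leaf 3)))))))

def twoKind183 : Janko.Tree (ℕ) :=
  (.node (.node (.node (.node (.node (.node (.leaf 3) (.leaf 0)) (.node (.leaf 3) (.leaf 0))) (.node (.node (.leaf 0) (.leaf 3)) (.node (.leaf 3) (.leaf 3)))) (.node (.node (.node (.leaf 0) (.leaf 0)) (.node (.leaf 0) (.leaf 3))) (.node (.node (.leaf 0) (.leaf 0)) (.node (.leaf 3) (.leaf 3))))) (.node (.node (.node (.node (.leaf 0) (.leaf 3)) (.node (.leaf 0) (.leaf 0))) (.node (.node (.leaf 0) (.leaf 3)) (.node (.leaf 3) (.leaf 0)))) (.node (.node (.node (.leaf 3) (.leaf 0)) (.node (.leaf 0) (.leaf 3))) (.node (.node (.leaf 0) (.leaf 3)) (.node (.leaf 3) (.leaf 3)))))) (.node (.node (.node (.node (.node (.leaf 3) (.leaf 3)) (.node (.leaf 3) (.leaf 3))) (.node (.node (.leaf 3) (.leaf 0)) (.node (.leaf 3) (.leaf 3)))) (.node (.node (.node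 (.leaf 0) (.leaf 3)) (.node (.leaf 3) (.leaf 3))) (.node (.node (.leaf 3) (.leaf 3)) (.node (.leaf 3) (.leaf 3))))) (.node (.node (.node (.node (.leaf 0) (.leaf 0)) (.node (.leaf 0) (.leaf 3))) (.node (.node (.leaf 3) (.leaf 3)) (.node (.leaf 3) (.leaf 3)))) (.node (.node (.node (.leaf 0) (.leaf 3)) (.node (.leaf 3) (.leaf 3))) (.node (.node (.leaf 0) (.leaf 3)) (.node (.leaf 3) (.leaf 3)))))))

def twoKind184 : Janko.Tree (ℕ) :=
  (.node (.node (.node (.node (.node (.node (.leaf 3) (.leaf 3)) (.node (.leaf 3) (.leaf 3))) (.node (.node (.leaf 3) (.leaf 3)) (.node (.leaf 3) (.leaf 3)))) (.node (.node (.node (.leaf 3) (.leaf 3)) (.node (.leaf 3) (.leaf 3))) (.node (.node (.leaf 3) (.leaf 3)) (.node (.leaf 3) (.leaf 3))))) (.node (.node (.node (.node (.leaf 3) (.leaf 3)) (.node (.leaf 3) (.leaf 3))) (.node (.node (.leaf 3) (.leaf 3)) (.node (.leaf 3) (.leaf 3)))) (.node (.node (.node (.leaf 3) (.leaf 3)) (.node (.leaf 3) (.leaf 3))) (.node (.node (.leaf 3) (.leaf 3))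 (.node (.leaf 3) (.leaf 3)))))) (.node (.node (.node (.node (.node (.leaf 0) (.leaf 3)) (.node (.leaf 3) (.leaf 3))) (.node (.node (.leaf 0) (.leaf 3)) (.node (.leaf 3) (.leaf 3)))) (.node (.node (.node (.leaf 3) (.leaf 0)) (.node (.leaf 3) (.leaf 3))) (.node (.node (.leaf 3) (.leaf 3)) (.node (.leaf 3) (.leaf 3))))) (.node (.node (.node (.node (.leaf 3) (.leaf 3)) (.node (.leaf 3) (.leaf 3))) (.node (.node (.leaf 3) (.leaf 3)) (.node (.leaf 0) (.leaf 3)))) (.node (.node (.node (.leaf 3) (.leaf 3)) (.node (.leaf 3) (.leaf 3))) (.node (.node (.leaf 3) (.leaf 3)) (.node (.leaf 3) (.leaf 3)))))))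

def twoKind185 : Janko.Tree (ℕ) :=
  (.node (.node (.node (.node (.node (.node (.leaf 0) (.leaf 0)) (.node (.leaf 0) (.leaf 3))) (.node (.node (.leaf 0) (.leaf 3)) (.node (.leaf 3) (.leaf 3)))) (.node (.node (.node (.leaf 0) (.leaf 3)) (.node (.leaf 0) (.leaf 3))) (.node (.node (.leaf 0) (.leaf 3)) (.node (.leaf 3) (.leaf 3))))) (.node (.node (.node (.node (.leaf 0) (.leaf 0)) (.node (.leaf 0) (.leaf 0))) (.node (.node (.leaf 0) (.leaf 0)) (.node (.leaf 0) (.leaf 3)))) (.node (.node (.node (.leaf 0) (.leaf 0)) (.node (.leaf 0) (.leaf 3))) (.node (.node (.leaf 0) (.leaf 3)) (.node (.leaf 3) (.leaf 3)))))) (.node (.node (.node (.node (.node (.leaf 3) (.leaf 3)) (.node (.leaf 0) (.leaf 0))) (.node (.node (.leaf 3) (.leaf 3)) (.node (.leaf 3) (.leaf 3)))) (.node (.node (.node (.leaf 0) (.leaf 3)) (.node (.leaf 3) (.leaf 3))) (.node (.node (.leaf 3) (.leaf 3)) (.node (.leaf 3) (.leaf 3))))) (.node (.node (.node (.node (.leaf 0) (.leaf 3)) (.node (.leaf 3) (.leaf 3))) (.node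 (.node (.leaf 0) (.leaf 0)) (.node (.leaf 3) (.leaf 3)))) (.node (.node (.node (.leaf 0) (.leaf 0)) (.node (.leaf 0) (.leaf 3))) (.node (.node (.leaf 3) (.leaf 3)) (.node (.leaf 3) (.leaf 3)))))))

def twoKind186 : Janko.Tree (ℕ) :=
  (.node (.node (.node (.node (.node (.node (.leaf 3) (.leaf 3)) (.node (.leaf 3) (.leaf 3))) (.node (.node (.leaf 3) (.leaf 3)) (.node (.leaf 3) (.leaf 3)))) (.node (.node (.node (.leaf 3) (.leaf 3)) (.node (.leaf 3) (.leaf 0))) (.node (.node (.leaf 3) (.leaf 3)) (.node (.leaf 3) (.leaf 3))))) (.node (.node (.node (.node (.leaf 3) (.leaf 3)) (.node (.leaf 3) (.leaf 3))) (.node (.node (.leaf 3) (.leaf 3)) (.node (.leaf 3) (.leaf 3)))) (.node (.node (.node (.leaf 3) (.leaf 3)) (.node (.leaf 3) (.leaf 3))) (.node (.node (.leaf 3) (.leaf 3)) (.node (.leaf 3) (.leaf 3)))))) (.node (.node (.node (.node (.node (.leaf 0) (.leaf 3)) (.node (.leaf 3) (.leaf 3))) (.node (.node (.leaf 0) (.leaf 3)) (.node (.leaf 3) (.leaf 3)))) (.node (.node (.node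 (.leaf 3) (.leaf 0)) (.node (.leaf 3) (.leaf 3))) (.node (.node (.leaf 3) (.leaf 3)) (.node (.leaf 0) (.leaf 3))))) (.node (.node (.node (.node (.leaf 3) (.leaf 3)) (.node (.leaf 3) (.leaf 3))) (.node (.node (.leaf 3) (.leaf 3)) (.node (.leaf 0) (.leaf 3)))) (.node (.node (.node (.leaf 3) (.leaf 3)) (.node (.leaf 3) (.leaf 3))) (.node (.node (.leaf 3) (.leaf 3)) (.node (.leaf 3) (.leaf 3)))))))

def twoKind187 : Janko.Tree (ℕ) :=
  (.node (.node (.node (.node (.node (.node (.leaf 0) (.leaf 3)) (.node (.leaf 3) (.leaf 3))) (.node (.node (.leaf 3) (.leaf 3)) (.node (.leaf 0) (.leaf 3)))) (.node (.node (.node (.leaf 3) (.leaf 3)) (.node (.leaf 3) (.leaf 3))) (.node (.node (.leaf 0) (.leaf 3)) (.node (.leaf 0) (.leaf 3))))) (.node (.node (.node (.node (.leaf 0) (.leaf 3)) (.node (.leaf 3) (.leaf 3))) (.node (.node (.leaf 3) (.leaf 3)) (.node (.leaf 3) (.leaf 0)))) (.node (.node (.node (.leaf 0) (.leaf 0)) (.node (.leaf 3) (.leaf 3))) (.node (.node (.leaf 3) (.leaf 3))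 (.node (.leaf 0) (.leaf 0)))))) (.node (.node (.node (.node (.node (.leaf 0) (.leaf 0)) (.node (.leaf 3) (.leaf 3))) (.node (.node (.leaf 0) (.leaf 3)) (.node (.leaf 0) (.leaf 3)))) (.node (.node (.node (.leaf 3) (.leaf 0)) (.node (.leaf 3) (.leaf 3))) (.node (.node (.leaf 3) (.leaf 3)) (.node (.leaf 3) (.leaf 3))))) (.node (.node (.node (.node (.leaf 0) (.leaf 3)) (.node (.leaf 3) (.leaf 3))) (.node (.node (.leaf 3) (.leaf 3)) (.node (.leaf 0) (.leaf 3)))) (.node (.node (.node (.leaf 3) (.leaf 3)) (.node (.leaf 3) (.leaf 3))) (.node (.node (.leaf 0) (.leaf 3)) (.node (.leaf 0) (.leaf 3)))))))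

def twoKind188 : Janko.Tree (ℕ) :=
  (.node (.node (.node (.node (.node (.node (.leaf 3) (.leaf 0)) (.node (.leaf 3) (.leaf 3))) (.node (.node (.leaf 3) (.leaf 3)) (.node (.leaf 3) (.leaf 3)))) (.node (.node (.node (.leaf 0) (.leaf 3)) (.node (.leaf 3) (.leaf 3))) (.node (.node (.leaf 3) (.leaf 3)) (.node (.leaf 3) (.leaf 3))))) (.node (.node (.node (.node (.leaf 3) (.leaf 3)) (.node (.leaf 3) (.leaf 3))) (.node (.node (.leaf 3) (.leaf 3)) (.node (.leaf 3) (.leaf 3)))) (.node (.node (.node (.leaf 3) (.leaf 3)) (.node (.leaf 0) (.leaf 3))) (.node (.node (.leaf 3) (.leaf 3)) (.node (.leaf 3) (.leaf 3)))))) (.node (.node (.node (.node (.node (.leaf 3) (.leaf 3)) (.node (.leaf 0) (.leaf 3))) (.node (.node (.leaf 3) (.leaf 3)) (.node (.leaf 3) (.leaf 3)))) (.node (.node (.node (.leaf 0) (.leaf 3)) (.node (.leaf 3) (.leaf 3))) (.node (.node (.leaf 3) (.leaf 3)) (.node (.leaf 3) (.leaf 3))))) (.node (.node (.node (.node (.leaf 3) (.leaf 3)) (.node (.leaf 0) (.leaf 3))) (.node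 (.node (.leaf 3) (.leaf 0)) (.node (.leaf 3) (.leaf 3)))) (.node (.node (.node (.leaf 3) (.leaf 3)) (.node (.leaf 3) (.leaf 3))) (.node (.node (.leaf 3) (.leaf 3)) (.node (.leaf 3) (.leaf 3)))))))

def twoKind189 : Janko.Tree (ℕ) :=
  (.node (.node (.node (.node (.node (.node (.leaf 0) (.leaf 3)) (.node (.leaf 3) (.leaf 3))) (.node (.node (.leaf 3) (.leaf 3)) (.node (.leaf 0) (.leaf 3)))) (.node (.node (.node (.leaf 3) (.leaf 0)) (.node (.leaf 3) (.leaf 3))) (.node (.node (.leaf 3) (.leaf 3)) (.node (.leaf 0) (.leaf 3))))) (.node (.node (.node (.node (.leaf 0) (.leaf 3)) (.node (.leaf 0) (.leaf 3))) (.node (.node (.leaf 3) (.leaf 3)) (.node (.leaf 3) (.leaf 3)))) (.node (.node (.node (.leaf 3) (.leaf 3)) (.node (.leaf 3) (.leaf 3))) (.node (.node (.leaf 3) (.leaf 3)) (.node (.leaf 0) (.leaf 3)))))) (.node (.node (.node (.node (.node (.leaf 0) (.leaf 0)) (.node (.leaf 3) (.leaf 3))) (.node (.node (.leaf 0) (.leaf 3)) (.node (.leaf 0) (.leaf 3)))) (.node (.node (.node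 (.leaf 3) (.leaf 3)) (.node (.leaf 3) (.leaf 3))) (.node (.node (.leaf 0) (.leaf 3)) (.node (.leaf 3) (.leaf 3))))) (.node (.node (.node (.node (.leaf 0) (.leaf 0)) (.node (.leaf 3) (.leaf 3))) (.node (.node (.leaf 3) (.leaf 3)) (.node (.leaf 0) (.leaf 0)))) (.node (.node (.node (.leaf 3) (.leaf 3)) (.node (.leaf 3) (.leaf 3))) (.node (.node (.leaf 0) (.leaf 3)) (.node (.leaf 0) (.leaf 3)))))))

def twoKind190 : Janko.Tree (ℕ) :=
  (.node (.node (.node (.node (.node (.node (.leaf 3) (.leaf 0)) (.node (.leaf 3) (.leaf 3))) (.node (.node (.leaf 0) (.leaf 3)) (.node (.leaf 3) (.leaf 3)))) (.node (.node (.node (.leaf 0) (.leaf 3)) (.node (.leaf 3) (.leaf 3))) (.node (.node (.leaf 3) (.leaf 3)) (.node (.leaf 3) (.leaf 3))))) (.node (.node (.node (.node (.leaf 3) (.leaf 0)) (.node (.leaf 3) (.leaf 3))) (.node (.node (.leaf 0) (.leaf 3)) (.node (.leaf 3) (.leaf 3)))) (.node (.node (.node (.leaf 3) (.leaf 3)) (.node (.leaf 0) (.leaf 0))) (.node (.node (.leaf 0) (.leaf 3))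 (.node (.leaf 3) (.leaf 3)))))) (.node (.node (.node (.node (.node (.leaf 0) (.leaf 3)) (.node (.leaf 0) (.leaf 0))) (.node (.node (.leaf 3) (.leaf 0)) (.node (.leaf 3) (.leaf 3)))) (.node (.node (.node (.leaf 0) (.leaf 3)) (.node (.leaf 3) (.leaf 3))) (.node (.node (.leaf 0) (.leaf 3)) (.node (.leaf 3) (.leaf 3))))) (.node (.node (.node (.node (.leaf 3) (.leaf 3)) (.node (.leaf 3) (.leaf 3))) (.node (.node (.leaf 3) (.leaf 0)) (.node (.leaf 3) (.leaf 3)))) (.node (.node (.node (.leaf 0) (.leaf 0)) (.node (.leaf 3) (.leaf 3))) (.node (.node (.leaf 3) (.leaf 3)) (.node (.leaf 3) (.leaf 3)))))))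

def twoKind191 : Janko.Tree (ℕ) :=
  (.node (.node (.node (.node (.node (.node (.leaf 3) (.leaf 0)) (.node (.leaf 0) (.leaf 3))) (.node (.node (.leaf 0) (.leaf 3)) (.node (.leaf 3) (.leaf 3)))) (.node (.node (.node (.leaf 0) (.leaf 3)) (.node (.leaf 0) (.leaf 0))) (.node (.node (.leaf 3) (.leaf 3)) (.node (.leaf 3) (.leaf 3))))) (.node (.node (.node (.node (.leaf 3) (.leaf 3)) (.node (.leaf 0) (.leaf 3))) (.node (.node (.leaf 0) (.leaf 3)) (.node (.leaf 3) (.leaf 0)))) (.node (.node (.node (.leaf 0) (.leaf 3)) (.node (.leaf 0) (.leaf 0))) (.node (.node (.leaf 3) (.leaf 3)) (.node (.leaf 3) (.leaf 3)))))) (.node (.node (.node (.node (.node (.leaf 0) (.leaf 3)) (.node (.leaf 0) (.leaf 3))) (.node (.node (.leaf 3) (.leaf 0)) (.node (.leaf 3) (.leaf 3)))) (.node (.node (.node (.leaf 0) (.leaf 3)) (.node (.leaf 3) (.leaf 0))) (.node (.node (.leaf 0) (.leaf 0)) (.node (.leaf 3) (.leaf 3))))) (.node (.node (.node (.node (.leaf 3) (.leaf 0)) (.node (.leaf 0) (.leaf 3))) (.node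 (.node (.leaf 3) (.leaf 0)) (.node (.leaf 3) (.leaf 3)))) (.node (.node (.node (.leaf 3) (.leaf 0)) (.node (.leaf 0) (.leaf 3))) (.node (.node (.leaf 3) (.leaf 3)) (.node (.leaf 3) (.leaf 3)))))))

def twoKind192 : Janko.Tree (ℕ) :=
  (.node (.node (.node (.node (.node (.node (.leaf 0) (.leaf 3)) (.node (.leaf 3) (.leaf 3))) (.node (.node (.leaf 3) (.leaf 3)) (.node (.leaf 3) (.leaf 3)))) (.node (.node (.node (.leaf 3) (.leaf 0)) (.node (.leaf 3) (.leaf 3))) (.node (.node (.leaf 0) (.leaf 3)) (.node (.leaf 3) (.leaf 3))))) (.node (.node (.node (.node (.leaf 0) (.leaf 3)) (.node (.leaf 3) (.leaf 3))) (.node (.node (.leaf 3) (.leaf 3)) (.node (.leaf 3) (.leaf 3)))) (.node (.node (.node (.leaf 3) (.leaf 3)) (.node (.leaf 3) (.leaf 3))) (.node (.node (.leaf 3) (.leaf 3)) (.node (.leaf 0) (.leaf 3)))))) (.node (.node (.node (.node (.node (.leaf 3) (.leaf 3)) (.node (.leaf 3) (.leaf 3))) (.node (.node (.leaf 3) (.leaf 3)) (.node (.leaf 3) (.leaf 3)))) (.node (.node (.node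 (.leaf 3) (.leaf 3)) (.node (.leaf 3) (.leaf 3))) (.node (.node (.leaf 3) (.leaf 3)) (.node (.leaf 3) (.leaf 3))))) (.node (.node (.node (.node (.leaf 0) (.leaf 3)) (.node (.leaf 3) (.leaf 3))) (.node (.node (.leaf 3) (.leaf 3)) (.node (.leaf 3) (.leaf 3)))) (.node (.node (.node (.leaf 3) (.leaf 3)) (.node (.leaf 3) (.leaf 3))) (.node (.node (.leaf 3) (.leaf 3)) (.node (.leaf 3) (.leaf 3)))))))

def twoKind193 : Janko.Tree (ℕ) :=
  (.node (.node (.node (.node (.node (.node (.leaf 3) (.leaf 0)) (.node (.leaf 0) (.leaf 0))) (.node (.node (.leaf 0) (.leaf 0)) (.node (.leaf 3) (.leaf 3)))) (.node (.node (.node (.leaf 0) (.leaf 3)) (.node (.leaf 3) (.leaf 3))) (.node (.node (.leaf 3) (.leaf 0)) (.node (.leaf 3) (.leaf 0))))) (.node (.node (.node (.node (.leaf 3) (.leaf 3)) (.node (.leaf 3) (.leaf 3))) (.node (.node (.leaf 0) (.leaf 3)) (.node (.leaf 3) (.leaf 3)))) (.node (.node (.node (.leaf 0) (.leaf 3)) (.node (.leaf 3) (.leaf 3))) (.node (.node (.leaf 0) (.leaf 3))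 (.node (.leaf 3) (.leaf 3)))))) (.node (.node (.node (.node (.node (.leaf 0) (.leaf 0)) (.node (.leaf 0) (.leaf 3))) (.node (.node (.leaf 3) (.leaf 0)) (.node (.leaf 3) (.leaf 3)))) (.node (.node (.node (.leaf 0) (.leaf 3)) (.node (.leaf 0) (.leaf 0))) (.node (.node (.leaf 0) (.leaf 3)) (.node (.leaf 3) (.leaf 3))))) (.node (.node (.node (.node (.leaf 3) (.leaf 3)) (.node (.leaf 0) (.leaf 3))) (.node (.node (.leaf 3) (.leaf 0)) (.node (.leaf 3) (.leaf 3)))) (.node (.node (.node (.leaf 0) (.leaf 0)) (.node (.leaf 3) (.leaf 0))) (.node (.node (.leaf 0) (.leaf 3)) (.node (.leaf 3) (.leaf 3)))))))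

def twoKind194 : Janko.Tree (ℕ) :=
  (.node (.node (.node (.node (.node (.node (.leaf 0) (.leaf 3)) (.node (.leaf 3) (.leaf 3))) (.node (.node (.leaf 3) (.leaf 3)) (.node (.leaf 0) (.leaf 3)))) (.node (.node (.node (.leaf 3) (.leaf 3)) (.node (.leaf 3) (.leaf 3))) (.node (.node (.leaf 3) (.leaf 3)) (.node (.leaf 0) (.leaf 3))))) (.node (.node (.node (.node (.leaf 3) (.leaf 3)) (.node (.leaf 3) (.leaf 3))) (.node (.node (.leaf 3) (.leaf 0)) (.node (.leaf 0) (.leaf 0)))) (.node (.node (.node (.leaf 3) (.leaf 3)) (.node (.leaf 0) (.leaf 3))) (.node (.node (.leaf 3) (.leaf 3)) (.node (.leaf 3) (.leaf 3)))))) (.node (.node (.node (.node (.node (.leaf 3) (.leaf 3)) (.node (.leaf 0) (.leaf 3))) (.node (.node (.leaf 0) (.leaf 3)) (.node (.leaf 3) (.leaf 3)))) (.node (.node (.node (.leaf 0) (.leaf 0)) (.node (.leaf 3) (.leaf 3))) (.node (.node (.leaf 3) (.leaf 3)) (.node (.leaf 3) (.leaf 3))))) (.node (.node (.node (.node (.leaf 3) (.leaf 3)) (.node (.leaf 3) (.leaf 3))) (.node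 (.node (.leaf 0) (.leaf 3)) (.node (.leaf 0) (.leaf 3)))) (.node (.node (.node (.leaf 3) (.leaf 3)) (.node (.leaf 0) (.leaf 3))) (.node (.node (.leaf 3) (.leaf 0)) (.node (.leaf 3) (.leaf 3)))))))

def twoKind195 : Janko.Tree (ℕ) :=
  (.node (.node (.node (.node (.node (.node (.leaf 0) (.leaf 3)) (.node (.leaf 0) (.leaf 3))) (.node (.node (.leaf 3) (.leaf 3)) (.node (.leaf 3) (.leaf 3)))) (.node (.node (.node (.leaf 3) (.leaf 3)) (.node (.leaf 3) (.leaf 3))) (.node (.node (.leaf 0) (.leaf 3)) (.node (.leaf 0) (.leaf 3))))) (.node (.node (.node (.node (.leaf 0) (.leaf 0)) (.node (.leaf 3) (.leaf 0))) (.node (.node (.leaf 3) (.leaf 3)) (.node (.leaf 3) (.leaf 3)))) (.node (.node (.node (.leaf 3) (.leaf 0)) (.node (.leaf 0) (.leaf 3))) (.node (.node (.leaf 3) (.leaf 3)) (.node (.leaf 0) (.leaf 3)))))) (.node (.node (.node (.node (.node (.leaf 0) (.leaf 3)) (.node (.leaf 3) (.leaf 3))) (.node (.node (.leaf 3) (.leaf 3)) (.node (.leaf 0) (.leaf 3)))) (.node (.node (.node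 (.leaf 3) (.leaf 3)) (.node (.leaf 3) (.leaf 3))) (.node (.node (.leaf 0) (.leaf 3)) (.node (.leaf 3) (.leaf 3))))) (.node (.node (.node (.node (.leaf 0) (.leaf 3)) (.node (.leaf 3) (.leaf 3))) (.node (.node (.leaf 0) (.leaf 3)) (.node (.leaf 0) (.leaf 3)))) (.node (.node (.node (.leaf 0) (.leaf 3)) (.node (.leaf 0) (.leaf 3))) (.node (.node (.leaf 3) (.leaf 0)) (.node (.leaf 3) (.leaf 3)))))))

def twoKind196 : Janko.Tree (ℕ) :=
  (.node (.node (.node (.node (.node (.node (.leaf 3) (.leaf 3)) (.node (.leaf 3) (.leaf 0))) (.node (.node (.leaf 0) (.leaf 3)) (.node (.leaf 3) (.leaf 3)))) (.node (.node (.node (.leaf 0) (.leaf 3)) (.node (.leaf 3) (.leaf 3))) (.node (.node (.leaf 3) (.leaf 0)) (.node (.leaf 3) (.leaf 3))))) (.node (.node (.node (.node (.leaf 3) (.leaf 3)) (.node (.leaf 3) (.leaf 3))) (.node (.node (.leaf 3) (.leaf 3)) (.node (.leaf 3) (.leaf 3)))) (.node (.node (.node (.leaf 0) (.leaf 3)) (.node (.leaf 3) (.leaf 3))) (.node (.node (.leaf 0) (.leaf 0))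 (.node (.leaf 3) (.leaf 3)))))) (.node (.node (.node (.node (.node (.leaf 3) (.leaf 3)) (.node (.leaf 3) (.leaf 3))) (.node (.node (.leaf 3) (.leaf 3)) (.node (.leaf 3) (.leaf 3)))) (.node (.node (.node (.leaf 3) (.leaf 3)) (.node (.leaf 3) (.leaf 3))) (.node (.node (.leaf 3) (.leaf 3)) (.node (.leaf 3) (.leaf 3))))) (.node (.node (.node (.node (.leaf 3) (.leaf 3)) (.node (.leaf 3) (.leaf 3))) (.node (.node (.leaf 3) (.leaf 3)) (.node (.leaf 3) (.leaf 3)))) (.node (.node (.node (.leaf 3) (.leaf 3)) (.node (.leaf 3) (.leaf 3))) (.node (.node (.leaf 0) (.leaf 3)) (.node (.leaf 3) (.leaf 3)))))))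

def twoKind197 : Janko.Tree (ℕ) :=
  (.node (.node (.node (.node (.node (.node (.leaf 0) (.leaf 3)) (.node (.leaf 3) (.leaf 3))) (.node (.node (.leaf 3) (.leaf 3)) (.node (.leaf 3) (.leaf 3)))) (.node (.node (.node (.leaf 3) (.leaf 3)) (.node (.leaf 0) (.leaf 3))) (.node (.node (.leaf 0) (.leaf 3)) (.node (.leaf 0) (.leaf 3))))) (.node (.node (.node (.node (.leaf 3) (.leaf 3)) (.node (.leaf 0) (.leaf 0))) (.node (.node (.leaf 0) (.leaf 3)) (.node (.leaf 3) (.leaf 3)))) (.node (.node (.node (.leaf 3) (.leaf 0)) (.node (.leaf 0) (.leaf 0))) (.node (.node (.leaf 3) (.leaf 3)) (.node (.leaf 3) (.leaf 3)))))) (.node (.node (.node (.node (.node (.leaf 3) (.leaf 3)) (.node (.leaf 0) (.leaf 3))) (.node (.node (.leaf 0) (.leaf 3)) (.node (.leaf 3) (.leaf 3)))) (.node (.node (.node (.leaf 0) (.leaf 0)) (.node (.leaf 0) (.leaf 3))) (.node (.node (.leaf 3) (.leaf 0)) (.node (.leaf 0) (.leaf 3))))) (.node (.node (.node (.node (.leaf 3) (.leaf 3)) (.node (.leaf 3) (.leaf 3))) (.node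 (.node (.leaf 0) (.leaf 3)) (.node (.leaf 0) (.leaf 3)))) (.node (.node (.node (.leaf 3) (.leaf 3)) (.node (.leaf 0) (.leaf 3))) (.node (.node (.leaf 3) (.leaf 0)) (.node (.leaf 0) (.leaf 3)))))))

def twoKind198 : Janko.Tree (ℕ) :=
  (.node (.node (.node (.node (.node (.node (.leaf 3) (.leaf 3)) (.node (.leaf 3) (.leaf 0))) (.node (.node (.leaf 0) (.leaf 0)) (.node (.leaf 0) (.leaf 3)))) (.node (.node (.node (.leaf 0) (.leaf 3)) (.node (.leaf 3) (.leaf 3))) (.node (.node (.leaf 3) (.leaf 0)) (.node (.leaf 3) (.leaf 3))))) (.node (.node (.node (.node (.leaf 3) (.leaf 3)) (.node (.leaf 3) (.leaf 3))) (.node (.node (.leaf 3) (.leaf 3)) (.node (.leaf 3) (.leaf 3)))) (.node (.node (.node (.leaf 0) (.leaf 3)) (.node (.leaf 3) (.leaf 3))) (.node (.node (.leaf 0) (.leaf 0)) (.node (.leaf 3) (.leaf 3)))))) (.node (.node (.node (.node (.node (.leaf 3) (.leaf 3)) (.node (.leaf 3) (.leaf 3))) (.node (.node (.leaf 3) (.leaf 3)) (.node (.leaf 0) (.leaf 3)))) (.node (.node (.node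 (.leaf 3) (.leaf 3)) (.node (.leaf 3) (.leaf 0))) (.node (.node (.leaf 3) (.leaf 3)) (.node (.leaf 3) (.leaf 3))))) (.node (.node (.node (.node (.leaf 3) (.leaf 3)) (.node (.leaf 3) (.leaf 3))) (.node (.node (.leaf 3) (.leaf 3)) (.node (.leaf 3) (.leaf 3)))) (.node (.node (.node (.leaf 3) (.leaf 0)) (.node (.leaf 3) (.leaf 3))) (.node (.node (.leaf 0) (.leaf 3)) (.node (.leaf 3) (.leaf 3)))))))

def twoKind199 : Janko.Tree (ℕ) :=
  (.node (.node (.node (.node (.node (.node (.leaf 3) (.leaf 3)) (.node (.leaf 0) (.leaf 0))) (.node (.node (.leaf 0) (.leaf 3)) (.node (.leaf 0) (.leaf 3)))) (.node (.node (.node (.leaf 0) (.leaf 3)) (.node (.leaf 3) (.leaf 3))) (.node (.node (.leaf 0) (.leaf 0)) (.node (.leaf 3) (.leaf 3))))) (.node (.node (.node (.node (.leaf 3) (.leaf 3)) (.node (.leaf 3) (.leaf 3))) (.node (.node (.leaf 3) (.leaf 3)) (.node (.leaf 3) (.leaf 3)))) (.node (.node (.node (.leaf 0) (.leaf 3)) (.node (.leaf 0) (.leaf 3))) (.node (.node (.leaf 0) (.leaf 0))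 (.node (.leaf 3) (.leaf 3)))))) (.node (.node (.node (.node (.node (.leaf 3) (.leaf 3)) (.node (.leaf 0) (.leaf 3))) (.node (.node (.leaf 0) (.leaf 3)) (.node (.leaf 3) (.leaf 3)))) (.node (.node (.node (.leaf 0) (.leaf 0)) (.node (.leaf 0) (.leaf 3))) (.node (.node (.leaf 3) (.leaf 3)) (.node (.leaf 3) (.leaf 0))))) (.node (.node (.node (.node (.leaf 3) (.leaf 3)) (.node (.leaf 3) (.leaf 3))) (.node (.node (.leaf 0) (.leaf 3)) (.node (.leaf 3) (.leaf 3)))) (.node (.node (.node (.leaf 3) (.leaf 3)) (.node (.leaf 0) (.leaf 3))) (.node (.node (.leaf 0) (.leaf 0)) (.node (.leaf 3) (.leaf 3)))))))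

def twoKind200 : Janko.Tree (ℕ) :=
  (.node (.node (.node (.node (.node (.node (.leaf 0) (.leaf 3)) (.node (.leaf 3) (.leaf 3))) (.node (.node (.leaf 0) (.leaf 0)) (.node (.leaf 3) (.leaf 3)))) (.node (.node (.node (.leaf 3) (.leaf 3)) (.node (.leaf 3) (.leaf 3))) (.node (.node (.leaf 3) (.leaf 3)) (.node (.leaf 3) (.leaf 3))))) (.node (.node (.node (.node (.leaf 3) (.leaf 3)) (.node (.leaf 3) (.leaf 3))) (.node (.node (.leaf 0) (.leaf 3)) (.node (.leaf 3) (.leaf 3)))) (.node (.node (.node (.leaf 3) (.leaf 0)) (.node (.leaf 3) (.leaf 3))) (.node (.node (.leaf 3) (.leaf 3)) (.node (.leaf 3) (.leaf 3)))))) (.node (.node (.node (.node (.node (.leaf 3) (.leaf 0)) (.node (.leaf 3) (.leaf 3))) (.node (.node (.leaf 3) (.leaf 3)) (.node (.leaf 3) (.leaf 3)))) (.node (.node (.node (.leaf 3) (.leaf 3)) (.node (.leaf 3) (.leaf 3))) (.node (.node (.leaf 3) (.leaf 3)) (.node (.leaf 3) (.leaf 3))))) (.node (.node (.node (.node (.leaf 3) (.leaf 3)) (.node (.leaf 3) (.leaf 3))) (.node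 (.node (.leaf 3) (.leaf 3)) (.node (.leaf 3) (.leaf 3)))) (.node (.node (.node (.leaf 0) (.leaf 3)) (.node (.leaf 3) (.leaf 3))) (.node (.node (.leaf 3) (.leaf 3)) (.node (.leaf 0) (.leaf 3)))))))

def twoKind201 : Janko.Tree (ℕ) :=
  (.node (.node (.node (.node (.node (.node (.leaf 3) (.leaf 0)) (.node (.leaf 0) (.leaf 3))) (.node (.node (.leaf 3) (.leaf 3)) (.node (.leaf 0) (.leaf 3)))) (.node (.node (.node (.leaf 0) (.leaf 3)) (.node (.leaf 3) (.leaf 3))) (.node (.node (.leaf 0) (.leaf 0)) (.node (.leaf 3) (.leaf 3))))) (.node (.node (.node (.node (.leaf 0) (.leaf 0)) (.node (.leaf 3) (.leaf 3))) (.node (.node (.leaf 3) (.leaf 3)) (.node (.leaf 3) (.leaf 3)))) (.node (.node (.node (.leaf 0) (.leaf 3)) (.node (.leaf 3) (.leaf 3))) (.node (.node (.leaf 0) (.leaf 3)) (.node (.leaf 3) (.leaf 3)))))) (.node (.node (.node (.node (.node (.leaf 3) (.leaf 3)) (.node (.leaf 3) (.leaf 3))) (.node (.node (.leaf 3) (.leaf 3)) (.node (.leaf 0) (.leaf 0)))) (.node (.node (.node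 (.leaf 3) (.leaf 3)) (.node (.leaf 0) (.leaf 3))) (.node (.node (.leaf 3) (.leaf 0)) (.node (.leaf 0) (.leaf 0))))) (.node (.node (.node (.node (.leaf 0) (.leaf 3)) (.node (.leaf 3) (.leaf 3))) (.node (.node (.leaf 0) (.leaf 3)) (.node (.leaf 0) (.leaf 3)))) (.node (.node (.node (.leaf 3) (.leaf 0)) (.node (.leaf 3) (.leaf 3))) (.node (.node (.leaf 0) (.leaf 3)) (.node (.leaf 3) (.leaf 3)))))))

def twoKind202 : Janko.Tree (ℕ) :=
  (.node (.node (.node (.node (.node (.node (.leaf 0) (.leaf 3)) (.node (.leaf 3) (.leaf 0))) (.node (.node (.leaf 0) (.leaf 0)) (.node (.leaf 3) (.leaf 3)))) (.node (.node (.node (.leaf 0) (.leaf 0)) (.node (.leaf 3) (.leaf 3))) (.node (.node (.leaf 3) (.leaf 3)) (.node (.leaf 3) (.leaf 3))))) (.node (.node (.node (.node (.leaf 3) (.leaf 3)) (.node (.leaf 3) (.leaf 0))) (.node (.node (.leaf 0) (.leaf 3)) (.node (.leaf 3) (.leaf 3)))) (.node (.node (.node (.leaf 3) (.leaf 3)) (.node (.leaf 3) (.leaf 3))) (.node (.node (.leaf 3) (.leaf 3))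 (.node (.leaf 3) (.leaf 3)))))) (.node (.node (.node (.node (.node (.leaf 0) (.leaf 0)) (.node (.leaf 3) (.leaf 3))) (.node (.node (.leaf 3) (.leaf 3)) (.node (.leaf 3) (.leaf 3)))) (.node (.node (.node (.leaf 3) (.leaf 3)) (.node (.leaf 3) (.leaf 3))) (.node (.node (.leaf 0) (.leaf 3)) (.node (.leaf 3) (.leaf 3))))) (.node (.node (.node (.node (.leaf 3) (.leaf 3)) (.node (.leaf 3) (.leaf 3))) (.node (.node (.leaf 3) (.leaf 0)) (.node (.leaf 3) (.leaf 3)))) (.node (.node (.node (.leaf 0) (.leaf 3)) (.node (.leaf 3) (.leaf 3))) (.node (.node (.leaf 0) (.leaf 3)) (.node (.leaf 0) (.leaf 3)))))))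

def twoKind203 : Janko.Tree (ℕ) :=
  (.node (.node (.node (.node (.node (.node (.leaf 0) (.leaf 3)) (.node (.leaf 3) (.leaf 3))) (.node (.node (.leaf 0) (.leaf 0)) (.node (.leaf 0) (.leaf 0)))) (.node (.node (.node (.leaf 3) (.leaf 3)) (.node (.leaf 0) (.leaf 3))) (.node (.node (.leaf 3) (.leaf 3)) (.node (.leaf 0) (.leaf 3))))) (.node (.node (.node (.node (.leaf 0) (.leaf 3)) (.node (.leaf 0) (.leaf 3))) (.node (.node (.leaf 0) (.leaf 3)) (.node (.leaf 3) (.leaf 3)))) (.node (.node (.node (.leaf 3) (.leaf 0)) (.node (.leaf 3) (.leaf 3))) (.node (.node (.leaf 3) (.leaf 0)) (.node (.leaf 0) (.leaf 0)))))) (.node (.node (.node (.node (.node (.leaf 0) (.leaf 0)) (.node (.leaf 3) (.leaf 3))) (.node (.node (.leaf 3) (.leaf 0)) (.node (.leaf 0) (.leaf 3)))) (.node (.node (.node (.leaf 3) (.leaf 0)) (.node (.leaf 3) (.leaf 0))) (.node (.node (.leaf 0) (.leaf 3)) (.node (.leaf 0) (.leaf 3))))) (.node (.node (.node (.node (.leaf 0) (.leaf 0)) (.node (.leaf 3) (.leaf 3))) (.node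 (.node (.leaf 3) (.leaf 0)) (.node (.leaf 3) (.leaf 3)))) (.node (.node (.node (.leaf 0) (.leaf 3)) (.node (.leaf 3) (.leaf 3))) (.node (.node (.leaf 0) (.leaf 3)) (.node (.leaf 0) (.leaf 3)))))))

def twoKind204 : Janko.Tree (ℕ) :=
  (.node (.node (.node (.node (.node (.node (.leaf 3) (.leaf 3)) (.node (.leaf 0) (.leaf 3))) (.node (.node (.leaf 3) (.leaf 3)) (.node (.leaf 3) (.leaf 3)))) (.node (.node (.node (.leaf 3) (.leaf 3)) (.node (.leaf 3) (.leaf 3))) (.node (.node (.leaf 0) (.leaf 3)) (.node (.leaf 3) (.leaf 3))))) (.node (.node (.node (.node (.leaf 3) (.leaf 0)) (.node (.leaf 3) (.leaf 3))) (.node (.node (.leaf 3) (.leaf 3)) (.node (.leaf 3) (.leaf 3)))) (.node (.node (.node (.leaf 3) (.leaf 3)) (.node (.leaf 0) (.leaf 3))) (.node (.node (.leaf 3) (.leaf 3)) (.node (.leaf 3) (.leaf 3)))))) (.node (.node (.node (.node (.node (.leaf 3) (.leaf 3)) (.node (.leaf 3) (.leaf 3))) (.node (.node (.leaf 3) (.leaf 3)) (.node (.leaf 3) (.leaf 3)))) (.node (.node (.node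 (.leaf 3) (.leaf 3)) (.node (.leaf 3) (.leaf 3))) (.node (.node (.leaf 3) (.leaf 3)) (.node (.leaf 3) (.leaf 3))))) (.node (.node (.node (.node (.leaf 3) (.leaf 3)) (.node (.leaf 3) (.leaf 3))) (.node (.node (.leaf 0) (.leaf 3)) (.node (.leaf 3) (.leaf 3)))) (.node (.node (.node (.leaf 3) (.leaf 3)) (.node (.leaf 0) (.leaf 3))) (.node (.node (.leaf 3) (.leaf 3)) (.node (.leaf 3) (.leaf 3)))))))

def twoKind205 : Janko.Tree (ℕ) :=
  (.node (.node (.node (.node (.node (.node (.leaf 0) (.leaf 3)) (.node (.leaf 3) (.leaf 3))) (.node (.node (.leaf 0) (.leaf 0)) (.node (.leaf 3) (.leaf 0)))) (.node (.node (.node (.leaf 0) (.leaf 3)) (.node (.leaf 3) (.leaf 3))) (.node (.node (.leaf 3) (.leaf 3)) (.node (.leaf 3) (.leaf 3))))) (.node (.node (.node (.node (.leaf 0) (.leaf 3)) (.node (.leaf 0) (.leaf 3))) (.node (.node (.leaf 0) (.leaf 3)) (.node (.leaf 0) (.leaf 3)))) (.node (.node (.node (.leaf 3) (.leaf 3)) (.node (.leaf 3) (.leaf 0))) (.node (.node (.leaf 3) (.leaf 3))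 (.node (.leaf 0) (.leaf 3)))))) (.node (.node (.node (.node (.node (.leaf 0) (.leaf 0)) (.node (.leaf 3) (.leaf 3))) (.node (.node (.leaf 3) (.leaf 0)) (.node (.leaf 3) (.leaf 3)))) (.node (.node (.node (.leaf 0) (.leaf 3)) (.node (.leaf 3) (.leaf 3))) (.node (.node (.leaf 3) (.leaf 3)) (.node (.leaf 0) (.leaf 3))))) (.node (.node (.node (.node (.leaf 0) (.leaf 0)) (.node (.leaf 0) (.leaf 0))) (.node (.node (.leaf 3) (.leaf 3)) (.node (.leaf 3) (.leaf 3)))) (.node (.node (.node (.leaf 0) (.leaf 3)) (.node (.leaf 3) (.leaf 0))) (.node (.node (.leaf 0) (.leaf 3)) (.node (.leaf 3) (.leaf 3)))))))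

def twoKind206 : Janko.Tree (ℕ) :=
  (.node (.node (.node (.node (.node (.node (.leaf 0) (.leaf 0)) (.node (.leaf 0) (.leaf 3))) (.node (.node (.leaf 0) (.leaf 3)) (.node (.leaf 3) (.leaf 3)))) (.node (.node (.node (.leaf 3) (.leaf 3)) (.node (.leaf 0) (.leaf 3))) (.node (.node (.leaf 0) (.leaf 3)) (.node (.leaf 3) (.leaf 3))))) (.node (.node (.node (.node (.leaf 3) (.leaf 3)) (.node (.leaf 3) (.leaf 3))) (.node (.node (.leaf 3) (.leaf 0)) (.node (.leaf 3) (.leaf 3)))) (.node (.node (.node (.leaf 3) (.leaf 3)) (.node (.leaf 3) (.leaf 3))) (.node (.node (.leaf 3) (.leaf 3)) (.node (.leaf 3) (.leaf 3)))))) (.node (.node (.node (.node (.node (.leaf 3) (.leaf 3)) (.node (.leaf 0) (.leaf 3))) (.node (.node (.leaf 3) (.leaf 3)) (.node (.leaf 3) (.leaf 0)))) (.node (.node (.node (.leaf 0) (.leaf 3)) (.node (.leaf 3) (.leaf 3))) (.node (.node (.leaf 3) (.leaf 0)) (.node (.leaf 3) (.leaf 3))))) (.node (.node (.node (.node (.leaf 3) (.leaf 3)) (.node (.leaf 3) (.leaf 3))) (.node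 (.node (.leaf 3) (.leaf 3)) (.node (.leaf 0) (.leaf 3)))) (.node (.node (.node (.leaf 3) (.leaf 3)) (.node (.leaf 3) (.leaf 3))) (.node (.node (.leaf 3) (.leaf 3)) (.node (.leaf 0) (.leaf 3)))))))

def twoKind207 : Janko.Tree (ℕ) :=
  (.node (.node (.node (.node (.node (.node (.leaf 0) (.leaf 0)) (.node (.leaf 0) (.leaf 0))) (.node (.node (.leaf 0) (.leaf 3)) (.node (.leaf 3) (.leaf 3)))) (.node (.node (.node (.leaf 0) (.leaf 0)) (.node (.leaf 0) (.leaf 3))) (.node (.node (.leaf 0) (.leaf 3)) (.node (.leaf 3) (.leaf 3))))) (.node (.node (.node (.node (.leaf 3) (.leaf 3)) (.node (.leaf 3) (.leaf 3))) (.node (.node (.leaf 3) (.leaf 0)) (.node (.leaf 3) (.leaf 3)))) (.node (.node (.node (.leaf 0) (.leaf 3)) (.node (.leaf 0) (.leaf 3))) (.node (.node (.leaf 0) (.leaf 3)) (.node (.leaf 3) (.leaf 3)))))) (.node (.node (.node (.node (.node (.leaf 0) (.leaf 0)) (.node (.leaf 3) (.leaf 3))) (.node (.node (.leaf 0) (.leaf 3)) (.node (.leaf 3) (.leaf 3)))) (.node (.node (.node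 (.leaf 0) (.leaf 3)) (.node (.leaf 0) (.leaf 3))) (.node (.node (.leaf 0) (.leaf 3)) (.node (.leaf 3) (.leaf 3))))) (.node (.node (.node (.node (.leaf 3) (.leaf 3)) (.node (.leaf 0) (.leaf 3))) (.node (.node (.leaf 0) (.leaf 3)) (.node (.leaf 0) (.leaf 3)))) (.node (.node (.node (.leaf 3) (.leaf 0)) (.node (.leaf 0) (.leaf 0))) (.node (.node (.leaf 0) (.leaf 3)) (.node (.leaf 3) (.leaf 0)))))))

def twoKind208 : Janko.Tree (ℕ) :=
  (.node (.node (.node (.node (.node (.node (.leaf 3) (.leaf 3)) (.node (.leaf 3) (.leaf 3))) (.node (.node (.leaf 3) (.leaf 3)) (.node (.leaf 0) (.leaf 3)))) (.node (.node (.node (.leaf 3) (.leaf 3)) (.node (.leaf 3) (.leaf 3))) (.node (.node (.leaf 3) (.leaf 3)) (.node (.leaf 3) (.leaf 3))))) (.node (.node (.node (.node (.leaf 0) (.leaf 3)) (.node (.leaf 0) (.leaf 3))) (.node (.node (.leaf 0) (.leaf 3)) (.node (.leaf 3) (.leaf 3)))) (.node (.node (.node (.leaf 3) (.leaf 3)) (.node (.leaf 3) (.leaf 3))) (.node (.node (.leaf 3) (.leaf 3))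 (.node (.leaf 3) (.leaf 3)))))) (.node (.node (.node (.node (.node (.leaf 3) (.leaf 3)) (.node (.leaf 3) (.leaf 3))) (.node (.node (.leaf 3) (.leaf 3)) (.node (.leaf 3) (.leaf 3)))) (.node (.node (.node (.leaf 3) (.leaf 0)) (.node (.leaf 3) (.leaf 3))) (.node (.node (.leaf 3) (.leaf 3)) (.node (.leaf 3) (.leaf 3))))) (.node (.node (.node (.node (.leaf 3) (.leaf 3)) (.node (.leaf 3) (.leaf 3))) (.node (.node (.leaf 3) (.leaf 3)) (.node (.leaf 3) (.leaf 3)))) (.node (.node (.node (.leaf 3) (.leaf 3)) (.node (.leaf 3) (.leaf 3))) (.node (.node (.leaf 3) (.leaf 0)) (.node (.leaf 3) (.leaf 3)))))))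

def twoKind209 : Janko.Tree (ℕ) :=
  (.node (.node (.node (.node (.node (.node (.leaf 3) (.leaf 3)) (.node (.leaf 0) (.leaf 3))) (.node (.node (.leaf 0) (.leaf 0)) (.node (.leaf 3) (.leaf 3)))) (.node (.node (.node (.leaf 3) (.leaf 3)) (.node (.leaf 0) (.leaf 0))) (.node (.node (.leaf 0) (.leaf 3)) (.node (.leaf 0) (.leaf 3))))) (.node (.node (.node (.node (.leaf 3) (.leaf 3)) (.node (.leaf 3) (.leaf 3))) (.node (.node (.leaf 3) (.leaf 0)) (.node (.leaf 3) (.leaf 3)))) (.node (.node (.node (.leaf 0) (.leaf 3)) (.node (.leaf 0) (.leaf 3))) (.node (.node (.leaf 0) (.leaf 3)) (.node (.leaf 3) (.leaf 3)))))) (.node (.node (.node (.node (.node (.leaf 0) (.leaf 3)) (.node (.leaf 3) (.leaf 3))) (.node (.node (.leaf 0) (.leaf 3)) (.node (.leaf 3) (.leaf 0)))) (.node (.node (.node (.leaf 0) (.leaf 3)) (.node (.leaf 0) (.leaf 0))) (.node (.node (.leaf 0) (.leaf 3)) (.node (.leaf 3) (.leaf 3))))) (.node (.node (.node (.node (.leaf 3) (.leaf 0)) (.node (.leaf 0) (.leaf 3))) (.node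 (.node (.leaf 3) (.leaf 0)) (.node (.leaf 0) (.leaf 3)))) (.node (.node (.node (.leaf 3) (.leaf 0)) (.node (.leaf 0) (.leaf 3))) (.node (.node (.leaf 3) (.leaf 3)) (.node (.leaf 0) (.leaf 3)))))))

def twoKind210 : Janko.Tree (ℕ) :=
  (.node (.node (.node (.node (.node (.node (.leaf 3) (.leaf 3)) (.node (.leaf 3) (.leaf 3))) (.node (.node (.leaf 3) (.leaf 3)) (.node (.leaf 3) (.leaf 3)))) (.node (.node (.node (.leaf 3) (.leaf 3)) (.node (.leaf 3) (.leaf 3))) (.node (.node (.leaf 3) (.leaf 3)) (.node (.leaf 3) (.leaf 3))))) (.node (.node (.node (.node (.leaf 0) (.leaf 0)) (.node (.leaf 3) (.leaf 3))) (.node (.node (.leaf 0) (.leaf 3)) (.node (.leaf 3) (.leaf 3)))) (.node (.node (.node (.leaf 3) (.leaf 3)) (.node (.leaf 3) (.leaf 3))) (.node (.node (.leaf 3) (.leaf 3)) (.node (.leaf 3) (.leaf 3)))))) (.node (.node (.node (.node (.node (.leaf 3) (.leaf 3)) (.node (.leaf 3) (.leaf 3))) (.node (.node (.leaf 3) (.leaf 0)) (.node (.leaf 0) (.leaf 3)))) (.node (.node (.node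 (.leaf 3) (.leaf 0)) (.node (.leaf 3) (.leaf 3))) (.node (.node (.leaf 3) (.leaf 3)) (.node (.leaf 3) (.leaf 3))))) (.node (.node (.node (.node (.leaf 3) (.leaf 3)) (.node (.leaf 3) (.leaf 3))) (.node (.node (.leaf 3) (.leaf 3)) (.node (.leaf 3) (.leaf 3)))) (.node (.node (.node (.leaf 0) (.leaf 3)) (.node (.leaf 3) (.leaf 3))) (.node (.node (.leaf 3) (.leaf 3)) (.node (.leaf 3) (.leaf 3)))))))

def twoKind211 : Janko.Tree (ℕ) :=
  (.node (.node (.node (.node (.node (.node (.leaf 0) (.leaf 0)) (.node (.leaf 3) (.leaf 3))) (.node (.node (.leaf 0) (.leaf 3)) (.node (.leaf 0) (.leaf 3)))) (.node (.node (.node (.leaf 3) (.leaf 3)) (.node (.leaf 0) (.leaf 3))) (.node (.node (.leaf 3) (.leaf 3)) (.node (.leaf 3) (.leaf 3))))) (.node (.node (.node (.node (.leaf 0) (.leaf 3)) (.node (.leaf 3) (.leaf 3))) (.node (.node (.leaf 0) (.leaf 3)) (.node (.leaf 3) (.leaf 0)))) (.node (.node (.node (.leaf 3) (.leaf 3)) (.node (.leaf 3) (.leaf 3))) (.node (.node (.leaf 3) (.leaf 0))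 (.node (.leaf 0) (.leaf 3)))))) (.node (.node (.node (.node (.node (.leaf 3) (.leaf 3)) (.node (.leaf 3) (.leaf 0))) (.node (.node (.leaf 3) (.leaf 3)) (.node (.leaf 0) (.leaf 3)))) (.node (.node (.node (.leaf 3) (.leaf 0)) (.node (.leaf 3) (.leaf 3))) (.node (.node (.leaf 3) (.leaf 0)) (.node (.leaf 0) (.leaf 3))))) (.node (.node (.node (.node (.leaf 0) (.leaf 3)) (.node (.leaf 0) (.leaf 3))) (.node (.node (.leaf 3) (.leaf 3)) (.node (.leaf 3) (.leaf 0)))) (.node (.node (.node (.leaf 3) (.leaf 3)) (.node (.leaf 0) (.leaf 3))) (.node (.node (.leaf 3) (.leaf 0)) (.node (.leaf 3) (.leaf 3)))))))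

def twoKind212 : Janko.Tree (ℕ) :=
  (.node (.node (.node (.node (.node (.node (.leaf 3) (.leaf 3)) (.node (.leaf 3) (.leaf 3))) (.node (.node (.leaf 3) (.leaf 3)) (.node (.leaf 3) (.leaf 3)))) (.node (.node (.node (.leaf 3) (.leaf 0)) (.node (.leaf 3) (.leaf 3))) (.node (.node (.leaf 3) (.leaf 3)) (.node (.leaf 3) (.leaf 3))))) (.node (.node (.node (.node (.leaf 3) (.leaf 3)) (.node (.leaf 3) (.leaf 3))) (.node (.node (.leaf 3) (.leaf 3)) (.node (.leaf 3) (.leaf 3)))) (.node (.node (.node (.leaf 3) (.leaf 3)) (.node (.leaf 0) (.leaf 3))) (.node (.node (.leaf 3) (.leaf 3)) (.node (.leaf 3) (.leaf 3)))))) (.node (.node (.node (.node (.node (.leaf 0) (.leaf 3)) (.node (.leaf 3) (.leaf 3))) (.node (.node (.leaf 3) (.leaf 3)) (.node (.leaf 3) (.leaf 3)))) (.node (.node (.node (.leaf 3) (.leaf 3)) (.node (.leaf 3) (.leaf 3))) (.node (.node (.leaf 0) (.leaf 3)) (.node (.leaf 3) (.leaf 3))))) (.node (.node (.node (.node (.leaf 3) (.leaf 3)) (.node (.leaf 3) (.leaf 3))) (.node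 (.node (.leaf 3) (.leaf 3)) (.node (.leaf 0) (.leaf 3)))) (.node (.node (.node (.leaf 3) (.leaf 3)) (.node (.leaf 3) (.leaf 3))) (.node (.node (.leaf 0) (.leaf 3)) (.node (.leaf 3) (.leaf 3)))))))

def twoKind213 : Janko.Tree (ℕ) :=
  (.node (.node (.node (.node (.node (.node (.leaf 0) (.leaf 0)) (.node (.leaf 3) (.leaf 0))) (.node (.node (.leaf 3) (.leaf 3)) (.node (.leaf 3) (.leaf 3)))) (.node (.node (.node (.leaf 0) (.leaf 3)) (.node (.leaf 3) (.leaf 3))) (.node (.node (.leaf 3) (.leaf 3)) (.node (.leaf 3) (.leaf 3))))) (.node (.node (.node (.node (.leaf 0) (.leaf 0)) (.node (.leaf 0) (.leaf 3))) (.node (.node (.leaf 3) (.leaf 3)) (.node (.leaf 3) (.leaf 0)))) (.node (.node (.node (.leaf 0) (.leaf 0)) (.node (.leaf 3) (.leaf 3))) (.node (.node (.leaf 0) (.leaf 3)) (.node (.leaf 0) (.leaf 3)))))) (.node (.node (.node (.node (.node (.leaf 3) (.leaf 3)) (.node (.leaf 3) (.leaf 3))) (.node (.node (.leaf 3) (.leaf 3)) (.node (.leaf 0) (.leaf 3)))) (.node (.node (.node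 (.leaf 3) (.leaf 0)) (.node (.leaf 3) (.leaf 3))) (.node (.node (.leaf 3) (.leaf 3)) (.node (.leaf 0) (.leaf 3))))) (.node (.node (.node (.node (.leaf 0) (.leaf 0)) (.node (.leaf 3) (.leaf 3))) (.node (.node (.leaf 0) (.leaf 3)) (.node (.leaf 3) (.leaf 3)))) (.node (.node (.node (.leaf 0) (.leaf 3)) (.node (.leaf 0) (.leaf 3))) (.node (.node (.leaf 3) (.leaf 3)) (.node (.leaf 3) (.leaf 3)))))))

def twoKind214 : Janko.Tree (ℕ) :=
  (.node (.node (.node (.node (.node (.node (.leaf 3) (.leaf 3)) (.node (.leaf 3) (.leaf 3))) (.node (.node (.leaf 3) (.leaf 3)) (.node (.leaf 3) (.leaf 3)))) (.node (.node (.node (.leaf 0) (.leaf 0)) (.node (.leaf 3) (.leaf 3))) (.node (.node (.leaf 0) (.leaf 3)) (.node (.leaf 3) (.leaf 3))))) (.node (.node (.node (.node (.leaf 3) (.leaf 3)) (.node (.leaf 3) (.leaf 3))) (.node (.node (.leaf 0) (.leaf 0)) (.node (.leaf 3) (.leaf 3)))) (.node (.node (.node (.leaf 3) (.leaf 3)) (.node (.leaf 0) (.leaf 3))) (.node (.node (.leaf 3) (.leaf 0))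 (.node (.leaf 3) (.leaf 3)))))) (.node (.node (.node (.node (.node (.leaf 3) (.leaf 3)) (.node (.leaf 3) (.leaf 3))) (.node (.node (.leaf 0) (.leaf 3)) (.node (.leaf 3) (.leaf 3)))) (.node (.node (.node (.leaf 3) (.leaf 3)) (.node (.leaf 0) (.leaf 3))) (.node (.node (.leaf 3) (.leaf 3)) (.node (.leaf 3) (.leaf 3))))) (.node (.node (.node (.node (.leaf 3) (.leaf 3)) (.node (.leaf 3) (.leaf 3))) (.node (.node (.leaf 3) (.leaf 3)) (.node (.leaf 0) (.leaf 3)))) (.node (.node (.node (.leaf 3) (.leaf 3)) (.node (.leaf 3) (.leaf 3))) (.node (.node (.leaf 3) (.leaf 3)) (.node (.leaf 3) (.leaf 3)))))))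

def twoKind215 : Janko.Tree (ℕ) :=
  (.node (.node (.node (.node (.node (.node (.leaf 3) (.leaf 3)) (.node (.leaf 0) (.leaf 3))) (.node (.node (.leaf 3) (.leaf 0)) (.node (.leaf 3) (.leaf 3)))) (.node (.node (.node (.leaf 0) (.leaf 0)) (.node (.leaf 3) (.leaf 3))) (.node (.node (.leaf 0) (.leaf 3)) (.node (.leaf 0) (.leaf 3))))) (.node (.node (.node (.node (.leaf 3) (.leaf 0)) (.node (.leaf 0) (.leaf 3))) (.node (.node (.leaf 0) (.leaf 0)) (.node (.leaf 3) (.leaf 3)))) (.node (.node (.node (.leaf 3) (.leaf 3)) (.node (.leaf 0) (.leaf 3))) (.node (.node (.leaf 0) (.leaf 0)) (.node (.leaf 3) (.leaf 3)))))) (.node (.node (.node (.node (.node (.leaf 0) (.leaf 3)) (.node (.leaf 3) (.leaf 3))) (.node (.node (.leaf 3) (.leaf 3)) (.node (.leaf 0) (.leaf 3)))) (.node (.node (.node (.leaf 3) (.leaf 3)) (.node (.leaf 3) (.leaf 0))) (.node (.node (.leaf 0) (.leaf 3)) (.node (.leaf 3) (.leaf 3))))) (.node (.node (.node (.node (.leaf 3) (.leaf 3)) (.node (.leaf 3) (.leaf 3))) (.node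 (.node (.leaf 0) (.leaf 0)) (.node (.leaf 0) (.leaf 3)))) (.node (.node (.node (.leaf 0) (.leaf 0)) (.node (.leaf 3) (.leaf 3))) (.node (.node (.leaf 0) (.leaf 3)) (.node (.leaf 3) (.leaf 3)))))))

def twoKind216 : Janko.Tree (ℕ) :=
  (.node (.node (.node (.node (.node (.node (.leaf 0) (.leaf 3)) (.node (.leaf 3) (.leaf 0))) (.node (.node (.leaf 3) (.leaf 3)) (.node (.leaf 3) (.leaf 3)))) (.node (.node (.node (.leaf 3) (.leaf 3)) (.node (.leaf 0) (.leaf 3))) (.node (.node (.leaf 0) (.leaf 3)) (.node (.leaf 3) (.leaf 3))))) (.node (.node (.node (.node (.leaf 3) (.leaf 3)) (.node (.leaf 3) (.leaf 3))) (.node (.node (.leaf 3) (.leaf 3)) (.node (.leaf 3) (.leaf 3)))) (.node (.node (.node (.leaf 0) (.leaf 0)) (.node (.leaf 3) (.leaf 3))) (.node (.node (.leaf 3) (.leaf 3)) (.node (.leaf 3) (.leaf 3)))))) (.node (.node (.node (.node (.node (.leaf 3) (.leaf 3)) (.node (.leaf 3) (.leaf 3))) (.node (.node (.leaf 3) (.leaf 3)) (.node (.leaf 3) (.leaf 3)))) (.node (.node (.node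 (.leaf 3) (.leaf 3)) (.node (.leaf 3) (.leaf 3))) (.node (.node (.leaf 3) (.leaf 3)) (.node (.leaf 3) (.leaf 3))))) (.node (.node (.node (.node (.leaf 3) (.leaf 3)) (.node (.leaf 3) (.leaf 3))) (.node (.node (.leaf 3) (.leaf 3)) (.node (.leaf 3) (.leaf 3)))) (.node (.node (.node (.leaf 3) (.leaf 3)) (.node (.leaf 0) (.leaf 3))) (.node (.node (.leaf 3) (.leaf 3)) (.node (.leaf 3) (.leaf 3)))))))

def twoKind217 : Janko.Tree (ℕ) :=
  (.node (.node (.node (.node (.node (.node (.leaf 3) (.leaf 3)) (.node (.leaf 3) (.leaf 3))) (.node (.node (.leaf 3) (.leaf 0)) (.node (.leaf 0) (.leaf 3)))) (.node (.node (.node (.leaf 0) (.leaf 0)) (.node (.leaf 3) (.leaf 3))) (.node (.node (.leaf 3) (.leaf 3)) (.node (.leaf 3) (.leaf 3))))) (.node (.node (.node (.node (.leaf 3) (.leaf 3)) (.node (.leaf 0) (.leaf 3))) (.node (.node (.leaf 0) (.leaf 0)) (.node (.leaf 3) (.leaf 0)))) (.node (.node (.node (.leaf 3) (.leaf 3)) (.node (.leaf 3) (.leaf 3))) (.node (.node (.leaf 3) (.leaf 3))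 (.node (.leaf 3) (.leaf 3)))))) (.node (.node (.node (.node (.node (.leaf 0) (.leaf 3)) (.node (.leaf 0) (.leaf 3))) (.node (.node (.leaf 0) (.leaf 3)) (.node (.leaf 3) (.leaf 3)))) (.node (.node (.node (.leaf 3) (.leaf 3)) (.node (.leaf 0) (.leaf 3))) (.node (.node (.leaf 3) (.leaf 0)) (.node (.leaf 3) (.leaf 3))))) (.node (.node (.node (.node (.leaf 3) (.leaf 3)) (.node (.leaf 3) (.leaf 3))) (.node (.node (.leaf 0) (.leaf 3)) (.node (.leaf 3) (.leaf 3)))) (.node (.node (.node (.leaf 3) (.leaf 0)) (.node (.leaf 3) (.leaf 3))) (.node (.node (.leaf 0) (.leaf 3)) (.node (.leaf 3) (.leaf 3)))))))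

def twoKind218 : Janko.Tree (ℕ) :=
  (.node (.node (.node (.node (.node (.node (.leaf 0) (.leaf 3)) (.node (.leaf 3) (.leaf 0))) (.node (.node (.leaf 0) (.leaf 3)) (.node (.leaf 3) (.leaf 3)))) (.node (.node (.node (.leaf 3) (.leaf 3)) (.node (.leaf 3) (.leaf 3))) (.node (.node (.leaf 0) (.leaf 3)) (.node (.leaf 0) (.leaf 3))))) (.node (.node (.node (.node (.leaf 0) (.leaf 3)) (.node (.leaf 3) (.leaf 3))) (.node (.node (.leaf 3) (.leaf 3)) (.node (.leaf 3) (.leaf 3)))) (.node (.node (.node (.leaf 0) (.leaf 0)) (.node (.leaf 3) (.leaf 3))) (.node (.node (.leaf 3) (.leaf 3)) (.node (.leaf 3) (.leaf 3)))))) (.node (.node (.node (.node (.node (.leaf 3) (.leaf 0)) (.node (.leaf 3) (.leaf 3))) (.node (.node (.leaf 3) (.leaf 3)) (.node (.leaf 3) (.leaf 3)))) (.node (.node (.node (.leaf 0) (.leaf 0)) (.node (.leaf 0) (.leaf 3))) (.node (.node (.leaf 3) (.leaf 3)) (.node (.leaf 0) (.leaf 3))))) (.node (.node (.node (.node (.leaf 0) (.leaf 3)) (.node (.leaf 0) (.leaf 3))) (.node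 (.node (.leaf 3) (.leaf 3)) (.node (.leaf 0) (.leaf 3)))) (.node (.node (.node (.leaf 3) (.leaf 3)) (.node (.leaf 0) (.leaf 3))) (.node (.node (.leaf 3) (.leaf 3)) (.node (.leaf 0) (.leaf 3)))))))

def twoKind219 : Janko.Tree (ℕ) :=
  (.node (.node (.node (.node (.node (.node (.leaf 0) (.leaf 0)) (.node (.leaf 3) (.leaf 0))) (.node (.node (.leaf 0) (.leaf 3)) (.node (.leaf 3) (.leaf 3)))) (.node (.node (.node (.leaf 3) (.leaf 3)) (.node (.leaf 0) (.leaf 3))) (.node (.node (.leaf 0) (.leaf 0)) (.node (.leaf 0) (.leaf 3))))) (.node (.node (.node (.node (.leaf 3) (.leaf 3)) (.node (.leaf 3) (.leaf 0))) (.node (.node (.leaf 0) (.leaf 0)) (.node (.leaf 3) (.leaf 3)))) (.node (.node (.node (.leaf 0) (.leaf 0)) (.node (.leaf 0) (.leaf 3))) (.node (.node (.leaf 3) (.leaf 3)) (.node (.leaf 0) (.leaf 3)))))) (.node (.node (.node (.node (.node (.leaf 3) (.leaf 0)) (.node (.leaf 3) (.leaf 3))) (.node (.node (.leaf 3) (.leaf 3)) (.node (.leaf 3) (.leaf 3)))) (.node (.node (.node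 (.leaf 0) (.leaf 0)) (.node (.leaf 3) (.leaf 3))) (.node (.node (.leaf 3) (.leaf 3)) (.node (.leaf 3) (.leaf 3))))) (.node (.node (.node (.node (.leaf 3) (.leaf 3)) (.node (.leaf 0) (.leaf 3))) (.node (.node (.leaf 3) (.leaf 3)) (.node (.leaf 0) (.leaf 3)))) (.node (.node (.node (.leaf 0) (.leaf 0)) (.node (.leaf 0) (.leaf 0))) (.node (.node (.leaf 3) (.leaf 3)) (.node (.leaf 3) (.leaf 3)))))))

def twoKind220 : Janko.Tree (ℕ) :=
  (.node (.node (.node (.node (.node (.node (.leaf 3) (.leaf 3)) (.node (.leaf 3) (.leaf 3))) (.node (.node (.leaf 3) (.leaf 3)) (.node (.leaf 3) (.leaf 3)))) (.node (.node (.node (.leaf 3) (.leaf 3)) (.node (.leaf 3) (.leaf 3))) (.node (.node (.leaf 3) (.leaf 3)) (.node (.leaf 3) (.leaf 3))))) (.node (.node (.node (.node (.leaf 3) (.leaf 3)) (.node (.leaf 0) (.leaf 3))) (.node (.node (.leaf 3) (.leaf 3)) (.node (.leaf 3) (.leaf 3)))) (.node (.node (.node (.leaf 3) (.leaf 3)) (.node (.leaf 3) (.leaf 3))) (.node (.node (.leaf 3) (.leaf 3))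 (.node (.leaf 3) (.leaf 3)))))) (.node (.node (.node (.node (.node (.leaf 3) (.leaf 3)) (.node (.leaf 3) (.leaf 3))) (.node (.node (.leaf 0) (.leaf 3)) (.node (.leaf 3) (.leaf 3)))) (.node (.node (.node (.leaf 3) (.leaf 3)) (.node (.leaf 3) (.leaf 3))) (.node (.node (.leaf 3) (.leaf 3)) (.node (.leaf 3) (.leaf 3))))) (.node (.node (.node (.node (.leaf 3) (.leaf 3)) (.node (.leaf 3) (.leaf 3))) (.node (.node (.leaf 3) (.leaf 3)) (.node (.leaf 3) (.leaf 3)))) (.node (.node (.node (.leaf 3) (.leaf 3)) (.node (.leaf 3) (.leaf 3))) (.node (.node (.leaf 3) (.leaf 3)) (.node (.leaf 3) (.leaf 3)))))))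

def twoKind221 : Janko.Tree (ℕ) :=
  (.node (.node (.node (.node (.node (.node (.leaf 0) (.leaf 0)) (.node (.leaf 0) (.leaf 0))) (.node (.node (.leaf 0) (.leaf 3)) (.node (.leaf 3) (.leaf 3)))) (.node (.node (.node (.leaf 3) (.leaf 0)) (.node (.leaf 0) (.leaf 3))) (.node (.node (.leaf 0) (.leaf 0)) (.node (.leaf 0) (.leaf 3))))) (.node (.node (.node (.node (.leaf 0) (.leaf 3)) (.node (.leaf 3) (.leaf 3))) (.node (.node (.leaf 3) (.leaf 3)) (.node (.leaf 0) (.leaf 3)))) (.node (.node (.node (.leaf 0) (.leaf 3)) (.node (.leaf 0) (.leaf 3))) (.node (.node (.leaf 0) (.leaf 3)) (.node (.leaf 3) (.leaf 3)))))) (.node (.node (.node (.node (.node (.leaf 0) (.leaf 3)) (.node (.leaf 0) (.leaf 0))) (.node (.node (.leaf 3) (.leaf 3)) (.node (.leaf 3) (.leaf 0)))) (.node (.node (.node (.leaf 0) (.leaf 0)) (.node (.leaf 0) (.leaf 3))) (.node (.node (.leaf 0) (.leaf 3)) (.node (.leaf 3) (.leaf 3))))) (.node (.node (.node (.node (.leaf 0) (.leaf 3)) (.node (.leaf 3) (.leaf 3))) (.node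 (.node (.leaf 3) (.leaf 3)) (.node (.leaf 0) (.leaf 3)))) (.node (.node (.node (.leaf 0) (.leaf 3)) (.node (.leaf 3) (.leaf 3))) (.node (.node (.leaf 3) (.leaf 3)) (.node (.leaf 3) (.leaf 3)))))))

def twoKind222 : Janko.Tree (ℕ) :=
  (.node (.node (.node (.node (.node (.node (.leaf 0) (.leaf 3)) (.node (.leaf 3) (.leaf 3))) (.node (.node (.leaf 3) (.leaf 3)) (.node (.leaf 3) (.leaf 3)))) (.node (.node (.node (.leaf 3) (.leaf 3)) (.node (.leaf 3) (.leaf 0))) (.node (.node (.leaf 0) (.leaf 3)) (.node (.leaf 3) (.leaf 3))))) (.node (.node (.node (.node (.leaf 3) (.leaf 3)) (.node (.leaf 0) (.leaf 3))) (.node (.node (.leaf 3) (.leaf 3)) (.node (.leaf 3) (.leaf 3)))) (.node (.node (.node (.leaf 0) (.leaf 0)) (.node (.leaf 3) (.leaf 3))) (.node (.node (.leaf 3) (.leaf 3)) (.node (.leaf 0) (.leaf 0)))))) (.node (.node (.node (.node (.node (.leaf 3) (.leaf 3)) (.node (.leaf 3) (.leaf 3))) (.node (.node (.leaf 0) (.leaf 3)) (.node (.leaf 3) (.leaf 3)))) (.node (.node (.node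 (.leaf 3) (.leaf 3)) (.node (.leaf 3) (.leaf 3))) (.node (.node (.leaf 3) (.leaf 3)) (.node (.leaf 0) (.leaf 3))))) (.node (.node (.node (.node (.leaf 3) (.leaf 3)) (.node (.leaf 3) (.leaf 3))) (.node (.node (.leaf 3) (.leaf 0)) (.node (.leaf 3) (.leaf 0)))) (.node (.node (.node (.leaf 3) (.leaf 3)) (.node (.leaf 0) (.leaf 3))) (.node (.node (.leaf 3) (.leaf 3)) (.node (.leaf 3) (.leaf 3)))))))

def twoKind223 : Janko.Tree (ℕ) :=
  (.node (.node (.node (.node (.node (.node (.leaf 0) (.leaf 0)) (.node (.leaf 3) (.leaf 3))) (.node (.node (.leaf 0) (.leaf 3)) (.node (.leaf 3) (.leaf 3)))) (.node (.node (.node (.leaf 3) (.leaf 3)) (.node (.leaf 0) (.leaf 0))) (.node (.node (.leaf 0) (.leaf 3)) (.node (.leaf 0) (.leaf 3))))) (.node (.node (.node (.node (.leaf 0) (.leaf 3)) (.node (.leaf 0) (.leaf 3))) (.node (.node (.leaf 3) (.leaf 3)) (.node (.leaf 3) (.leaf 3)))) (.node (.node (.node (.leaf 0) (.leaf 3)) (.node (.leaf 3) (.leaf 3))) (.node (.node (.leaf 3) (.leaf 3))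 (.node (.leaf 3) (.leaf 3)))))) (.node (.node (.node (.node (.node (.leaf 0) (.leaf 3)) (.node (.leaf 0) (.leaf 3))) (.node (.node (.leaf 0) (.leaf 3)) (.node (.leaf 0) (.leaf 3)))) (.node (.node (.node (.leaf 0) (.leaf 3)) (.node (.leaf 3) (.leaf 3))) (.node (.node (.leaf 0) (.leaf 3)) (.node (.leaf 0) (.leaf 3))))) (.node (.node (.node (.node (.leaf 0) (.leaf 0)) (.node (.leaf 0) (.leaf 3))) (.node (.node (.leaf 0) (.leaf 3)) (.node (.leaf 0) (.leaf 0)))) (.node (.node (.node (.leaf 3) (.leaf 3)) (.node (.leaf 0) (.leaf 3))) (.node (.node (.leaf 3) (.leaf 3)) (.node (.leaf 3) (.leaf 3)))))))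

def twoKind224 : Janko.Tree (ℕ) :=
  (.node (.node (.node (.node (.node (.node (.leaf 3) (.leaf 3)) (.node (.leaf 3) (.leaf 3))) (.node (.node (.leaf 3) (.leaf 3)) (.node (.leaf 3) (.leaf 3)))) (.node (.node (.node (.leaf 3) (.leaf 3)) (.node (.leaf 3) (.leaf 3))) (.node (.node (.leaf 3) (.leaf 3)) (.node (.leaf 3) (.leaf 3))))) (.node (.node (.node (.node (.leaf 3) (.leaf 3)) (.node (.leaf 3) (.leaf 3))) (.node (.node (.leaf 0) (.leaf 3)) (.node (.leaf 3) (.leaf 3)))) (.node (.node (.node (.leaf 3) (.leaf 3)) (.node (.leaf 0) (.leaf 3))) (.node (.node (.leaf 3) (.leaf 3)) (.node (.leaf 3) (.leaf 3)))))) (.node (.node (.node (.node (.node (.leaf 3) (.leaf 3)) (.node (.leaf 3) (.leaf 0))) (.node (.node (.leaf 3) (.leaf 3)) (.node (.leaf 3) (.leaf 3)))) (.node (.node (.node (.leaf 3) (.leaf 3)) (.node (.leaf 3) (.leaf 3))) (.node (.node (.leaf 3) (.leaf 3)) (.node (.leaf 3) (.leaf 3))))) (.node (.node (.node (.node (.leaf 3) (.leaf 3)) (.node (.leaf 3) (.leaf 0))) (.node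 (.node (.leaf 3) (.leaf 3)) (.node (.leaf 3) (.leaf 3)))) (.node (.node (.node (.leaf 0) (.leaf 3)) (.node (.leaf 3) (.leaf 3))) (.node (.node (.leaf 3) (.leaf 3)) (.node (.leaf 3) (.leaf 3)))))))

def twoKind225 : Janko.Tree (ℕ) :=
  (.node (.node (.node (.node (.node (.node (.leaf 0) (.leaf 3)) (.node (.leaf 3) (.leaf 3))) (.node (.node (.leaf 0) (.leaf 0)) (.node (.leaf 3) (.leaf 3)))) (.node (.node (.node (.leaf 3) (.leaf 3)) (.node (.leaf 0) (.leaf 0))) (.node (.node (.leaf 0) (.leaf 3)) (.node (.leaf 3) (.leaf 3))))) (.node (.node (.node (.node (.leaf 0) (.leaf 3)) (.node (.leaf 0) (.leaf 0))) (.node (.node (.leaf 3) (.leaf 3)) (.node (.leaf 3) (.leaf 3)))) (.node (.node (.node (.leaf 0) (.leaf 3)) (.node (.leaf 3) (.leaf 3))) (.node (.node (.leaf 3) (.leaf 0)) (.node (.leaf 0) (.leaf 3)))))) (.node (.node (.node (.node (.node (.leaf 0) (.leaf 0)) (.node (.leaf 0) (.leaf 3))) (.node (.node (.leaf 0) (.leaf 3)) (.node (.leaf 0) (.leaf 3)))) (.node (.node (.node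 (.leaf 0) (.leaf 3)) (.node (.leaf 3) (.leaf 3))) (.node (.node (.leaf 0) (.leaf 0)) (.node (.leaf 0) (.leaf 3))))) (.node (.node (.node (.node (.leaf 3) (.leaf 0)) (.node (.leaf 0) (.leaf 3))) (.node (.node (.leaf 0) (.leaf 3)) (.node (.leaf 3) (.leaf 3)))) (.node (.node (.node (.leaf 3) (.leaf 3)) (.node (.leaf 0) (.leaf 3))) (.node (.node (.leaf 3) (.leaf 0)) (.node (.leaf 3) (.leaf 3)))))))

def twoKind226 : Janko.Tree (ℕ) :=
  (.node (.node (.node (.node (.node (.node (.leaf 3) (.leaf 3)) (.node (.leaf 3) (.leaf 3))) (.node (.node (.leaf 3) (.leaf 3)) (.node (.leaf 3) (.leaf 3)))) (.node (.node (.node (.leaf 0) (.leaf 3)) (.node (.leaf 3) (.leaf 3))) (.node (.node (.leaf 3) (.leaf 0)) (.node (.leaf 3) (.leaf 3))))) (.node (.node (.node (.node (.leaf 3) (.leaf 3)) (.node (.leaf 3) (.leaf 3))) (.node (.node (.leaf 3) (.leaf 3)) (.node (.leaf 0) (.leaf 3)))) (.node (.node (.node (.leaf 3) (.leaf 3)) (.node (.leaf 3) (.leaf 3))) (.node (.node (.leaf 3) (.leaf 3))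 (.node (.leaf 3) (.leaf 3)))))) (.node (.node (.node (.node (.node (.leaf 3) (.leaf 3)) (.node (.leaf 3) (.leaf 0))) (.node (.node (.leaf 3) (.leaf 3)) (.node (.leaf 3) (.leaf 0)))) (.node (.node (.node (.leaf 3) (.leaf 3)) (.node (.leaf 3) (.leaf 0))) (.node (.node (.leaf 3) (.leaf 3)) (.node (.leaf 3) (.leaf 3))))) (.node (.node (.node (.node (.leaf 3) (.leaf 3)) (.node (.leaf 3) (.leaf 0))) (.node (.node (.leaf 3) (.leaf 3)) (.node (.leaf 3) (.leaf 3)))) (.node (.node (.node (.leaf 0) (.leaf 3)) (.node (.leaf 3) (.leaf 3))) (.node (.node (.leaf 3) (.leaf 3)) (.node (.leaf 3) (.leaf 3)))))))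

def twoKind227 : Janko.Tree (ℕ) :=
  (.node (.node (.node (.node (.node (.node (.leaf 0) (.leaf 0)) (.node (.leaf 0) (.leaf 3))) (.node (.node (.leaf 3) (.leaf 3)) (.node (.leaf 0) (.leaf 3)))) (.node (.node (.node (.leaf 0) (.leaf 3)) (.node (.leaf 3) (.leaf 0))) (.node (.node (.leaf 0) (.leaf 0)) (.node (.leaf 3) (.leaf 3))))) (.node (.node (.node (.node (.leaf 3) (.leaf 3)) (.node (.leaf 3) (.leaf 3))) (.node (.node (.leaf 0) (.leaf 3)) (.node (.leaf 3) (.leaf 3)))) (.node (.node (.node (.leaf 0) (.leaf 0)) (.node (.leaf 3) (.leaf 3))) (.node (.node (.leaf 0) (.leaf 3)) (.node (.leaf 0) (.leaf 3)))))) (.node (.node (.node (.node (.node (.leaf 3) (.leaf 0)) (.node (.leaf 3) (.leaf 0))) (.node (.node (.leaf 3) (.leaf 0)) (.node (.leaf 3) (.leaf 3)))) (.node (.node (.node (.leaf 3) (.leaf 3)) (.node (.leaf 3) (.leaf 3))) (.node (.node (.leaf 3) (.leaf 3)) (.node (.leaf 0) (.leaf 3))))) (.node (.node (.node (.node (.leaf 3) (.leaf 3)) (.node (.leaf 3) (.leaf 0))) (.node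 (.node (.leaf 3) (.leaf 3)) (.node (.leaf 3) (.leaf 3)))) (.node (.node (.node (.leaf 0) (.leaf 0)) (.node (.leaf 0) (.leaf 3))) (.node (.node (.leaf 3) (.leaf 3)) (.node (.leaf 3) (.leaf 3)))))))

def twoKind228 : Janko.Tree (ℕ) :=
  (.node (.node (.node (.node (.node (.node (.leaf 3) (.leaf 3)) (.node (.leaf 3) (.leaf 3))) (.node (.node (.leaf 0) (.leaf 3)) (.node (.leaf 3) (.leaf 3)))) (.node (.node (.node (.leaf 3) (.leaf 3)) (.node (.leaf 0) (.leaf 3))) (.node (.node (.leaf 3) (.leaf 3)) (.node (.leaf 0) (.leaf 3))))) (.node (.node (.node (.node (.leaf 0) (.leaf 3)) (.node (.leaf 3) (.leaf 3))) (.node (.node (.leaf 3) (.leaf 0)) (.node (.leaf 3) (.leaf 3)))) (.node (.node (.node (.leaf 3) (.leaf 3)) (.node (.leaf 3) (.leaf 3))) (.node (.node (.leaf 3) (.leaf 3)) (.node (.leaf 3) (.leaf 3)))))) (.node (.node (.node (.node (.node (.leaf 3) (.leaf 3)) (.node (.leaf 3) (.leaf 3))) (.node (.node (.leaf 3) (.leaf 3)) (.node (.leaf 0) (.leaf 3)))) (.node (.node (.node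 (.leaf 0) (.leaf 3)) (.node (.leaf 3) (.leaf 3))) (.node (.node (.leaf 3) (.leaf 3)) (.node (.leaf 3) (.leaf 3))))) (.node (.node (.node (.node (.leaf 0) (.leaf 3)) (.node (.leaf 0) (.leaf 3))) (.node (.node (.leaf 3) (.leaf 3)) (.node (.leaf 0) (.leaf 3)))) (.node (.node (.node (.leaf 3) (.leaf 3)) (.node (.leaf 3) (.leaf 3))) (.node (.node (.leaf 3) (.leaf 3)) (.node (.leaf 3) (.leaf 3)))))))

def twoKind229 : Janko.Tree (ℕ) :=
  (.node (.node (.node (.node (.node (.node (.leaf 3) (.leaf 3)) (.node (.leaf 3) (.leaf 3))) (.node (.node (.leaf 3) (.leaf 3)) (.node (.leaf 0) (.leaf 3)))) (.node (.node (.node (.leaf 0) (.leaf 0)) (.node (.leaf 3) (.leaf 3))) (.node (.node (.leaf 3) (.leaf 3)) (.node (.leaf 3) (.leaf 3))))) (.node (.node (.node (.node (.leaf 3) (.leaf 0)) (.node (.leaf 3) (.leaf 0))) (.node (.node (.leaf 0) (.leaf 3)) (.node (.leaf 0) (.leaf 3)))) (.node (.node (.node (.leaf 3) (.leaf 3)) (.node (.leaf 0) (.leaf 3))) (.node (.node (.leaf 0) (.leaf 3))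 (.node (.leaf 3) (.leaf 3)))))) (.node (.node (.node (.node (.node (.leaf 3) (.leaf 3)) (.node (.leaf 3) (.leaf 0))) (.node (.node (.leaf 3) (.leaf 0)) (.node (.leaf 3) (.leaf 0)))) (.node (.node (.node (.leaf 3) (.leaf 3)) (.node (.leaf 3) (.leaf 3))) (.node (.node (.leaf 3) (.leaf 3)) (.node (.leaf 3) (.leaf 3))))) (.node (.node (.node (.node (.leaf 3) (.leaf 3)) (.node (.leaf 3) (.leaf 3))) (.node (.node (.leaf 3) (.leaf 0)) (.node (.leaf 3) (.leaf 3)))) (.node (.node (.node (.leaf 0) (.leaf 3)) (.node (.leaf 3) (.leaf 3))) (.node (.node (.leaf 0) (.leaf 3)) (.node (.leaf 0) (.leaf 3)))))))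

def twoKind230 : Janko.Tree (ℕ) :=
  (.node (.node (.node (.node (.node (.node (.leaf 3) (.leaf 3)) (.node (.leaf 0) (.leaf 0))) (.node (.node (.leaf 3) (.leaf 0)) (.node (.leaf 3) (.leaf 3)))) (.node (.node (.node (.leaf 3) (.leaf 3)) (.node (.leaf 0) (.leaf 3))) (.node (.node (.leaf 3) (.leaf 3)) (.node (.leaf 3) (.leaf 0))))) (.node (.node (.node (.node (.leaf 3) (.leaf 3)) (.node (.leaf 3) (.leaf 3))) (.node (.node (.leaf 3) (.leaf 3)) (.node (.leaf 3) (.leaf 3)))) (.node (.node (.node (.leaf 3) (.leaf 3)) (.node (.leaf 3) (.leaf 3))) (.node (.node (.leaf 3) (.leaf 3)) (.node (.leaf 3) (.leaf 3)))))) (.node (.node (.node (.node (.node (.leaf 3) (.leaf 3)) (.node (.leaf 3) (.leaf 3))) (.node (.node (.leaf 3) (.leaf 3)) (.node (.leaf 3) (.leaf 3)))) (.node (.node (.node (.leaf 3) (.leaf 3)) (.node (.leaf 0) (.leaf 3))) (.node (.node (.leaf 3) (.leaf 0)) (.node (.leaf 3) (.leaf 3))))) (.node (.node (.node (.node (.leaf 0) (.leaf 3)) (.node (.leaf 3) (.leaf 3))) (.node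 (.node (.leaf 0) (.leaf 3)) (.node (.leaf 3) (.leaf 3)))) (.node (.node (.node (.leaf 3) (.leaf 3)) (.node (.leaf 3) (.leaf 3))) (.node (.node (.leaf 2) (.leaf 3)) (.node (.leaf 3) (.leaf 3)))))))

def twoKind231 : Janko.Tree (ℕ) :=
  (.node (.node (.node (.node (.node (.node (.leaf 3) (.leaf 3)) (.node (.leaf 0) (.leaf 0))) (.node (.node (.leaf 0) (.leaf 0)) (.node (.leaf 3) (.leaf 3)))) (.node (.node (.node (.leaf 0) (.leaf 3)) (.node (.leaf 0) (.leaf 3))) (.node (.node (.leaf 3) (.leaf 3)) (.node (.leaf 0) (.leaf 3))))) (.node (.node (.node (.node (.leaf 3) (.leaf 3)) (.node (.leaf 0) (.leaf 3))) (.node (.node (.leaf 3) (.leaf 0)) (.node (.leaf 3) (.leaf 3)))) (.node (.node (.node (.leaf 3) (.leaf 3)) (.node (.leaf 3) (.leaf 3))) (.node (.node (.leaf 3) (.leaf 0)) (.node (.leaf 3) (.leaf 3)))))) (.node (.node (.node (.node (.node (.leaf 0) (.leaf 3)) (.node (.leaf 0) (.leaf 3))) (.node (.node (.leaf 0) (.leaf 3)) (.node (.leaf 0) (.leaf 3)))) (.node (.node (.node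 (.leaf 0) (.leaf 3)) (.node (.leaf 3) (.leaf 3))) (.node (.node (.leaf 0) (.leaf 0)) (.node (.leaf 3) (.leaf 3))))) (.node (.node (.node (.node (.leaf 0) (.leaf 3)) (.node (.leaf 0) (.leaf 0))) (.node (.node (.leaf 3) (.leaf 3)) (.node (.leaf 0) (.leaf 3)))) (.node (.node (.node (.leaf 3) (.leaf 3)) (.node (.leaf 3) (.leaf 3))) (.node (.node (.leaf 0) (.leaf 3)) (.node (.leaf 3) (.leaf 3)))))))

def twoKind232 : Janko.Tree (ℕ) :=
  (.node (.node (.node (.node (.node (.node (.leaf 3) (.leaf 3)) (.node (.leaf 3) (.leaf 3))) (.node (.node (.leaf 3) (.leaf 3)) (.node (.leaf 3) (.leaf 3)))) (.node (.node (.node (.leaf 3) (.leaf 3)) (.node (.leaf 0) (.leaf 3))) (.node (.node (.leaf 3) (.leaf 3)) (.node (.leaf 3) (.leaf 3))))) (.node (.node (.node (.node (.leaf 3) (.leaf 0)) (.node (.leaf 0) (.leaf 3))) (.node (.node (.leaf 0) (.leaf 3)) (.node (.leaf 3) (.leaf 3)))) (.node (.node (.node (.leaf 0) (.leaf 3)) (.node (.leaf 3) (.leaf 3))) (.node (.node (.leaf 0) (.leaf 3))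 (.node (.leaf 3) (.leaf 3)))))) (.node (.node (.node (.node (.node (.leaf 3) (.leaf 3)) (.node (.leaf 3) (.leaf 3))) (.node (.node (.leaf 3) (.leaf 0)) (.node (.leaf 3) (.leaf 3)))) (.node (.node (.node (.leaf 3) (.leaf 0)) (.node (.leaf 3) (.leaf 3))) (.node (.node (.leaf 3) (.leaf 3)) (.node (.leaf 0) (.leaf 3))))) (.node (.node (.node (.node (.leaf 3) (.leaf 0)) (.node (.leaf 3) (.leaf 3))) (.node (.node (.leaf 3) (.leaf 3)) (.node (.leaf 3) (.leaf 3)))) (.node (.node (.node (.leaf 3) (.leaf 3)) (.node (.leaf 3) (.leaf 3))) (.node (.node (.leaf 3) (.leaf 3)) (.node (.leaf 3) (.leaf 3)))))))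

def twoKind233 : Janko.Tree (ℕ) :=
  (.node (.node (.node (.node (.node (.node (.leaf 3) (.leaf 3)) (.node (.leaf 0) (.leaf 3))) (.node (.node (.leaf 3) (.leaf 0)) (.node (.leaf 0) (.leaf 3)))) (.node (.node (.node (.leaf 0) (.leaf 3)) (.node (.leaf 3) (.leaf 3))) (.node (.node (.leaf 3) (.leaf 3)) (.node (.leaf 0) (.leaf 3))))) (.node (.node (.node (.node (.leaf 0) (.leaf 3)) (.node (.leaf 3) (.leaf 3))) (.node (.node (.leaf 3) (.leaf 0)) (.node (.leaf 3) (.leaf 3)))) (.node (.node (.node (.leaf 3) (.leaf 0)) (.node (.leaf 3) (.leaf 3))) (.node (.node (.leaf 3) (.leaf 0)) (.node (.leaf 3) (.leaf 3)))))) (.node (.node (.node (.node (.node (.leaf 0) (.leaf 3)) (.node (.leaf 0) (.leaf 3))) (.node (.node (.leaf 0) (.leaf 3)) (.node (.leaf 3) (.leaf 0)))) (.node (.node (.node (.leaf 3) (.leaf 3)) (.node (.leaf 0) (.leaf 3))) (.node (.node (.leaf 0) (.leaf 3)) (.node (.leaf 3) (.leaf 3))))) (.node (.node (.node (.node (.leaf 0) (.leaf 3)) (.node (.leaf 3) (.leaf 3))) (.node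 (.node (.leaf 0) (.leaf 3)) (.node (.leaf 0) (.leaf 3)))) (.node (.node (.node (.leaf 3) (.leaf 3)) (.node (.leaf 3) (.leaf 0))) (.node (.node (.leaf 0) (.leaf 0)) (.node (.leaf 3) (.leaf 3)))))))

def twoKind234 : Janko.Tree (ℕ) :=
  (.node (.node (.node (.node (.node (.node (.leaf 0) (.leaf 0)) (.node (.leaf 3) (.leaf 3))) (.node (.node (.leaf 3) (.leaf 3)) (.node (.leaf 3) (.leaf 3)))) (.node (.node (.node (.leaf 3) (.leaf 3)) (.node (.leaf 0) (.leaf 3))) (.node (.node (.leaf 0) (.leaf 3)) (.node (.leaf 3) (.leaf 3))))) (.node (.node (.node (.node (.leaf 3) (.leaf 0)) (.node (.leaf 0) (.leaf 0))) (.node (.node (.leaf 0) (.leaf 3)) (.node (.leaf 3) (.leaf 0)))) (.node (.node (.node (.leaf 3) (.leaf 3)) (.node (.leaf 3) (.leaf 3))) (.node (.node (.leaf 3) (.leaf 3)) (.node (.leaf 0) (.leaf 3)))))) (.node (.node (.node (.node (.node (.leaf 3) (.leaf 3)) (.node (.leaf 3) (.leaf 3))) (.node (.node (.leaf 3) (.leaf 3)) (.node (.leaf 3) (.leaf 3)))) (.node (.node (.node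 (.leaf 3) (.leaf 0)) (.node (.leaf 3) (.leaf 3))) (.node (.node (.leaf 3) (.leaf 3)) (.node (.leaf 3) (.leaf 3))))) (.node (.node (.node (.node (.leaf 3) (.leaf 0)) (.node (.leaf 3) (.leaf 3))) (.node (.node (.leaf 3) (.leaf 3)) (.node (.leaf 3) (.leaf 3)))) (.node (.node (.node (.leaf 0) (.leaf 3)) (.node (.leaf 3) (.leaf 3))) (.node (.node (.leaf 3) (.leaf 3)) (.node (.leaf 3) (.leaf 3)))))))

def twoKind235 : Janko.Tree (ℕ) :=
  (.node (.node (.node (.node (.node (.node (.leaf 0) (.leaf 0)) (.node (.leaf 0) (.leaf 3))) (.node (.node (.leaf 3) (.leaf 3)) (.node (.leaf 0) (.leaf 3)))) (.node (.node (.node (.leaf 3) (.leaf 3)) (.node (.leaf 0) (.leaf 3))) (.node (.node (.leaf 3) (.leaf 3)) (.node (.leaf 0) (.leaf 3))))) (.node (.node (.node (.node (.leaf 0) (.leaf 0)) (.node (.leaf 0) (.leaf 3))) (.node (.node (.leaf 0) (.leaf 3)) (.node (.leaf 3) (.leaf 0)))) (.node (.node (.node (.leaf 0) (.leaf 3)) (.node (.leaf 3) (.leaf 3))) (.node (.node (.leaf 3) (.leaf 3))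 (.node (.leaf 0) (.leaf 3)))))) (.node (.node (.node (.node (.node (.leaf 3) (.leaf 0)) (.node (.leaf 3) (.leaf 3))) (.node (.node (.leaf 3) (.leaf 0)) (.node (.leaf 3) (.leaf 3)))) (.node (.node (.node (.leaf 3) (.leaf 0)) (.node (.leaf 3) (.leaf 3))) (.node (.node (.leaf 3) (.leaf 3)) (.node (.leaf 0) (.leaf 3))))) (.node (.node (.node (.node (.leaf 3) (.leaf 0)) (.node (.leaf 3) (.leaf 3))) (.node (.node (.leaf 0) (.leaf 0)) (.node (.leaf 3) (.leaf 3)))) (.node (.node (.node (.leaf 0) (.leaf 3)) (.node (.leaf 0) (.leaf 3))) (.node (.node (.leaf 0) (.leaf 3)) (.node (.leaf 3) (.leaf 3)))))))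

def twoKind236 : Janko.Tree (ℕ) :=
  (.node (.node (.node (.node (.node (.node (.leaf 3) (.leaf 3)) (.node (.leaf 3) (.leaf 3))) (.node (.node (.leaf 3) (.leaf 3)) (.node (.leaf 3) (.leaf 3)))) (.node (.node (.node (.leaf 0) (.leaf 3)) (.node (.leaf 3) (.leaf 0))) (.node (.node (.leaf 3) (.leaf 3)) (.node (.leaf 3) (.leaf 3))))) (.node (.node (.node (.node (.leaf 3) (.leaf 3)) (.node (.leaf 3) (.leaf 3))) (.node (.node (.leaf 3) (.leaf 3)) (.node (.leaf 3) (.leaf 3)))) (.node (.node (.node (.leaf 3) (.leaf 0)) (.node (.leaf 3) (.leaf 3))) (.node (.node (.leaf 3) (.leaf 3)) (.node (.leaf 3) (.leaf 3)))))) (.node (.node (.node (.node (.node (.leaf 0) (.leaf 3)) (.node (.leaf 3) (.leaf 3))) (.node (.node (.leaf 3) (.leaf 3)) (.node (.leaf 3) (.leaf 3)))) (.node (.node (.node (.leaf 3) (.leaf 3)) (.node (.leaf 0) (.leaf 3))) (.node (.node (.leaf 0) (.leaf 3)) (.node (.leaf 3) (.leaf 3))))) (.node (.node (.node (.node (.leaf 3) (.leaf 3)) (.node (.leaf 3) (.leaf 3))) (.node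 (.node (.leaf 3) (.leaf 3)) (.node (.leaf 0) (.leaf 3)))) (.node (.node (.node (.leaf 3) (.leaf 3)) (.node (.leaf 3) (.leaf 3))) (.node (.node (.leaf 3) (.leaf 3)) (.node (.leaf 3) (.leaf 3)))))))

def twoKind237 : Janko.Tree (ℕ) :=
  (.node (.node (.node (.node (.node (.node (.leaf 0) (.leaf 0)) (.node (.leaf 3) (.leaf 0))) (.node (.node (.leaf 0) (.leaf 3)) (.node (.leaf 3) (.leaf 3)))) (.node (.node (.node (.leaf 3) (.leaf 3)) (.node (.leaf 3) (.leaf 3))) (.node (.node (.leaf 0) (.leaf 3)) (.node (.leaf 0) (.leaf 3))))) (.node (.node (.node (.node (.leaf 3) (.leaf 0)) (.node (.leaf 0) (.leaf 3))) (.node (.node (.leaf 3) (.leaf 3)) (.node (.leaf 0) (.leaf 3)))) (.node (.node (.node (.leaf 0) (.leaf 3)) (.node (.leaf 0) (.leaf 3))) (.node (.node (.leaf 0) (.leaf 0)) (.node (.leaf 0) (.leaf 3)))))) (.node (.node (.node (.node (.node (.leaf 3) (.leaf 0)) (.node (.leaf 3) (.leaf 3))) (.node (.node (.leaf 0) (.leaf 3)) (.node (.leaf 3) (.leaf 3)))) (.node (.node (.node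 (.leaf 0) (.leaf 3)) (.node (.leaf 3) (.leaf 3))) (.node (.node (.leaf 3) (.leaf 3)) (.node (.leaf 3) (.leaf 3))))) (.node (.node (.node (.node (.leaf 3) (.leaf 3)) (.node (.leaf 0) (.leaf 3))) (.node (.node (.leaf 3) (.leaf 0)) (.node (.leaf 3) (.leaf 3)))) (.node (.node (.node (.leaf 0) (.leaf 3)) (.node (.leaf 3) (.leaf 3))) (.node (.node (.leaf 3) (.leaf 3)) (.node (.leaf 3) (.leaf 3)))))))

def twoKind238 : Janko.Tree (ℕ) :=
  (.node (.node (.node (.node (.node (.node (.leaf 3) (.leaf 3)) (.node (.leaf 3) (.leaf 3))) (.node (.node (.leaf 3) (.leaf 3)) (.node (.leaf 3) (.leaf 3)))) (.node (.node (.node (.leaf 3) (.leaf 3)) (.node (.leaf 0) (.leaf 3))) (.node (.node (.leaf 3) (.leaf 0)) (.node (.leaf 3) (.leaf 3))))) (.node (.node (.node (.node (.leaf 3) (.leaf 0)) (.node (.leaf 0) (.leaf 3))) (.node (.node (.leaf 3) (.leaf 3)) (.node (.leaf 3) (.leaf 0)))) (.node (.node (.node (.leaf 3) (.leaf 0)) (.node (.leaf 3) (.leaf 3))) (.node (.node (.leaf 3) (.leaf 3))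 (.node (.leaf 3) (.leaf 3)))))) (.node (.node (.node (.node (.node (.leaf 0) (.leaf 3)) (.node (.leaf 0) (.leaf 3))) (.node (.node (.leaf 3) (.leaf 3)) (.node (.leaf 3) (.leaf 3)))) (.node (.node (.node (.leaf 3) (.leaf 0)) (.node (.leaf 3) (.leaf 3))) (.node (.node (.leaf 0) (.leaf 3)) (.node (.leaf 3) (.leaf 3))))) (.node (.node (.node (.node (.leaf 0) (.leaf 3)) (.node (.leaf 3) (.leaf 3))) (.node (.node (.leaf 3) (.leaf 3)) (.node (.leaf 0) (.leaf 3)))) (.node (.node (.node (.leaf 3) (.leaf 3)) (.node (.leaf 0) (.leaf 3))) (.node (.node (.leaf 3) (.leaf 3)) (.node (.leaf 3) (.leaf 3)))))))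

def twoKind239 : Janko.Tree (ℕ) :=
  (.node (.node (.node (.node (.node (.node (.leaf 0) (.leaf 3)) (.node (.leaf 3) (.leaf 3))) (.node (.node (.leaf 3) (.leaf 3)) (.node (.leaf 3) (.leaf 3)))) (.node (.node (.node (.leaf 0) (.leaf 3)) (.node (.leaf 0) (.leaf 0))) (.node (.node (.leaf 3) (.leaf 3)) (.node (.leaf 3) (.leaf 3))))) (.node (.node (.node (.node (.leaf 0) (.leaf 3)) (.node (.leaf 0) (.leaf 0))) (.node (.node (.leaf 0) (.leaf 3)) (.node (.leaf 3) (.leaf 3)))) (.node (.node (.node (.leaf 0) (.leaf 0)) (.node (.leaf 3) (.leaf 3))) (.node (.node (.leaf 0) (.leaf 3)) (.node (.leaf 0) (.leaf 3)))))) (.node (.node (.node (.node (.node (.leaf 0) (.leaf 3)) (.node (.leaf 3) (.leaf 3))) (.node (.node (.leaf 0) (.leaf 3)) (.node (.leaf 0) (.leaf 3)))) (.node (.node (.node (.leaf 0) (.leaf 0)) (.node (.leaf 3) (.leaf 3))) (.node (.node (.leaf 0) (.leaf 3)) (.node (.leaf 3) (.leaf 3))))) (.node (.node (.node (.node (.leaf 3) (.leaf 0)) (.node (.leaf 0) (.leaf 0))) (.node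 (.node (.leaf 3) (.leaf 3)) (.node (.leaf 0) (.leaf 3)))) (.node (.node (.node (.leaf 3) (.leaf 3)) (.node (.leaf 0) (.leaf 3))) (.node (.node (.leaf 3) (.leaf 3)) (.node (.leaf 3) (.leaf 3)))))))

def twoKind240 : Janko.Tree (ℕ) :=
  (.node (.node (.node (.node (.node (.node (.leaf 3) (.leaf 3)) (.node (.leaf 0) (.leaf 3))) (.node (.node (.leaf 0) (.leaf 3)) (.node (.leaf 0) (.leaf 3)))) (.node (.node (.node (.leaf 3) (.leaf 3)) (.node (.leaf 3) (.leaf 3))) (.node (.node (.leaf 0) (.leaf 3)) (.node (.leaf 0) (.leaf 3))))) (.node (.node (.node (.node (.leaf 3) (.leaf 3)) (.node (.leaf 3) (.leaf 3))) (.node (.node (.leaf 3) (.leaf 3)) (.node (.leaf 3) (.leaf 3)))) (.node (.node (.node (.leaf 3) (.leaf 3)) (.node (.leaf 3) (.leaf 3))) (.node (.node (.leaf 3) (.leaf 3)) (.node (.leaf 3) (.leaf 3)))))) (.node (.node (.node (.node (.node (.leaf 0) (.leaf 3)) (.node (.leaf 0) (.leaf 3))) (.node (.node (.leaf 3) (.leaf 3)) (.node (.leaf 3) (.leaf 3)))) (.node (.node (.node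 (.leaf 3) (.leaf 3)) (.node (.leaf 3) (.leaf 3))) (.node (.node (.leaf 3) (.leaf 3)) (.node (.leaf 3) (.leaf 3))))) (.node (.node (.node (.node (.leaf 3) (.leaf 3)) (.node (.leaf 3) (.leaf 3))) (.node (.node (.leaf 0) (.leaf 3)) (.node (.leaf 3) (.leaf 3)))) (.node (.node (.node (.leaf 0) (.leaf 3)) (.node (.leaf 3) (.leaf 3))) (.node (.node (.leaf 3) (.leaf 3)) (.node (.leaf 3) (.leaf 3)))))))

def twoKind241 : Janko.Tree (ℕ) :=
  (.node (.node (.node (.node (.node (.node (.leaf 0) (.leaf 3)) (.node (.leaf 3) (.leaf 3))) (.node (.node (.leaf 3) (.leaf 3)) (.node (.leaf 3) (.leaf 3)))) (.node (.node (.node (.leaf 3) (.leaf 0)) (.node (.leaf 0) (.leaf 3))) (.node (.node (.leaf 3) (.leaf 3)) (.node (.leaf 3) (.leaf 0))))) (.node (.node (.node (.node (.leaf 0) (.leaf 3)) (.node (.leaf 0) (.leaf 3))) (.node (.node (.leaf 0) (.leaf 3)) (.node (.leaf 0) (.leaf 3)))) (.node (.node (.node (.leaf 0) (.leaf 0)) (.node (.leaf 3) (.leaf 3))) (.node (.node (.leaf 0) (.leaf 3))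 (.node (.leaf 3) (.leaf 3)))))) (.node (.node (.node (.node (.node (.leaf 3) (.leaf 0)) (.node (.leaf 3) (.leaf 3))) (.node (.node (.leaf 3) (.leaf 3)) (.node (.leaf 0) (.leaf 3)))) (.node (.node (.node (.leaf 0) (.leaf 0)) (.node (.leaf 3) (.leaf 3))) (.node (.node (.leaf 0) (.leaf 3)) (.node (.leaf 0) (.leaf 3))))) (.node (.node (.node (.node (.leaf 0) (.leaf 3)) (.node (.leaf 0) (.leaf 3))) (.node (.node (.leaf 3) (.leaf 3)) (.node (.leaf 3) (.leaf 3)))) (.node (.node (.node (.leaf 3) (.leaf 3)) (.node (.leaf 0) (.leaf 3))) (.node (.node (.leaf 3) (.leaf 3)) (.node (.leaf 3) (.leaf 3)))))))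

def twoKind242 : Janko.Tree (ℕ) :=
  (.node (.node (.node (.node (.node (.node (.leaf 3) (.leaf 3)) (.node (.leaf 3) (.leaf 3))) (.node (.node (.leaf 0) (.leaf 0)) (.node (.leaf 0) (.leaf 3)))) (.node (.node (.node (.leaf 3) (.leaf 3)) (.node (.leaf 3) (.leaf 3))) (.node (.node (.leaf 3) (.leaf 3)) (.node (.leaf 0) (.leaf 3))))) (.node (.node (.node (.node (.leaf 3) (.leaf 3)) (.node (.leaf 3) (.leaf 3))) (.node (.node (.leaf 3) (.leaf 3)) (.node (.leaf 0) (.leaf 3)))) (.node (.node (.node (.leaf 3) (.leaf 3)) (.node (.leaf 3) (.leaf 3))) (.node (.node (.leaf 3) (.leaf 3)) (.node (.leaf 3) (.leaf 3)))))) (.node (.node (.node (.node (.node (.leaf 0) (.leaf 3)) (.node (.leaf 0) (.leaf 3))) (.node (.node (.leaf 3) (.leaf 3)) (.node (.leaf 3) (.leaf 3)))) (.node (.node (.node (.leaf 3) (.leaf 3)) (.node (.leaf 0) (.leaf 3))) (.node (.node (.leaf 0) (.leaf 3)) (.node (.leaf 3) (.leaf 3))))) (.node (.node (.node (.node (.leaf 3) (.leaf 3)) (.node (.leaf 3) (.leaf 0))) (.node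 (.node (.leaf 0) (.leaf 0)) (.node (.leaf 3) (.leaf 3)))) (.node (.node (.node (.leaf 3) (.leaf 3)) (.node (.leaf 3) (.leaf 3))) (.node (.node (.leaf 0) (.leaf 3)) (.node (.leaf 3) (.leaf 3)))))))

def twoKind243 : Janko.Tree (ℕ) :=
  (.node (.node (.node (.node (.node (.node (.leaf 3) (.leaf 0)) (.node (.leaf 0) (.leaf 0))) (.node (.node (.leaf 0) (.leaf 3)) (.node (.leaf 0) (.leaf 3)))) (.node (.node (.node (.leaf 3) (.leaf 3)) (.node (.leaf 0) (.leaf 3))) (.node (.node (.leaf 0) (.leaf 3)) (.node (.leaf 0) (.leaf 3))))) (.node (.node (.node (.node (.leaf 3) (.leaf 3)) (.node (.leaf 0) (.leaf 3))) (.node (.node (.leaf 3) (.leaf 3)) (.node (.leaf 3) (.leaf 0)))) (.node (.node (.node (.leaf 3) (.leaf 3)) (.node (.leaf 0) (.leaf 3))) (.node (.node (.leaf 3) (.leaf 3)) (.node (.leaf 3) (.leaf 3)))))) (.node (.node (.node (.node (.node (.leaf 0) (.leaf 3)) (.node (.leaf 0) (.leaf 3))) (.node (.node (.leaf 0) (.leaf 0)) (.node (.leaf 3) (.leaf 3)))) (.node (.node (.node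 (.leaf 3) (.leaf 0)) (.node (.leaf 3) (.leaf 3))) (.node (.node (.leaf 3) (.leaf 3)) (.node (.leaf 3) (.leaf 3))))) (.node (.node (.node (.node (.leaf 0) (.leaf 3)) (.node (.leaf 3) (.leaf 0))) (.node (.node (.leaf 0) (.leaf 3)) (.node (.leaf 0) (.leaf 3)))) (.node (.node (.node (.leaf 3) (.leaf 0)) (.node (.leaf 0) (.leaf 3))) (.node (.node (.leaf 0) (.leaf 3)) (.node (.leaf 3) (.leaf 3)))))))

def twoKind244 : Janko.Tree (ℕ) :=
  (.node (.node (.node (.node (.node (.node (.leaf 3) (.leaf 3)) (.node (.leaf 3) (.leaf 3))) (.node (.node (.leaf 3) (.leaf 3)) (.node (.leaf 3) (.leaf 3)))) (.node (.node (.node (.leaf 3) (.leaf 3)) (.node (.leaf 3) (.leaf 3))) (.node (.node (.leaf 3) (.leaf 3)) (.node (.leaf 3) (.leaf 3))))) (.node (.node (.node (.node (.leaf 0) (.leaf 3)) (.node (.leaf 3) (.leaf 3))) (.node (.node (.leaf 3) (.leaf 3)) (.node (.leaf 3) (.leaf 3)))) (.node (.node (.node (.leaf 0) (.leaf 3)) (.node (.leaf 3) (.leaf 3))) (.node (.node (.leaf 0) (.leaf 3))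 (.node (.leaf 3) (.leaf 3)))))) (.node (.node (.node (.node (.node (.leaf 3) (.leaf 3)) (.node (.leaf 3) (.leaf 3))) (.node (.node (.leaf 3) (.leaf 3)) (.node (.leaf 3) (.leaf 3)))) (.node (.node (.node (.leaf 3) (.leaf 3)) (.node (.leaf 3) (.leaf 3))) (.node (.node (.leaf 3) (.leaf 3)) (.node (.leaf 3) (.leaf 3))))) (.node (.node (.node (.node (.leaf 3) (.leaf 3)) (.node (.leaf 3) (.leaf 3))) (.node (.node (.leaf 3) (.leaf 0)) (.node (.leaf 3) (.leaf 3)))) (.node (.node (.node (.leaf 3) (.leaf 3)) (.node (.leaf 3) (.leaf 3))) (.node (.node (.leaf 3) (.leaf 3)) (.node (.leaf 3) (.leaf 3)))))))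

def twoKind245 : Janko.Tree (ℕ) :=
  (.node (.node (.node (.node (.node (.node (.leaf 0) (.leaf 3)) (.node (.leaf 0) (.leaf 3))) (.node (.node (.leaf 0) (.leaf 3)) (.node (.leaf 0) (.leaf 3)))) (.node (.node (.node (.leaf 0) (.leaf 3)) (.node (.leaf 3) (.leaf 3))) (.node (.node (.leaf 0) (.leaf 0)) (.node (.leaf 3) (.leaf 3))))) (.node (.node (.node (.node (.leaf 3) (.leaf 3)) (.node (.leaf 3) (.leaf 0))) (.node (.node (.leaf 0) (.leaf 3)) (.node (.leaf 0) (.leaf 3)))) (.node (.node (.node (.leaf 3) (.leaf 3)) (.node (.leaf 0) (.leaf 3))) (.node (.node (.leaf 3) (.leaf 3)) (.node (.leaf 3) (.leaf 0)))))) (.node (.node (.node (.node (.node (.leaf 0) (.leaf 3)) (.node (.leaf 0) (.leaf 3))) (.node (.node (.leaf 0) (.leaf 0)) (.node (.leaf 3) (.leaf 3)))) (.node (.node (.node (.leaf 3) (.leaf 3)) (.node (.leaf 0) (.leaf 3))) (.node (.node (.leaf 0) (.leaf 0)) (.node (.leaf 3) (.leaf 3))))) (.node (.node (.node (.node (.leaf 3) (.leaf 0)) (.node (.leaf 3) (.leaf 3))) (.node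 (.node (.leaf 0) (.leaf 3)) (.node (.leaf 0) (.leaf 3)))) (.node (.node (.node (.leaf 0) (.leaf 0)) (.node (.leaf 3) (.leaf 3))) (.node (.node (.leaf 3) (.leaf 3)) (.node (.leaf 0) (.leaf 3)))))))

def twoKind246 : Janko.Tree (ℕ) :=
  (.node (.node (.node (.node (.node (.node (.leaf 3) (.leaf 3)) (.node (.leaf 3) (.leaf 3))) (.node (.node (.leaf 3) (.leaf 3)) (.node (.leaf 3) (.leaf 3)))) (.node (.node (.node (.leaf 3) (.leaf 3)) (.node (.leaf 3) (.leaf 3))) (.node (.node (.leaf 3) (.leaf 3)) (.node (.leaf 0) (.leaf 3))))) (.node (.node (.node (.node (.leaf 0) (.leaf 3)) (.node (.leaf 3) (.leaf 3))) (.node (.node (.leaf 3) (.leaf 0)) (.node (.leaf 3) (.leaf 3)))) (.node (.node (.node (.leaf 0) (.leaf 3)) (.node (.leaf 3) (.leaf 3))) (.node (.node (.leaf 0) (.leaf 3)) (.node (.leaf 3) (.leaf 3)))))) (.node (.node (.node (.node (.node (.leaf 0) (.leaf 3)) (.node (.leaf 0) (.leaf 3))) (.node (.node (.leaf 3) (.leaf 3)) (.node (.leaf 3) (.leaf 3)))) (.node (.node (.node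 (.leaf 3) (.leaf 3)) (.node (.leaf 3) (.leaf 3))) (.node (.node (.leaf 3) (.leaf 3)) (.node (.leaf 3) (.leaf 3))))) (.node (.node (.node (.node (.leaf 3) (.leaf 3)) (.node (.leaf 3) (.leaf 3))) (.node (.node (.leaf 3) (.leaf 0)) (.node (.leaf 3) (.leaf 3)))) (.node (.node (.node (.leaf 3) (.leaf 3)) (.node (.leaf 3) (.leaf 3))) (.node (.node (.leaf 3) (.leaf 3)) (.node (.leaf 3) (.leaf 3)))))))

def twoKind247 : Janko.Tree (ℕ) :=
  (.node (.node (.node (.node (.node (.node (.leaf 3) (.leaf 3)) (.node (.leaf 0) (.leaf 3))) (.node (.node (.leaf 0) (.leaf 3)) (.node (.leaf 0) (.leaf 3)))) (.node (.node (.node (.leaf 0) (.leaf 3)) (.node (.leaf 3) (.leaf 3))) (.node (.node (.leaf 3) (.leaf 3)) (.node (.leaf 0) (.leaf 0))))) (.node (.node (.node (.node (.leaf 0) (.leaf 3)) (.node (.leaf 3) (.leaf 3))) (.node (.node (.leaf 3) (.leaf 3)) (.node (.leaf 3) (.leaf 3)))) (.node (.node (.node (.leaf 0) (.leaf 3)) (.node (.leaf 3) (.leaf 3))) (.node (.node (.leaf 0) (.leaf 3))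 (.node (.leaf 0) (.leaf 3)))))) (.node (.node (.node (.node (.node (.leaf 0) (.leaf 3)) (.node (.leaf 3) (.leaf 0))) (.node (.node (.leaf 3) (.leaf 3)) (.node (.leaf 0) (.leaf 3)))) (.node (.node (.node (.leaf 0) (.leaf 3)) (.node (.leaf 3) (.leaf 0))) (.node (.node (.leaf 0) (.leaf 3)) (.node (.leaf 3) (.leaf 3))))) (.node (.node (.node (.node (.leaf 0) (.leaf 3)) (.node (.leaf 0) (.leaf 3))) (.node (.node (.leaf 0) (.leaf 0)) (.node (.leaf 3) (.leaf 3)))) (.node (.node (.node (.leaf 3) (.leaf 3)) (.node (.leaf 3) (.leaf 3))) (.node (.node (.leaf 0) (.leaf 3)) (.node (.leaf 3) (.leaf 3)))))))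

def twoKind248 : Janko.Tree (ℕ) :=
  (.node (.node (.node (.node (.node (.node (.leaf 0) (.leaf 3)) (.node (.leaf 3) (.leaf 3))) (.node (.node (.leaf 3) (.leaf 3)) (.node (.leaf 3) (.leaf 3)))) (.node (.node (.node (.leaf 3) (.leaf 3)) (.node (.leaf 0) (.leaf 3))) (.node (.node (.leaf 3) (.leaf 3)) (.node (.leaf 3) (.leaf 3))))) (.node (.node (.node (.node (.leaf 3) (.leaf 3)) (.node (.leaf 3) (.leaf 3))) (.node (.node (.leaf 0) (.leaf 3)) (.node (.leaf 3) (.leaf 3)))) (.node (.node (.node (.leaf 3) (.leaf 3)) (.node (.leaf 0) (.leaf 3))) (.node (.node (.leaf 3) (.leaf 3)) (.node (.leaf 3) (.leaf 3)))))) (.node (.node (.node (.node (.node (.leaf 3) (.leaf 3)) (.node (.leaf 3) (.leaf 3))) (.node (.node (.leaf 0) (.leaf 3)) (.node (.leaf 3) (.leaf 3)))) (.node (.node (.node (.leaf 3) (.leaf 0)) (.node (.leaf 0) (.leaf 3))) (.node (.node (.leaf 3) (.leaf 0)) (.node (.leaf 3) (.leaf 3))))) (.node (.node (.node (.node (.leaf 3) (.leaf 3)) (.node (.leaf 3) (.leaf 3))) (.node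 (.node (.leaf 3) (.leaf 3)) (.node (.leaf 0) (.leaf 3)))) (.node (.node (.node (.leaf 3) (.leaf 0)) (.node (.leaf 3) (.leaf 3))) (.node (.node (.leaf 3) (.leaf 0)) (.node (.leaf 3) (.leaf 3)))))))

def twoKind249 : Janko.Tree (ℕ) :=
  (.node (.node (.node (.node (.node (.node (.leaf 3) (.leaf 0)) (.node (.leaf 0) (.leaf 3))) (.node (.node (.leaf 0) (.leaf 0)) (.node (.leaf 3) (.leaf 3)))) (.node (.node (.node (.leaf 0) (.leaf 0)) (.node (.leaf 3) (.leaf 3))) (.node (.node (.leaf 0) (.leaf 3)) (.node (.leaf 0) (.leaf 3))))) (.node (.node (.node (.node (.leaf 0) (.leaf 3)) (.node (.leaf 3) (.leaf 3))) (.node (.node (.leaf 3) (.leaf 0)) (.node (.leaf 3) (.leaf 3)))) (.node (.node (.node (.leaf 0) (.leaf 3)) (.node (.leaf 3) (.leaf 0))) (.node (.node (.leaf 0) (.leaf 3)) (.node (.leaf 0) (.leaf 3)))))) (.node (.node (.node (.node (.node (.leaf 0) (.leaf 3)) (.node (.leaf 0) (.leaf 0))) (.node (.node (.leaf 3) (.leaf 0)) (.node (.leaf 0) (.leaf 0)))) (.node (.node (.node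 (.leaf 0) (.leaf 3)) (.node (.leaf 3) (.leaf 3))) (.node (.node (.leaf 3) (.leaf 3)) (.node (.leaf 3) (.leaf 3))))) (.node (.node (.node (.node (.leaf 0) (.leaf 3)) (.node (.leaf 0) (.leaf 3))) (.node (.node (.leaf 3) (.leaf 0)) (.node (.leaf 3) (.leaf 3)))) (.node (.node (.node (.leaf 0) (.leaf 3)) (.node (.leaf 3) (.leaf 3))) (.node (.node (.leaf 0) (.leaf 3)) (.node (.leaf 3) (.leaf 3)))))))

def twoKind250 : Janko.Tree (ℕ) :=
  (.node (.node (.node (.node (.node (.node (.leaf 0) (.leaf 3)) (.node (.leaf 3) (.leaf 0))) (.node (.node (.leaf 3) (.leaf 3)) (.node (.leaf 3) (.leaf 3)))) (.node (.node (.node (.leaf 3) (.leaf 0)) (.node (.leaf 3) (.leaf 3))) (.node (.node (.leaf 0) (.leaf 3)) (.node (.leaf 3) (.leaf 3))))) (.node (.node (.node (.node (.leaf 0) (.leaf 3)) (.node (.leaf 0) (.leaf 3))) (.node (.node (.leaf 0) (.leaf 3)) (.node (.leaf 3) (.leaf 3)))) (.node (.node (.node (.leaf 3) (.leaf 0)) (.node (.leaf 0) (.leaf 3))) (.node (.node (.leaf 3) (.leaf 3))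 (.node (.leaf 3) (.leaf 3)))))) (.node (.node (.node (.node (.node (.leaf 3) (.leaf 3)) (.node (.leaf 3) (.leaf 3))) (.node (.node (.leaf 0) (.leaf 3)) (.node (.leaf 3) (.leaf 3)))) (.node (.node (.node (.leaf 3) (.leaf 3)) (.node (.leaf 3) (.leaf 3))) (.node (.node (.leaf 3) (.leaf 3)) (.node (.leaf 3) (.leaf 3))))) (.node (.node (.node (.node (.leaf 3) (.leaf 0)) (.node (.leaf 3) (.leaf 3))) (.node (.node (.leaf 3) (.leaf 3)) (.node (.leaf 3) (.leaf 3)))) (.node (.node (.node (.leaf 3) (.leaf 3)) (.node (.leaf 3) (.leaf 3))) (.node (.node (.leaf 3) (.leaf 3)) (.node (.leaf 0) (.leaf 3)))))))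

def twoKind251 : Janko.Tree (ℕ) :=
  (.node (.node (.node (.node (.node (.node (.leaf 0) (.leaf 3)) (.node (.leaf 3) (.leaf 3))) (.node (.node (.leaf 3) (.leaf 3)) (.node (.leaf 3) (.leaf 3)))) (.node (.node (.node (.leaf 3) (.leaf 3)) (.node (.leaf 0) (.leaf 3))) (.node (.node (.leaf 0) (.leaf 3)) (.node (.leaf 0) (.leaf 3))))) (.node (.node (.node (.node (.leaf 3) (.leaf 3)) (.node (.leaf 3) (.leaf 3))) (.node (.node (.leaf 0) (.leaf 3)) (.node (.leaf 3) (.leaf 0)))) (.node (.node (.node (.leaf 3) (.leaf 0)) (.node (.leaf 0) (.leaf 3))) (.node (.node (.leaf 3) (.leaf 3)) (.node (.leaf 3) (.leaf 3)))))) (.node (.node (.node (.node (.node (.leaf 0) (.leaf 0)) (.node (.leaf 3) (.leaf 3))) (.node (.node (.leaf 0) (.leaf 3)) (.node (.leaf 3) (.leaf 3)))) (.node (.node (.node (.leaf 3) (.leaf 0)) (.node (.leaf 3) (.leaf 3))) (.node (.node (.leaf 3) (.leaf 0)) (.node (.leaf 0) (.leaf 3))))) (.node (.node (.node (.node (.leaf 3) (.leaf 0)) (.node (.leaf 3) (.leaf 3))) (.node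 (.node (.leaf 3) (.leaf 3)) (.node (.leaf 3) (.leaf 3)))) (.node (.node (.node (.leaf 3) (.leaf 0)) (.node (.leaf 0) (.leaf 3))) (.node (.node (.leaf 3) (.leaf 3)) (.node (.leaf 3) (.leaf 3)))))))

def twoKind252 : Janko.Tree (ℕ) :=
  (.node (.node (.node (.node (.node (.node (.leaf 3) (.leaf 3)) (.node (.leaf 0) (.leaf 3))) (.node (.node (.leaf 0) (.leaf 3)) (.node (.leaf 3) (.leaf 3)))) (.node (.node (.node (.leaf 3) (.leaf 3)) (.node (.leaf 3) (.leaf 3))) (.node (.node (.leaf 3) (.leaf 3)) (.node (.leaf 3) (.leaf 3))))) (.node (.node (.node (.node (.leaf 3) (.leaf 3)) (.node (.leaf 3) (.leaf 3))) (.node (.node (.leaf 3) (.leaf 3)) (.node (.leaf 3) (.leaf 3)))) (.node (.node (.node (.leaf 3) (.leaf 3)) (.node (.leaf 3) (.leaf 3))) (.node (.node (.leaf 3) (.leaf 3)) (.node (.leaf 0) (.leaf 3)))))) (.node (.node (.node (.node (.node (.leaf 3) (.leaf 3)) (.node (.leaf 3) (.leaf 3))) (.node (.node (.leaf 3) (.leaf 3)) (.node (.leaf 0) (.leaf 3)))) (.node (.node (.node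 (.leaf 3) (.leaf 3)) (.node (.leaf 3) (.leaf 3))) (.node (.node (.leaf 3) (.leaf 3)) (.node (.leaf 3) (.leaf 3))))) (.node (.node (.node (.node (.leaf 0) (.leaf 3)) (.node (.leaf 0) (.leaf 3))) (.node (.node (.leaf 3) (.leaf 3)) (.node (.leaf 3) (.leaf 3)))) (.node (.node (.node (.leaf 0) (.leaf 3)) (.node (.leaf 3) (.leaf 0))) (.node (.node (.leaf 0) (.leaf 3)) (.node (.leaf 3) (.leaf 3)))))))

def twoKind253 : Janko.Tree (ℕ) :=
  (.node (.node (.node (.node (.node (.node (.leaf 0) (.leaf 3)) (.node (.leaf 3) (.leaf 3))) (.node (.node (.leaf 3) (.leaf 3)) (.node (.leaf 3) (.leaf 3)))) (.node (.node (.node (.leaf 3) (.leaf 3)) (.node (.leaf 3) (.leaf 0))) (.node (.node (.leaf 0) (.leaf 3)) (.node (.leaf 3) (.leaf 3))))) (.node (.node (.node (.node (.leaf 0) (.leaf 0)) (.node (.leaf 0) (.leaf 0))) (.node (.node (.leaf 0) (.leaf 3)) (.node (.leaf 3) (.leaf 3)))) (.node (.node (.node (.leaf 3) (.leaf 0)) (.node (.leaf 0) (.leaf 3))) (.node (.node (.leaf 3) (.leaf 3))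 (.node (.leaf 3) (.leaf 3)))))) (.node (.node (.node (.node (.node (.leaf 3) (.leaf 0)) (.node (.leaf 3) (.leaf 3))) (.node (.node (.leaf 0) (.leaf 3)) (.node (.leaf 3) (.leaf 0)))) (.node (.node (.node (.leaf 3) (.leaf 0)) (.node (.leaf 0) (.leaf 3))) (.node (.node (.leaf 3) (.leaf 3)) (.node (.leaf 0) (.leaf 3))))) (.node (.node (.node (.node (.leaf 3) (.leaf 3)) (.node (.leaf 3) (.leaf 0))) (.node (.node (.leaf 0) (.leaf 3)) (.node (.leaf 0) (.leaf 0)))) (.node (.node (.node (.leaf 3) (.leaf 3)) (.node (.leaf 0) (.leaf 3))) (.node (.node (.leaf 3) (.leaf 3)) (.node (.leaf 0) (.leaf 3)))))))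

def twoKind254 : Janko.Tree (ℕ) :=
  (.node (.node (.node (.node (.node (.node (.leaf 0) (.leaf 0)) (.node (.leaf 0) (.leaf 3))) (.node (.node (.leaf 3) (.leaf 3)) (.node (.leaf 3) (.leaf 3)))) (.node (.node (.node (.leaf 3) (.leaf 3)) (.node (.leaf 0) (.leaf 3))) (.node (.node (.leaf 3) (.leaf 3)) (.node (.leaf 3) (.leaf 3))))) (.node (.node (.node (.node (.leaf 3) (.leaf 3)) (.node (.leaf 3) (.leaf 3))) (.node (.node (.leaf 0) (.leaf 3)) (.node (.leaf 0) (.leaf 3)))) (.node (.node (.node (.leaf 0) (.leaf 3)) (.node (.leaf 0) (.leaf 3))) (.node (.node (.leaf 3) (.leaf 3)) (.node (.leaf 3) (.leaf 3)))))) (.node (.node (.node (.node (.node (.leaf 3) (.leaf 3)) (.node (.leaf 3) (.leaf 0))) (.node (.node (.leaf 3) (.leaf 0)) (.node (.leaf 3) (.leaf 3)))) (.node (.node (.node (.leaf 0) (.leaf 3)) (.node (.leaf 3) (.leaf 3))) (.node (.node (.leaf 0) (.leaf 3)) (.node (.leaf 3) (.leaf 3))))) (.node (.node (.node (.node (.leaf 0) (.leaf 3)) (.node (.leaf 0) (.leaf 3))) (.node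 (.node (.leaf 3) (.leaf 3)) (.node (.leaf 3) (.leaf 3)))) (.node (.node (.node (.leaf 0) (.leaf 3)) (.node (.leaf 3) (.leaf 3))) (.node (.node (.leaf 3) (.leaf 3)) (.node (.leaf 3) (.leaf 3)))))))

def twoKind255 : Janko.Tree (ℕ) :=
  (.node (.node (.node (.node (.node (.node (.leaf 0) (.leaf 0)) (.node (.leaf 0) (.leaf 3))) (.node (.node (.leaf 3) (.leaf 3)) (.node (.leaf 3) (.leaf 3)))) (.node (.node (.node (.leaf 0) (.leaf 3)) (.node (.leaf 0) (.leaf 3))) (.node (.node (.leaf 0) (.leaf 3)) (.node (.leaf 3) (.leaf 3))))) (.node (.node (.node (.node (.leaf 0) (.leaf 3)) (.node (.leaf 3) (.leaf 3))) (.node (.node (.leaf 0) (.leaf 3)) (.node (.leaf 3) (.leaf 0)))) (.node (.node (.node (.leaf 0) (.leaf 3)) (.node (.leaf 3) (.leaf 3))) (.node (.node (.leaf 0) (.leaf 3)) (.node (.leaf 0) (.leaf 3)))))) (.node (.node (.node (.node (.node (.leaf 3) (.leaf 3)) (.node (.leaf 3) (.leaf 0))) (.node (.node (.leaf 3) (.leaf 3)) (.node (.leaf 0) (.leaf 3)))) (.node (.node (.node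 (.leaf 3) (.leaf 3)) (.node (.leaf 0) (.leaf 3))) (.node (.node (.leaf 0) (.leaf 3)) (.node (.leaf 3) (.leaf 3))))) (.node (.node (.node (.node (.leaf 0) (.leaf 0)) (.node (.leaf 0) (.leaf 3))) (.node (.node (.leaf 3) (.leaf 3)) (.node (.leaf 3) (.leaf 3)))) (.node (.node (.node (.leaf 0) (.leaf 3)) (.node (.leaf 3) (.leaf 3))) (.node (.node (.leaf 0) (.leaf 3)) (.node (.leaf 3) (.leaf 3)))))))

def twoKind : Janko.Tree (ℕ) := (.node (.node (.node (.node (.node (.node (.node (.node twoKind0 twoKind128) (.node twoKind64 twoKind192)) (.node (.node twoKind32 twoKind160) (.node twoKind96 twoKind224))) (.node (.node (.node twoKind16 twoKind144) (.node twoKind80 twoKind208)) (.node (.node twoKind48 twoKind176) (.node twoKind112 twoKind240)))) (.node (.node (.node (.node twoKind8 twoKind136) (.node twoKind72 twoKind200)) (.node (.node twoKind40 twoKind168) (.node twoKind104 twoKind232))) (.node (.node (.node twoKind24 twoKind152) (.node twoKind88 twoKind216)) (.node (.node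 twoKind56 twoKind184) (.node twoKind120 twoKind248))))) (.node (.node (.node (.node (.node twoKind4 twoKind132) (.node twoKind68 twoKind196)) (.node (.node twoKind36 twoKind164) (.node twoKind100 twoKind228))) (.node (.node (.node twoKind20 twoKind148) (.node twoKind84 twoKind212)) (.node (.node twoKind52 twoKind180) (.node twoKind116 twoKind244)))) (.node (.node (.node (.node twoKind12 twoKind140) (.node twoKind76 twoKind204)) (.node (.node twoKind44 twoKind172) (.node twoKind108 twoKind236))) (.node (.node (.node twoKind28 twoKind156) (.node twoKind92 twoKind220)) (.node (.node twoKind60 twoKind188) (.node twoKind124 twoKind252)))))) (.node (.node (.node (.node (.node (.node twoKind2 twoKind130) (.node twoKind66 twoKind194)) (.node (.node twoKind34 twoKind162) (.node twoKind98 twoKind226))) (.node (.node (.node twoKind18 twoKind146) (.node twoKind82 twoKind210)) (.node (.node twoKind50 twoKind178) (.node twoKind114 twoKind242)))) (.node (.node (.node (.node twoKind10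 twoKind138) (.node twoKind74 twoKind202)) (.node (.node twoKind42 twoKind170) (.node twoKind106 twoKind234))) (.node (.node (.node twoKind26 twoKind154) (.node twoKind90 twoKind218)) (.node (.node twoKind58 twoKind186) (.node twoKind122 twoKind250))))) (.node (.node (.node (.node (.node twoKind6 twoKind134) (.node twoKind70 twoKind198)) (.node (.node twoKind38 twoKind166) (.node twoKind102 twoKind230))) (.node (.node (.node twoKind22 twoKind150) (.node twoKind86 twoKind214)) (.node (.node twoKind54 twoKind182) (.node twoKind118 twoKind246)))) (.node (.node (.node (.node twoKind14 twoKind142) (.node twoKind78 twoKind206)) (.node (.node twoKind46 twoKind174) (.node twoKind110 twoKind238))) (.node (.node (.node twoKind30 twoKind158) (.node twoKind94 twoKind222)) (.node (.node twoKind62 twoKind190) (.node twoKind126 twoKind254))))))) (.node (.node (.node (.node (.node (.node (.node twoKind1 twoKind129) (.node twoKind65 twoKind193)) (.node (.node twoKind33 twoKind161) (.node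 twoKind97 twoKind225))) (.node (.node (.node twoKind17 twoKind145) (.node twoKind81 twoKind209)) (.node (.node twoKind49 twoKind177) (.node twoKind113 twoKind241)))) (.node (.node (.node (.node twoKind9 twoKind137) (.node twoKind73 twoKind201)) (.node (.node twoKind41 twoKind169) (.node twoKind105 twoKind233))) (.node (.node (.node twoKind25 twoKind153) (.node twoKind89 twoKind217)) (.node (.node twoKind57 twoKind185) (.node twoKind121 twoKind249))))) (.node (.node (.node (.node (.node twoKind5 twoKind133) (.node twoKind69 twoKind197)) (.node (.node twoKind37 twoKind165) (.node twoKind101 twoKind229))) (.node (.node (.node twoKind21 twoKind149) (.node twoKind85 twoKind213)) (.node (.node twoKind53 twoKind181) (.node twoKind117 twoKind245)))) (.node (.node (.node (.node twoKind13 twoKind141) (.node twoKind77 twoKind205)) (.node (.node twoKind45 twoKind173) (.node twoKind109 twoKind237))) (.node (.node (.node twoKind29 twoKind157) (.node twoKind93 twoKind221)) (.node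 (.node twoKind61 twoKind189) (.node twoKind125 twoKind253)))))) (.node (.node (.node (.node (.node (.node twoKind3 twoKind131) (.node twoKind67 twoKind195)) (.node (.node twoKind35 twoKind163) (.node twoKind99 twoKind227))) (.node (.node (.node twoKind19 twoKind147) (.node twoKind83 twoKind211)) (.node (.node twoKind51 twoKind179) (.node twoKind115 twoKind243)))) (.node (.node (.node (.node twoKind11 twoKind139) (.node twoKind75 twoKind203)) (.node (.node twoKind43 twoKind171) (.node twoKind107 twoKind235))) (.node (.node (.node twoKind27 twoKind155) (.node twoKind91 twoKind219)) (.node (.node twoKind59 twoKind187) (.node twoKind123 twoKind251))))) (.node (.node (.node (.node (.node twoKind7 twoKind135) (.node twoKind71 twoKind199)) (.node (.node twoKind39 twoKind167) (.node twoKind103 twoKind231))) (.node (.node (.node twoKind23 twoKind151) (.node twoKind87 twoKind215)) (.node (.node twoKind55 twoKind183) (.node twoKind119 twoKind247)))) (.node (.node (.node (.node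 twoKind15 twoKind143) (.node twoKind79 twoKind207)) (.node (.node twoKind47 twoKind175) (.node twoKind111 twoKind239))) (.node (.node (.node twoKind31 twoKind159) (.node twoKind95 twoKind223)) (.node (.node twoKind63 twoKind191) (.node twoKind127 twoKind255))))))))

def twoRank0 : Janko.Tree (ℕ) :=
  (.node (.node (.node (.node (.node (.node (.node (.leaf 0) (.leaf 4095)) (.leaf 16063)) (.node (.leaf 8799) (.leaf 12789))) (.node (.node (.leaf 4497) (.leaf 4239)) (.node (.leaf 2223) (.leaf 13016)))) (.node (.node (.node (.leaf 12961) (.leaf 4270)) (.node (.leaf 4394) (.leaf 10263))) (.node (.node (.leaf 10183) (.leaf 14162)) (.node (.leaf 14317) (.leaf 15828))))) (.node (.node (.node (.node (.leaf 10253) (.leaf 11452)) (.node (.leaf 4411) (.leaf 15000))) (.node (.node (.leaf 10158) (.leaf 4226)) (.node (.leaf 8733) (.leaf 10032)))) (.node (.node (.node (.leaf 4514) (.leaf 3121)) (.node (.leaf 12578) (.leaf 12310))) (.node (.node (.leaf 10241) (.leaf 15007)) (.node (.leaf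 4316) (.leaf 15960)))))) (.node (.node (.node (.node (.node (.leaf 8522) (.leaf 8290)) (.node (.leaf 1651) (.leaf 15323))) (.node (.node (.leaf 924) (.leaf 13822)) (.node (.leaf 10269) (.leaf 15048)))) (.node (.node (.node (.leaf 8878) (.leaf 12336)) (.node (.leaf 8354) (.leaf 13242))) (.node (.node (.leaf 8705) (.leaf 15841)) (.node (.leaf 14841) (.leaf 12311))))) (.node (.node (.node (.node (.leaf 13055) (.leaf 15464)) (.node (.leaf 1811) (.leaf 16075))) (.node (.node (.leaf 8436) (.leaf 8295)) (.node (.leaf 8375) (.leaf 15779)))) (.node (.node (.node (.leaf 10348) (.leaf 14990)) (.node (.leaf 8342) (.leaf 12031))) (.node (.node (.leaf 1475) (.leaf 15762)) (.node (.leaf 8701) (.leaf 15785)))))))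

def twoRank1 : Janko.Tree (ℕ) :=
  (.node (.node (.node (.node (.node (.node (.node (.leaf 1) (.leaf 4563)) (.leaf 5316)) (.node (.leaf 13238) (.leaf 16049))) (.node (.node (.leaf 825) (.leaf 13604)) (.node (.leaf 5487) (.leaf 4765)))) (.node (.node (.node (.leaf 441) (.leaf 13639)) (.node (.leaf 1901) (.leaf 4863))) (.node (.node (.leaf 5758) (.leaf 15796)) (.node (.leaf 5399) (.leaf 4670))))) (.node (.node (.node (.node (.leaf 5979) (.leaf 2906)) (.node (.leaf 1729) (.leaf 15173))) (.node (.node (.leaf 5802) (.leaf 11694)) (.node (.leaf 13376) (.leaf 4723)))) (.node (.node (.node (.leaf 632) (.leaf 5180)) (.node (.leaf 2060) (.leaf 15775))) (.node (.node (.leaf 1394) (.leaf 13906)) (.node (.leaf 2639) (.leaf 4618)))))) (.node (.node (.node (.node (.node (.leaf 130) (.leaf 2837)) (.node (.leaf 5644) (.leaf 3701))) (.node (.node (.leaf 5823) (.leaf 5115)) (.node (.leaf 5466) (.leaf 4742)))) (.node (.node (.node (.leaf 537) (.leaf 11149)) (.node (.leaf 1988) (.leaf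 4839))) (.node (.node (.leaf 11067) (.leaf 3516)) (.node (.leaf 5376) (.leaf 4645))))) (.node (.node (.node (.node (.leaf 11092) (.leaf 5251)) (.node (.leaf 5601) (.leaf 4891))) (.node (.node (.leaf 1114) (.leaf 3411)) (.node (.leaf 2408) (.leaf 10933)))) (.node (.node (.node (.leaf 5869) (.leaf 5157)) (.node (.leaf 15619) (.leaf 4792))) (.node (.node (.leaf 5689) (.leaf 4977)) (.node (.leaf 13360) (.leaf 12378)))))))

def twoRank2 : Janko.Tree (ℕ) :=
  (.node (.node (.node (.node (.node (.node (.node (.leaf 2) (.leaf 6018)) (.leaf 13937)) (.node (.leaf 9722) (.leaf 6199))) (.node (.node (.leaf 826) (.leaf 10458)) (.node (.leaf 10567) (.leaf 15315)))) (.node (.node (.node (.leaf 6719) (.leaf 3016)) (.node (.leaf 1902) (.leaf 11323))) (.node (.node (.leaf 1204) (.leaf 14158)) (.node (.leaf 14315) (.leaf 15825))))) (.node (.node (.node (.node (.leaf 241) (.leaf 11448)) (.node (.leaf 1730) (.leaf 6172))) (.node (.node (.leaf 11781) (.leaf 10511)) (.node (.leaf 9558) (.leaf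 11195)))) (.node (.node (.node (.leaf 10795) (.leaf 3122)) (.node (.leaf 9619) (.leaf 9352))) (.node (.node (.leaf 6597) (.leaf 10730)) (.node (.leaf 10609) (.leaf 15439)))))) (.node (.node (.node (.node (.node (.leaf 6758) (.leaf 6370)) (.node (.leaf 1652) (.leaf 9414))) (.node (.node (.leaf 925) (.leaf 13820)) (.node (.leaf 2291) (.leaf 15034)))) (.node (.node (.node (.leaf 9902) (.leaf 13260)) (.node (.leaf 6510) (.leaf 13246))) (.node (.node (.leaf 9647) (.leaf 9450)) (.node (.leaf 10697) (.leaf 15206))))) (.node (.node (.node (.node (.leaf 9897) (.leaf 14391)) (.node (.leaf 10532) (.leaf 3797))) (.node (.node (.leaf 6634) (.leaf 6259)) (.node (.leaf 6440) (.leaf 9231)))) (.node (.node (.node (.leaf 11967) (.leaf 3199)) (.node (.leaf 6486) (.leaf 12034))) (.node (.node (.leaf 1476) (.leaf 3606)) (.node (.leaf 9488) (.leaf 6026)))))))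

def twoRank3 : Janko.Tree (ℕ) :=
  (.node (.node (.node (.node (.node (.node (.node (.leaf 3) (.leaf 6773)) (.leaf 14111)) (.node (.leaf 7857) (.leaf 12787))) (.node (.node (.leaf 12881) (.leaf 3260)) (.node (.leaf 2224) (.leaf 13014)))) (.node (.node (.node (.leaf 13108) (.leaf 3017)) (.node (.leaf 12520) (.leaf 3838))) (.node (.node (.leaf 1205) (.leaf 7230)) (.node (.leaf 13446) (.leaf 16439))))) (.node (.node (.node (.node (.leaf 242) (.leaf 7460)) (.node (.leaf 12457) (.leaf 14661))) (.node (.node (.leaf 1013) (.leaf 3366)) (.node (.leaf 7636) (.leaf 15049)))) (.node (.node (.node (.leaf 633) (.leaf 3123)) (.node (.leaf 7728) (.leaf 7004))) (.node (.node (.leaf 1395) (.leaf 7177)) (.node (.leaf 2640) (.leaf 15400)))))) (.node (.node (.node (.node (.node (.leaf 131) (.leaf 2838)) (.node (.leaf 1653) (.leaf 7119))) (.node (.node (.leaf 926) (.leaf 13818)) (.node (.leaf 2292) (.leaf 15038)))) (.node (.node (.node (.leaf 8082) (.leaf 7382)) (.node (.leaf 1989) (.leaf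 13248))) (.node (.node (.leaf 7917) (.leaf 7203)) (.node (.leaf 2571) (.leaf 12307))))) (.node (.node (.node (.node (.leaf 8128) (.leaf 2964)) (.node (.leaf 1812) (.leaf 3798))) (.node (.node (.leaf 1115) (.leaf 12320)) (.node (.leaf 12594) (.leaf 6889)))) (.node (.node (.node (.leaf 728) (.leaf 3200)) (.node (.leaf 2146) (.leaf 15304))) (.node (.node (.leaf 1477) (.leaf 3607)) (.node (.leaf 7524) (.leaf 4090)))))))

def twoRank4 : Janko.Tree (ℕ) :=
  (.node (.node (.node (.node (.node (.node (.node (.leaf 4562) (.leaf 8194)) (.leaf 12475)) (.node (.leaf 4428) (.leaf 16066))) (.node (.node (.leaf 8460) (.leaf 8966)) (.node (.leaf 8749) (.leaf 15478)))) (.node (.node (.node (.leaf 10218) (.leaf 8278)) (.node (.leaf 8362) (.leaf 8957))) (.node (.node (.leaf 9171) (.leaf 10315)) (.node (.leaf 4331) (.leaf 14151))))) (.node (.node (.node (.node (.leaf 8521) (.leaf 2907)) (.node (.leaf 8374) (.leaf 14996))) (.node (.node (.leaf 9177) (.leaf 8954)) (.node (.leaf 8792) (.leaf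 8927)))) (.node (.node (.node (.leaf 9180) (.leaf 10339)) (.node (.leaf 2061) (.leaf 3907))) (.node (.node (.leaf 10237) (.leaf 3567)) (.node (.leaf 9024) (.leaf 15764)))))) (.node (.node (.node (.node (.node (.leaf 8865) (.leaf 8585)) (.node (.leaf 4420) (.leaf 10360))) (.node (.node (.leaf 4489) (.leaf 14673)) (.node (.leaf 9115) (.leaf 3974)))) (.node (.node (.node (.leaf 12899) (.leaf 10296)) (.node (.leaf 8633) (.leaf 13256))) (.node (.node (.leaf 10117) (.leaf 13077)) (.node (.leaf 4323) (.leaf 15269))))) (.node (.node (.node (.node (.leaf 10306) (.leaf 15187)) (.node (.leaf 12726) (.leaf 15145))) (.node (.node (.leaf 8727) (.leaf 14776)) (.node (.leaf 2409) (.leaf 15589)))) (.node (.node (.node (.leaf 9189) (.leaf 4244)) (.node (.leaf 13075) (.leaf 14535))) (.node (.node (.leaf 4436) (.leaf 4190)) (.node (.leaf 4307) (.leaf 16120)))))))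

def twoRank5 : Janko.Tree (ℕ) :=
  (.node (.node (.node (.node (.node (.node (.node (.leaf 4) (.leaf 8541)) (.leaf 2758)) (.node (.leaf 1567) (.leaf 3642))) (.node (.node (.leaf 827) (.leaf 3261)) (.node (.leaf 13907) (.leaf 3961)))) (.node (.node (.node (.leaf 5936) (.leaf 12447)) (.node (.leaf 1903) (.leaf 3839))) (.node (.node (.leaf 1206) (.leaf 5049)) (.node (.leaf 2493) (.leaf 4669))))) (.node (.node (.node (.node (.leaf 243) (.leaf 5271)) (.node (.leaf 1731) (.leaf 11104))) (.node (.node (.leaf 1014) (.leaf 13878)) (.node (.leaf 2356) (.leaf 14897)))) (.node (.node (.node (.leaf 13299) (.leaf 5179)) (.node (.leaf 5535) (.leaf 4817))) (.node (.node (.leaf 1396) (.leaf 5006)) (.node (.leaf 14123) (.leaf 14631)))))) (.node (.node (.node (.node (.node (.leaf 11095) (.leaf 16048)) (.node (.leaf 16394) (.leaf 15227))) (.node (.node (.leaf 927) (.leaf 5114)) (.node (.leaf 15616) (.leaf 4741)))) (.node (.node (.node (.leaf 5915) (.leaf 5205)) (.node (.leaf 11039) (.leaf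 3875))) (.node (.node (.leaf 5735) (.leaf 5031)) (.node (.leaf 14322) (.leaf 15730))))) (.node (.node (.node (.node (.leaf 5958) (.leaf 14001)) (.node (.leaf 1813) (.leaf 11127))) (.node (.node (.leaf 11052) (.leaf 5070)) (.node (.leaf 5426) (.leaf 11101)))) (.node (.node (.node (.leaf 729) (.leaf 3201)) (.node (.leaf 11154) (.leaf 14925))) (.node (.node (.leaf 1478) (.leaf 13629)) (.node (.leaf 16388) (.leaf 16112)))))))

def twoRank6 : Janko.Tree (ℕ) :=
  (.node (.node (.node (.node (.node (.node (.node (.leaf 5) (.leaf 9207)) (.leaf 6383)) (.node (.leaf 10654) (.leaf 6198))) (.node (.node (.leaf 6672) (.leaf 10460)) (.node (.leaf 9594) (.leaf 6103)))) (.node (.node (.node (.leaf 442) (.leaf 6337)) (.node (.leaf 6523) (.leaf 11349))) (.node (.node (.leaf 10756) (.leaf 3474)) (.node (.leaf 14301) (.leaf 15336))))) (.node (.node (.node (.node (.leaf 6743) (.leaf 2908)) (.node (.leaf 6547) (.leaf 14659))) (.node (.node (.leaf 11817) (.leaf 10509)) (.node (.leaf 9698)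 (.leaf 11193)))) (.node (.node (.node (.leaf 10797) (.leaf 11564)) (.node (.leaf 2062) (.leaf 3908))) (.node (.node (.leaf 9745) (.leaf 14065)) (.node (.leaf 10607) (.leaf 9250)))))) (.node (.node (.node (.node (.node (.leaf 9923) (.leaf 9341)) (.node (.leaf 1654) (.leaf 6184))) (.node (.node (.leaf 928) (.leaf 13841)) (.node (.leaf 10650) (.leaf 3975)))) (.node (.node (.node (.leaf 538) (.leaf 15383)) (.node (.leaf 9483) (.leaf 6139))) (.node (.node (.leaf 1303) (.leaf 3517)) (.node (.leaf 2572) (.leaf 14409))))) (.node (.node (.node (.node (.leaf 11891) (.leaf 9588)) (.node (.leaf 9766) (.leaf 15466))) (.node (.node (.leaf 9693) (.leaf 10494)) (.node (.leaf 12133) (.leaf 15207)))) (.node (.node (.node (.leaf 12113) (.leaf 3202)) (.node (.leaf 9613) (.leaf 14543))) (.node (.node (.leaf 1479) (.leaf 3608)) (.node (.leaf 10496) (.leaf 9209)))))))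

def twoRank7 : Janko.Tree (ℕ) :=
  (.node (.node (.node (.node (.node (.node (.node (.leaf 6) (.leaf 8543)) (.leaf 13953)) (.node (.leaf 1568) (.leaf 3643))) (.node (.node (.leaf 828) (.leaf 7322)) (.node (.leaf 7688) (.leaf 3962)))) (.node (.node (.node (.leaf 443) (.leaf 3018)) (.node (.leaf 1904) (.leaf 7049))) (.node (.node (.leaf 7936) (.leaf 3475)) (.node (.leaf 13111) (.leaf 14153))))) (.node (.node (.node (.node (.leaf 244) (.leaf 2909)) (.node (.leaf 13424) (.leaf 7092))) (.node (.node (.leaf 7977) (.leaf 7270)) (.node (.leaf 7635) (.leaf 6912)))) (.node (.node (.node (.leaf 8060) (.leaf 3124)) (.node (.leaf 2063) (.leaf 3909))) (.node (.node (.leaf 7896) (.leaf 12862)) (.node (.leaf 7550) (.leaf 6822)))))) (.node (.node (.node (.node (.node (.leaf 8173) (.leaf 7483)) (.node (.leaf 1655) (.leaf 3702))) (.node (.node (.leaf 12847) (.leaf 14762)) (.node (.leaf 7663) (.leaf 3976)))) (.node (.node (.node (.leaf 12901) (.leaf 15393)) (.node (.leaf 7750) (.leaf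 12353))) (.node (.node (.leaf 1304) (.leaf 14565)) (.node (.leaf 2573) (.leaf 6844))))) (.node (.node (.node (.node (.leaf 346) (.leaf 7433)) (.node (.leaf 7792) (.leaf 7067))) (.node (.node (.leaf 7958) (.leaf 14734)) (.node (.leaf 13675) (.leaf 6888)))) (.node (.node (.node (.leaf 8040) (.leaf 13130)) (.node (.leaf 7710) (.leaf 6981))) (.node (.node (.leaf 1480) (.leaf 3609)) (.node (.leaf 2705) (.leaf 6800)))))))

def twoRank8 : Janko.Tree (ℕ) :=
  (.node (.node (.node (.node (.node (.node (.node (.leaf 7) (.leaf 9972)) (.leaf 10328)) (.node (.leaf 9118) (.leaf 15866))) (.node (.node (.leaf 12879) (.leaf 11356)) (.node (.leaf 4362) (.leaf 16153)))) (.node (.node (.node (.leaf 9203) (.leaf 8581)) (.node (.leaf 12518) (.leaf 10273))) (.node (.node (.leaf 1207) (.leaf 4207)) (.node (.leaf 11703) (.leaf 16097))))) (.node (.node (.node (.node (.leaf 8866) (.leaf 11450)) (.node (.leaf 12453) (.leaf 14360))) (.node (.node (.leaf 11787) (.leaf 9015)) (.node (.leaf 12616)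 (.leaf 14994)))) (.node (.node (.node (.leaf 634) (.leaf 9037)) (.node (.leaf 8810) (.leaf 4141))) (.node (.node (.leaf 1397) (.leaf 8680)) (.node (.leaf 2641) (.leaf 8584)))))) (.node (.node (.node (.node (.node (.leaf 10227) (.leaf 2839)) (.node (.leaf 8386) (.leaf 12994))) (.node (.node (.leaf 8452) (.leaf 12513)) (.node (.leaf 2293) (.leaf 4126)))) (.node (.node (.node (.leaf 4522) (.leaf 8323)) (.node (.leaf 8413) (.leaf 8947))) (.node (.node (.leaf 8457) (.leaf 13187)) (.node (.leaf 8310) (.leaf 12313))))) (.node (.node (.node (.node (.leaf 9205) (.leaf 8748)) (.node (.leaf 4402) (.leaf 8259))) (.node (.node (.leaf 1116) (.leaf 14559)) (.node (.leaf 12121) (.leaf 8223)))) (.node (.node (.node (.leaf 12135) (.leaf 8262)) (.node (.leaf 10384) (.leaf 3931))) (.node (.node (.leaf 8400) (.leaf 8234)) (.node (.leaf 9014) (.leaf 8201)))))))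

def twoRank9 : Janko.Tree (ℕ) :=
  (.node (.node (.node (.node (.node (.node (.node (.leaf 6017) (.leaf 10404)) (.leaf 5315)) (.node (.leaf 1569) (.leaf 11625))) (.node (.node (.leaf 11070) (.leaf 5135)) (.node (.leaf 13317) (.leaf 11609)))) (.node (.node (.node (.leaf 444) (.leaf 11134)) (.node (.leaf 10980) (.leaf 3840))) (.node (.node (.leaf 5757) (.leaf 3476)) (.node (.leaf 5398) (.leaf 12377))))) (.node (.node (.node (.node (.leaf 245) (.leaf 5270)) (.node (.leaf 11020) (.leaf 4915))) (.node (.node (.leaf 1015) (.leaf 3367)) (.node (.leaf 5447) (.leaf 4722)))) (.node (.node (.node (.leaf 5892) (.leaf 3125)) (.node (.leaf 2064) (.leaf 3910))) (.node (.node (.leaf 5711) (.leaf 14902)) (.node (.leaf 5355) (.leaf 14913)))))) (.node (.node (.node (.node (.node (.leaf 5998) (.leaf 5291)) (.node (.leaf 1656) (.leaf 3703))) (.node (.node (.leaf 929) (.leaf 3313)) (.node (.leaf 5465) (.leaf 3977)))) (.node (.node (.node (.leaf 539) (.leaf 3064)) (.node (.leaf 11693) (.leaf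 15024))) (.node (.node (.leaf 1305) (.leaf 3518)) (.node (.leaf 2574) (.leaf 15773))))) (.node (.node (.node (.node (.leaf 347) (.leaf 2965)) (.node (.leaf 1814) (.leaf 13840))) (.node (.node (.leaf 5778) (.leaf 15046)) (.node (.leaf 5425) (.leaf 11178)))) (.node (.node (.node (.leaf 730) (.leaf 15179)) (.node (.leaf 5508) (.leaf 4791))) (.node (.node (.leaf 1481) (.leaf 12439)) (.node (.leaf 2706) (.leaf 11176)))))))

def twoRank10 : Janko.Tree (ℕ) :=
  (.node (.node (.node (.node (.node (.node (.node (.leaf 8) (.leaf 10921)) (.leaf 2759)) (.node (.leaf 10656) (.leaf 9321))) (.node (.node (.leaf 9819) (.leaf 11359)) (.node (.leaf 10566) (.leaf 9253)))) (.node (.node (.node (.leaf 10820) (.leaf 9323)) (.node (.leaf 9657) (.leaf 15334))) (.node (.node (.leaf 13468) (.leaf 11292)) (.node (.leaf 11715) (.leaf 6059))))) (.node (.node (.node (.node (.leaf 9925) (.leaf 11428)) (.node (.leaf 13427) (.leaf 3749))) (.node (.node (.leaf 9842) (.leaf 10508)) (.node (.leaf 2357)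 (.leaf 13459)))) (.node (.node (.node (.leaf 635) (.leaf 11570)) (.node (.leaf 9740) (.leaf 13742))) (.node (.node (.leaf 1398) (.leaf 9430)) (.node (.leaf 2642) (.leaf 9246)))))) (.node (.node (.node (.node (.node (.leaf 132) (.leaf 10446)) (.node (.leaf 6559) (.leaf 9301))) (.node (.node (.leaf 6659) (.leaf 9504)) (.node (.leaf 14211) (.leaf 12013)))) (.node (.node (.node (.leaf 10807) (.leaf 6328)) (.node (.leaf 6509) (.leaf 14082))) (.node (.node (.leaf 6608) (.leaf 6230)) (.node (.leaf 6415) (.leaf 6049))))) (.node (.node (.node (.node (.leaf 12070) (.leaf 9584)) (.node (.leaf 1815) (.leaf 6162))) (.node (.node (.leaf 10636) (.leaf 6258)) (.node (.leaf 2410) (.leaf 6071)))) (.node (.node (.node (.leaf 9876) (.leaf 6301)) (.node (.leaf 2147) (.leaf 3932))) (.node (.node (.leaf 6584) (.leaf 6211)) (.node (.leaf 10498) (.leaf 6025)))))))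

def twoRank11 : Janko.Tree (ℕ) :=
  (.node (.node (.node (.node (.node (.node (.node (.leaf 9) (.leaf 9976)) (.leaf 12558)) (.node (.leaf 7856) (.leaf 7138))) (.node (.node (.leaf 8018) (.leaf 3262)) (.node (.leaf 2225) (.leaf 6962)))) (.node (.node (.node (.leaf 8104) (.leaf 7408)) (.node (.leaf 7771) (.leaf 7048))) (.node (.node (.leaf 13474) (.leaf 3477)) (.node (.leaf 2494) (.leaf 4059))))) (.node (.node (.node (.node (.leaf 8150) (.leaf 14731)) (.node (.leaf 7811) (.leaf 13126))) (.node (.node (.leaf 7976) (.leaf 7269)) (.node (.leaf 12608) (.leaf 12765)))) (.node (.node (.node (.leaf 636) (.leaf 7367)) (.node (.leaf 7727) (.leaf 13018))) (.node (.node (.leaf 1399) (.leaf 7176)) (.node (.leaf 2643) (.leaf 6821)))))) (.node (.node (.node (.node (.node (.leaf 133) (.leaf 2840)) (.node (.leaf 1657) (.leaf 7118))) (.node (.node (.leaf 13321) (.leaf 7296)) (.node (.leaf 14191) (.leaf 13689)))) (.node (.node (.node (.leaf 540) (.leaf 12349)) (.node (.leaf 1990) (.leaf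 7026))) (.node (.node (.leaf 1306) (.leaf 13949)) (.node (.leaf 2575) (.leaf 12317))))) (.node (.node (.node (.node (.leaf 8127) (.leaf 7432)) (.node (.leaf 1816) (.leaf 12362))) (.node (.node (.leaf 1117) (.leaf 12698)) (.node (.leaf 12434) (.leaf 16368)))) (.node (.node (.node (.leaf 8039) (.leaf 3203)) (.node (.leaf 2148) (.leaf 3933))) (.node (.node (.leaf 1482) (.leaf 3610)) (.node (.leaf 7523) (.leaf 16116)))))))

def twoRank12 : Janko.Tree (ℕ) :=
  (.node (.node (.node (.node (.node (.node (.node (.leaf 8540) (.leaf 9974)) (.leaf 8345)) (.node (.leaf 11763) (.leaf 16072))) (.node (.node (.leaf 829) (.leaf 11400)) (.node (.leaf 9066) (.leaf 15853)))) (.node (.node (.node (.leaf 445) (.leaf 11666)) (.node (.leaf 10179) (.leaf 14159))) (.node (.node (.leaf 4462) (.leaf 11287)) (.node (.leaf 11733) (.leaf 16032))))) (.node (.node (.node (.node (.leaf 246) (.leaf 4281)) (.node (.leaf 10015) (.leaf 8261))) (.node (.node (.leaf 1016) (.leaf 15541)) (.node (.leaf 4346)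 (.leaf 11191)))) (.node (.node (.node (.leaf 13086) (.leaf 3126)) (.node (.leaf 12591) (.leaf 13744))) (.node (.node (.leaf 4445) (.leaf 12662)) (.node (.leaf 4315) (.leaf 15868)))))) (.node (.node (.node (.node (.node (.leaf 8531) (.leaf 11905)) (.node (.leaf 8665) (.leaf 12993))) (.node (.node (.leaf 12841) (.leaf 12511)) (.node (.leaf 12100) (.leaf 12007)))) (.node (.node (.node (.leaf 9186) (.leaf 8730)) (.node (.leaf 8698) (.leaf 4149))) (.node (.node (.leaf 8768) (.leaf 12029)) (.node (.leaf 8599) (.leaf 15462))))) (.node (.node (.node (.node (.leaf 11893) (.leaf 12209)) (.node (.leaf 8368) (.leaf 14677))) (.node (.node (.leaf 10297) (.leaf 13259)) (.node (.leaf 8373) (.leaf 15777)))) (.node (.node (.node (.leaf 731) (.leaf 13127)) (.node (.leaf 13078) (.leaf 12021))) (.node (.node (.leaf 8685) (.leaf 8558)) (.node (.leaf 8353) (.leaf 16118)))))))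

def twoRank13 : Janko.Tree (ℕ) :=
  (.node (.node (.node (.node (.node (.node (.node (.leaf 10) (.leaf 10406)) (.leaf 2760)) (.node (.leaf 5665) (.leaf 4953))) (.node (.node (.leaf 5846) (.leaf 3263)) (.node (.leaf 2226) (.leaf 4764)))) (.node (.node (.node (.leaf 5935) (.leaf 15721)) (.node (.leaf 5577) (.leaf 4862))) (.node (.node (.leaf 1208) (.leaf 10899)) (.node (.leaf 2495) (.leaf 16024))))) (.node (.node (.node (.node (.leaf 5978) (.leaf 2910)) (.node (.leaf 5624) (.leaf 16234))) (.node (.node (.leaf 5801) (.leaf 5091)) (.node (.leaf 11761) (.leaf 4721)))) (.node (.node (.node (.leaf 637) (.leaf 5178)) (.node (.leaf 5534) (.leaf 15409))) (.node (.node (.leaf 1400) (.leaf 5005)) (.node (.leaf 2644) (.leaf 11760)))))) (.node (.node (.node (.node (.node (.leaf 134) (.leaf 2841)) (.node (.leaf 11026) (.leaf 4933))) (.node (.node (.leaf 11162) (.leaf 5113)) (.node (.leaf 2294) (.leaf 10882)))) (.node (.node (.node (.leaf 13830) (.leaf 16047)) (.node (.leaf 1991)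 (.leaf 13266))) (.node (.node (.leaf 12375) (.leaf 3519)) (.node (.leaf 11014) (.leaf 15767))))) (.node (.node (.node (.node (.leaf 348) (.leaf 5250)) (.node (.leaf 1817) (.leaf 4890))) (.node (.node (.leaf 1118) (.leaf 5069)) (.node (.leaf 2411) (.leaf 14657)))) (.node (.node (.node (.leaf 5868) (.leaf 11147)) (.node (.leaf 2149) (.leaf 4790))) (.node (.node (.leaf 11034) (.leaf 14915)) (.node (.leaf 16237) (.leaf 13202)))))))

def twoRank14 : Janko.Tree (ℕ) :=
  (.node (.node (.node (.node (.node (.node (.node (.leaf 6772) (.leaf 9998)) (.leaf 6382)) (.node (.leaf 11766) (.leaf 10860))) (.node (.node (.leaf 830) (.leaf 9524)) (.node (.leaf 10568) (.leaf 10850)))) (.node (.node (.node (.leaf 14239) (.leaf 11664)) (.node (.leaf 1905) (.leaf 14155))) (.node (.node (.leaf 13438) (.leaf 6243)) (.node (.leaf 9672) (.leaf 9225))))) (.node (.node (.node (.node (.leaf 10813) (.leaf 11440)) (.node (.leaf 1732) (.leaf 6171))) (.node (.node (.leaf 1017) (.leaf 15483)) (.node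 (.leaf 10645) (.leaf 11544)))) (.node (.node (.node (.leaf 9888) (.leaf 14002)) (.node (.leaf 2065) (.leaf 6127))) (.node (.node (.leaf 1401) (.leaf 3568)) (.node (.leaf 11342) (.leaf 15447)))))) (.node (.node (.node (.node (.node (.leaf 6757) (.leaf 6369)) (.node (.leaf 9561) (.leaf 3704))) (.node (.node (.leaf 13327) (.leaf 3314)) (.node (.leaf 6462) (.leaf 6093)))) (.node (.node (.node (.leaf 10809) (.leaf 9550)) (.node (.leaf 9639) (.leaf 15118))) (.node (.node (.leaf 9759) (.leaf 6229)) (.node (.leaf 9377) (.leaf 9260))))) (.node (.node (.node (.node (.leaf 9938) (.leaf 2966)) (.node (.leaf 6534) (.leaf 13834))) (.node (.node (.leaf 11849) (.leaf 13257)) (.node (.leaf 6439) (.leaf 9282)))) (.node (.node (.node (.leaf 732) (.leaf 9399)) (.node (.leaf 13062) (.leaf 12018))) (.node (.node (.leaf 9609) (.leaf 9247)) (.node (.leaf 6394) (.leaf 9232)))))))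

def twoRank15 : Janko.Tree (ℕ) :=
  (.node (.node (.node (.node (.node (.node (.node (.leaf 11) (.leaf 9990)) (.leaf 12560)) (.node (.leaf 1570) (.leaf 16059))) (.node (.node (.leaf 831) (.leaf 7321)) (.node (.leaf 7687) (.leaf 16406)))) (.node (.node (.node (.leaf 13331) (.leaf 7407)) (.node (.leaf 1906) (.leaf 14161))) (.node (.node (.leaf 13409) (.leaf 14061)) (.node (.leaf 7596) (.leaf 6868))))) (.node (.node (.node (.node (.leaf 247) (.leaf 2911)) (.node (.leaf 1733) (.leaf 15427))) (.node (.node (.leaf 1018) (.leaf 15210)) (.node (.leaf 2358) (.leaf 15035)))) (.node (.node (.node (.leaf 8059) (.leaf 13013)) (.node (.leaf 12589) (.leaf 13227))) (.node (.node (.leaf 12568) (.leaf 12656)) (.node (.leaf 2645) (.leaf 6820)))))) (.node (.node (.node (.node (.node (.leaf 135) (.leaf 2842)) (.node (.leaf 7834) (.leaf 13700))) (.node (.node (.leaf 7998) (.leaf 13855)) (.node (.leaf 2295) (.leaf 13683)))) (.node (.node (.node (.leaf 8081) (.leaf 7381)) (.node (.leaf 7749)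 (.leaf 15116))) (.node (.node (.leaf 7916) (.leaf 15298)) (.node (.leaf 7575) (.leaf 6843))))) (.node (.node (.node (.node (.leaf 8126) (.leaf 12208)) (.node (.leaf 1818) (.leaf 14675))) (.node (.node (.leaf 7957) (.leaf 14621)) (.node (.leaf 13429) (.leaf 6887)))) (.node (.node (.node (.leaf 733) (.leaf 7347)) (.node (.leaf 7709) (.leaf 3934))) (.node (.node (.leaf 7876) (.leaf 7159)) (.node (.leaf 2707) (.leaf 6799)))))))

def twoRank16 : Janko.Tree (ℕ) :=
  (.node (.node (.node (.node (.node (.node (.node (.leaf 8911) (.leaf 11163)) (.leaf 2761)) (.node (.leaf 11799) (.leaf 8273))) (.node (.node (.leaf 4496) (.leaf 15263)) (.node (.leaf 2227) (.leaf 8935)))) (.node (.node (.node (.leaf 4530) (.leaf 10123)) (.node (.leaf 10009) (.leaf 11318))) (.node (.node (.leaf 12022) (.leaf 8944)) (.node (.leaf 2496) (.leaf 8217))))) (.node (.node (.node (.node (.leaf 8887) (.leaf 11424)) (.node (.leaf 8429) (.leaf 15365))) (.node (.node (.leaf 4480) (.leaf 11508)) (.node (.leaf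 9046) (.leaf 11553)))) (.node (.node (.node (.leaf 13027) (.leaf 10364)) (.node (.leaf 4378) (.leaf 13015))) (.node (.node (.leaf 8406) (.leaf 4196)) (.node (.leaf 11347) (.leaf 15632)))))) (.node (.node (.node (.node (.node (.leaf 8886) (.leaf 10044)) (.node (.leaf 1658) (.leaf 3705))) (.node (.node (.leaf 4488) (.leaf 11352)) (.node (.leaf 12465) (.leaf 13679)))) (.node (.node (.node (.leaf 541) (.leaf 12343)) (.node (.leaf 1992) (.leaf 14815))) (.node (.node (.leaf 1307) (.leaf 12048)) (.node (.leaf 8365) (.leaf 4103))))) (.node (.node (.node (.node (.leaf 349) (.leaf 4275)) (.node (.leaf 8653) (.leaf 12358))) (.node (.node (.leaf 14248) (.leaf 16089)) (.node (.leaf 2412) (.leaf 10054)))) (.node (.node (.node (.leaf 4505) (.leaf 10187)) (.node (.leaf 4369) (.leaf 15800))) (.node (.node (.leaf 10319) (.leaf 12142)) (.node (.leaf 8634) (.leaf 15463)))))))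

def twoRank17 : Janko.Tree (ℕ) :=
  (.node (.node (.node (.node (.node (.node (.node (.leaf 12) (.leaf 11240)) (.leaf 5314)) (.node (.leaf 1571) (.leaf 15806))) (.node (.node (.leaf 832) (.leaf 5134)) (.node (.leaf 5486) (.leaf 3963)))) (.node (.node (.node (.leaf 446) (.leaf 5226)) (.node (.leaf 1907) (.leaf 4861))) (.node (.node (.leaf 1209) (.leaf 3478)) (.node (.leaf 5397) (.leaf 11279))))) (.node (.node (.node (.node (.leaf 13316) (.leaf 10907)) (.node (.leaf 1734) (.leaf 3750))) (.node (.node (.leaf 1019) (.leaf 3368)) (.node (.leaf 13886) (.leaf 16076)))) (.node (.node (.node (.leaf 5891) (.leaf 3127)) (.node (.leaf 2066) (.leaf 10945))) (.node (.node (.leaf 1402) (.leaf 14934)) (.node (.leaf 10902) (.leaf 4617)))))) (.node (.node (.node (.node (.node (.leaf 136) (.leaf 15837)) (.node (.leaf 5643) (.leaf 4932))) (.node (.node (.leaf 930) (.leaf 3315)) (.node (.leaf 12449) (.leaf 16248)))) (.node (.node (.node (.leaf 5914) (.leaf 5204)) (.node (.leaf 5556) (.leaf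 4838))) (.node (.node (.leaf 5734) (.leaf 12224)) (.node (.leaf 11538) (.leaf 4070))))) (.node (.node (.node (.node (.leaf 5957) (.leaf 13031)) (.node (.leaf 11045) (.leaf 3799))) (.node (.node (.leaf 5777) (.leaf 5068)) (.node (.leaf 5424) (.leaf 4037)))) (.node (.node (.node (.leaf 734) (.leaf 5156)) (.node (.leaf 2150) (.leaf 4789))) (.node (.node (.leaf 5688) (.leaf 15047)) (.node (.leaf 2708) (.leaf 10932)))))))

def twoRank18 : Janko.Tree (ℕ) :=
  (.node (.node (.node (.node (.node (.node (.node (.leaf 9969) (.leaf 11212)) (.leaf 12009)) (.node (.leaf 9794) (.leaf 6197))) (.node (.node (.leaf 833) (.leaf 15205)) (.node (.leaf 2228) (.leaf 15169)))) (.node (.node (.node (.leaf 13417) (.leaf 11636)) (.node (.leaf 6522) (.leaf 11346))) (.node (.node (.leaf 12012) (.leaf 13912)) (.node (.leaf 2497) (.leaf 6058))))) (.node (.node (.node (.node (.leaf 9924) (.leaf 6357)) (.node (.leaf 6546) (.leaf 9398))) (.node (.node (.leaf 1020) (.leaf 11501)) (.node (.leaf 10643)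 (.leaf 9298)))) (.node (.node (.node (.leaf 638) (.leaf 11567)) (.node (.leaf 10580) (.leaf 13231))) (.node (.node (.leaf 6596) (.leaf 13916)) (.node (.leaf 6404) (.leaf 16193)))))) (.node (.node (.node (.node (.node (.leaf 9953) (.leaf 9465)) (.node (.leaf 10548) (.leaf 3706))) (.node (.node (.leaf 931) (.leaf 13141)) (.node (.leaf 9573) (.leaf 13687)))) (.node (.node (.node (.leaf 542) (.leaf 3065)) (.node (.leaf 10595) (.leaf 15120))) (.node (.node (.leaf 10683) (.leaf 15292)) (.node (.leaf 6414) (.leaf 15415))))) (.node (.node (.node (.node (.leaf 350) (.leaf 10565)) (.node (.leaf 9531) (.leaf 9382))) (.node (.node (.leaf 14250) (.leaf 13961)) (.node (.leaf 10535) (.leaf 11375)))) (.node (.node (.node (.leaf 735) (.leaf 3204)) (.node (.leaf 2151) (.leaf 16039))) (.node (.node (.leaf 1483) (.leaf 12098)) (.node (.leaf 9485) (.leaf 15461)))))))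

def twoRank19 : Janko.Tree (ℕ) :=
  (.node (.node (.node (.node (.node (.node (.node (.leaf 8193) (.leaf 12154)) (.leaf 13539)) (.node (.leaf 7855) (.leaf 3644))) (.node (.node (.leaf 834) (.leaf 3264)) (.node (.leaf 2229) (.leaf 6961)))) (.node (.node (.node (.leaf 14241) (.leaf 3019)) (.node (.leaf 1908) (.leaf 15398))) (.node (.node (.leaf 7935) (.leaf 7229)) (.node (.leaf 2498) (.leaf 4060))))) (.node (.node (.node (.node (.leaf 8149) (.leaf 14449)) (.node (.leaf 1735) (.leaf 7091))) (.node (.node (.leaf 1021) (.leaf 7268)) (.node (.leaf 7634) (.leaf 6911)))) (.node (.node (.node (.leaf 13006) (.leaf 7366)) (.node (.leaf 2067) (.leaf 7003))) (.node (.node (.leaf 13494) (.leaf 3569)) (.node (.leaf 14221) (.leaf 16195)))))) (.node (.node (.node (.node (.node (.leaf 8172) (.leaf 7482)) (.node (.leaf 1659) (.leaf 3707))) (.node (.node (.leaf 12389) (.leaf 7295)) (.node (.leaf 7662) (.leaf 6936)))) (.node (.node (.node (.leaf 543) (.leaf 12333)) (.node (.leaf 1993)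 (.leaf 14819))) (.node (.node (.leaf 1308) (.leaf 7202)) (.node (.leaf 2576) (.leaf 13009))))) (.node (.node (.node (.node (.leaf 351) (.leaf 2967)) (.node (.leaf 7791) (.leaf 7066))) (.node (.node (.leaf 13405) (.leaf 13968)) (.node (.leaf 13726) (.leaf 6886)))) (.node (.node (.node (.leaf 736) (.leaf 13123)) (.node (.leaf 2152) (.leaf 3935))) (.node (.node (.leaf 12810) (.leaf 7158)) (.node (.leaf 7522) (.leaf 6798)))))))

def twoRank20 : Janko.Tree (ℕ) :=
  (.node (.node (.node (.node (.node (.node (.node (.leaf 13) (.leaf 12196)) (.leaf 10030)) (.node (.leaf 1572) (.leaf 8578))) (.node (.node (.leaf 8458) (.leaf 4238)) (.node (.leaf 4361) (.leaf 16171)))) (.node (.node (.node (.leaf 4529) (.leaf 9051)) (.node (.leaf 10005) (.leaf 16327))) (.node (.node (.leaf 1210) (.leaf 10048)) (.node (.leaf 4330) (.leaf 8551))))) (.node (.node (.node (.node (.leaf 10285) (.leaf 8998)) (.node (.leaf 8724) (.leaf 10185))) (.node (.node (.leaf 8444) (.leaf 16093)) (.node (.leaf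 9107) (.leaf 16084)))) (.node (.node (.node (.leaf 4513) (.leaf 14418)) (.node (.leaf 9074) (.leaf 10341))) (.node (.node (.leaf 12562) (.leaf 8938)) (.node (.leaf 9022) (.leaf 8580)))))) (.node (.node (.node (.node (.node (.leaf 137) (.leaf 2843)) (.node (.leaf 4419) (.leaf 4173))) (.node (.node (.leaf 8450) (.leaf 15928)) (.node (.leaf 12085) (.leaf 10377)))) (.node (.node (.node (.leaf 10293) (.leaf 4262)) (.node (.leaf 8765) (.leaf 3876))) (.node (.node (.leaf 8815) (.leaf 12041)) (.node (.leaf 8648) (.leaf 15603))))) (.node (.node (.node (.node (.leaf 4537) (.leaf 8992)) (.node (.leaf 9995) (.leaf 3800))) (.node (.node (.leaf 14311) (.leaf 12692)) (.node (.leaf 10018) (.leaf 14867)))) (.node (.node (.node (.leaf 8468) (.leaf 8315)) (.node (.leaf 8340) (.leaf 4137))) (.node (.node (.leaf 8447) (.leaf 15908)) (.node (.leaf 2709) (.leaf 15769)))))))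

def twoRank21 : Janko.Tree (ℕ) :=
  (.node (.node (.node (.node (.node (.node (.node (.leaf 6016) (.leaf 12191)) (.leaf 2762)) (.node (.leaf 5664) (.leaf 3645))) (.node (.node (.leaf 835) (.leaf 13867)) (.node (.leaf 13303) (.leaf 4763)))) (.node (.node (.node (.leaf 447) (.leaf 3020)) (.node (.leaf 1909) (.leaf 4860))) (.node (.node (.leaf 5756) (.leaf 5048)) (.node (.leaf 2499) (.leaf 15587))))) (.node (.node (.node (.node (.leaf 248) (.leaf 2912)) (.node (.leaf 1736) (.leaf 13725))) (.node (.node (.leaf 1022) (.leaf 5090)) (.node (.leaf 2359) (.leaf 4720)))) (.node (.node (.node (.leaf 639) (.leaf 5177)) (.node (.leaf 14021) (.leaf 4816))) (.node (.node (.leaf 11158) (.leaf 13913)) (.node (.leaf 15707) (.leaf 15693)))))) (.node (.node (.node (.node (.node (.leaf 5997) (.leaf 5290)) (.node (.leaf 13921) (.leaf 3708))) (.node (.node (.leaf 932) (.leaf 5112)) (.node (.leaf 5464) (.leaf 4740)))) (.node (.node (.node (.leaf 544) (.leaf 15836)) (.node (.leaf 13351) (.leaf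 4837))) (.node (.node (.leaf 13512) (.leaf 5030)) (.node (.leaf 2577) (.leaf 15413))))) (.node (.node (.node (.node (.leaf 352) (.leaf 14390)) (.node (.leaf 5600) (.leaf 4889))) (.node (.node (.leaf 5776) (.leaf 3412)) (.node (.leaf 2413) (.leaf 4695)))) (.node (.node (.node (.leaf 737) (.leaf 13721)) (.node (.leaf 2153) (.leaf 13638))) (.node (.node (.leaf 1484) (.leaf 4976)) (.node (.leaf 5336) (.leaf 13196)))))))

def twoRank22 : Janko.Tree (ℕ) :=
  (.node (.node (.node (.node (.node (.node (.node (.leaf 14) (.leaf 9996)) (.leaf 6381)) (.node (.leaf 1573) (.leaf 9319))) (.node (.node (.leaf 6671) (.leaf 3265)) (.node (.leaf 2230) (.leaf 10863)))) (.node (.node (.node (.leaf 12115) (.leaf 11678)) (.node (.leaf 9655) (.leaf 15402))) (.node (.node (.leaf 1211) (.leaf 11301)) (.node (.leaf 2500) (.leaf 9223))))) (.node (.node (.node (.node (.leaf 6742) (.leaf 14442)) (.node (.leaf 9681) (.leaf 6170))) (.node (.node (.leaf 6646) (.leaf 3369)) (.node (.leaf 10642) (.leaf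 14243)))) (.node (.node (.node (.leaf 11795) (.leaf 14407)) (.node (.leaf 14040) (.leaf 15507))) (.node (.node (.leaf 13496) (.leaf 14064)) (.node (.leaf 14523) (.leaf 9242)))))) (.node (.node (.node (.node (.node (.leaf 10818) (.leaf 2844)) (.node (.leaf 1660) (.leaf 11228))) (.node (.node (.leaf 6658) (.leaf 13765)) (.node (.leaf 12106) (.leaf 3978)))) (.node (.node (.node (.leaf 9900) (.leaf 14372)) (.node (.leaf 9638) (.leaf 15581))) (.node (.node (.leaf 9758) (.leaf 11968)) (.node (.leaf 9521) (.leaf 6048))))) (.node (.node (.node (.node (.leaf 353) (.leaf 10563)) (.node (.leaf 1819) (.leaf 13450))) (.node (.node (.leaf 14264) (.leaf 6257)) (.node (.leaf 6438) (.leaf 14871)))) (.node (.node (.node (.leaf 6683) (.leaf 6300)) (.node (.leaf 6485) (.leaf 3936))) (.node (.node (.leaf 6583) (.leaf 16017)) (.node (.leaf 13403) (.leaf 9230)))))))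

def twoRank23 : Janko.Tree (ℕ) :=
  (.node (.node (.node (.node (.node (.node (.node (.leaf 15) (.leaf 9978)) (.leaf 12580)) (.node (.leaf 1574) (.leaf 7137))) (.node (.node (.leaf 836) (.leaf 12360)) (.node (.leaf 12663) (.leaf 16163)))) (.node (.node (.node (.leaf 448) (.leaf 7406)) (.node (.leaf 7770) (.leaf 15435))) (.node (.node (.leaf 1212) (.leaf 13943)) (.node (.leaf 13116) (.leaf 6867))))) (.node (.node (.node (.node (.leaf 249) (.leaf 7459)) (.node (.leaf 7810) (.leaf 15431))) (.node (.node (.leaf 1023) (.leaf 3370)) (.node (.leaf 7633) (.leaf 12471)))) (.node (.node (.node (.leaf 640) (.leaf 13702)) (.node (.leaf 7726) (.leaf 15305))) (.node (.node (.leaf 7895) (.leaf 7175)) (.node (.leaf 7549) (.leaf 6819)))))) (.node (.node (.node (.node (.node (.leaf 138) (.leaf 2845)) (.node (.leaf 1661) (.leaf 13532))) (.node (.node (.leaf 13578) (.leaf 13769)) (.node (.leaf 2296) (.leaf 3979)))) (.node (.node (.node (.leaf 8080) (.leaf 3066)) (.node (.leaf 7748) (.leaf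 15575))) (.node (.node (.leaf 7915) (.leaf 3520)) (.node (.leaf 7574) (.leaf 14513))))) (.node (.node (.node (.node (.leaf 354) (.leaf 7431)) (.node (.leaf 1820) (.leaf 3801))) (.node (.node (.leaf 14309) (.leaf 13970)) (.node (.leaf 2414) (.leaf 15065)))) (.node (.node (.node (.leaf 738) (.leaf 15371)) (.node (.leaf 2154) (.leaf 14781))) (.node (.node (.leaf 12812) (.leaf 3611)) (.node (.leaf 2710) (.leaf 6797)))))))

def twoRank24 : Janko.Tree (ℕ) :=
  (.node (.node (.node (.node (.node (.node (.node (.leaf 8539) (.leaf 10418)) (.leaf 2763)) (.node (.leaf 4427) (.leaf 16041))) (.node (.node (.leaf 8767) (.leaf 8260)) (.node (.leaf 8334) (.leaf 15594)))) (.node (.node (.node (.leaf 12109) (.leaf 3021)) (.node (.leaf 4393) (.leaf 11919))) (.node (.node (.leaf 4461) (.leaf 13977)) (.node (.leaf 8316) (.leaf 8569))))) (.node (.node (.node (.node (.leaf 10283) (.leaf 10079)) (.node (.leaf 1737) (.leaf 15367))) (.node (.node (.leaf 8745) (.leaf 15192)) (.node (.leaf 2360)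 (.leaf 14363)))) (.node (.node (.node (.leaf 11785) (.leaf 4254)) (.node (.leaf 11579) (.leaf 14030))) (.node (.node (.leaf 4444) (.leaf 14944)) (.node (.leaf 10274) (.leaf 12284)))))) (.node (.node (.node (.node (.node (.leaf 8901) (.leaf 15003)) (.node (.leaf 8384) (.leaf 11233))) (.node (.node (.leaf 12385) (.leaf 15922)) (.node (.leaf 8796) (.leaf 4125)))) (.node (.node (.node (.leaf 13024) (.leaf 8978)) (.node (.leaf 4385) (.leaf 13169))) (.node (.node (.leaf 10121) (.leaf 8688)) (.node (.leaf 2578) (.leaf 13020))))) (.node (.node (.node (.node (.leaf 8500) (.leaf 13025)) (.node (.leaf 8421) (.leaf 14961))) (.node (.node (.leaf 4471) (.leaf 16443)) (.node (.leaf 12547) (.leaf 4114)))) (.node (.node (.node (.leaf 8781) (.leaf 15359)) (.node (.leaf 8623) (.leaf 8212))) (.node (.node (.leaf 1485) (.leaf 16098)) (.node (.leaf 8699) (.leaf 15414)))))))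

def twoRank25 : Janko.Tree (ℕ) :=
  (.node (.node (.node (.node (.node (.node (.node (.leaf 16) (.leaf 9988)) (.leaf 5313)) (.node (.leaf 1575) (.leaf 4952))) (.node (.node (.leaf 11068) (.leaf 3266)) (.node (.leaf 2231) (.leaf 14636)))) (.node (.node (.node (.leaf 10832) (.leaf 5225)) (.node (.leaf 1910) (.leaf 16256))) (.node (.node (.leaf 1213) (.leaf 5047)) (.node (.leaf 15233) (.leaf 13205))))) (.node (.node (.node (.node (.leaf 250) (.leaf 5269)) (.node (.leaf 5623) (.leaf 4914))) (.node (.node (.leaf 11058) (.leaf 11145)) (.node (.leaf 5446) (.leaf 4719)))) (.node (.node (.node (.leaf 10801) (.leaf 3128)) (.node (.leaf 5533) (.leaf 15708))) (.node (.node (.leaf 1403) (.leaf 5004)) (.node (.leaf 5354) (.leaf 4616)))))) (.node (.node (.node (.node (.node (.leaf 139) (.leaf 5289)) (.node (.leaf 1662) (.leaf 10886))) (.node (.node (.leaf 11035) (.leaf 3316)) (.node (.leaf 2297) (.leaf 3980)))) (.node (.node (.node (.leaf 5913) (.leaf 14305)) (.node (.leaf 13613)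 (.leaf 4836))) (.node (.node (.leaf 1309) (.leaf 3521)) (.node (.leaf 5375) (.leaf 10944))))) (.node (.node (.node (.node (.leaf 355) (.leaf 5249)) (.node (.leaf 1821) (.leaf 13458))) (.node (.node (.leaf 1119) (.leaf 5067)) (.node (.leaf 2415) (.leaf 14855)))) (.node (.node (.node (.leaf 11049) (.leaf 3205)) (.node (.leaf 11033) (.leaf 12226))) (.node (.node (.leaf 5687) (.leaf 12468)) (.node (.leaf 13357) (.leaf 4591)))))))

def twoRank26 : Janko.Tree (ℕ) :=
  (.node (.node (.node (.node (.node (.node (.node (.leaf 6771) (.leaf 10411)) (.leaf 2764)) (.node (.leaf 1576) (.leaf 10867))) (.node (.node (.leaf 9757) (.leaf 6289)) (.node (.leaf 6472) (.leaf 9328)))) (.node (.node (.node (.leaf 6718) (.leaf 13402)) (.node (.leaf 1911) (.leaf 11909))) (.node (.node (.leaf 1214) (.leaf 13910)) (.node (.leaf 6427) (.leaf 9222))))) (.node (.node (.node (.node (.leaf 9921) (.leaf 11412)) (.node (.leaf 10536) (.leaf 14269))) (.node (.node (.leaf 9721) (.leaf 15248)) (.node (.leaf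 14095) (.leaf 15217)))) (.node (.node (.node (.leaf 6695) (.leaf 15157)) (.node (.leaf 11561) (.leaf 6126))) (.node (.node (.leaf 1404) (.leaf 3570)) (.node (.leaf 2646) (.leaf 15135)))))) (.node (.node (.node (.node (.node (.leaf 9952) (.leaf 2846)) (.node (.leaf 6558) (.leaf 6183))) (.node (.node (.leaf 13587) (.leaf 6278)) (.node (.leaf 9708) (.leaf 11218)))) (.node (.node (.node (.leaf 545) (.leaf 14371)) (.node (.leaf 10594) (.leaf 15668))) (.node (.node (.leaf 6607) (.leaf 9446)) (.node (.leaf 10521) (.leaf 13225))))) (.node (.node (.node (.node (.leaf 6730) (.leaf 15297)) (.node (.leaf 6533) (.leaf 9380))) (.node (.node (.leaf 1120) (.leaf 13940)) (.node (.leaf 9545) (.leaf 15722)))) (.node (.node (.node (.leaf 9775) (.leaf 9538)) (.node (.leaf 9447) (.leaf 6115))) (.node (.node (.leaf 10578) (.leaf 6210)) (.node (.leaf 9484) (.leaf 15608)))))))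

def twoRank27 : Janko.Tree (ℕ) :=
  (.node (.node (.node (.node (.node (.node (.node (.leaf 17) (.leaf 13193)) (.leaf 2765)) (.node (.leaf 12646) (.leaf 16161))) (.node (.node (.leaf 8017) (.leaf 3267)) (.node (.leaf 2232) (.leaf 6960)))) (.node (.node (.node (.leaf 449) (.leaf 12929)) (.node (.leaf 1912) (.leaf 7047))) (.node (.node (.leaf 12728) (.leaf 12849)) (.node (.leaf 2501) (.leaf 6866))))) (.node (.node (.node (.node (.leaf 8148) (.leaf 2913)) (.node (.leaf 1738) (.leaf 14267))) (.node (.node (.leaf 7975) (.leaf 7267)) (.node (.leaf 12939) (.leaf 13463)))) (.node (.node (.node (.leaf 641) (.leaf 13191)) (.node (.leaf 2068) (.leaf 16447))) (.node (.node (.leaf 12391) (.leaf 3571)) (.node (.leaf 2647) (.leaf 12187)))))) (.node (.node (.node (.node (.node (.leaf 8171) (.leaf 2847)) (.node (.leaf 1663) (.leaf 13536))) (.node (.node (.leaf 7997) (.leaf 13754)) (.node (.leaf 7661) (.leaf 15662)))) (.node (.node (.node (.leaf 13083) (.leaf 7380)) (.node (.leaf 1994)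 (.leaf 13167))) (.node (.node (.leaf 12871) (.leaf 7201)) (.node (.leaf 2579) (.leaf 6842))))) (.node (.node (.node (.node (.leaf 356) (.leaf 15293)) (.node (.leaf 1822) (.leaf 7065))) (.node (.node (.leaf 1121) (.leaf 13894)) (.node (.leaf 7613) (.leaf 15819)))) (.node (.node (.node (.leaf 8038) (.leaf 7346)) (.node (.leaf 7708) (.leaf 15190))) (.node (.node (.leaf 1486) (.leaf 3612)) (.node (.leaf 7521) (.leaf 15059)))))))

def twoRank28 : Janko.Tree (ℕ) :=
  (.node (.node (.node (.node (.node (.node (.node (.leaf 8912) (.leaf 13220)) (.leaf 4299)) (.node (.leaf 8392) (.leaf 8611))) (.node (.node (.leaf 10107) (.leaf 12356)) (.node (.leaf 12655) (.leaf 4131)))) (.node (.node (.node (.leaf 9190) (.leaf 10129)) (.node (.leaf 8360) (.leaf 16130))) (.node (.node (.leaf 8424) (.leaf 11303)) (.node (.leaf 13118) (.leaf 15199))))) (.node (.node (.node (.node (.leaf 251) (.leaf 9067)) (.node (.leaf 8783) (.leaf 15446))) (.node (.node (.leaf 1024) (.leaf 8303)) (.node (.leaf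 4345) (.leaf 15033)))) (.node (.node (.node (.leaf 9178) (.leaf 11559)) (.node (.leaf 10366) (.leaf 13149))) (.node (.node (.leaf 8404) (.leaf 12668)) (.node (.leaf 9087) (.leaf 4100)))))) (.node (.node (.node (.node (.node (.leaf 10329) (.leaf 14840)) (.node (.leaf 8663) (.leaf 14190))) (.node (.node (.leaf 10047) (.leaf 12062)) (.node (.leaf 4354) (.leaf 11213)))) (.node (.node (.node (.leaf 4521) (.leaf 3067)) (.node (.leaf 9080) (.leaf 12693))) (.node (.node (.leaf 1310) (.leaf 4201)) (.node (.leaf 8715) (.leaf 10340))))) (.node (.node (.node (.node (.leaf 8833) (.leaf 9061)) (.node (.leaf 8718) (.leaf 15081))) (.node (.node (.leaf 8434) (.leaf 16091)) (.node (.leaf 2416) (.leaf 14593)))) (.node (.node (.node (.leaf 10350) (.leaf 10186)) (.node (.leaf 12059) (.leaf 14779))) (.node (.node (.leaf 12822) (.leaf 15746)) (.node (.leaf 8766) (.leaf 16322)))))))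

def twoRank29 : Janko.Tree (ℕ) :=
  (.node (.node (.node (.node (.node (.node (.node (.leaf 18) (.leaf 13217)) (.leaf 2766)) (.node (.leaf 1577) (.leaf 14634))) (.node (.node (.leaf 5845) (.leaf 11128)) (.node (.leaf 10997) (.leaf 13226)))) (.node (.node (.node (.leaf 450) (.leaf 3022)) (.node (.leaf 1913) (.leaf 4859))) (.node (.node (.leaf 1215) (.leaf 3479)) (.node (.leaf 11148) (.leaf 10948))))) (.node (.node (.node (.node (.leaf 5977) (.leaf 2914)) (.node (.leaf 13486) (.leaf 3751))) (.node (.node (.leaf 5800) (.leaf 13864)) (.node (.leaf 13996) (.leaf 16333)))) (.node (.node (.node (.leaf 642) (.leaf 5176)) (.node (.leaf 16397) (.leaf 3911))) (.node (.node (.leaf 1405) (.leaf 3572)) (.node (.leaf 15228) (.leaf 4079)))))) (.node (.node (.node (.node (.node (.leaf 140) (.leaf 2848)) (.node (.leaf 11053) (.leaf 15125))) (.node (.node (.leaf 5822) (.leaf 3317)) (.node (.leaf 2298) (.leaf 10887)))) (.node (.node (.node (.leaf 546) (.leaf 5203)) (.node (.leaf 1995)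 (.leaf 14977))) (.node (.node (.leaf 5733) (.leaf 3522)) (.node (.leaf 13449) (.leaf 4644))))) (.node (.node (.node (.node (.leaf 11083) (.leaf 2968)) (.node (.leaf 12380) (.leaf 13448))) (.node (.node (.leaf 1122) (.leaf 5066)) (.node (.leaf 5423) (.leaf 4694)))) (.node (.node (.node (.leaf 5867) (.leaf 15231)) (.node (.leaf 5507) (.leaf 10943))) (.node (.node (.leaf 1487) (.leaf 11112)) (.node (.leaf 2711) (.leaf 4590)))))))

def twoRank30 : Janko.Tree (ℕ) :=
  (.node (.node (.node (.node (.node (.node (.node (.leaf 9971) (.leaf 11238)) (.leaf 11973)) (.node (.leaf 6571) (.leaf 9318))) (.node (.node (.leaf 837) (.leaf 9383)) (.node (.leaf 9591) (.leaf 15469)))) (.node (.node (.node (.leaf 9877) (.leaf 11639)) (.node (.leaf 6521) (.leaf 3841))) (.node (.node (.leaf 6621) (.leaf 6242)) (.node (.leaf 9539) (.leaf 15261))))) (.node (.node (.node (.node (.leaf 252) (.leaf 11446)) (.node (.leaf 9680) (.leaf 9396))) (.node (.node (.leaf 10660) (.leaf 6270)) (.node (.leaf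 2361) (.leaf 15037)))) (.node (.node (.node (.leaf 9843) (.leaf 11580)) (.node (.leaf 9738) (.leaf 16299))) (.node (.node (.leaf 6595) (.leaf 6222)) (.node (.leaf 10606) (.leaf 12019)))))) (.node (.node (.node (.node (.node (.leaf 6756) (.leaf 6368)) (.node (.leaf 9557) (.leaf 13530))) (.node (.node (.leaf 933) (.leaf 6277)) (.node (.leaf 12083) (.leaf 6092)))) (.node (.node (.node (.leaf 11836) (.leaf 15592)) (.node (.leaf 10596) (.leaf 6138))) (.node (.node (.leaf 1311) (.leaf 12037)) (.node (.leaf 9520) (.leaf 15303))))) (.node (.node (.node (.node (.leaf 9853) (.leaf 10562)) (.node (.leaf 9671) (.leaf 10696))) (.node (.node (.leaf 6633) (.leaf 14107)) (.node (.leaf 2417) (.leaf 13757)))) (.node (.node (.node (.leaf 739) (.leaf 6299)) (.node (.leaf 2155) (.leaf 15474))) (.node (.node (.leaf 9800) (.leaf 9327)) (.node (.leaf 9636) (.leaf 13547)))))))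

def twoRank31 : Janko.Tree (ℕ) :=
  (.node (.node (.node (.node (.node (.node (.node (.leaf 8192) (.leaf 11234)) (.leaf 16452)) (.node (.leaf 1578) (.leaf 7136))) (.node (.node (.leaf 12867) (.leaf 7320)) (.node (.leaf 7686) (.leaf 12206)))) (.node (.node (.node (.leaf 8103) (.leaf 7405)) (.node (.leaf 1914) (.leaf 3842))) (.node (.node (.leaf 1216) (.leaf 3480)) (.node (.leaf 7595) (.leaf 6865))))) (.node (.node (.node (.node (.leaf 253) (.leaf 7458)) (.node (.leaf 7809) (.leaf 7090))) (.node (.node (.leaf 1025) (.leaf 12501)) (.node (.leaf 12617) (.leaf 6910)))) (.node (.node (.node (.leaf 8058) (.leaf 3129)) (.node (.leaf 7725) (.leaf 7002))) (.node (.node (.leaf 13586) (.leaf 12664)) (.node (.leaf 7548) (.leaf 16339)))))) (.node (.node (.node (.node (.node (.leaf 141) (.leaf 2849)) (.node (.leaf 7833) (.leaf 7117))) (.node (.node (.leaf 934) (.leaf 15286)) (.node (.leaf 2299) (.leaf 13705)))) (.node (.node (.node (.leaf 547) (.leaf 15333)) (.node (.leaf 7747)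 (.leaf 12691))) (.node (.node (.leaf 1312) (.leaf 14761)) (.node (.leaf 7573) (.leaf 15319))))) (.node (.node (.node (.node (.leaf 8125) (.leaf 7430)) (.node (.leaf 7790) (.leaf 7064))) (.node (.node (.leaf 1123) (.leaf 13951)) (.node (.leaf 2418) (.leaf 13545)))) (.node (.node (.node (.leaf 13011) (.leaf 3206)) (.node (.leaf 2156) (.leaf 6980))) (.node (.node (.leaf 7875) (.leaf 7157)) (.node (.leaf 7520) (.leaf 13764)))))))

def twoRank32 : Janko.Tree (ℕ) :=
  (.node (.node (.node (.node (.node (.node (.node (.leaf 4561) (.leaf 11209)) (.leaf 11991)) (.node (.leaf 12644) (.leaf 4183))) (.node (.node (.leaf 8485) (.leaf 14992)) (.node (.leaf 10399) (.leaf 12194)))) (.node (.node (.node (.leaf 451) (.leaf 14330)) (.node (.leaf 8643) (.leaf 4155))) (.node (.node (.leaf 12722) (.leaf 14131)) (.node (.leaf 10184) (.leaf 15753))))) (.node (.node (.node (.node (.leaf 8902) (.leaf 2915)) (.node (.leaf 10369) (.leaf 13120))) (.node (.node (.leaf 11768) (.leaf 14667)) (.node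 (.leaf 8326) (.leaf 14205)))) (.node (.node (.node (.leaf 643) (.leaf 11603)) (.node (.leaf 12554) (.leaf 13563))) (.node (.node (.leaf 12387) (.leaf 8993)) (.node (.leaf 2648) (.leaf 12023)))))) (.node (.node (.node (.node (.node (.leaf 10357) (.leaf 14844)) (.node (.leaf 8437) (.leaf 10197))) (.node (.node (.leaf 8479) (.leaf 12069)) (.node (.leaf 9054) (.leaf 15644)))) (.node (.node (.node (.leaf 11832) (.leaf 13297)) (.node (.leaf 1996) (.leaf 16050))) (.node (.node (.leaf 4453) (.leaf 14670)) (.node (.leaf 4322) (.leaf 13152))))) (.node (.node (.node (.node (.leaf 10157) (.leaf 2969)) (.node (.leaf 1823) (.leaf 3802))) (.node (.node (.leaf 8725) (.leaf 10347)) (.node (.leaf 8784) (.leaf 13806)))) (.node (.node (.node (.leaf 8491) (.leaf 13125)) (.node (.leaf 8399) (.leaf 14171))) (.node (.node (.leaf 4435) (.leaf 15754)) (.node (.leaf 12487) (.leaf 16150)))))))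

def twoRank33 : Janko.Tree (ℕ) :=
  (.node (.node (.node (.node (.node (.node (.node (.leaf 19) (.leaf 12193)) (.leaf 2767)) (.node (.leaf 10994) (.leaf 14271))) (.node (.node (.leaf 838) (.leaf 3268)) (.node (.leaf 2233) (.leaf 11621)))) (.node (.node (.node (.leaf 5934) (.leaf 5224)) (.node (.leaf 11041) (.leaf 13506))) (.node (.node (.leaf 11048) (.leaf 15354)) (.node (.leaf 5396) (.leaf 14656))))) (.node (.node (.node (.node (.leaf 254) (.leaf 5268)) (.node (.leaf 1739) (.leaf 4913))) (.node (.node (.leaf 1026) (.leaf 5089)) (.node (.leaf 2362) (.leaf 4718)))) (.node (.node (.node (.leaf 5890) (.leaf 15660)) (.node (.leaf 5532) (.leaf 4815))) (.node (.node (.leaf 11036) (.leaf 3573)) (.node (.leaf 5353) (.leaf 10881)))))) (.node (.node (.node (.node (.node (.leaf 142) (.leaf 10973)) (.node (.leaf 11757) (.leaf 4931))) (.node (.node (.leaf 935) (.leaf 12237)) (.node (.leaf 14193) (.leaf 15650)))) (.node (.node (.node (.leaf 10827) (.leaf 3068)) (.node (.leaf 5555)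 (.leaf 3877))) (.node (.node (.leaf 1313) (.leaf 13668)) (.node (.leaf 13616) (.leaf 4643))))) (.node (.node (.node (.node (.leaf 5956) (.leaf 5248)) (.node (.leaf 5599) (.leaf 4888))) (.node (.node (.leaf 11075) (.leaf 3413)) (.node (.leaf 2419) (.leaf 4693)))) (.node (.node (.node (.leaf 740) (.leaf 3207)) (.node (.leaf 2157) (.leaf 14773))) (.node (.node (.leaf 1488) (.leaf 11133)) (.node (.leaf 5335) (.leaf 4589)))))))

def twoRank34 : Janko.Tree (ℕ) :=
  (.node (.node (.node (.node (.node (.node (.node (.leaf 20) (.leaf 12188)) (.leaf 6380)) (.node (.leaf 9719) (.leaf 15152))) (.node (.node (.leaf 6670) (.leaf 6288)) (.node (.leaf 11793) (.leaf 15136)))) (.node (.node (.node (.leaf 452) (.leaf 14323)) (.node (.leaf 9501) (.leaf 3843))) (.node (.node (.leaf 9767) (.leaf 9347)) (.node (.leaf 2502) (.leaf 9278))))) (.node (.node (.node (.node (.leaf 9950) (.leaf 14440)) (.node (.leaf 6545) (.leaf 3752))) (.node (.node (.leaf 6645) (.leaf 13960)) (.node (.leaf 6452)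 (.leaf 14207)))) (.node (.node (.node (.leaf 644) (.leaf 9542)) (.node (.leaf 2069) (.leaf 3912))) (.node (.node (.leaf 13589) (.leaf 10569)) (.node (.leaf 14125) (.leaf 6037)))))) (.node (.node (.node (.node (.node (.leaf 9949) (.leaf 9463)) (.node (.leaf 6557) (.leaf 3709))) (.node (.node (.leaf 6657) (.leaf 15278)) (.node (.leaf 14199) (.leaf 13709)))) (.node (.node (.node (.leaf 6706) (.leaf 6327)) (.node (.leaf 1997) (.leaf 6137))) (.node (.node (.leaf 10682) (.leaf 13644)) (.node (.leaf 10520) (.leaf 16146))))) (.node (.node (.node (.node (.leaf 357) (.leaf 14405)) (.node (.leaf 10619) (.leaf 14345))) (.node (.node (.leaf 9689) (.leaf 6256)) (.node (.leaf 9678) (.leaf 15803)))) (.node (.node (.node (.leaf 6682) (.leaf 9397)) (.node (.leaf 6484) (.leaf 14739))) (.node (.node (.leaf 1489) (.leaf 16037)) (.node (.leaf 2712) (.leaf 13772)))))))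

def twoRank35 : Janko.Tree (ℕ) :=
  (.node (.node (.node (.node (.node (.node (.node (.leaf 21) (.leaf 12181)) (.leaf 12366)) (.node (.leaf 7854) (.leaf 12204))) (.node (.node (.leaf 12885) (.leaf 3269)) (.node (.leaf 7685) (.leaf 6959)))) (.node (.node (.node (.leaf 453) (.leaf 14321)) (.node (.leaf 7769) (.leaf 3844))) (.node (.node (.leaf 7934) (.leaf 7228)) (.node (.leaf 2503) (.leaf 6864))))) (.node (.node (.node (.node (.leaf 8147) (.leaf 12860)) (.node (.leaf 1740) (.leaf 14362))) (.node (.node (.leaf 1027) (.leaf 14685)) (.node (.leaf 2363) (.leaf 14203)))) (.node (.node (.node (.leaf 645) (.leaf 7365)) (.node (.leaf 12548) (.leaf 13154))) (.node (.node (.leaf 7894) (.leaf 7174)) (.node (.leaf 14117) (.leaf 13212)))))) (.node (.node (.node (.node (.node (.leaf 8170) (.leaf 7481)) (.node (.leaf 1664) (.leaf 3710))) (.node (.node (.leaf 936) (.leaf 7294)) (.node (.leaf 7660) (.leaf 6935)))) (.node (.node (.node (.leaf 548) (.leaf 12344)) (.node (.leaf 1998)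 (.leaf 3878))) (.node (.node (.leaf 1314) (.leaf 7200)) (.node (.leaf 2580) (.leaf 13147))))) (.node (.node (.node (.node (.leaf 13088) (.leaf 13008)) (.node (.leaf 1824) (.leaf 12766))) (.node (.node (.leaf 7956) (.leaf 12556)) (.node (.leaf 7612) (.leaf 16176)))) (.node (.node (.node (.leaf 12980) (.leaf 7345)) (.node (.leaf 2158) (.leaf 6979))) (.node (.node (.leaf 1490) (.leaf 7156)) (.node (.leaf 12479) (.leaf 12407)))))))

def twoRank36 : Janko.Tree (ℕ) :=
  (.node (.node (.node (.node (.node (.node (.node (.leaf 8538) (.leaf 11202)) (.leaf 11266)) (.node (.leaf 10162) (.leaf 12202))) (.node (.node (.leaf 839) (.leaf 14943)) (.node (.leaf 2234) (.leaf 16151)))) (.node (.node (.node (.leaf 4528) (.leaf 4269)) (.node (.leaf 10275) (.leaf 8218))) (.node (.node (.leaf 1217) (.leaf 11302)) (.node (.leaf 13114) (.leaf 8598))))) (.node (.node (.node (.node (.leaf 12965) (.leaf 11409)) (.node (.leaf 10323) (.leaf 13133))) (.node (.node (.leaf 10401) (.leaf 12497)) (.node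 (.leaf 12607) (.leaf 14847)))) (.node (.node (.node (.leaf 12975) (.leaf 3130)) (.node (.leaf 14411) (.leaf 15979))) (.node (.node (.leaf 10025) (.leaf 15416)) (.node (.leaf 11915) (.leaf 16345)))))) (.node (.node (.node (.node (.node (.leaf 143) (.leaf 14952)) (.node (.leaf 8732) (.leaf 4172))) (.node (.node (.leaf 8806) (.leaf 12058)) (.node (.leaf 11628) (.leaf 10021)))) (.node (.node (.node (.leaf 9184) (.leaf 9043)) (.node (.leaf 4384) (.leaf 15702))) (.node (.node (.leaf 9136) (.leaf 11253)) (.node (.leaf 9032) (.leaf 16277))))) (.node (.node (.node (.node (.leaf 8513) (.leaf 14487)) (.node (.leaf 8777) (.leaf 8650))) (.node (.node (.leaf 10219) (.leaf 3414)) (.node (.leaf 12561) (.leaf 16306)))) (.node (.node (.node (.leaf 741) (.leaf 13112)) (.node (.leaf 8686) (.leaf 10317))) (.node (.node (.leaf 8398) (.leaf 8277)) (.node (.leaf 4306) (.leaf 14703)))))))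

def twoRank37 : Janko.Tree (ℕ) :=
  (.node (.node (.node (.node (.node (.node (.node (.leaf 22) (.leaf 11179)) (.leaf 5312)) (.node (.leaf 5663) (.leaf 11622))) (.node (.node (.leaf 5844) (.leaf 10984)) (.node (.leaf 5485) (.leaf 4762)))) (.node (.node (.node (.leaf 454) (.leaf 3023)) (.node (.leaf 5576) (.leaf 12373))) (.node (.node (.leaf 5755) (.leaf 3481)) (.node (.leaf 2504) (.leaf 15197))))) (.node (.node (.node (.node (.leaf 5976) (.leaf 2916)) (.node (.leaf 1741) (.leaf 3753))) (.node (.node (.leaf 1028) (.leaf 3371)) (.node (.leaf 11023) (.leaf 4717)))) (.node (.node (.node (.leaf 646) (.leaf 5175)) (.node (.leaf 2070) (.leaf 3913))) (.node (.node (.leaf 5710) (.leaf 5003)) (.node (.leaf 2649) (.leaf 16231)))))) (.node (.node (.node (.node (.node (.leaf 5996) (.leaf 5288)) (.node (.leaf 1665) (.leaf 3711))) (.node (.node (.leaf 937) (.leaf 5111)) (.node (.leaf 5463) (.leaf 4739)))) (.node (.node (.node (.leaf 549) (.leaf 3069)) (.node (.leaf 13828) (.leaf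 11478))) (.node (.node (.leaf 1315) (.leaf 5029)) (.node (.leaf 2581) (.leaf 16001))))) (.node (.node (.node (.node (.leaf 358) (.leaf 15126)) (.node (.leaf 13516) (.leaf 16109))) (.node (.node (.leaf 5775) (.leaf 5065)) (.node (.leaf 5422) (.leaf 4038)))) (.node (.node (.node (.leaf 5866) (.leaf 5155)) (.node (.leaf 12232) (.leaf 4788))) (.node (.node (.leaf 1491) (.leaf 11286)) (.node (.leaf 11697) (.leaf 4588)))))))

def twoRank38 : Janko.Tree (ℕ) :=
  (.node (.node (.node (.node (.node (.node (.node (.leaf 6770) (.leaf 11177)) (.leaf 11278)) (.node (.leaf 1579) (.leaf 15421))) (.node (.node (.leaf 10688) (.leaf 9381)) (.node (.leaf 2235) (.leaf 15448)))) (.node (.node (.node (.leaf 455) (.leaf 14340)) (.node (.leaf 1915) (.leaf 6150))) (.node (.node (.leaf 1218) (.leaf 13939)) (.node (.leaf 12968) (.leaf 9274))))) (.node (.node (.node (.node (.leaf 255) (.leaf 6356)) (.node (.leaf 9677) (.leaf 6169))) (.node (.node (.leaf 9795) (.leaf 9490)) (.node (.leaf 9555)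 (.leaf 10844)))) (.node (.node (.node (.leaf 6694) (.leaf 3131)) (.node (.leaf 11581) (.leaf 9350))) (.node (.node (.leaf 1406) (.leaf 15310)) (.node (.leaf 6403) (.leaf 13209)))))) (.node (.node (.node (.node (.node (.leaf 144) (.leaf 10767)) (.node (.leaf 9701) (.leaf 11543))) (.node (.node (.leaf 9807) (.leaf 11890)) (.node (.leaf 11635) (.leaf 11222)))) (.node (.node (.node (.leaf 9857) (.leaf 10633)) (.node (.leaf 1999) (.leaf 9273))) (.node (.node (.leaf 10684) (.leaf 11260)) (.node (.leaf 10522) (.leaf 6047))))) (.node (.node (.node (.node (.leaf 6729) (.leaf 6346)) (.node (.leaf 9670) (.leaf 9376))) (.node (.node (.leaf 1124) (.leaf 3415)) (.node (.leaf 2420) (.leaf 6070)))) (.node (.node (.node (.leaf 10706) (.leaf 3208)) (.node (.leaf 9611) (.leaf 11248))) (.node (.node (.leaf 6582) (.leaf 6209)) (.node (.leaf 10601) (.leaf 14764)))))))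

def twoRank39 : Janko.Tree (ℕ) :=
  (.node (.node (.node (.node (.node (.node (.node (.leaf 23) (.leaf 11175)) (.leaf 2768)) (.node (.leaf 1580) (.leaf 7135))) (.node (.node (.leaf 840) (.leaf 7319)) (.node (.leaf 2236) (.leaf 3964)))) (.node (.node (.node (.leaf 13005) (.leaf 12936)) (.node (.leaf 1916) (.leaf 3845))) (.node (.node (.leaf 1219) (.leaf 7227)) (.node (.leaf 7594) (.leaf 6863))))) (.node (.node (.node (.node (.leaf 12959) (.leaf 14725)) (.node (.leaf 7808) (.leaf 14292))) (.node (.node (.leaf 7974) (.leaf 7266)) (.node (.leaf 7632) (.leaf 4011)))) (.node (.node (.node (.leaf 13004) (.leaf 3132)) (.node (.leaf 7724) (.leaf 7001))) (.node (.node (.leaf 1407) (.leaf 15418)) (.node (.leaf 2650) (.leaf 6818)))))) (.node (.node (.node (.node (.node (.leaf 145) (.leaf 2850)) (.node (.leaf 7832) (.leaf 3712))) (.node (.node (.leaf 7996) (.leaf 3318)) (.node (.leaf 2300) (.leaf 14475)))) (.node (.node (.node (.leaf 8079) (.leaf 7379)) (.node (.leaf 12482) (.leaf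 7025))) (.node (.node (.leaf 7914) (.leaf 15340)) (.node (.leaf 7572) (.leaf 16448))))) (.node (.node (.node (.node (.leaf 13057) (.leaf 15482)) (.node (.leaf 7789) (.leaf 7063))) (.node (.node (.leaf 1125) (.leaf 3416)) (.node (.leaf 12559) (.leaf 13775)))) (.node (.node (.node (.leaf 742) (.leaf 13444)) (.node (.leaf 7707) (.leaf 3937))) (.node (.node (.leaf 1492) (.leaf 3613)) (.node (.leaf 2713) (.leaf 14689)))))))

def twoRank40 : Janko.Tree (ℕ) :=
  (.node (.node (.node (.node (.node (.node (.node (.leaf 8905) (.leaf 11173)) (.leaf 4298)) (.node (.leaf 10171) (.leaf 15945))) (.node (.node (.leaf 12875) (.leaf 14883)) (.node (.leaf 14007) (.leaf 16184)))) (.node (.node (.node (.leaf 8492) (.leaf 11631)) (.node (.leaf 8417) (.leaf 8550))) (.node (.node (.leaf 4460) (.leaf 14075)) (.node (.leaf 4329) (.leaf 15612))))) (.node (.node (.node (.node (.leaf 4545) (.leaf 10080)) (.node (.leaf 11565) (.leaf 12033))) (.node (.node (.leaf 1029) (.leaf 8301)) (.node (.leaf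 8381) (.leaf 14895)))) (.node (.node (.node (.leaf 10163) (.leaf 4253)) (.node (.leaf 2071) (.leaf 10354))) (.node (.node (.leaf 8453) (.leaf 4195)) (.node (.leaf 12399) (.leaf 10376)))))) (.node (.node (.node (.node (.node (.leaf 8908) (.leaf 4289)) (.node (.leaf 1666) (.leaf 11197))) (.node (.node (.leaf 938) (.leaf 8710)) (.node (.leaf 10137) (.leaf 14435)))) (.node (.node (.node (.leaf 550) (.leaf 13097)) (.node (.leaf 8352) (.leaf 14827))) (.node (.node (.leaf 13322) (.leaf 14156)) (.node (.leaf 2582) (.leaf 15975))))) (.node (.node (.node (.node (.leaf 359) (.leaf 12420)) (.node (.leaf 10073) (.leaf 12538))) (.node (.node (.leaf 8469) (.leaf 4217)) (.node (.leaf 4338) (.leaf 15942)))) (.node (.node (.node (.leaf 12962) (.leaf 12042)) (.node (.leaf 2159) (.leaf 8941))) (.node (.node (.leaf 8683) (.leaf 8582)) (.node (.leaf 9012) (.leaf 15085)))))))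

def twoRank41 : Janko.Tree (ℕ) :=
  (.node (.node (.node (.node (.node (.node (.node (.leaf 24) (.leaf 12186)) (.leaf 2769)) (.node (.leaf 1581) (.leaf 4951))) (.node (.node (.leaf 841) (.leaf 5133)) (.node (.leaf 5484) (.leaf 4761)))) (.node (.node (.node (.leaf 456) (.leaf 5223)) (.node (.leaf 1917) (.leaf 16385))) (.node (.node (.leaf 1220) (.leaf 5046)) (.node (.leaf 2505) (.leaf 4668))))) (.node (.node (.node (.node (.leaf 256) (.leaf 14722)) (.node (.leaf 5622) (.leaf 3754))) (.node (.node (.leaf 5799) (.leaf 16375)) (.node (.leaf 13333) (.leaf 13223)))) (.node (.node (.node (.leaf 5889) (.leaf 3133)) (.node (.leaf 5531) (.leaf 14016))) (.node (.node (.leaf 1408) (.leaf 3574)) (.node (.leaf 12383) (.leaf 4615)))))) (.node (.node (.node (.node (.node (.leaf 146) (.leaf 14412)) (.node (.leaf 5642) (.leaf 10895))) (.node (.node (.leaf 5821) (.leaf 3319)) (.node (.leaf 2301) (.leaf 4738)))) (.node (.node (.node (.leaf 5912) (.leaf 5202)) (.node (.leaf 2000) (.leaf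 4835))) (.node (.node (.leaf 5732) (.leaf 3523)) (.node (.leaf 5374) (.leaf 4642))))) (.node (.node (.node (.node (.leaf 5955) (.leaf 2970)) (.node (.leaf 1825) (.leaf 4887))) (.node (.node (.leaf 11610) (.leaf 3417)) (.node (.leaf 2421) (.leaf 10952)))) (.node (.node (.node (.leaf 743) (.leaf 5154)) (.node (.leaf 5506) (.leaf 3938))) (.node (.node (.leaf 11059) (.leaf 15748)) (.node (.leaf 13401) (.leaf 11537)))))))

def twoRank42 : Janko.Tree (ℕ) :=
  (.node (.node (.node (.node (.node (.node (.node (.leaf 9965) (.leaf 12179)) (.leaf 10583)) (.node (.leaf 6570) (.leaf 15544))) (.node (.node (.leaf 9864) (.leaf 10698)) (.node (.leaf 14005) (.leaf 16203)))) (.node (.node (.node (.leaf 6717) (.leaf 11643)) (.node (.leaf 6520) (.leaf 9221))) (.node (.node (.leaf 1221) (.leaf 14088)) (.node (.leaf 2506) (.leaf 15242))))) (.node (.node (.node (.node (.leaf 10812) (.leaf 14718)) (.node (.leaf 11595) (.leaf 6168))) (.node (.node (.leaf 1030) (.leaf 6269)) (.node (.leaf 6451)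 (.leaf 9296)))) (.node (.node (.node (.leaf 647) (.leaf 3134)) (.node (.leaf 2072) (.leaf 6125))) (.node (.node (.leaf 6594) (.leaf 13976)) (.node (.leaf 9499) (.leaf 12036)))))) (.node (.node (.node (.node (.node (.leaf 9960) (.leaf 15208)) (.node (.leaf 10639) (.leaf 6182))) (.node (.node (.leaf 10670) (.leaf 9500)) (.node (.leaf 9706) (.leaf 14408)))) (.node (.node (.node (.leaf 551) (.leaf 15357)) (.node (.leaf 6508) (.leaf 10854))) (.node (.node (.leaf 13320) (.leaf 14160)) (.node (.leaf 2583) (.leaf 14589))))) (.node (.node (.node (.node (.leaf 10776) (.leaf 15171)) (.node (.leaf 6532) (.leaf 3803))) (.node (.node (.leaf 6632) (.leaf 12043)) (.node (.leaf 10534) (.leaf 13755)))) (.node (.node (.node (.leaf 9874) (.leaf 3209)) (.node (.leaf 10575) (.leaf 12052))) (.node (.node (.leaf 9605) (.leaf 9325)) (.node (.leaf 10599) (.leaf 15324)))))))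

def twoRank43 : Janko.Tree (ℕ) :=
  (.node (.node (.node (.node (.node (.node (.node (.leaf 8191) (.leaf 12177)) (.leaf 14025)) (.node (.leaf 1582) (.leaf 3646))) (.node (.node (.leaf 8016) (.leaf 3270)) (.node (.leaf 14011) (.leaf 16199)))) (.node (.node (.node (.leaf 457) (.leaf 3024)) (.node (.leaf 1918) (.leaf 7046))) (.node (.node (.leaf 1222) (.leaf 13895)) (.node (.leaf 2507) (.leaf 15611))))) (.node (.node (.node (.node (.leaf 257) (.leaf 7457)) (.node (.leaf 1742) (.leaf 15496))) (.node (.node (.leaf 1031) (.leaf 3372)) (.node (.leaf 12609) (.leaf 6909)))) (.node (.node (.node (.leaf 648) (.leaf 12996)) (.node (.leaf 2073) (.leaf 16273))) (.node (.node (.leaf 1409) (.leaf 14067)) (.node (.leaf 7547) (.leaf 13694)))))) (.node (.node (.node (.node (.node (.leaf 8169) (.leaf 2851)) (.node (.leaf 1667) (.leaf 13461))) (.node (.node (.leaf 939) (.leaf 7293)) (.node (.leaf 7659) (.leaf 12596)))) (.node (.node (.node (.leaf 552) (.leaf 13099)) (.node (.leaf 2001)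 (.leaf 14795))) (.node (.node (.leaf 13326) (.leaf 7199)) (.node (.leaf 2584) (.leaf 14591))))) (.node (.node (.node (.node (.leaf 360) (.leaf 7429)) (.node (.leaf 12739) (.leaf 12532))) (.node (.node (.leaf 1126) (.leaf 16349)) (.node (.leaf 2422) (.leaf 6885)))) (.node (.node (.node (.leaf 8037) (.leaf 3210)) (.node (.leaf 2160) (.leaf 6978))) (.node (.node (.leaf 7874) (.leaf 7155)) (.node (.leaf 7519) (.leaf 6796)))))))

def twoRank44 : Janko.Tree (ℕ) :=
  (.node (.node (.node (.node (.node (.node (.node (.leaf 25) (.leaf 12175)) (.leaf 2770)) (.node (.leaf 10167) (.leaf 8271))) (.node (.node (.leaf 10112) (.leaf 14903)) (.node (.leaf 4360) (.leaf 15861)))) (.node (.node (.node (.leaf 12966) (.leaf 11661)) (.node (.leaf 8708) (.leaf 12075))) (.node (.node (.leaf 8422) (.leaf 14566)) (.node (.leaf 8314) (.leaf 4108))))) (.node (.node (.node (.node (.leaf 9204) (.leaf 14720)) (.node (.leaf 8824) (.leaf 12035))) (.node (.node (.leaf 4479) (.leaf 8594)) (.node (.leaf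 16212) (.leaf 14978)))) (.node (.node (.node (.leaf 9195) (.leaf 8268)) (.node (.leaf 13663) (.leaf 15983))) (.node (.node (.leaf 8758) (.leaf 8281)) (.node (.leaf 11900) (.leaf 12026)))))) (.node (.node (.node (.node (.node (.leaf 147) (.leaf 15163)) (.node (.leaf 8791) (.leaf 8928))) (.node (.node (.leaf 8835) (.leaf 4232)) (.node (.leaf 11680) (.leaf 11215)))) (.node (.node (.node (.leaf 13052) (.leaf 4261)) (.node (.leaf 12484) (.leaf 8249))) (.node (.node (.leaf 10114) (.leaf 3524)) (.node (.leaf 4321) (.leaf 16148))))) (.node (.node (.node (.node (.leaf 13039) (.leaf 12645)) (.node (.leaf 1826) (.leaf 4161))) (.node (.node (.leaf 8786) (.leaf 3418)) (.node (.leaf 9040) (.leaf 15757)))) (.node (.node (.node (.leaf 10209) (.leaf 8313)) (.node (.leaf 8755) (.leaf 10313))) (.node (.node (.leaf 10093) (.leaf 8617)) (.node (.leaf 9079) (.leaf 14784)))))))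

def twoRank45 : Janko.Tree (ℕ) :=
  (.node (.node (.node (.node (.node (.node (.node (.leaf 6015) (.leaf 12160)) (.leaf 5311)) (.node (.leaf 1583) (.leaf 3647))) (.node (.node (.leaf 5843) (.leaf 13456)) (.node (.leaf 2237) (.leaf 4760)))) (.node (.node (.node (.leaf 11088) (.leaf 16074)) (.node (.leaf 12244) (.leaf 15648))) (.node (.node (.leaf 1223) (.leaf 3482)) (.node (.leaf 2508) (.leaf 16177))))) (.node (.node (.node (.node (.leaf 258) (.leaf 2917)) (.node (.leaf 1743) (.leaf 12241))) (.node (.node (.leaf 1032) (.leaf 3373)) (.node (.leaf 5445) (.leaf 15053)))) (.node (.node (.node (.leaf 649) (.leaf 15229)) (.node (.leaf 2074) (.leaf 4814))) (.node (.node (.leaf 1410) (.leaf 14918)) (.node (.leaf 5352) (.leaf 4080)))))) (.node (.node (.node (.node (.node (.leaf 5995) (.leaf 2852)) (.node (.leaf 13370) (.leaf 3713))) (.node (.node (.leaf 13652) (.leaf 3320)) (.node (.leaf 2302) (.leaf 3981)))) (.node (.node (.node (.leaf 553) (.leaf 3070)) (.node (.leaf 11007)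 (.leaf 14892))) (.node (.node (.leaf 1316) (.leaf 5028)) (.node (.leaf 13825) (.leaf 4641))))) (.node (.node (.node (.node (.leaf 361) (.leaf 5247)) (.node (.leaf 5598) (.leaf 16241))) (.node (.node (.leaf 1127) (.leaf 5064)) (.node (.leaf 13476) (.leaf 4692)))) (.node (.node (.node (.leaf 744) (.leaf 3211)) (.node (.leaf 13634) (.leaf 3939))) (.node (.node (.leaf 5686) (.leaf 14638)) (.node (.leaf 2714) (.leaf 4587)))))))

def twoRank46 : Janko.Tree (ℕ) :=
  (.node (.node (.node (.node (.node (.node (.node (.leaf 26) (.leaf 11227)) (.leaf 2771)) (.node (.leaf 9717) (.leaf 6196))) (.node (.node (.leaf 842) (.leaf 9522)) (.node (.leaf 15200) (.leaf 14496)))) (.node (.node (.node (.leaf 9875) (.leaf 9570)) (.node (.leaf 9653) (.leaf 11913))) (.node (.node (.leaf 6620) (.leaf 11291)) (.node (.leaf 6426) (.leaf 13873))))) (.node (.node (.node (.node (.leaf 10814) (.leaf 11445)) (.node (.leaf 9774) (.leaf 15276))) (.node (.node (.leaf 14234) (.leaf 9367)) (.node (.leaf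 10821) (.leaf 10410)))) (.node (.node (.node (.leaf 10798) (.leaf 6312)) (.node (.leaf 6496) (.leaf 13812))) (.node (.node (.leaf 9743) (.leaf 6221)) (.node (.leaf 11921) (.leaf 6036)))))) (.node (.node (.node (.node (.node (.leaf 148) (.leaf 6367)) (.node (.leaf 9700) (.leaf 13454))) (.node (.node (.leaf 9806) (.leaf 12053)) (.node (.leaf 11650) (.leaf 6091)))) (.node (.node (.node (.leaf 6705) (.leaf 14370)) (.node (.leaf 9635) (.leaf 6136))) (.node (.node (.leaf 6606) (.leaf 3525)) (.node (.leaf 2585) (.leaf 14570))))) (.node (.node (.node (.node (.leaf 9936) (.leaf 15183)) (.node (.leaf 1827) (.leaf 14312))) (.node (.node (.leaf 9785) (.leaf 3419)) (.node (.leaf 13715) (.leaf 10871)))) (.node (.node (.node (.leaf 11954) (.leaf 6298)) (.node (.leaf 9610) (.leaf 15511))) (.node (.node (.leaf 1493) (.leaf 9324)) (.node (.leaf 10598) (.leaf 15137)))))))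

def twoRank47 : Janko.Tree (ℕ) :=
  (.node (.node (.node (.node (.node (.node (.node (.leaf 27) (.leaf 11171)) (.leaf 2772)) (.node (.leaf 7853) (.leaf 12416))) (.node (.node (.leaf 843) (.leaf 7318)) (.node (.leaf 2238) (.leaf 14498)))) (.node (.node (.node (.leaf 8102) (.leaf 7404)) (.node (.leaf 7768) (.leaf 7045))) (.node (.node (.leaf 1224) (.leaf 7226)) (.node (.leaf 2509) (.leaf 12503))))) (.node (.node (.node (.node (.leaf 8146) (.leaf 7456)) (.node (.leaf 7807) (.leaf 7089))) (.node (.node (.leaf 14230) (.leaf 7265)) (.node (.leaf 16371) (.leaf 6908)))) (.node (.node (.node (.leaf 8057) (.leaf 3135)) (.node (.leaf 12597) (.leaf 13814))) (.node (.node (.leaf 7893) (.leaf 12661)) (.node (.leaf 2651) (.leaf 15605)))))) (.node (.node (.node (.node (.node (.leaf 149) (.leaf 2853)) (.node (.leaf 7831) (.leaf 7116))) (.node (.node (.leaf 7995) (.leaf 3321)) (.node (.leaf 7658) (.leaf 14714)))) (.node (.node (.node (.leaf 13081) (.leaf 13106)) (.node (.leaf 7746)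 (.leaf 3879))) (.node (.node (.leaf 1317) (.leaf 3526)) (.node (.leaf 12539) (.leaf 16301))))) (.node (.node (.node (.node (.leaf 8124) (.leaf 12651)) (.node (.leaf 1828) (.leaf 3804))) (.node (.node (.leaf 7955) (.leaf 3420)) (.node (.leaf 7611) (.leaf 13770)))) (.node (.node (.node (.leaf 8036) (.leaf 3212)) (.node (.leaf 7706) (.leaf 6977))) (.node (.node (.leaf 1494) (.leaf 7154)) (.node (.leaf 7518) (.leaf 14782)))))))

def twoRank48 : Janko.Tree (ℕ) :=
  (.node (.node (.node (.node (.node (.node (.node (.leaf 8913) (.leaf 11169)) (.leaf 12584)) (.node (.leaf 4426) (.leaf 15970))) (.node (.node (.leaf 8483) (.leaf 15074)) (.node (.leaf 15253) (.leaf 4130)))) (.node (.node (.node (.leaf 10192) (.leaf 16078)) (.node (.leaf 1919) (.leaf 15465))) (.node (.node (.leaf 8717) (.leaf 10051)) (.node (.leaf 8603) (.leaf 14102))))) (.node (.node (.node (.node (.leaf 259) (.leaf 15790)) (.node (.leaf 12569) (.leaf 12010))) (.node (.node (.leaf 10169) (.leaf 3374)) (.node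 (.leaf 12621) (.leaf 8608)))) (.node (.node (.node (.leaf 650) (.leaf 12998)) (.node (.leaf 11571) (.leaf 16269))) (.node (.node (.leaf 1411) (.leaf 16307)) (.node (.leaf 8770) (.leaf 13692)))))) (.node (.node (.node (.node (.node (.leaf 4552) (.leaf 9002)) (.node (.leaf 4418) (.leaf 10036))) (.node (.node (.leaf 10302) (.leaf 8960)) (.node (.leaf 2303) (.leaf 13695)))) (.node (.node (.node (.leaf 10233) (.leaf 12605)) (.node (.leaf 10282) (.leaf 8565))) (.node (.node (.leaf 10118) (.leaf 11251)) (.node (.leaf 8308) (.leaf 16259))))) (.node (.node (.node (.node (.leaf 11966) (.leaf 15144)) (.node (.leaf 4401) (.leaf 8922))) (.node (.node (.leaf 1128) (.leaf 4216)) (.node (.leaf 11556) (.leaf 16144)))) (.node (.node (.node (.leaf 745) (.leaf 8604)) (.node (.leaf 10307) (.leaf 13688))) (.node (.node (.leaf 8445) (.leaf 10125)) (.node (.leaf 2715) (.leaf 14980)))))))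

def twoRank49 : Janko.Tree (ℕ) :=
  (.node (.node (.node (.node (.node (.node (.node (.leaf 28) (.leaf 9994)) (.leaf 16393)) (.node (.leaf 1584) (.leaf 4950))) (.node (.node (.leaf 844) (.leaf 3271)) (.node (.leaf 2239) (.leaf 13632)))) (.node (.node (.node (.leaf 5933) (.leaf 5222)) (.node (.leaf 5575) (.leaf 4858))) (.node (.node (.leaf 11046) (.leaf 5045)) (.node (.leaf 11017) (.leaf 14740))))) (.node (.node (.node (.node (.leaf 5975) (.leaf 5267)) (.node (.leaf 5621) (.leaf 4912))) (.node (.node (.leaf 5798) (.leaf 5088)) (.node (.leaf 2364) (.leaf 15027)))) (.node (.node (.node (.leaf 5888) (.leaf 11132)) (.node (.leaf 5530) (.leaf 3914))) (.node (.node (.leaf 5709) (.leaf 5002)) (.node (.leaf 2652) (.leaf 14765)))))) (.node (.node (.node (.node (.node (.leaf 150) (.leaf 11002)) (.node (.leaf 13324) (.leaf 4930))) (.node (.node (.leaf 940) (.leaf 14120)) (.node (.leaf 5462) (.leaf 14716)))) (.node (.node (.node (.leaf 5911) (.leaf 16064)) (.node (.leaf 2002)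 (.leaf 3880))) (.node (.node (.leaf 1318) (.leaf 5027)) (.node (.leaf 2586) (.leaf 4071))))) (.node (.node (.node (.node (.leaf 362) (.leaf 14394)) (.node (.leaf 1829) (.leaf 14335))) (.node (.node (.leaf 5774) (.leaf 3421)) (.node (.leaf 5421) (.leaf 4039)))) (.node (.node (.node (.leaf 5865) (.leaf 12245)) (.node (.leaf 2161) (.leaf 4787))) (.node (.node (.leaf 1495) (.leaf 3614)) (.node (.leaf 5334) (.leaf 4586)))))))

def twoRank50 : Janko.Tree (ℕ) :=
  (.node (.node (.node (.node (.node (.node (.node (.leaf 9970) (.leaf 9992)) (.leaf 9618)) (.node (.leaf 1585) (.leaf 15964))) (.node (.node (.leaf 6669) (.leaf 10699)) (.node (.leaf 6471) (.leaf 3965)))) (.node (.node (.node (.leaf 11948) (.leaf 3025)) (.node (.leaf 10603) (.leaf 15203))) (.node (.node (.leaf 9669) (.leaf 11304)) (.node (.leaf 9393) (.leaf 6057))))) (.node (.node (.node (.node (.leaf 13411) (.leaf 2918)) (.node (.leaf 1744) (.leaf 12000))) (.node (.node (.leaf 1033) (.leaf 14252)) (.node (.leaf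 9696) (.leaf 9292)))) (.node (.node (.node (.leaf 14454) (.leaf 9415)) (.node (.leaf 11583) (.leaf 9348))) (.node (.node (.leaf 10582) (.leaf 16315)) (.node (.leaf 9646) (.leaf 15502)))))) (.node (.node (.node (.node (.node (.leaf 151) (.leaf 9461)) (.node (.leaf 10638) (.leaf 11546))) (.node (.node (.leaf 6656) (.leaf 14116)) (.node (.leaf 2304) (.leaf 14708)))) (.node (.node (.node (.leaf 554) (.leaf 9548)) (.node (.leaf 11857) (.leaf 9271))) (.node (.node (.leaf 9755) (.leaf 11184)) (.node (.leaf 6413) (.leaf 6046))))) (.node (.node (.node (.node (.leaf 6728) (.leaf 14404)) (.node (.leaf 10618) (.leaf 14343))) (.node (.node (.leaf 10709) (.leaf 11274)) (.node (.leaf 11563) (.leaf 13758)))) (.node (.node (.node (.leaf 746) (.leaf 9395)) (.node (.leaf 6483) (.leaf 13690))) (.node (.node (.leaf 6581) (.leaf 11654)) (.node (.leaf 14255) (.leaf 16446)))))))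

def twoRank51 : Janko.Tree (ℕ) :=
  (.node (.node (.node (.node (.node (.node (.node (.leaf 8190) (.leaf 12168)) (.leaf 7499)) (.node (.leaf 1586) (.leaf 16330))) (.node (.node (.leaf 13580) (.leaf 7317)) (.node (.leaf 2240) (.leaf 3966)))) (.node (.node (.node (.leaf 458) (.leaf 3026)) (.node (.leaf 1920) (.leaf 3846))) (.node (.node (.leaf 7933) (.leaf 3483)) (.node (.leaf 7593) (.leaf 14105))))) (.node (.node (.node (.node (.leaf 13434) (.leaf 2919)) (.node (.leaf 12563) (.leaf 3755))) (.node (.node (.leaf 1034) (.leaf 3375)) (.node (.leaf 7631) (.leaf 6907)))) (.node (.node (.node (.leaf 14236) (.leaf 7364)) (.node (.leaf 2075) (.leaf 7000))) (.node (.node (.leaf 1412) (.leaf 16313)) (.node (.leaf 7546) (.leaf 6817)))))) (.node (.node (.node (.node (.node (.leaf 152) (.leaf 7480)) (.node (.leaf 1668) (.leaf 14286))) (.node (.node (.leaf 941) (.leaf 7292)) (.node (.leaf 2305) (.leaf 6934)))) (.node (.node (.node (.leaf 555) (.leaf 7378)) (.node (.leaf 7745) (.leaf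 7024))) (.node (.node (.leaf 7913) (.leaf 3527)) (.node (.leaf 2587) (.leaf 15995))))) (.node (.node (.node (.node (.leaf 363) (.leaf 7428)) (.node (.leaf 16370) (.leaf 7062))) (.node (.node (.leaf 1129) (.leaf 13548)) (.node (.leaf 2423) (.leaf 6884)))) (.node (.node (.node (.leaf 747) (.leaf 7344)) (.node (.leaf 12808) (.leaf 13680))) (.node (.node (.leaf 1496) (.leaf 7153)) (.node (.leaf 12935) (.leaf 4091)))))))

def twoRank52 : Janko.Tree (ℕ) :=
  (.node (.node (.node (.node (.node (.node (.node (.leaf 29) (.leaf 12165)) (.leaf 12586)) (.node (.leaf 8390) (.leaf 13387))) (.node (.node (.leaf 8814) (.leaf 8309)) (.node (.leaf 9064) (.leaf 8208)))) (.node (.node (.node (.leaf 9201) (.leaf 16127)) (.node (.leaf 8771) (.leaf 15787))) (.node (.node (.leaf 10060) (.leaf 9003)) (.node (.leaf 11963) (.leaf 12159))))) (.node (.node (.node (.node (.leaf 260) (.leaf 12433)) (.node (.leaf 4410) (.leaf 8658))) (.node (.node (.leaf 1035) (.leaf 8637)) (.node (.leaf 2365) (.leaf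 12267)))) (.node (.node (.node (.leaf 4512) (.leaf 10362)) (.node (.leaf 9129) (.leaf 13148))) (.node (.node (.leaf 8809) (.leaf 12657)) (.node (.leaf 4314) (.leaf 10017)))))) (.node (.node (.node (.node (.node (.leaf 8520) (.leaf 8343)) (.node (.leaf 9108) (.leaf 14314))) (.node (.node (.leaf 10321) (.leaf 11315)) (.node (.leaf 11652) (.leaf 14710)))) (.node (.node (.node (.leaf 9199) (.leaf 12770)) (.node (.leaf 2003) (.leaf 14813))) (.node (.node (.leaf 11522) (.leaf 4200)) (.node (.leaf 12531) (.leaf 16140))))) (.node (.node (.node (.node (.leaf 10309) (.leaf 10168)) (.node (.leaf 16215) (.leaf 14899))) (.node (.node (.leaf 8825) (.leaf 11272)) (.node (.leaf 10371) (.leaf 14036)))) (.node (.node (.node (.leaf 748) (.leaf 3213)) (.node (.leaf 2162) (.leaf 11246))) (.node (.node (.leaf 8752) (.leaf 3615)) (.node (.leaf 4305) (.leaf 16332)))))))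

def twoRank53 : Janko.Tree (ℕ) :=
  (.node (.node (.node (.node (.node (.node (.node (.leaf 6014) (.leaf 11199)) (.leaf 5310)) (.node (.leaf 1587) (.leaf 4949))) (.node (.node (.leaf 845) (.leaf 16245)) (.node (.leaf 11029) (.leaf 12225)))) (.node (.node (.node (.leaf 459) (.leaf 3027)) (.node (.leaf 13515) (.leaf 12402))) (.node (.node (.leaf 5754) (.leaf 15408)) (.node (.leaf 5395) (.leaf 15184))))) (.node (.node (.node (.node (.leaf 5974) (.leaf 2920)) (.node (.leaf 1745) (.leaf 3756))) (.node (.node (.leaf 5797) (.leaf 13354)) (.node (.leaf 5444) (.leaf 4716)))) (.node (.node (.node (.leaf 651) (.leaf 5174)) (.node (.leaf 2076) (.leaf 4813))) (.node (.node (.leaf 13649) (.leaf 3575)) (.node (.leaf 2653) (.leaf 4614)))))) (.node (.node (.node (.node (.node (.leaf 10824) (.leaf 11458)) (.node (.leaf 1669) (.leaf 4929))) (.node (.node (.leaf 942) (.leaf 5110)) (.node (.leaf 5461) (.leaf 3982)))) (.node (.node (.node (.leaf 556) (.leaf 5201)) (.node (.leaf 5554) (.leaf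 4834))) (.node (.node (.leaf 5731) (.leaf 3528)) (.node (.leaf 10983) (.leaf 4640))))) (.node (.node (.node (.node (.leaf 364) (.leaf 2971)) (.node (.leaf 1830) (.leaf 4886))) (.node (.node (.leaf 13296) (.leaf 10892)) (.node (.leaf 16387) (.leaf 4691)))) (.node (.node (.node (.leaf 5864) (.leaf 5153)) (.node (.leaf 5505) (.leaf 4786))) (.node (.node (.leaf 12446) (.leaf 4975)) (.node (.leaf 13824) (.leaf 4092)))))))

def twoRank54 : Janko.Tree (ℕ) :=
  (.node (.node (.node (.node (.node (.node (.node (.leaf 30) (.leaf 10413)) (.leaf 2773)) (.node (.leaf 6569) (.leaf 13385))) (.node (.node (.leaf 13576) (.leaf 6287)) (.node (.leaf 9589) (.leaf 6102)))) (.node (.node (.node (.leaf 12137) (.leaf 6336)) (.node (.leaf 9652) (.leaf 6149))) (.node (.node (.leaf 1225) (.leaf 11899)) (.node (.leaf 2510) (.leaf 13881))))) (.node (.node (.node (.node (.leaf 261) (.leaf 6355)) (.node (.leaf 10707) (.leaf 9392))) (.node (.node (.leaf 1036) (.leaf 9366)) (.node (.leaf 2366) (.leaf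 4012)))) (.node (.node (.node (.leaf 13413) (.leaf 3136)) (.node (.leaf 10737) (.leaf 3915))) (.node (.node (.leaf 9742) (.leaf 9428)) (.node (.leaf 11898) (.leaf 11283)))))) (.node (.node (.node (.node (.node (.leaf 6755) (.leaf 6366)) (.node (.leaf 10640) (.leaf 13452))) (.node (.node (.leaf 9803) (.leaf 11322)) (.node (.leaf 11658) (.leaf 13697)))) (.node (.node (.node (.leaf 10810) (.leaf 3071)) (.node (.leaf 2004) (.leaf 10865))) (.node (.node (.leaf 11526) (.leaf 12067)) (.node (.leaf 9517) (.leaf 13778))))) (.node (.node (.node (.node (.leaf 9895) (.leaf 9582)) (.node (.leaf 10620) (.leaf 3805))) (.node (.node (.leaf 9784) (.leaf 6255)) (.node (.leaf 9676) (.leaf 13753)))) (.node (.node (.node (.leaf 749) (.leaf 12006)) (.node (.leaf 2163) (.leaf 11258))) (.node (.node (.leaf 9733) (.leaf 3616)) (.node (.leaf 2716) (.leaf 6024)))))))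

def twoRank55 : Janko.Tree (ℕ) :=
  (.node (.node (.node (.node (.node (.node (.node (.leaf 31) (.leaf 9986)) (.leaf 12572)) (.node (.leaf 1588) (.leaf 13383))) (.node (.node (.leaf 8015) (.leaf 3272)) (.node (.leaf 7684) (.leaf 15549)))) (.node (.node (.node (.leaf 8101) (.leaf 13408)) (.node (.leaf 7767) (.leaf 3847))) (.node (.node (.leaf 12741) (.leaf 7225)) (.node (.leaf 2511) (.leaf 6862))))) (.node (.node (.node (.node (.leaf 262) (.leaf 12435)) (.node (.leaf 1746) (.leaf 7088))) (.node (.node (.leaf 1037) (.leaf 7264)) (.node (.leaf 2367) (.leaf 12261)))) (.node (.node (.node (.leaf 13432) (.leaf 3137)) (.node (.leaf 7723) (.leaf 14037))) (.node (.node (.leaf 7892) (.leaf 7173)) (.node (.leaf 2654) (.leaf 14965)))))) (.node (.node (.node (.node (.node (.leaf 153) (.leaf 2854)) (.node (.leaf 7830) (.leaf 12753))) (.node (.node (.leaf 7994) (.leaf 15384)) (.node (.leaf 2306) (.leaf 6933)))) (.node (.node (.node (.leaf 8078) (.leaf 12779)) (.node (.leaf 2005)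 (.leaf 14799))) (.node (.node (.leaf 1319) (.leaf 3529)) (.node (.leaf 7571) (.leaf 13761))))) (.node (.node (.node (.node (.leaf 8123) (.leaf 7427)) (.node (.leaf 7788) (.leaf 3806))) (.node (.node (.leaf 7954) (.leaf 13554)) (.node (.leaf 7610) (.leaf 13779)))) (.node (.node (.node (.leaf 750) (.leaf 3214)) (.node (.leaf 2164) (.leaf 15246))) (.node (.node (.leaf 7873) (.leaf 3617)) (.node (.leaf 12488) (.leaf 14578)))))))

def twoRank56 : Janko.Tree (ℕ) :=
  (.node (.node (.node (.node (.node (.node (.node (.leaf 4560) (.leaf 12162)) (.leaf 4297)) (.node (.leaf 8673) (.leaf 16092))) (.node (.node (.leaf 846) (.leaf 8600)) (.node (.leaf 13029) (.leaf 8546)))) (.node (.node (.node (.leaf 12078) (.leaf 16053)) (.node (.leaf 10248) (.leaf 15791))) (.node (.node (.leaf 8463) (.leaf 11912)) (.node (.leaf 8369) (.leaf 15990))))) (.node (.node (.node (.node (.leaf 10367) (.leaf 14424)) (.node (.leaf 9102) (.leaf 4166))) (.node (.node (.leaf 4478) (.leaf 8702)) (.node (.leaf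 4344) (.leaf 4118)))) (.node (.node (.node (.leaf 11949) (.leaf 13001)) (.node (.leaf 4377) (.leaf 16265))) (.node (.node (.leaf 10372) (.leaf 14908)) (.node (.leaf 9020) (.leaf 11220)))))) (.node (.node (.node (.node (.node (.leaf 8863) (.leaf 8626)) (.node (.leaf 1670) (.leaf 11548))) (.node (.node (.leaf 11773) (.leaf 14189)) (.node (.leaf 9113) (.leaf 14417)))) (.node (.node (.node (.leaf 557) (.leaf 12798)) (.node (.leaf 13252) (.leaf 8591))) (.node (.node (.leaf 12388) (.leaf 11885)) (.node (.leaf 10211) (.leaf 10308))))) (.node (.node (.node (.node (.leaf 12116) (.leaf 12638)) (.node (.leaf 13495) (.leaf 12544))) (.node (.node (.leaf 4470) (.leaf 13805)) (.node (.leaf 12585) (.leaf 14579)))) (.node (.node (.node (.leaf 4504) (.leaf 8657)) (.node (.leaf 4368) (.leaf 12120))) (.node (.node (.leaf 1497) (.leaf 4189)) (.node (.leaf 8300) (.leaf 15932)))))))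

def twoRank57 : Janko.Tree (ℕ) :=
  (.node (.node (.node (.node (.node (.node (.node (.leaf 32) (.leaf 12158)) (.leaf 2774)) (.node (.leaf 11055) (.leaf 4948))) (.node (.node (.leaf 5842) (.leaf 3273)) (.node (.leaf 5483) (.leaf 15090)))) (.node (.node (.node (.leaf 460) (.leaf 10967)) (.node (.leaf 1921) (.leaf 10949))) (.node (.node (.leaf 1226) (.leaf 3484)) (.node (.leaf 2512) (.leaf 4667))))) (.node (.node (.node (.node (.leaf 263) (.leaf 5266)) (.node (.leaf 13720) (.leaf 3757))) (.node (.node (.leaf 1038) (.leaf 16386)) (.node (.leaf 2368) (.leaf 11403)))) (.node (.node (.node (.leaf 652) (.leaf 3138)) (.node (.leaf 2077) (.leaf 3916))) (.node (.node (.leaf 1413) (.leaf 5001)) (.node (.leaf 14115) (.leaf 4613)))))) (.node (.node (.node (.node (.node (.leaf 154) (.leaf 2855)) (.node (.leaf 5641) (.leaf 3714))) (.node (.node (.leaf 5820) (.leaf 3322)) (.node (.leaf 15624) (.leaf 4737)))) (.node (.node (.node (.leaf 5910) (.leaf 16043)) (.node (.leaf 5553) (.leaf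 14655))) (.node (.node (.leaf 5730) (.leaf 10897)) (.node (.leaf 2588) (.leaf 4639))))) (.node (.node (.node (.node (.leaf 5954) (.leaf 5246)) (.node (.leaf 5597) (.leaf 3807))) (.node (.node (.leaf 1130) (.leaf 3422)) (.node (.leaf 5420) (.leaf 4040)))) (.node (.node (.node (.leaf 751) (.leaf 13501)) (.node (.leaf 2165) (.leaf 14921))) (.node (.node (.leaf 5685) (.leaf 3618)) (.node (.leaf 2717) (.leaf 10930)))))))

def twoRank58 : Janko.Tree (ℕ) :=
  (.node (.node (.node (.node (.node (.node (.node (.leaf 33) (.leaf 11167)) (.leaf 11924)) (.node (.leaf 9575) (.leaf 13345))) (.node (.node (.leaf 10743) (.leaf 9379)) (.node (.leaf 15493) (.leaf 15556)))) (.node (.node (.node (.leaf 9918) (.leaf 14242)) (.node (.leaf 6519) (.leaf 9279))) (.node (.node (.leaf 6619) (.leaf 9466)) (.node (.leaf 6425) (.leaf 15992))))) (.node (.node (.node (.node (.leaf 9948) (.leaf 2921)) (.node (.leaf 10705) (.leaf 12024))) (.node (.node (.leaf 1039) (.leaf 9486)) (.node (.leaf 2369)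 (.leaf 10435)))) (.node (.node (.node (.leaf 11943) (.leaf 12985)) (.node (.leaf 11596) (.leaf 6124))) (.node (.node (.leaf 6593) (.leaf 14627)) (.node (.leaf 14121) (.leaf 11223)))))) (.node (.node (.node (.node (.node (.leaf 9913) (.leaf 9459)) (.node (.leaf 1671) (.leaf 6181))) (.node (.node (.leaf 11782) (.leaf 11344)) (.node (.leaf 10719) (.leaf 14461)))) (.node (.node (.node (.leaf 13869) (.leaf 6326)) (.node (.leaf 13250) (.leaf 9270))) (.node (.node (.leaf 13595) (.leaf 6228)) (.node (.leaf 11729) (.leaf 11259))))) (.node (.node (.node (.node (.leaf 12136) (.leaf 2972)) (.node (.leaf 13493) (.leaf 6161))) (.node (.node (.leaf 10708) (.leaf 13566)) (.node (.leaf 2424) (.leaf 6069)))) (.node (.node (.node (.leaf 752) (.leaf 9394)) (.node (.leaf 10574) (.leaf 12130))) (.node (.node (.leaf 10663) (.leaf 14518)) (.node (.leaf 6393) (.leaf 14576)))))))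

def twoRank59 : Janko.Tree (ℕ) :=
  (.node (.node (.node (.node (.node (.node (.node (.leaf 34) (.leaf 9984)) (.leaf 2775)) (.node (.leaf 7852) (.leaf 13343))) (.node (.node (.leaf 13870) (.leaf 7316)) (.node (.leaf 15285) (.leaf 6958)))) (.node (.node (.node (.leaf 8100) (.leaf 7403)) (.node (.leaf 12910) (.leaf 7044))) (.node (.node (.leaf 12724) (.leaf 7224)) (.node (.leaf 2513) (.leaf 16280))))) (.node (.node (.node (.node (.leaf 8145) (.leaf 14459)) (.node (.leaf 7806) (.leaf 16337))) (.node (.node (.leaf 1040) (.leaf 7263)) (.node (.leaf 12346) (.leaf 16060)))) (.node (.node (.node (.leaf 8056) (.leaf 7363)) (.node (.leaf 2078) (.leaf 13773))) (.node (.node (.leaf 1414) (.leaf 14625)) (.node (.leaf 7545) (.leaf 14696)))))) (.node (.node (.node (.node (.node (.leaf 8168) (.leaf 7479)) (.node (.leaf 1672) (.leaf 3715))) (.node (.node (.leaf 943) (.leaf 7291)) (.node (.leaf 7657) (.leaf 14419)))) (.node (.node (.node (.leaf 13957) (.leaf 12796)) (.node (.leaf 13244)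 (.leaf 7023))) (.node (.node (.leaf 12384) (.leaf 14133)) (.node (.leaf 7570) (.leaf 14767))))) (.node (.node (.node (.node (.leaf 365) (.leaf 12636)) (.node (.leaf 13497) (.leaf 12540))) (.node (.node (.leaf 1131) (.leaf 7247)) (.node (.leaf 12579) (.leaf 13846)))) (.node (.node (.node (.leaf 753) (.leaf 7343)) (.node (.leaf 14684) (.leaf 6976))) (.node (.node (.leaf 1498) (.leaf 12931)) (.node (.leaf 2718) (.leaf 6795)))))))

def twoRank60 : Janko.Tree (ℕ) :=
  (.node (.node (.node (.node (.node (.node (.node (.leaf 8536) (.leaf 12173)) (.leaf 11975)) (.node (.leaf 10278) (.leaf 10346))) (.node (.node (.leaf 10100) (.leaf 3274)) (.node (.leaf 8393) (.leaf 14208)))) (.node (.node (.node (.leaf 461) (.leaf 15788)) (.node (.leaf 1922) (.leaf 15260))) (.node (.node (.leaf 1227) (.leaf 14846)) (.node (.leaf 8656) (.leaf 15894))))) (.node (.node (.node (.node (.leaf 264) (.leaf 14457)) (.node (.leaf 1747) (.leaf 16223))) (.node (.node (.leaf 8442) (.leaf 12329)) (.node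 (.leaf 8324) (.leaf 16065)))) (.node (.node (.node (.leaf 653) (.leaf 10207)) (.node (.leaf 11566) (.leaf 4140))) (.node (.node (.leaf 10368) (.leaf 4194)) (.node (.leaf 11481) (.leaf 16304)))))) (.node (.node (.node (.node (.node (.leaf 155) (.leaf 2856)) (.node (.leaf 4417) (.leaf 14368))) (.node (.node (.leaf 8854) (.leaf 3323)) (.node (.leaf 4353) (.leaf 13707)))) (.node (.node (.node (.leaf 4520) (.leaf 9041)) (.node (.leaf 4383) (.leaf 4148))) (.node (.node (.leaf 4452) (.leaf 8942)) (.node (.leaf 2589) (.leaf 11252))))) (.node (.node (.node (.node (.leaf 8894) (.leaf 2973)) (.node (.leaf 10067) (.leaf 8963))) (.node (.node (.leaf 9148) (.leaf 10027)) (.node (.leaf 13852) (.leaf 15055)))) (.node (.node (.node (.leaf 8466) (.leaf 11940)) (.node (.leaf 14672) (.leaf 16123))) (.node (.node (.leaf 8803) (.leaf 14369)) (.node (.leaf 12478) (.leaf 15978)))))))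

def twoRank61 : Janko.Tree (ℕ) :=
  (.node (.node (.node (.node (.node (.node (.node (.leaf 35) (.leaf 12156)) (.leaf 10585)) (.node (.leaf 5662) (.leaf 3648))) (.node (.node (.leaf 847) (.leaf 5132)) (.node (.leaf 13023) (.leaf 15045)))) (.node (.node (.node (.leaf 5932) (.leaf 5221)) (.node (.leaf 5574) (.leaf 11123))) (.node (.node (.leaf 5753) (.leaf 3485)) (.node (.leaf 12239) (.leaf 4666))))) (.node (.node (.node (.node (.leaf 5973) (.leaf 2922)) (.node (.leaf 5620) (.leaf 13541))) (.node (.node (.leaf 1041) (.leaf 5087)) (.node (.leaf 14717) (.leaf 13224)))) (.node (.node (.node (.leaf 5887) (.leaf 3139)) (.node (.leaf 10915) (.leaf 3917))) (.node (.node (.leaf 1415) (.leaf 3576)) (.node (.leaf 5351) (.leaf 4612)))))) (.node (.node (.node (.node (.node (.leaf 5994) (.leaf 5287)) (.node (.leaf 13300) (.leaf 16086))) (.node (.node (.leaf 944) (.leaf 5109)) (.node (.leaf 2307) (.leaf 3983)))) (.node (.node (.node (.leaf 558) (.leaf 16290)) (.node (.leaf 2006)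 (.leaf 13982))) (.node (.node (.leaf 1320) (.leaf 15639)) (.node (.leaf 5373) (.leaf 4638))))) (.node (.node (.node (.node (.leaf 366) (.leaf 5245)) (.node (.leaf 1831) (.leaf 3808))) (.node (.node (.leaf 1132) (.leaf 5063)) (.node (.leaf 2425) (.leaf 14601)))) (.node (.node (.node (.leaf 754) (.leaf 3215)) (.node (.leaf 2166) (.leaf 4785))) (.node (.node (.leaf 13641) (.leaf 4974)) (.node (.leaf 11006) (.leaf 4585)))))))

def twoRank62 : Janko.Tree (ℕ) :=
  (.node (.node (.node (.node (.node (.node (.node (.leaf 6769) (.leaf 11165)) (.leaf 6379)) (.node (.leaf 1589) (.leaf 6195))) (.node (.node (.leaf 6668) (.leaf 13457)) (.node (.leaf 6470) (.leaf 11951)))) (.node (.node (.node (.leaf 462) (.leaf 10880)) (.node (.leaf 1923) (.leaf 15256))) (.node (.node (.leaf 10622) (.leaf 6241)) (.node (.leaf 9537) (.leaf 13946))))) (.node (.node (.node (.node (.leaf 265) (.leaf 11425)) (.node (.leaf 1748) (.leaf 13518))) (.node (.node (.leaf 6644) (.leaf 3376)) (.node (.leaf 6450)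 (.leaf 10433)))) (.node (.node (.node (.leaf 654) (.leaf 6311)) (.node (.leaf 6495) (.leaf 11250))) (.node (.node (.leaf 9739) (.leaf 3577)) (.node (.leaf 11488) (.leaf 14469)))))) (.node (.node (.node (.node (.node (.leaf 156) (.leaf 10489)) (.node (.leaf 1673) (.leaf 9299))) (.node (.node (.leaf 9852) (.leaf 3324)) (.node (.leaf 11672) (.leaf 15652)))) (.node (.node (.node (.leaf 13579) (.leaf 14297)) (.node (.leaf 2007) (.leaf 15690))) (.node (.node (.leaf 10745) (.leaf 14137)) (.node (.leaf 2590) (.leaf 11254))))) (.node (.node (.node (.node (.leaf 9932) (.leaf 2974)) (.node (.leaf 6531) (.leaf 10523))) (.node (.node (.leaf 10710) (.leaf 3423)) (.node (.leaf 11599) (.leaf 10841)))) (.node (.node (.node (.leaf 6681) (.leaf 6297)) (.node (.leaf 10576) (.leaf 3940))) (.node (.node (.leaf 9732) (.leaf 14287)) (.node (.leaf 9481) (.leaf 15986)))))))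

def twoRank63 : Janko.Tree (ℕ) :=
  (.node (.node (.node (.node (.node (.node (.node (.leaf 36) (.leaf 13214)) (.leaf 2776)) (.node (.leaf 1590) (.leaf 12573))) (.node (.node (.leaf 848) (.leaf 3275)) (.node (.leaf 2241) (.leaf 6957)))) (.node (.node (.node (.leaf 463) (.leaf 3028)) (.node (.leaf 1924) (.leaf 7043))) (.node (.node (.leaf 1228) (.leaf 3486)) (.node (.leaf 7592) (.leaf 13936))))) (.node (.node (.node (.node (.leaf 266) (.leaf 7455)) (.node (.leaf 1749) (.leaf 7087))) (.node (.node (.leaf 1042) (.leaf 12319)) (.node (.leaf 13262) (.leaf 6906)))) (.node (.node (.node (.leaf 655) (.leaf 12732)) (.node (.leaf 13740) (.leaf 14775))) (.node (.node (.leaf 7891) (.leaf 13162)) (.node (.leaf 2655) (.leaf 12472)))))) (.node (.node (.node (.node (.node (.leaf 157) (.leaf 2857)) (.node (.leaf 12611) (.leaf 7115))) (.node (.node (.leaf 7993) (.leaf 3325)) (.node (.leaf 2308) (.leaf 6932)))) (.node (.node (.node (.leaf 13598) (.leaf 7377)) (.node (.leaf 2008) (.leaf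 12220))) (.node (.node (.leaf 13860) (.leaf 7198)) (.node (.leaf 2591) (.leaf 15238))))) (.node (.node (.node (.node (.leaf 8122) (.leaf 2975)) (.node (.leaf 1832) (.leaf 7061))) (.node (.node (.leaf 7953) (.leaf 3424)) (.node (.leaf 7609) (.leaf 6883)))) (.node (.node (.node (.leaf 755) (.leaf 15296)) (.node (.leaf 7705) (.leaf 3941))) (.node (.node (.leaf 7872) (.leaf 13440)) (.node (.leaf 7517) (.leaf 15093)))))))

def twoRank64 : Janko.Tree (ℕ) :=
  (.node (.node (.node (.node (.node (.node (.node (.leaf 8899) (.leaf 13210)) (.leaf 9006)) (.node (.leaf 8441) (.leaf 3649))) (.node (.node (.leaf 12863) (.leaf 8649)) (.node (.leaf 8676) (.leaf 15808)))) (.node (.node (.node (.leaf 4527) (.leaf 14318)) (.node (.leaf 4392) (.leaf 8253))) (.node (.node (.leaf 12718) (.leaf 15075)) (.node (.leaf 2514) (.leaf 16134))))) (.node (.node (.node (.node (.leaf 4544) (.leaf 10098)) (.node (.leaf 4409) (.leaf 11231))) (.node (.node (.leaf 8741) (.leaf 4225)) (.node (.leaf 12338)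 (.leaf 15039)))) (.node (.node (.node (.leaf 4511) (.leaf 3140)) (.node (.leaf 9072) (.leaf 11245))) (.node (.node (.leaf 11590) (.leaf 8238)) (.node (.leaf 10113) (.leaf 14415)))))) (.node (.node (.node (.node (.node (.leaf 4551) (.leaf 8689)) (.node (.leaf 8382) (.leaf 11547))) (.node (.node (.leaf 12817) (.leaf 11337)) (.node (.leaf 11670) (.leaf 10022)))) (.node (.node (.node (.leaf 10330) (.leaf 16057)) (.node (.leaf 8350) (.leaf 12167))) (.node (.node (.leaf 1321) (.leaf 10311)) (.node (.leaf 13743) (.leaf 16305))))) (.node (.node (.node (.node (.leaf 367) (.leaf 12653)) (.node (.leaf 10071) (.leaf 16355))) (.node (.node (.leaf 11819) (.leaf 11270)) (.node (.leaf 2426) (.leaf 15457)))) (.node (.node (.node (.leaf 8779) (.leaf 11942)) (.node (.leaf 13678) (.leaf 4136))) (.node (.node (.leaf 10097) (.leaf 14262)) (.node (.leaf 8351) (.leaf 14834)))))))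

def twoRank65 : Janko.Tree (ℕ) :=
  (.node (.node (.node (.node (.node (.node (.node (.leaf 37) (.leaf 13206)) (.leaf 16236)) (.node (.leaf 1591) (.leaf 4947))) (.node (.node (.leaf 849) (.leaf 13451)) (.node (.leaf 2242) (.leaf 11113)))) (.node (.node (.node (.leaf 464) (.leaf 3029)) (.node (.leaf 1925) (.leaf 11280))) (.node (.node (.leaf 1229) (.leaf 15811)) (.node (.leaf 5394) (.leaf 4665))))) (.node (.node (.node (.node (.leaf 267) (.leaf 5265)) (.node (.leaf 1750) (.leaf 4911))) (.node (.node (.leaf 11056) (.leaf 12864)) (.node (.leaf 11150) (.leaf 4013)))) (.node (.node (.node (.leaf 656) (.leaf 5173)) (.node (.leaf 2079) (.leaf 10889))) (.node (.node (.leaf 5708) (.leaf 15631)) (.node (.leaf 2656) (.leaf 4611)))))) (.node (.node (.node (.node (.node (.leaf 158) (.leaf 14437)) (.node (.leaf 1674) (.leaf 3716))) (.node (.node (.leaf 5819) (.leaf 5108)) (.node (.leaf 10913) (.leaf 4736)))) (.node (.node (.node (.leaf 5909) (.leaf 5200)) (.node (.leaf 2009) (.leaf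 11475))) (.node (.node (.leaf 5729) (.leaf 5026)) (.node (.leaf 5372) (.leaf 4637))))) (.node (.node (.node (.node (.leaf 5953) (.leaf 2976)) (.node (.leaf 1833) (.leaf 4885))) (.node (.node (.leaf 5773) (.leaf 5062)) (.node (.leaf 5419) (.leaf 4690)))) (.node (.node (.node (.leaf 11074) (.leaf 12234)) (.node (.leaf 5504) (.leaf 13631))) (.node (.node (.leaf 1499) (.leaf 4973)) (.node (.leaf 13959) (.leaf 4584)))))))

def twoRank66 : Janko.Tree (ℕ) :=
  (.node (.node (.node (.node (.node (.node (.node (.leaf 9961) (.leaf 13204)) (.leaf 9471)) (.node (.leaf 6568) (.leaf 3650))) (.node (.node (.leaf 9817) (.leaf 9378)) (.node (.leaf 9587) (.leaf 15328)))) (.node (.node (.node (.leaf 465) (.leaf 6335)) (.node (.leaf 10602) (.leaf 6148))) (.node (.node (.leaf 9828) (.leaf 9345)) (.node (.leaf 10529) (.leaf 13948))))) (.node (.node (.node (.node (.leaf 12107) (.leaf 11417)) (.node (.leaf 11582) (.leaf 11282))) (.node (.node (.leaf 9713) (.leaf 10503)) (.node (.leaf 13270)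 (.leaf 15031)))) (.node (.node (.node (.leaf 657) (.leaf 3141)) (.node (.leaf 13738) (.leaf 6123))) (.node (.node (.leaf 11588) (.leaf 6220)) (.node (.leaf 9644) (.leaf 15407)))))) (.node (.node (.node (.node (.node (.leaf 159) (.leaf 9458)) (.node (.leaf 6556) (.leaf 13441))) (.node (.node (.leaf 945) (.leaf 11328)) (.node (.leaf 6461) (.leaf 11216)))) (.node (.node (.node (.leaf 11999) (.leaf 3072)) (.node (.leaf 6507) (.leaf 15918))) (.node (.node (.leaf 1322) (.leaf 12063)) (.node (.leaf 13741) (.leaf 15346))))) (.node (.node (.node (.node (.leaf 368) (.leaf 6345)) (.node (.leaf 9667) (.leaf 15976))) (.node (.node (.leaf 11822) (.leaf 11276)) (.node (.leaf 2427) (.leaf 15453)))) (.node (.node (.node (.leaf 9771) (.leaf 15290)) (.node (.leaf 13646) (.leaf 3942))) (.node (.node (.leaf 6580) (.leaf 14342)) (.node (.leaf 6392) (.leaf 10408)))))))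

def twoRank67 : Janko.Tree (ℕ) :=
  (.node (.node (.node (.node (.node (.node (.node (.leaf 8189) (.leaf 10953)) (.leaf 7498)) (.node (.leaf 1592) (.leaf 3651))) (.node (.node (.leaf 8014) (.leaf 7315)) (.node (.leaf 7683) (.leaf 6956)))) (.node (.node (.node (.leaf 466) (.leaf 14293)) (.node (.leaf 1926) (.leaf 3848))) (.node (.node (.leaf 7932) (.leaf 7223)) (.node (.leaf 2515) (.leaf 12404))))) (.node (.node (.node (.node (.leaf 268) (.leaf 2923)) (.node (.leaf 1751) (.leaf 15392))) (.node (.node (.leaf 7973) (.leaf 3377)) (.node (.leaf 7630) (.leaf 6905)))) (.node (.node (.node (.leaf 12906) (.leaf 3142)) (.node (.leaf 7722) (.leaf 14169))) (.node (.node (.leaf 1416) (.leaf 13989)) (.node (.leaf 7544) (.leaf 13711)))))) (.node (.node (.node (.node (.node (.leaf 160) (.leaf 7478)) (.node (.leaf 1675) (.leaf 7114))) (.node (.node (.leaf 12819) (.leaf 3326)) (.node (.leaf 13348) (.leaf 3984)))) (.node (.node (.node (.leaf 559) (.leaf 3073)) (.node (.leaf 2010) (.leaf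 7022))) (.node (.node (.leaf 1323) (.leaf 3530)) (.node (.leaf 13745) (.leaf 15598))))) (.node (.node (.node (.node (.leaf 369) (.leaf 12647)) (.node (.leaf 7787) (.leaf 16357))) (.node (.node (.leaf 1133) (.leaf 3425)) (.node (.leaf 2428) (.leaf 15529)))) (.node (.node (.node (.leaf 8035) (.leaf 7342)) (.node (.leaf 13654) (.leaf 14759))) (.node (.node (.leaf 12835) (.leaf 14333)) (.node (.leaf 12480) (.leaf 14758)))))))

def twoRank68 : Janko.Tree (ℕ) :=
  (.node (.node (.node (.node (.node (.node (.node (.leaf 38) (.leaf 13201)) (.leaf 2777)) (.node (.leaf 8742) (.leaf 4182))) (.node (.node (.leaf 850) (.leaf 8716)) (.node (.leaf 2243) (.leaf 8235)))) (.node (.node (.node (.leaf 8490) (.leaf 13384)) (.node (.leaf 9088) (.leaf 8568))) (.node (.node (.leaf 10065) (.leaf 14886)) (.node (.leaf 8721) (.leaf 14732))))) (.node (.node (.node (.node (.leaf 12117) (.leaf 14741)) (.node (.leaf 11572) (.leaf 13534))) (.node (.node (.leaf 10270) (.leaf 8952)) (.node (.leaf 9993)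 (.leaf 16317)))) (.node (.node (.node (.leaf 8474) (.leaf 4252)) (.node (.leaf 10351) (.leaf 14737))) (.node (.node (.leaf 8838) (.leaf 13164)) (.node (.leaf 11533) (.leaf 15017)))))) (.node (.node (.node (.node (.node (.leaf 8518) (.leaf 4288)) (.node (.leaf 12613) (.leaf 14324))) (.node (.node (.leaf 4487) (.leaf 9023)) (.node (.leaf 9052) (.leaf 14694)))) (.node (.node (.node (.leaf 9197) (.leaf 12778)) (.node (.leaf 8631) (.leaf 15854))) (.node (.node (.leaf 12865) (.leaf 8999)) (.node (.leaf 4320) (.leaf 15052))))) (.node (.node (.node (.node (.leaf 370) (.leaf 9059)) (.node (.leaf 11381) (.leaf 4160))) (.node (.node (.leaf 11869) (.leaf 13572)) (.node (.leaf 13498) (.leaf 15057)))) (.node (.node (.node (.leaf 10200) (.leaf 11207)) (.node (.leaf 12118) (.leaf 8210))) (.node (.node (.leaf 1500) (.leaf 11656)) (.node (.leaf 14681) (.leaf 14945)))))))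

def twoRank69 : Janko.Tree (ℕ) :=
  (.node (.node (.node (.node (.node (.node (.node (.leaf 6013) (.leaf 13199)) (.leaf 5309)) (.node (.leaf 12227) (.leaf 3652))) (.node (.node (.leaf 5841) (.leaf 3276)) (.node (.leaf 5482) (.leaf 11242)))) (.node (.node (.node (.leaf 467) (.leaf 5220)) (.node (.leaf 1927) (.leaf 15258))) (.node (.node (.leaf 5752) (.leaf 5044)) (.node (.leaf 13509) (.leaf 4664))))) (.node (.node (.node (.node (.leaf 10833) (.leaf 2924)) (.node (.leaf 10912) (.leaf 3758))) (.node (.node (.leaf 5796) (.leaf 13350)) (.node (.leaf 5443) (.leaf 4715)))) (.node (.node (.node (.leaf 658) (.leaf 3143)) (.node (.leaf 5529) (.leaf 16278))) (.node (.node (.leaf 1417) (.leaf 11135)) (.node (.leaf 2657) (.leaf 14835)))))) (.node (.node (.node (.node (.node (.leaf 161) (.leaf 13660)) (.node (.leaf 11024) (.leaf 4928))) (.node (.node (.leaf 946) (.leaf 15218)) (.node (.leaf 2309) (.leaf 3985)))) (.node (.node (.node (.leaf 560) (.leaf 3074)) (.node (.leaf 11037)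 (.leaf 4833))) (.node (.node (.leaf 1324) (.leaf 3531)) (.node (.leaf 2592) (.leaf 14649))))) (.node (.node (.node (.node (.leaf 5952) (.leaf 2977)) (.node (.leaf 5596) (.leaf 3809))) (.node (.node (.leaf 1134) (.leaf 3426)) (.node (.leaf 2429) (.leaf 4689)))) (.node (.node (.node (.leaf 5863) (.leaf 5152)) (.node (.leaf 5503) (.leaf 12448))) (.node (.node (.leaf 5684) (.leaf 15630)) (.node (.leaf 5333) (.leaf 14587)))))))

def twoRank70 : Janko.Tree (ℕ) :=
  (.node (.node (.node (.node (.node (.node (.node (.leaf 39) (.leaf 13197)) (.leaf 2778)) (.node (.leaf 9715) (.leaf 12020))) (.node (.node (.leaf 851) (.leaf 9518)) (.node (.leaf 10559) (.leaf 6101)))) (.node (.node (.node (.leaf 6716) (.leaf 3030)) (.node (.leaf 10604) (.leaf 9277))) (.node (.node (.leaf 1230) (.leaf 10836)) (.node (.leaf 9536) (.leaf 14774))))) (.node (.node (.node (.node (.leaf 6741) (.leaf 9600)) (.node (.leaf 6544) (.leaf 14188))) (.node (.node (.leaf 1043) (.leaf 10501)) (.node (.leaf 15389)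 (.leaf 15345)))) (.node (.node (.node (.leaf 6693) (.leaf 11952)) (.node (.leaf 11594) (.leaf 14167))) (.node (.node (.leaf 9808) (.leaf 13991)) (.node (.leaf 11503) (.leaf 14698)))))) (.node (.node (.node (.node (.node (.leaf 6754) (.leaf 10488)) (.node (.leaf 9697) (.leaf 14294))) (.node (.node (.leaf 10777) (.leaf 10605)) (.node (.leaf 13400) (.leaf 9314)))) (.node (.node (.node (.leaf 11928) (.leaf 6325)) (.node (.leaf 9477) (.leaf 16154))) (.node (.node (.leaf 9816) (.leaf 11883)) (.node (.leaf 16020) (.leaf 10837))))) (.node (.node (.node (.node (.leaf 371) (.leaf 10657)) (.node (.leaf 11369) (.leaf 14334))) (.node (.node (.leaf 9834) (.leaf 13552)) (.node (.leaf 6437) (.leaf 15156)))) (.node (.node (.node (.leaf 756) (.leaf 11235)) (.node (.leaf 2167) (.leaf 6114))) (.node (.node (.leaf 1501) (.leaf 11653)) (.node (.leaf 10811) (.leaf 9228)))))))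

def twoRank71 : Janko.Tree (ℕ) :=
  (.node (.node (.node (.node (.node (.node (.node (.leaf 40) (.leaf 13195)) (.leaf 2779)) (.node (.leaf 7851) (.leaf 14674))) (.node (.node (.leaf 852) (.leaf 7314)) (.node (.leaf 2244) (.leaf 15330)))) (.node (.node (.node (.leaf 468) (.leaf 13346)) (.node (.leaf 7766) (.leaf 7042))) (.node (.node (.leaf 1231) (.leaf 3487)) (.node (.leaf 7591) (.leaf 14738))))) (.node (.node (.node (.node (.leaf 269) (.leaf 7454)) (.node (.leaf 14398) (.leaf 7086))) (.node (.node (.leaf 12892) (.leaf 7262)) (.node (.leaf 15385) (.leaf 4014)))) (.node (.node (.node (.leaf 659) (.leaf 14526)) (.node (.leaf 2080) (.leaf 6999))) (.node (.node (.leaf 7890) (.leaf 7172)) (.node (.leaf 7543) (.leaf 6816)))))) (.node (.node (.node (.node (.node (.leaf 162) (.leaf 14800)) (.node (.leaf 7829) (.leaf 14358))) (.node (.node (.leaf 947) (.leaf 7290)) (.node (.leaf 7656) (.leaf 6931)))) (.node (.node (.node (.leaf 8077) (.leaf 12776)) (.node (.leaf 7744) (.leaf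 3881))) (.node (.node (.leaf 7912) (.leaf 7197)) (.node (.leaf 2593) (.leaf 6841))))) (.node (.node (.node (.node (.leaf 372) (.leaf 7426)) (.node (.leaf 1834) (.leaf 14339))) (.node (.node (.leaf 7952) (.leaf 7246)) (.node (.leaf 12567) (.leaf 4041)))) (.node (.node (.node (.leaf 757) (.leaf 3216)) (.node (.leaf 2168) (.leaf 3943))) (.node (.node (.leaf 1502) (.leaf 7152)) (.node (.leaf 14665) (.leaf 6794)))))))

def twoRank72 : Janko.Tree (ℕ) :=
  (.node (.node (.node (.node (.node (.node (.node (.leaf 8914) (.leaf 10016)) (.leaf 13653)) (.node (.leaf 1593) (.leaf 3653))) (.node (.node (.leaf 8858) (.leaf 12534)) (.node (.leaf 8747) (.leaf 8561)))) (.node (.node (.node (.leaf 8819) (.leaf 10144)) (.node (.leaf 13314) (.leaf 8597))) (.node (.node (.leaf 8461) (.leaf 10045)) (.node (.leaf 10193) (.leaf 13872))))) (.node (.node (.node (.node (.leaf 9202) (.leaf 16003)) (.node (.leaf 9100) (.leaf 3759))) (.node (.node (.leaf 8473) (.leaf 9013)) (.node (.leaf 8379) (.leaf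 8225)))) (.node (.node (.node (.leaf 12900) (.leaf 3144)) (.node (.leaf 9127) (.leaf 10316))) (.node (.node (.leaf 12599) (.leaf 10395)) (.node (.leaf 2658) (.leaf 14551)))))) (.node (.node (.node (.node (.node (.leaf 8859) (.leaf 14816)) (.node (.leaf 10287) (.leaf 14361))) (.node (.node (.leaf 9160) (.leaf 4231)) (.node (.leaf 10127) (.leaf 9985)))) (.node (.node (.node (.leaf 11971) (.leaf 4260)) (.node (.leaf 10295) (.leaf 8247))) (.node (.node (.leaf 12918) (.leaf 12054)) (.node (.leaf 15890) (.leaf 12303))))) (.node (.node (.node (.node (.leaf 4536) (.leaf 11405)) (.node (.leaf 12390) (.leaf 8257))) (.node (.node (.leaf 1135) (.leaf 11273)) (.node (.leaf 11597) (.leaf 12361)))) (.node (.node (.node (.leaf 8489) (.leaf 8722)) (.node (.leaf 8397) (.leaf 14757))) (.node (.node (.leaf 4434) (.leaf 16080)) (.node (.leaf 12492) (.leaf 15083)))))))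

def twoRank73 : Janko.Tree (ℕ) :=
  (.node (.node (.node (.node (.node (.node (.node (.leaf 41) (.leaf 10149)) (.leaf 2780)) (.node (.leaf 5661) (.leaf 4946))) (.node (.node (.leaf 853) (.leaf 5131)) (.node (.leaf 13233) (.leaf 16045)))) (.node (.node (.node (.leaf 11073) (.leaf 15882)) (.node (.leaf 5573) (.leaf 14658))) (.node (.node (.leaf 1232) (.leaf 14141)) (.node (.leaf 2516) (.leaf 16173))))) (.node (.node (.node (.node (.leaf 270) (.leaf 5264)) (.node (.leaf 1752) (.leaf 4910))) (.node (.node (.leaf 1044) (.leaf 3378)) (.node (.leaf 16255) (.leaf 13471)))) (.node (.node (.node (.leaf 11080) (.leaf 5172)) (.node (.leaf 2081) (.leaf 4812))) (.node (.node (.leaf 5707) (.leaf 5000)) (.node (.leaf 5350) (.leaf 4610)))))) (.node (.node (.node (.node (.node (.leaf 11098) (.leaf 2858)) (.node (.leaf 1676) (.leaf 3717))) (.node (.node (.leaf 14050) (.leaf 3327)) (.node (.leaf 5460) (.leaf 13730)))) (.node (.node (.node (.leaf 561) (.leaf 13290)) (.node (.leaf 5552)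 (.leaf 3882))) (.node (.node (.leaf 5728) (.leaf 3532)) (.node (.leaf 2594) (.leaf 15809))))) (.node (.node (.node (.node (.leaf 373) (.leaf 11607)) (.node (.leaf 5595) (.leaf 15834))) (.node (.node (.leaf 5772) (.leaf 5061)) (.node (.leaf 5418) (.leaf 4042)))) (.node (.node (.node (.leaf 758) (.leaf 3217)) (.node (.leaf 2169) (.leaf 14939))) (.node (.node (.leaf 1503) (.leaf 3619)) (.node (.leaf 2719) (.leaf 11540)))))))

def twoRank74 : Janko.Tree (ℕ) :=
  (.node (.node (.node (.node (.node (.node (.node (.leaf 9968) (.leaf 11185)) (.leaf 6378)) (.node (.leaf 10647) (.leaf 3654))) (.node (.node (.leaf 9860) (.leaf 3277)) (.node (.leaf 9586) (.leaf 15326)))) (.node (.node (.node (.leaf 9831) (.leaf 11657)) (.node (.leaf 13312) (.leaf 9276))) (.node (.node (.leaf 6618) (.leaf 11918)) (.node (.leaf 6424) (.leaf 6056))))) (.node (.node (.node (.node (.leaf 9919) (.leaf 15994)) (.node (.leaf 14402) (.leaf 3760))) (.node (.node (.leaf 6643) (.leaf 10500)) (.node (.leaf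 6449) (.leaf 6080)))) (.node (.node (.node (.leaf 9841) (.leaf 3145)) (.node (.leaf 11600) (.leaf 11257))) (.node (.node (.leaf 1418) (.leaf 15497)) (.node (.leaf 2659) (.leaf 14553)))))) (.node (.node (.node (.node (.node (.leaf 9909) (.leaf 10490)) (.node (.leaf 11838) (.leaf 11194))) (.node (.node (.leaf 10775) (.leaf 11335)) (.node (.leaf 11629) (.leaf 12119)))) (.node (.node (.node (.leaf 9898) (.leaf 3075)) (.node (.leaf 15283) (.leaf 6135))) (.node (.node (.leaf 1325) (.leaf 6227)) (.node (.leaf 6412) (.leaf 6045))))) (.node (.node (.node (.node (.leaf 374) (.leaf 6344)) (.node (.leaf 13582) (.leaf 6160))) (.node (.node (.leaf 1136) (.leaf 11186)) (.node (.leaf 11575) (.leaf 6068)))) (.node (.node (.node (.leaf 6680) (.leaf 9534)) (.node (.leaf 6482) (.leaf 9259))) (.node (.node (.leaf 10662) (.leaf 6208)) (.node (.leaf 9634) (.leaf 15691)))))))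

def twoRank75 : Janko.Tree (ℕ) :=
  (.node (.node (.node (.node (.node (.node (.node (.leaf 8188) (.leaf 11187)) (.leaf 12601)) (.node (.leaf 1594) (.leaf 3655))) (.node (.node (.leaf 8013) (.leaf 12542)) (.node (.leaf 7682) (.leaf 6955)))) (.node (.node (.node (.leaf 8099) (.leaf 7402)) (.node (.leaf 13328) (.leaf 7041))) (.node (.node (.leaf 13574) (.leaf 7222)) (.node (.leaf 12712) (.leaf 13875))))) (.node (.node (.node (.node (.leaf 8144) (.leaf 2925)) (.node (.leaf 7805) (.leaf 3761))) (.node (.node (.leaf 12894) (.leaf 7261)) (.node (.leaf 2370) (.leaf 12266)))) (.node (.node (.node (.leaf 8055) (.leaf 3146)) (.node (.leaf 7721) (.leaf 14150))) (.node (.node (.leaf 12593) (.leaf 15512)) (.node (.leaf 2660) (.leaf 14549)))))) (.node (.node (.node (.node (.node (.leaf 8167) (.leaf 7477)) (.node (.leaf 7828) (.leaf 7113))) (.node (.node (.leaf 7992) (.leaf 3328)) (.node (.leaf 2310) (.leaf 6930)))) (.node (.node (.node (.leaf 8076) (.leaf 3076)) (.node (.leaf 15289)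 (.leaf 12326))) (.node (.node (.leaf 12889) (.leaf 15515)) (.node (.leaf 2595) (.leaf 12301))))) (.node (.node (.node (.node (.leaf 375) (.leaf 2978)) (.node (.leaf 12386) (.leaf 12537))) (.node (.node (.leaf 1137) (.leaf 3427)) (.node (.leaf 2430) (.leaf 12359)))) (.node (.node (.node (.leaf 759) (.leaf 7341)) (.node (.leaf 2170) (.leaf 6975))) (.node (.node (.leaf 14664) (.leaf 14244)) (.node (.leaf 7516) (.leaf 6793)))))))

def twoRank76 : Janko.Tree (ℕ) :=
  (.node (.node (.node (.node (.node (.node (.node (.leaf 42) (.leaf 11183)) (.leaf 10000)) (.node (.leaf 8797) (.leaf 4181))) (.node (.node (.leaf 12907) (.leaf 4237)) (.node (.leaf 4359) (.leaf 15725)))) (.node (.node (.node (.leaf 10174) (.leaf 14216)) (.node (.leaf 11917) (.leaf 10101))) (.node (.node (.leaf 8776) (.leaf 14147)) (.node (.leaf 2517) (.leaf 8917))))) (.node (.node (.node (.node (.leaf 271) (.leaf 14948)) (.node (.leaf 10363) (.leaf 11229))) (.node (.node (.leaf 1045) (.leaf 3379)) (.node (.leaf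 8662) (.leaf 12262)))) (.node (.node (.node (.leaf 660) (.leaf 4251)) (.node (.leaf 2082) (.leaf 11247))) (.node (.node (.leaf 4443) (.leaf 8279)) (.node (.leaf 11505) (.leaf 8576)))))) (.node (.node (.node (.node (.node (.leaf 10252) (.leaf 2859)) (.node (.leaf 1677) (.leaf 10039))) (.node (.node (.leaf 948) (.leaf 11333)) (.node (.leaf 9111) (.leaf 14544)))) (.node (.node (.node (.leaf 562) (.leaf 8274)) (.node (.leaf 8411) (.leaf 14744))) (.node (.node (.leaf 4451) (.leaf 10312)) (.node (.leaf 9030) (.leaf 16424))))) (.node (.node (.node (.node (.leaf 8498) (.leaf 12986)) (.node (.leaf 4400) (.leaf 14721))) (.node (.node (.leaf 4469) (.leaf 4215)) (.node (.leaf 9101) (.leaf 8923)))) (.node (.node (.node (.leaf 8820) (.leaf 4243)) (.node (.leaf 8684) (.leaf 15901))) (.node (.node (.leaf 14678) (.leaf 16070)) (.node (.leaf 2720) (.leaf 16201)))))))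

def twoRank77 : Janko.Tree (ℕ) :=
  (.node (.node (.node (.node (.node (.node (.node (.leaf 6012) (.leaf 11181)) (.leaf 5308)) (.node (.leaf 13640) (.leaf 3656))) (.node (.node (.leaf 5840) (.leaf 11542)) (.node (.leaf 2245) (.leaf 4759)))) (.node (.node (.node (.leaf 5931) (.leaf 5219)) (.node (.leaf 5572) (.leaf 3849))) (.node (.node (.leaf 1233) (.leaf 5043)) (.node (.leaf 5393) (.leaf 16155))))) (.node (.node (.node (.node (.leaf 5972) (.leaf 2926)) (.node (.leaf 5619) (.leaf 4909))) (.node (.node (.leaf 5795) (.leaf 5086)) (.node (.leaf 2371) (.leaf 4015)))) (.node (.node (.node (.leaf 5886) (.leaf 3147)) (.node (.leaf 5528) (.leaf 3918))) (.node (.node (.leaf 1419) (.leaf 3578)) (.node (.leaf 5349) (.leaf 15875)))))) (.node (.node (.node (.node (.node (.leaf 5993) (.leaf 5286)) (.node (.leaf 5640) (.leaf 4927))) (.node (.node (.leaf 5818) (.leaf 10901)) (.node (.leaf 2311) (.leaf 4735)))) (.node (.node (.node (.leaf 5908) (.leaf 3077)) (.node (.leaf 12948) (.leaf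 4832))) (.node (.node (.leaf 1326) (.leaf 14686)) (.node (.leaf 11012) (.leaf 4636))))) (.node (.node (.node (.node (.leaf 376) (.leaf 2979)) (.node (.leaf 1835) (.leaf 4884))) (.node (.node (.leaf 1138) (.leaf 3428)) (.node (.leaf 2431) (.leaf 4043)))) (.node (.node (.node (.leaf 760) (.leaf 3218)) (.node (.leaf 12442) (.leaf 4784))) (.node (.node (.leaf 1504) (.leaf 10966)) (.node (.leaf 5332) (.leaf 4583)))))))

def twoRank78 : Janko.Tree (ℕ) :=
  (.node (.node (.node (.node (.node (.node (.leaf 43) (.leaf 2781)) (.node (.leaf 9714) (.leaf 11226))) (.node (.node (.leaf 854) (.leaf 10527)) (.node (.leaf 10558) (.leaf 15821)))) (.node (.node (.node (.leaf 469) (.leaf 14218)) (.node (.leaf 1928) (.leaf 11507))) (.node (.node (.leaf 13584) (.leaf 14139)) (.node (.leaf 2518) (.leaf 10457))))) (.node (.node (.node (.node (.leaf 272) (.leaf 6354)) (.node (.leaf 1753) (.leaf 11182))) (.node (.node (.leaf 10652) (.leaf 14260)) (.node (.leaf 9553) (.leaf 9290)))) (.node (.node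 (.node (.leaf 661) (.leaf 11550)) (.node (.leaf 14035) (.leaf 6122))) (.node (.node (.leaf 10741) (.leaf 6219)) (.node (.leaf 11511) (.leaf 9238)))))) (.node (.node (.node (.node (.node (.leaf 163) (.leaf 2860)) (.node (.leaf 1678) (.leaf 11549))) (.node (.node (.leaf 949) (.leaf 6276)) (.node (.leaf 11676) (.leaf 14546)))) (.node (.node (.node (.leaf 563) (.leaf 6324)) (.node (.leaf 6506) (.leaf 14742))) (.node (.node (.leaf 11512) (.leaf 15518)) (.node (.leaf 9515) (.leaf 16430))))) (.node (.node (.node (.node (.leaf 6727) (.leaf 9427)) (.node (.leaf 10693) (.leaf 14715))) (.node (.node (.leaf 1139) (.leaf 11987)) (.node (.leaf 10703) (.leaf 10461)))) (.node (.node (.node (.leaf 9833) (.leaf 10533)) (.node (.leaf 9607) (.leaf 15909))) (.node (.node (.leaf 10664) (.leaf 14284)) (.node (.leaf 2721) (.leaf 16182)))))))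

def twoRank79 : Janko.Tree (ℕ) :=
  (.node (.node (.node (.node (.node (.node (.leaf 44) (.leaf 2782)) (.node (.leaf 7850) (.leaf 14431))) (.node (.node (.leaf 12893) (.leaf 3278)) (.node (.leaf 2246) (.leaf 16422)))) (.node (.node (.node (.leaf 12958) (.leaf 14214)) (.node (.leaf 1929) (.leaf 7040))) (.node (.node (.leaf 7931) (.leaf 14145)) (.node (.leaf 2519) (.leaf 6861))))) (.node (.node (.node (.node (.leaf 273) (.leaf 2927)) (.node (.leaf 1754) (.leaf 3762))) (.node (.node (.leaf 1046) (.leaf 12932)) (.node (.leaf 7629) (.leaf 6904)))) (.node (.node (.node (.leaf 662) (.leaf 14329)) (.node (.leaf 13137) (.leaf 15348))) (.node (.node (.leaf 1420) (.leaf 15674)) (.node (.leaf 2661) (.leaf 6815)))))) (.node (.node (.node (.node (.node (.leaf 164) (.leaf 2861)) (.node (.leaf 1679) (.leaf 3718))) (.node (.node (.leaf 950) (.leaf 14217)) (.node (.leaf 7655) (.leaf 14536)))) (.node (.node (.node (.leaf 564) (.leaf 3078)) (.node (.leaf 2011) (.leaf 14728))) (.node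 (.node (.leaf 1327) (.leaf 7196)) (.node (.leaf 7569) (.leaf 4072))))) (.node (.node (.node (.node (.leaf 377) (.leaf 7425)) (.node (.leaf 13844) (.leaf 14707))) (.node (.node (.leaf 12782) (.leaf 16454)) (.node (.leaf 7608) (.leaf 6882)))) (.node (.node (.node (.leaf 8034) (.leaf 16416)) (.node (.leaf 7704) (.leaf 3944))) (.node (.node (.leaf 7871) (.leaf 7151)) (.node (.leaf 2722) (.leaf 16294)))))))

def twoRank80 : Janko.Tree (ℕ) :=
  (.node (.node (.node (.node (.node (.node (.leaf 10173) (.leaf 9073)) (.node (.leaf 10262) (.leaf 11224))) (.node (.node (.leaf 4495) (.leaf 8964)) (.node (.leaf 9062) (.leaf 10281)))) (.node (.node (.node (.leaf 8507) (.leaf 15733)) (.node (.leaf 8415) (.leaf 3850))) (.node (.node (.leaf 1234) (.leaf 8289)) (.node (.leaf 4328) (.leaf 15844))))) (.node (.node (.node (.node (.leaf 4543) (.leaf 15006)) (.node (.leaf 9145) (.leaf 4165))) (.node (.node (.leaf 12904) (.leaf 8700)) (.node (.leaf 2372) (.leaf 15829)))) (.node (.node (.node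 (.leaf 4510) (.leaf 11189)) (.node (.leaf 11560) (.leaf 14152))) (.node (.node (.leaf 9130) (.leaf 12184)) (.node (.leaf 9085) (.leaf 12278)))))) (.node (.node (.node (.node (.node (.leaf 8529) (.leaf 4287)) (.node (.leaf 13281) (.leaf 8973))) (.node (.node (.leaf 4486) (.leaf 8958)) (.node (.leaf 2312) (.leaf 8229)))) (.node (.node (.node (.leaf 4519) (.leaf 8577)) (.node (.leaf 8694) (.leaf 14106))) (.node (.node (.leaf 11502) (.leaf 12134)) (.node (.leaf 12949) (.leaf 15843))))) (.node (.node (.node (.node (.leaf 8831) (.leaf 12990)) (.node (.leaf 1836) (.leaf 12533))) (.node (.node (.leaf 8432) (.leaf 11985)) (.node (.leaf 4337) (.leaf 16262)))) (.node (.node (.node (.leaf 761) (.leaf 16213)) (.node (.leaf 2171) (.leaf 15784))) (.node (.node (.leaf 13666) (.leaf 15756)) (.node (.leaf 4304) (.leaf 4096)))))))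

def twoRank81 : Janko.Tree (ℕ) :=
  (.node (.node (.node (.node (.node (.node (.leaf 6011) (.leaf 2783)) (.node (.leaf 1595) (.leaf 10888))) (.node (.node (.leaf 855) (.leaf 13455)) (.node (.leaf 2247) (.leaf 3967)))) (.node (.node (.node (.leaf 470) (.leaf 10992)) (.node (.leaf 1930) (.leaf 4857))) (.node (.node (.leaf 5751) (.leaf 11455)) (.node (.leaf 2520) (.leaf 4663))))) (.node (.node (.node (.node (.leaf 274) (.leaf 10971)) (.node (.leaf 1755) (.leaf 3763))) (.node (.node (.leaf 1047) (.leaf 16382)) (.node (.leaf 5442) (.leaf 4714)))) (.node (.node (.node (.leaf 663) (.leaf 10896)) (.node (.leaf 2083) (.leaf 3919))) (.node (.node (.leaf 14018) (.leaf 4999)) (.node (.leaf 15224) (.leaf 4609)))))) (.node (.node (.node (.node (.node (.leaf 165) (.leaf 14015)) (.node (.leaf 5639) (.leaf 16000))) (.node (.node (.leaf 951) (.leaf 15723)) (.node (.leaf 5459) (.leaf 11201)))) (.node (.node (.node (.leaf 565) (.leaf 11623)) (.node (.leaf 2012) (.leaf 4831))) (.node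 (.node (.leaf 10747) (.leaf 5025)) (.node (.leaf 5371) (.leaf 10929))))) (.node (.node (.node (.node (.leaf 11090) (.leaf 5244)) (.node (.leaf 5594) (.leaf 3810))) (.node (.node (.leaf 1140) (.leaf 10584)) (.node (.leaf 2432) (.leaf 4688)))) (.node (.node (.node (.leaf 5862) (.leaf 13538)) (.node (.leaf 5502) (.leaf 12467))) (.node (.node (.leaf 5683) (.leaf 4972)) (.node (.leaf 2723) (.leaf 13813)))))))

def twoRank82 : Janko.Tree (ℕ) :=
  (.node (.node (.node (.node (.node (.node (.leaf 45) (.leaf 14027)) (.node (.leaf 6567) (.leaf 6194))) (.node (.node (.leaf 10742) (.leaf 10525)) (.node (.leaf 10560) (.leaf 15437)))) (.node (.node (.node (.leaf 6715) (.leaf 15727)) (.node (.leaf 6518) (.leaf 3851))) (.node (.node (.leaf 10691) (.leaf 6240)) (.node (.leaf 10528) (.leaf 15846))))) (.node (.node (.node (.node (.leaf 275) (.leaf 9443)) (.node (.leaf 10704) (.leaf 11960))) (.node (.node (.leaf 9840) (.leaf 9482)) (.node (.leaf 13283) (.leaf 13790)))) (.node (.node (.node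 (.leaf 664) (.leaf 6310)) (.node (.leaf 6494) (.leaf 15404))) (.node (.node (.leaf 10739) (.leaf 3579)) (.node (.leaf 10685) (.leaf 4081)))))) (.node (.node (.node (.node (.node (.leaf 6753) (.leaf 2862)) (.node (.leaf 13279) (.leaf 12084))) (.node (.node (.leaf 11804) (.leaf 14215)) (.node (.leaf 14251) (.leaf 6090)))) (.node (.node (.node (.leaf 566) (.leaf 9317)) (.node (.leaf 9633) (.leaf 13366))) (.node (.node (.leaf 6605) (.leaf 12122)) (.node (.leaf 15491) (.leaf 14057))))) (.node (.node (.node (.node (.leaf 9847) (.leaf 15417)) (.node (.leaf 1837) (.leaf 9374))) (.node (.node (.leaf 6631) (.leaf 6254)) (.node (.leaf 11587) (.leaf 16272)))) (.node (.node (.node (.leaf 10753) (.leaf 10531)) (.node (.leaf 12124) (.leaf 6113))) (.node (.node (.leaf 13656) (.leaf 10879)) (.node (.leaf 2724) (.leaf 15916)))))))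

def twoRank83 : Janko.Tree (ℕ) :=
  (.node (.node (.node (.node (.node (.node (.leaf 46) (.leaf 7497)) (.node (.leaf 12890) (.leaf 14406))) (.node (.node (.leaf 856) (.leaf 7313)) (.node (.leaf 7681) (.leaf 6954)))) (.node (.node (.node (.leaf 12960) (.leaf 7401)) (.node (.leaf 1931) (.leaf 3852))) (.node (.node (.leaf 13858) (.leaf 3488)) (.node (.leaf 16207) (.leaf 16441))))) (.node (.node (.node (.node (.leaf 13107) (.leaf 7453)) (.node (.leaf 7804) (.leaf 3764))) (.node (.node (.leaf 7972) (.leaf 7260)) (.node (.leaf 2373) (.leaf 4016)))) (.node (.node (.node (.leaf 665) (.leaf 14316)) (.node (.leaf 2084) (.leaf 6998))) (.node (.node (.leaf 7889) (.leaf 12182)) (.node (.leaf 7542) (.leaf 12178)))))) (.node (.node (.node (.node (.node (.leaf 166) (.leaf 12290)) (.node (.leaf 13275) (.leaf 7112))) (.node (.node (.leaf 952) (.leaf 7289)) (.node (.leaf 12938) (.leaf 3986)))) (.node (.node (.node (.leaf 567) (.leaf 7376)) (.node (.leaf 7743) (.leaf 13364))) (.node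 (.node (.leaf 1328) (.leaf 3533)) (.node (.leaf 15291) (.leaf 6840))))) (.node (.node (.node (.node (.leaf 8121) (.leaf 12988)) (.node (.leaf 1838) (.leaf 7060))) (.node (.node (.leaf 1141) (.leaf 3429)) (.node (.leaf 2433) (.leaf 16445)))) (.node (.node (.node (.leaf 762) (.leaf 7340)) (.node (.leaf 2172) (.leaf 3945))) (.node (.node (.leaf 13664) (.leaf 13443)) (.node (.leaf 12342) (.leaf 15273)))))))

def twoRank84 : Janko.Tree (ℕ) :=
  (.node (.node (.node (.node (.node (.node (.leaf 8537) (.leaf 11568)) (.node (.leaf 1596) (.leaf 14423))) (.node (.node (.leaf 9166) (.leaf 9031)) (.node (.leaf 14450) (.leaf 15445)))) (.node (.node (.node (.leaf 471) (.leaf 8331)) (.node (.leaf 8706) (.leaf 4154))) (.node (.node (.leaf 10053) (.leaf 8586)) (.node (.leaf 16221) (.leaf 15477))))) (.node (.node (.node (.node (.leaf 8508) (.leaf 14842)) (.node (.leaf 1756) (.leaf 11950))) (.node (.node (.leaf 4477) (.leaf 12481)) (.node (.leaf 8729) (.leaf 14879)))) (.node (.node (.node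 (.leaf 8472) (.leaf 14326)) (.node (.leaf 10374) (.leaf 10040))) (.node (.node (.leaf 1421) (.leaf 15150)) (.node (.leaf 4313) (.leaf 4099)))))) (.node (.node (.node (.node (.node (.leaf 8880) (.leaf 8288)) (.node (.leaf 4416) (.leaf 12097))) (.node (.node (.leaf 11810) (.leaf 10271)) (.node (.leaf 11626) (.leaf 8555)))) (.node (.node (.node (.leaf 8482) (.leaf 15810)) (.node (.leaf 2013) (.leaf 16061))) (.node (.node (.leaf 9134) (.leaf 12436)) (.node (.leaf 8363) (.leaf 15077))))) (.node (.node (.node (.node (.leaf 10305) (.leaf 4274)) (.node (.leaf 12743) (.leaf 14959))) (.node (.node (.leaf 12780) (.leaf 16235)) (.node (.leaf 11589) (.leaf 15967)))) (.node (.node (.node (.leaf 8845) (.leaf 3219)) (.node (.leaf 8753) (.leaf 16023))) (.node (.node (.leaf 10090) (.leaf 15947)) (.node (.leaf 8298) (.leaf 14791)))))))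

def twoRank85 : Janko.Tree (ℕ) :=
  (.node (.node (.node (.node (.node (.node (.leaf 47) (.leaf 15656)) (.node (.leaf 5660) (.leaf 3657))) (.node (.node (.leaf 13868) (.leaf 3279)) (.node (.leaf 5481) (.leaf 4758)))) (.node (.node (.node (.leaf 5930) (.leaf 12917)) (.node (.leaf 12379) (.leaf 3853))) (.node (.node (.leaf 1235) (.leaf 3489)) (.node (.leaf 2521) (.leaf 11692))))) (.node (.node (.node (.node (.leaf 276) (.leaf 5263)) (.node (.leaf 5618) (.leaf 10893))) (.node (.node (.leaf 1048) (.leaf 5085)) (.node (.leaf 13287) (.leaf 13794)))) (.node (.node (.node (.leaf 666) (.leaf 3148)) (.node (.leaf 2085) (.leaf 4811))) (.node (.node (.leaf 5706) (.leaf 14403)) (.node (.leaf 2662) (.leaf 11210)))))) (.node (.node (.node (.node (.node (.leaf 167) (.leaf 15629)) (.node (.leaf 1680) (.leaf 3719))) (.node (.node (.leaf 10920) (.leaf 5107)) (.node (.leaf 2313) (.leaf 3987)))) (.node (.node (.node (.leaf 568) (.leaf 5199)) (.node (.leaf 5551) (.leaf 4830))) (.node (.node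 (.leaf 1329) (.leaf 3534)) (.node (.leaf 12953) (.leaf 4635))))) (.node (.node (.node (.node (.leaf 5951) (.leaf 2980)) (.node (.leaf 1839) (.leaf 4883))) (.node (.node (.leaf 11021) (.leaf 16341)) (.node (.leaf 10911) (.leaf 4687)))) (.node (.node (.node (.leaf 13487) (.leaf 5151)) (.node (.leaf 13633) (.leaf 10941))) (.node (.node (.leaf 1505) (.leaf 3620)) (.node (.leaf 16321) (.leaf 4582)))))))

def twoRank86 : Janko.Tree (ℕ) :=
  (.node (.node (.node (.node (.node (.node (.leaf 6768) (.leaf 11591)) (.node (.leaf 1597) (.leaf 13703))) (.node (.node (.leaf 13958) (.leaf 10524)) (.node (.leaf 14448) (.leaf 15180)))) (.node (.node (.node (.leaf 10758) (.leaf 6334)) (.node (.leaf 9649) (.leaf 14100))) (.node (.node (.leaf 6617) (.leaf 9343)) (.node (.leaf 10530) (.leaf 15470))))) (.node (.node (.node (.node (.leaf 6740) (.leaf 10847)) (.node (.leaf 13724) (.leaf 6167))) (.node (.node (.leaf 1049) (.leaf 3380)) (.node (.leaf 9552) (.leaf 9288)))) (.node (.node (.node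 (.leaf 6692) (.leaf 13447)) (.node (.leaf 9617) (.leaf 11290))) (.node (.node (.leaf 1422) (.leaf 14395)) (.node (.leaf 11525) (.leaf 10423)))))) (.node (.node (.node (.node (.node (.leaf 9947) (.leaf 6365)) (.node (.leaf 1681) (.leaf 9412))) (.node (.node (.leaf 6655) (.leaf 11316)) (.node (.leaf 6460) (.leaf 9241)))) (.node (.node (.node (.leaf 6704) (.leaf 10868)) (.node (.leaf 10587) (.leaf 13966))) (.node (.node (.leaf 9753) (.leaf 9444)) (.node (.leaf 6411) (.leaf 16044))))) (.node (.node (.node (.node (.leaf 378) (.leaf 15532)) (.node (.leaf 9764) (.leaf 14617))) (.node (.node (.leaf 9781) (.leaf 9363)) (.node (.leaf 6436) (.leaf 4044)))) (.node (.node (.node (.leaf 9832) (.leaf 3220)) (.node (.leaf 9606) (.leaf 9257))) (.node (.node (.leaf 6579) (.leaf 14288)) (.node (.leaf 6391) (.leaf 10407)))))))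

def twoRank87 : Janko.Tree (ℕ) :=
  (.node (.node (.node (.node (.node (.node (.leaf 48) (.leaf 7496)) (.node (.leaf 1598) (.leaf 7134))) (.node (.node (.leaf 8012) (.leaf 7312)) (.node (.leaf 14441) (.leaf 15613)))) (.node (.node (.node (.leaf 472) (.leaf 3031)) (.node (.leaf 7765) (.leaf 12944))) (.node (.node (.leaf 1236) (.leaf 7221)) (.node (.leaf 7590) (.leaf 6860))))) (.node (.node (.node (.node (.leaf 277) (.leaf 2928)) (.node (.leaf 13716) (.leaf 14206))) (.node (.node (.leaf 1050) (.leaf 12485)) (.node (.leaf 7628) (.leaf 6903)))) (.node (.node (.node (.leaf 667) (.leaf 7362)) (.node (.leaf 7720) (.leaf 16432))) (.node (.node (.leaf 1423) (.leaf 7171)) (.node (.leaf 2663) (.leaf 16407)))))) (.node (.node (.node (.node (.node (.leaf 8166) (.leaf 2863)) (.node (.leaf 1682) (.leaf 7111))) (.node (.node (.leaf 13979) (.leaf 3329)) (.node (.leaf 2314) (.leaf 6929)))) (.node (.node (.node (.leaf 569) (.leaf 16410)) (.node (.leaf 2014) (.leaf 13964))) (.node (.node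 (.leaf 7911) (.leaf 7195)) (.node (.leaf 2596) (.leaf 15820))))) (.node (.node (.node (.node (.leaf 379) (.leaf 12983)) (.node (.leaf 7786) (.leaf 14615))) (.node (.node (.leaf 7951) (.leaf 7245)) (.node (.leaf 14004) (.leaf 4045)))) (.node (.node (.node (.leaf 8033) (.leaf 3221)) (.node (.leaf 7703) (.leaf 6974))) (.node (.node (.leaf 1506) (.leaf 7150)) (.node (.leaf 13291) (.leaf 14793)))))))

def twoRank88 : Janko.Tree (ℕ) :=
  (.node (.node (.node (.node (.node (.node (.leaf 8906) (.leaf 12550)) (.node (.leaf 4425) (.leaf 10020))) (.node (.node (.leaf 11820) (.leaf 3280)) (.node (.leaf 14429) (.leaf 14529)))) (.node (.node (.node (.leaf 12974) (.leaf 8616)) (.node (.leaf 1932) (.leaf 14112))) (.node (.node (.leaf 12758) (.leaf 3490)) (.node (.leaf 13485) (.leaf 14780))))) (.node (.node (.node (.node (.leaf 12978) (.leaf 10086)) (.node (.leaf 4408) (.leaf 8926))) (.node (.node (.leaf 8440) (.leaf 4224)) (.node (.leaf 8790) (.leaf 15076)))) (.node (.node (.node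 (.leaf 8793) (.leaf 10035)) (.node (.leaf 2086) (.leaf 8943))) (.node (.node (.leaf 4442) (.leaf 3580)) (.node (.leaf 11523) (.leaf 16156)))))) (.node (.node (.node (.node (.node (.leaf 8897) (.leaf 12296)) (.node (.leaf 8380) (.leaf 14839))) (.node (.node (.leaf 9158) (.leaf 9021)) (.node (.leaf 10128) (.leaf 3988)))) (.node (.node (.node (.leaf 8807) (.leaf 3079)) (.node (.leaf 8763) (.leaf 3883))) (.node (.node (.leaf 1330) (.leaf 12148)) (.node (.leaf 8646) (.leaf 14896))))) (.node (.node (.node (.node (.leaf 8511) (.leaf 15016)) (.node (.leaf 12737) (.leaf 4159))) (.node (.node (.leaf 10217) (.leaf 12574)) (.node (.leaf 9038) (.leaf 16081)))) (.node (.node (.node (.leaf 10152) (.leaf 4242)) (.node (.leaf 10095) (.leaf 16015))) (.node (.node (.leaf 10094) (.leaf 14302)) (.node (.leaf 12332) (.leaf 15692)))))))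

def twoRank89 : Janko.Tree (ℕ) :=
  (.node (.node (.node (.node (.node (.node (.leaf 49) (.leaf 16389)) (.node (.leaf 1599) (.leaf 4945))) (.node (.node (.leaf 5839) (.leaf 5130)) (.node (.leaf 5480) (.leaf 4757)))) (.node (.node (.node (.leaf 473) (.leaf 3032)) (.node (.leaf 5571) (.leaf 4856))) (.node (.node (.leaf 1237) (.leaf 5042)) (.node (.leaf 5392) (.leaf 4662))))) (.node (.node (.node (.node (.leaf 11087) (.leaf 14519)) (.node (.leaf 1757) (.leaf 15043))) (.node (.node (.leaf 1051) (.leaf 16247)) (.node (.leaf 2374) (.leaf 13788)))) (.node (.node (.node (.leaf 11078) (.leaf 5171)) (.node (.leaf 5527) (.leaf 14873))) (.node (.node (.leaf 1424) (.leaf 4998)) (.node (.leaf 10909) (.leaf 15856)))))) (.node (.node (.node (.node (.node (.leaf 168) (.leaf 11140)) (.node (.leaf 1683) (.leaf 3720))) (.node (.node (.leaf 953) (.leaf 3330)) (.node (.leaf 16082) (.leaf 4734)))) (.node (.node (.node (.leaf 11063) (.leaf 5198)) (.node (.leaf 13268) (.leaf 4829))) (.node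 (.node (.leaf 5727) (.leaf 14935)) (.node (.leaf 2597) (.leaf 14502))))) (.node (.node (.node (.node (.leaf 380) (.leaf 5243)) (.node (.leaf 5593) (.leaf 3811))) (.node (.node (.leaf 5771) (.leaf 16401)) (.node (.leaf 2434) (.leaf 14687)))) (.node (.node (.node (.leaf 763) (.leaf 3222)) (.node (.leaf 2173) (.leaf 11115))) (.node (.node (.leaf 1507) (.leaf 4971)) (.node (.leaf 11144) (.leaf 13198)))))))

def twoRank90 : Janko.Tree (ℕ) :=
  (.node (.node (.node (.node (.node (.node (.leaf 9967) (.leaf 6377)) (.node (.leaf 10646) (.leaf 3658))) (.node (.node (.leaf 11827) (.leaf 14337)) (.node (.leaf 2248) (.leaf 15388)))) (.node (.node (.node (.leaf 9916) (.leaf 9425)) (.node (.leaf 11904) (.leaf 13944))) (.node (.node (.leaf 9765) (.leaf 10443)) (.node (.leaf 13483) (.leaf 15201))))) (.node (.node (.node (.node (.leaf 9917) (.leaf 11434)) (.node (.leaf 13430) (.leaf 14204))) (.node (.node (.leaf 6642) (.leaf 14261)) (.node (.leaf 9692) (.leaf 10748)))) (.node (.node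 (.node (.leaf 9791) (.leaf 3149)) (.node (.leaf 2087) (.leaf 11297))) (.node (.node (.leaf 11574) (.leaf 15189)) (.node (.leaf 6402) (.leaf 10422)))))) (.node (.node (.node (.node (.node (.leaf 9946) (.leaf 9455)) (.node (.leaf 6555) (.leaf 6180))) (.node (.node (.leaf 13994) (.leaf 11340)) (.node (.leaf 9571) (.leaf 10420)))) (.node (.node (.node (.leaf 9809) (.leaf 15555)) (.node (.leaf 9632) (.leaf 3884))) (.node (.node (.leaf 1331) (.leaf 12151)) (.node (.leaf 9513) (.leaf 14505))))) (.node (.node (.node (.node (.leaf 6726) (.leaf 2981)) (.node (.leaf 1840) (.leaf 3812))) (.node (.node (.leaf 1142) (.leaf 6253)) (.node (.leaf 14010) (.leaf 6067)))) (.node (.node (.node (.leaf 6679) (.leaf 11944)) (.node (.leaf 6481) (.leaf 16459))) (.node (.node (.leaf 9729) (.leaf 14278)) (.node (.leaf 13295) (.leaf 9226)))))))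

def twoRank91 : Janko.Tree (ℕ) :=
  (.node (.node (.node (.node (.node (.node (.leaf 8187) (.leaf 12552)) (.node (.leaf 1600) (.leaf 3659))) (.node (.node (.leaf 857) (.leaf 12754)) (.node (.leaf 2249) (.leaf 14527)))) (.node (.node (.node (.leaf 8098) (.leaf 7400)) (.node (.leaf 1933) (.leaf 13938))) (.node (.node (.leaf 7930) (.leaf 3491)) (.node (.leaf 13500) (.leaf 14778))))) (.node (.node (.node (.node (.leaf 8143) (.leaf 7452)) (.node (.leaf 13421) (.leaf 7085))) (.node (.node (.leaf 1052) (.leaf 3381)) (.node (.leaf 7627) (.leaf 6902)))) (.node (.node (.node (.leaf 8054) (.leaf 3150)) (.node (.leaf 2088) (.leaf 6997))) (.node (.node (.leaf 1425) (.leaf 15473)) (.node (.leaf 13367) (.leaf 6814)))))) (.node (.node (.node (.node (.node (.leaf 8165) (.leaf 7476)) (.node (.leaf 1684) (.leaf 3721))) (.node (.node (.leaf 7991) (.leaf 7288)) (.node (.leaf 7654) (.leaf 3989)))) (.node (.node (.node (.leaf 8075) (.leaf 3080)) (.node (.leaf 7742) (.leaf 3885))) (.node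 (.node (.leaf 1332) (.leaf 7194)) (.node (.leaf 7568) (.leaf 6839))))) (.node (.node (.node (.node (.leaf 381) (.leaf 2982)) (.node (.leaf 12731) (.leaf 13096))) (.node (.node (.leaf 1143) (.leaf 12576)) (.node (.leaf 7607) (.leaf 13856)))) (.node (.node (.node (.leaf 13094) (.leaf 3223)) (.node (.leaf 2174) (.leaf 6973))) (.node (.node (.leaf 7870) (.leaf 14280)) (.node (.leaf 7515) (.leaf 6792)))))))

def twoRank92 : Janko.Tree (ℕ) :=
  (.node (.node (.node (.node (.node (.node (.leaf 50) (.leaf 2784)) (.node (.leaf 9116) (.leaf 11221))) (.node (.node (.leaf 10254) (.leaf 4236)) (.node (.leaf 9119) (.leaf 15786)))) (.node (.node (.node (.leaf 11878) (.leaf 3033)) (.node (.leaf 8769) (.leaf 14096))) (.node (.node (.leaf 1238) (.leaf 8627)) (.node (.leaf 11976) (.leaf 15485))))) (.node (.node (.node (.node (.leaf 10199) (.leaf 14165)) (.node (.leaf 4407) (.leaf 9975))) (.node (.node (.leaf 8739) (.leaf 8950)) (.node (.leaf 12341) (.leaf 16042)))) (.node (.node (.node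 (.leaf 10131) (.leaf 11545)) (.node (.leaf 4376) (.leaf 14860))) (.node (.node (.leaf 11598) (.leaf 13237)) (.node (.leaf 9018) (.leaf 14700)))))) (.node (.node (.node (.node (.node (.leaf 169) (.leaf 10388)) (.node (.leaf 8661) (.leaf 15079))) (.node (.node (.leaf 10385) (.leaf 11313)) (.node (.leaf 4352) (.leaf 8575)))) (.node (.node (.node (.leaf 10332) (.leaf 11618)) (.node (.leaf 4382) (.leaf 4147))) (.node (.node (.leaf 12895) (.leaf 3535)) (.node (.leaf 2598) (.leaf 15100))))) (.node (.node (.node (.node (.leaf 8850) (.leaf 14898)) (.node (.leaf 4399) (.leaf 8222))) (.node (.node (.leaf 10226) (.leaf 9999)) (.node (.leaf 10358) (.leaf 15944)))) (.node (.node (.node (.leaf 764) (.leaf 11946)) (.node (.leaf 10091) (.leaf 8239))) (.node (.node (.leaf 11435) (.leaf 14346)) (.node (.leaf 9991) (.leaf 12221)))))))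

def twoRank93 : Janko.Tree (ℕ) :=
  (.node (.node (.node (.node (.node (.node (.leaf 6010) (.leaf 5307)) (.node (.leaf 1601) (.leaf 4944))) (.node (.node (.leaf 858) (.leaf 13272)) (.node (.leaf 2250) (.leaf 12443)))) (.node (.node (.node (.leaf 474) (.leaf 5218)) (.node (.leaf 13504) (.leaf 4855))) (.node (.node (.leaf 5750) (.leaf 14650)) (.node (.leaf 5391) (.leaf 4661))))) (.node (.node (.node (.node (.leaf 5971) (.leaf 5262)) (.node (.leaf 1758) (.leaf 4908))) (.node (.node (.leaf 11077) (.leaf 14253)) (.node (.leaf 5441) (.leaf 4713)))) (.node (.node (.node (.leaf 5885) (.leaf 5170)) (.node (.leaf 2089) (.leaf 4810))) (.node (.node (.leaf 10916) (.leaf 3581)) (.node (.leaf 2664) (.leaf 4082)))))) (.node (.node (.node (.node (.node (.leaf 5992) (.leaf 2864)) (.node (.leaf 11051) (.leaf 14975))) (.node (.node (.leaf 5817) (.leaf 3331)) (.node (.leaf 15620) (.leaf 15686)))) (.node (.node (.node (.leaf 5907) (.leaf 3081)) (.node (.leaf 2015) (.leaf 3886))) (.node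 (.node (.leaf 1333) (.leaf 5024)) (.node (.leaf 5370) (.leaf 15749))))) (.node (.node (.node (.node (.leaf 382) (.leaf 2983)) (.node (.leaf 1841) (.leaf 15351))) (.node (.node (.leaf 1144) (.leaf 5060)) (.node (.leaf 5417) (.leaf 10931)))) (.node (.node (.node (.leaf 5861) (.leaf 10894)) (.node (.leaf 12469) (.leaf 11244))) (.node (.node (.leaf 5682) (.leaf 3621)) (.node (.leaf 5331) (.leaf 4581)))))))

def twoRank94 : Janko.Tree (ℕ) :=
  (.node (.node (.node (.node (.node (.node (.leaf 51) (.leaf 2785)) (.node (.leaf 10648) (.leaf 11284))) (.node (.node (.leaf 9858) (.leaf 3281)) (.node (.leaf 15108) (.leaf 6100)))) (.node (.node (.node (.leaf 6714) (.leaf 10473)) (.node (.leaf 9648) (.leaf 14073))) (.node (.node (.leaf 1239) (.leaf 9342)) (.node (.leaf 2522) (.leaf 15855))))) (.node (.node (.node (.node (.leaf 278) (.leaf 14163)) (.node (.leaf 1759) (.leaf 11956))) (.node (.node (.leaf 9709) (.leaf 14259)) (.node (.leaf 2375) (.leaf 14586)))) (.node (.node (.node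 (.leaf 668) (.leaf 11552)) (.node (.leaf 14024) (.leaf 13903))) (.node (.node (.leaf 6592) (.leaf 6218)) (.node (.leaf 13885) (.leaf 15015)))))) (.node (.node (.node (.node (.node (.leaf 170) (.leaf 11790)) (.node (.leaf 9551) (.leaf 9297))) (.node (.node (.leaf 954) (.leaf 6275)) (.node (.leaf 14202) (.leaf 9240)))) (.node (.node (.node (.leaf 570) (.leaf 9546)) (.node (.leaf 10586) (.leaf 12015))) (.node (.node (.leaf 6604) (.leaf 3536)) (.node (.leaf 10513) (.leaf 6044))))) (.node (.node (.node (.node (.leaf 9893) (.leaf 6343)) (.node (.leaf 11373) (.leaf 6159))) (.node (.node (.leaf 6630) (.leaf 11981)) (.node (.leaf 11557) (.leaf 13842)))) (.node (.node (.node (.leaf 765) (.leaf 6296)) (.node (.leaf 9603) (.leaf 6112))) (.node (.node (.leaf 11423) (.leaf 6207)) (.node (.leaf 15434) (.leaf 15871)))))))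

def twoRank95 : Janko.Tree (ℕ) :=
  (.node (.node (.node (.node (.node (.node (.leaf 52) (.leaf 2786)) (.node (.leaf 7849) (.leaf 3660))) (.node (.node (.leaf 8011) (.leaf 12535)) (.node (.leaf 7680) (.leaf 3968)))) (.node (.node (.node (.leaf 475) (.leaf 3034)) (.node (.leaf 7764) (.leaf 13917))) (.node (.node (.leaf 1240) (.leaf 7220)) (.node (.leaf 2523) (.leaf 4061))))) (.node (.node (.node (.node (.leaf 279) (.leaf 14157)) (.node (.leaf 12747) (.leaf 3765))) (.node (.node (.leaf 7971) (.leaf 7259)) (.node (.leaf 12331) (.leaf 12762)))) (.node (.node (.node (.leaf 12927) (.leaf 3151)) (.node (.leaf 14028) (.leaf 12861))) (.node (.node (.leaf 13807) (.leaf 13997)) (.node (.leaf 7541) (.leaf 6813)))))) (.node (.node (.node (.node (.node (.leaf 171) (.leaf 7475)) (.node (.leaf 7827) (.leaf 7110))) (.node (.node (.leaf 955) (.leaf 15338)) (.node (.leaf 14196) (.leaf 6928)))) (.node (.node (.node (.leaf 13035) (.leaf 7375)) (.node (.leaf 2016) (.leaf 14533))) (.node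 (.node (.leaf 12905) (.leaf 3537)) (.node (.leaf 2599) (.leaf 4073))))) (.node (.node (.node (.node (.leaf 8120) (.leaf 14628)) (.node (.leaf 1842) (.leaf 14274))) (.node (.node (.leaf 1145) (.leaf 3430)) (.node (.leaf 2435) (.leaf 6881)))) (.node (.node (.node (.leaf 766) (.leaf 14540)) (.node (.leaf 7702) (.leaf 14749))) (.node (.node (.leaf 1508) (.leaf 13344)) (.node (.leaf 15343) (.leaf 12166)))))))

def twoRank96 : Janko.Tree (ℕ) :=
  (.node (.node (.node (.node (.node (.node (.leaf 8909) (.leaf 4296)) (.node (.leaf 13611) (.leaf 13701))) (.node (.node (.leaf 12926) (.leaf 8258)) (.node (.leaf 15132) (.leaf 15782)))) (.node (.node (.node (.leaf 10195) (.leaf 8671)) (.node (.leaf 10119) (.leaf 11509))) (.node (.node (.leaf 8844) (.leaf 4206)) (.node (.leaf 8367) (.leaf 16194))))) (.node (.node (.node (.node (.leaf 8519) (.leaf 16361)) (.node (.leaf 8372) (.leaf 8969))) (.node (.node (.leaf 10141) (.leaf 3382)) (.node (.leaf 4343) (.leaf 12251)))) (.node (.node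 (.node (.leaf 8495) (.leaf 13445)) (.node (.leaf 13049) (.leaf 11294))) (.node (.node (.leaf 9128) (.leaf 8991)) (.node (.leaf 10103) (.leaf 16325)))))) (.node (.node (.node (.node (.node (.leaf 4550) (.leaf 2865)) (.node (.leaf 10292) (.leaf 14951))) (.node (.node (.leaf 9181) (.leaf 10272)) (.node (.leaf 11640) (.leaf 4124)))) (.node (.node (.node (.leaf 8501) (.leaf 13122)) (.node (.leaf 9078) (.leaf 12017))) (.node (.node (.leaf 10111) (.leaf 12145)) (.node (.leaf 8713) (.leaf 15096))))) (.node (.node (.node (.node (.leaf 383) (.leaf 14956)) (.node (.leaf 11395) (.leaf 13098))) (.node (.node (.leaf 10222) (.leaf 9005)) (.node (.leaf 9099) (.leaf 15069)))) (.node (.node (.node (.leaf 4503) (.leaf 8970)) (.node (.leaf 11420) (.leaf 14753))) (.node (.node (.leaf 12456) (.leaf 8672)) (.node (.leaf 8349) (.leaf 15864)))))))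

def twoRank97 : Janko.Tree (ℕ) :=
  (.node (.node (.node (.node (.node (.node (.leaf 53) (.leaf 13661)) (.node (.leaf 5659) (.leaf 3661))) (.node (.node (.leaf 5838) (.leaf 3282)) (.node (.leaf 5479) (.leaf 14911)))) (.node (.node (.node (.leaf 476) (.leaf 13389)) (.node (.leaf 1934) (.leaf 15244))) (.node (.node (.leaf 1241) (.leaf 13650)) (.node (.leaf 2524) (.leaf 4062))))) (.node (.node (.node (.node (.leaf 280) (.leaf 11000)) (.node (.leaf 1760) (.leaf 3766))) (.node (.node (.leaf 5794) (.leaf 5084)) (.node (.leaf 13026) (.leaf 4712)))) (.node (.node (.node (.leaf 669) (.leaf 3152)) (.node (.leaf 5526) (.leaf 4809))) (.node (.node (.leaf 1426) (.leaf 3582)) (.node (.leaf 5348) (.leaf 4608)))))) (.node (.node (.node (.node (.node (.leaf 172) (.leaf 5285)) (.node (.leaf 5638) (.leaf 4926))) (.node (.node (.leaf 956) (.leaf 3332)) (.node (.leaf 2315) (.leaf 13482)))) (.node (.node (.node (.leaf 571) (.leaf 5197)) (.node (.leaf 2017) (.leaf 10884))) (.node (.node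 (.leaf 5726) (.leaf 5023)) (.node (.leaf 13821) (.leaf 15700))))) (.node (.node (.node (.node (.leaf 5950) (.leaf 10969)) (.node (.leaf 10695) (.leaf 11125))) (.node (.node (.leaf 1146) (.leaf 14140)) (.node (.leaf 2436) (.leaf 4686)))) (.node (.node (.node (.leaf 767) (.leaf 14933)) (.node (.leaf 5501) (.leaf 14640))) (.node (.node (.leaf 5681) (.leaf 15719)) (.node (.leaf 14922) (.leaf 11472)))))))

def twoRank98 : Janko.Tree (ℕ) :=
  (.node (.node (.node (.node (.node (.node (.leaf 9966) (.leaf 2787)) (.node (.leaf 13609) (.leaf 14425))) (.node (.node (.leaf 859) (.leaf 6286)) (.node (.leaf 14003) (.leaf 9251)))) (.node (.node (.node (.leaf 9873) (.leaf 9424)) (.node (.leaf 6517) (.leaf 11506))) (.node (.node (.leaf 9824) (.leaf 10442)) (.node (.leaf 6423) (.leaf 6055))))) (.node (.node (.node (.node (.leaf 6739) (.leaf 15872)) (.node (.leaf 6543) (.leaf 11962))) (.node (.node (.leaf 1053) (.leaf 3383)) (.node (.leaf 10637) (.leaf 15745)))) (.node (.node (.node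 (.leaf 6691) (.leaf 14320)) (.node (.leaf 13047) (.leaf 11289))) (.node (.node (.leaf 13748) (.leaf 10561)) (.node (.leaf 11482) (.leaf 15403)))))) (.node (.node (.node (.node (.node (.leaf 173) (.leaf 2866)) (.node (.leaf 15593) (.leaf 10843))) (.node (.node (.leaf 10774) (.leaf 15344)) (.node (.leaf 11662) (.leaf 10419)))) (.node (.node (.node (.leaf 6703) (.leaf 15423)) (.node (.leaf 10588) (.leaf 6134))) (.node (.node (.leaf 1334) (.leaf 12112)) (.node (.leaf 9512) (.leaf 9215))))) (.node (.node (.node (.node (.leaf 10791) (.leaf 14624)) (.node (.leaf 6530) (.leaf 14272))) (.node (.node (.leaf 9779) (.leaf 11926)) (.node (.leaf 11604) (.leaf 15062)))) (.node (.node (.node (.leaf 10752) (.leaf 14532)) (.node (.leaf 11437) (.leaf 9330))) (.node (.node (.leaf 13420) (.leaf 9422)) (.node (.leaf 6390) (.leaf 16152)))))))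

def twoRank99 : Janko.Tree (ℕ) :=
  (.node (.node (.node (.node (.node (.node (.leaf 8186) (.leaf 2788)) (.node (.leaf 13623) (.leaf 7133))) (.node (.node (.leaf 12934) (.leaf 3283)) (.node (.leaf 2251) (.leaf 6953)))) (.node (.node (.node (.leaf 8097) (.leaf 7399)) (.node (.leaf 1935) (.leaf 7039))) (.node (.node (.leaf 7929) (.leaf 14786)) (.node (.leaf 2525) (.leaf 13971))))) (.node (.node (.node (.node (.leaf 281) (.leaf 7451)) (.node (.leaf 13610) (.leaf 7084))) (.node (.node (.leaf 1054) (.leaf 3384)) (.node (.leaf 2376) (.leaf 12257)))) (.node (.node (.node (.leaf 12902) (.leaf 7361)) (.node (.leaf 2090) (.leaf 16444))) (.node (.node (.leaf 7888) (.leaf 7170)) (.node (.leaf 2665) (.leaf 4083)))))) (.node (.node (.node (.node (.node (.leaf 174) (.leaf 2867)) (.node (.leaf 15590) (.leaf 3722))) (.node (.node (.leaf 7990) (.leaf 7287)) (.node (.leaf 7653) (.leaf 16158)))) (.node (.node (.node (.leaf 13037) (.leaf 13115)) (.node (.leaf 7741) (.leaf 14545))) (.node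 (.node (.leaf 1335) (.leaf 14702)) (.node (.leaf 7567) (.leaf 6838))))) (.node (.node (.node (.node (.leaf 384) (.leaf 7424)) (.node (.leaf 1843) (.leaf 7059))) (.node (.node (.leaf 7950) (.leaf 7244)) (.node (.leaf 7606) (.leaf 15064)))) (.node (.node (.node (.leaf 768) (.leaf 7339)) (.node (.leaf 2175) (.leaf 6972))) (.node (.node (.leaf 12452) (.leaf 7149)) (.node (.leaf 2725) (.leaf 6791)))))))

def twoRank100 : Janko.Tree (ℕ) :=
  (.node (.node (.node (.node (.node (.node (.leaf 54) (.leaf 8294)) (.node (.leaf 12102) (.leaf 11225))) (.node (.node (.leaf 11870) (.leaf 12541)) (.node (.leaf 15191) (.leaf 8233)))) (.node (.node (.node (.leaf 11923) (.leaf 4268)) (.node (.leaf 10115) (.leaf 15900))) (.node (.node (.leaf 12746) (.leaf 14798)) (.node (.leaf 8654) (.leaf 16069))))) (.node (.node (.node (.node (.leaf 8864) (.leaf 8337)) (.node (.leaf 12749) (.leaf 11938))) (.node (.node (.leaf 8471) (.leaf 12493)) (.node (.leaf 9044) (.leaf 16046)))) (.node (.node (.node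 (.leaf 670) (.leaf 11190)) (.node (.leaf 10310) (.leaf 11308))) (.node (.node (.leaf 10356) (.leaf 13010)) (.node (.leaf 9083) (.leaf 8205)))))) (.node (.node (.node (.node (.node (.leaf 8516) (.leaf 4286)) (.node (.leaf 8435) (.leaf 10012))) (.node (.node (.leaf 957) (.leaf 4230)) (.node (.leaf 16094) (.leaf 16405)))) (.node (.node (.node (.leaf 572) (.leaf 13117)) (.node (.leaf 13963) (.leaf 14547))) (.node (.node (.leaf 9165) (.leaf 11453)) (.node (.leaf 4319) (.leaf 14880))))) (.node (.node (.node (.node (.leaf 8871) (.leaf 14458)) (.node (.leaf 9094) (.leaf 9977))) (.node (.node (.leaf 10344) (.leaf 11983)) (.node (.leaf 2437) (.leaf 4113)))) (.node (.node (.node (.leaf 9172) (.leaf 9982)) (.node (.leaf 8804) (.leaf 10077))) (.node (.node (.leaf 4433) (.leaf 12199)) (.node (.leaf 8632) (.leaf 8199)))))))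

def twoRank101 : Janko.Tree (ℕ) :=
  (.node (.node (.node (.node (.node (.node (.leaf 6009) (.leaf 2789)) (.node (.leaf 5658) (.leaf 4943))) (.node (.node (.leaf 860) (.leaf 10982)) (.node (.leaf 14392) (.leaf 11285)))) (.node (.node (.node (.leaf 5929) (.leaf 16390)) (.node (.leaf 12400) (.leaf 3854))) (.node (.node (.leaf 5749) (.leaf 16052)) (.node (.leaf 12376) (.leaf 10946))))) (.node (.node (.node (.node (.leaf 282) (.leaf 11682)) (.node (.leaf 11159) (.leaf 3767))) (.node (.node (.leaf 1055) (.leaf 3385)) (.node (.leaf 14276) (.leaf 13792)))) (.node (.node (.node (.leaf 5884) (.leaf 5169)) (.node (.leaf 5525) (.leaf 15412))) (.node (.node (.leaf 5705) (.leaf 4997)) (.node (.leaf 2666) (.leaf 13723)))))) (.node (.node (.node (.node (.node (.leaf 175) (.leaf 2868)) (.node (.leaf 13028) (.leaf 13729))) (.node (.node (.leaf 5816) (.leaf 15230)) (.node (.leaf 5458) (.leaf 15021)))) (.node (.node (.node (.leaf 5906) (.leaf 5196)) (.node (.leaf 5550) (.leaf 14929)))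 (.node (.node (.leaf 1336) (.leaf 3538)) (.node (.leaf 2600) (.leaf 4634))))) (.node (.node (.node (.node (.leaf 13319) (.leaf 5242)) (.node (.leaf 1844) (.leaf 4882))) (.node (.node (.leaf 1147) (.leaf 3431)) (.node (.leaf 5416) (.leaf 16342)))) (.node (.node (.node (.leaf 769) (.leaf 5150)) (.node (.leaf 2176) (.leaf 3946))) (.node (.node (.leaf 1509) (.leaf 4970)) (.node (.leaf 2726) (.leaf 11172)))))))

def twoRank102 : Janko.Tree (ℕ) :=
  (.node (.node (.node (.node (.node (.node (.leaf 55) (.leaf 6376)) (.node (.leaf 1602) (.leaf 11180))) (.node (.node (.leaf 11861) (.leaf 9375)) (.node (.leaf 9724) (.leaf 6099)))) (.node (.node (.node (.leaf 11970) (.leaf 10472)) (.node (.leaf 9645) (.leaf 6147))) (.node (.node (.leaf 1242) (.leaf 10444)) (.node (.leaf 9533) (.leaf 13969))))) (.node (.node (.node (.node (.leaf 9915) (.leaf 6353)) (.node (.leaf 13624) (.leaf 6166))) (.node (.node (.leaf 6641) (.leaf 6268)) (.node (.leaf 10635) (.leaf 14585)))) (.node (.node (.node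 (.leaf 10722) (.leaf 11188)) (.node (.leaf 2091) (.leaf 9346))) (.node (.node (.leaf 1427) (.leaf 15307)) (.node (.leaf 11529) (.leaf 6035)))))) (.node (.node (.node (.node (.node (.leaf 6752) (.leaf 14561)) (.node (.leaf 6554) (.leaf 12103))) (.node (.node (.leaf 14056) (.leaf 14119)) (.node (.leaf 2316) (.leaf 10412)))) (.node (.node (.node (.leaf 10740) (.leaf 15361)) (.node (.leaf 13368) (.leaf 14537))) (.node (.node (.leaf 13866) (.leaf 11426)) (.node (.leaf 10512) (.leaf 14644))))) (.node (.node (.node (.node (.leaf 9892) (.leaf 2984)) (.node (.leaf 9665) (.leaf 15299))) (.node (.node (.leaf 11969) (.leaf 9470)) (.node (.leaf 14393) (.leaf 14988)))) (.node (.node (.node (.leaf 10754) (.leaf 3224)) (.node (.leaf 9730) (.leaf 11429))) (.node (.node (.leaf 10727) (.leaf 3622)) (.node (.leaf 9479) (.leaf 6023)))))))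

def twoRank103 : Janko.Tree (ℕ) :=
  (.node (.node (.node (.node (.node (.node (.leaf 56) (.leaf 2790)) (.node (.leaf 1603) (.leaf 3662))) (.node (.node (.leaf 8010) (.leaf 7311)) (.node (.leaf 7679) (.leaf 3969)))) (.node (.node (.node (.leaf 477) (.leaf 3035)) (.node (.leaf 7763) (.leaf 14110))) (.node (.node (.leaf 12759) (.leaf 7219)) (.node (.leaf 7589) (.leaf 6859))))) (.node (.node (.node (.node (.leaf 8142) (.leaf 2929)) (.node (.leaf 7803) (.leaf 15560))) (.node (.node (.leaf 1056) (.leaf 12483)) (.node (.leaf 7626) (.leaf 6901)))) (.node (.node (.node (.leaf 671) (.leaf 3153)) (.node (.leaf 12830) (.leaf 6996))) (.node (.node (.leaf 1428) (.leaf 13019)) (.node (.leaf 7540) (.leaf 12279)))))) (.node (.node (.node (.node (.node (.leaf 176) (.leaf 13168)) (.node (.leaf 1685) (.leaf 7109))) (.node (.node (.leaf 14046) (.leaf 14148)) (.node (.leaf 2317) (.leaf 6927)))) (.node (.node (.node (.leaf 573) (.leaf 13110)) (.node (.leaf 13884) (.leaf 7021))) (.node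 (.node (.leaf 7910) (.leaf 7193)) (.node (.leaf 2601) (.leaf 14646))))) (.node (.node (.node (.node (.leaf 8119) (.leaf 12652)) (.node (.leaf 7785) (.leaf 15559))) (.node (.node (.leaf 7949) (.leaf 7243)) (.node (.leaf 13003) (.leaf 15004)))) (.node (.node (.node (.leaf 8032) (.leaf 3225)) (.node (.leaf 7701) (.leaf 6971))) (.node (.node (.leaf 14235) (.leaf 12197)) (.node (.leaf 7514) (.leaf 15584)))))))

def twoRank104 : Janko.Tree (ℕ) :=
  (.node (.node (.node (.node (.node (.node (.leaf 4559) (.leaf 8587)) (.node (.leaf 8439) (.leaf 4180))) (.node (.node (.leaf 861) (.leaf 8307)) (.node (.leaf 10166) (.leaf 8559)))) (.node (.node (.node (.leaf 8884) (.leaf 8986)) (.node (.leaf 11490) (.leaf 16056))) (.node (.node (.leaf 4459) (.leaf 11288)) (.node (.leaf 2526) (.leaf 13358))))) (.node (.node (.node (.node (.leaf 8883) (.leaf 8622)) (.node (.leaf 10034) (.leaf 9980))) (.node (.node (.leaf 8794) (.leaf 9011)) (.node (.leaf 12954) (.leaf 14865)))) (.node (.node (.node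 (.leaf 12896) (.leaf 4250)) (.node (.leaf 8401) (.leaf 15910))) (.node (.node (.leaf 9161) (.leaf 4193)) (.node (.leaf 2667) (.leaf 12283)))))) (.node (.node (.node (.node (.node (.leaf 8855) (.leaf 14060)) (.node (.leaf 8728) (.leaf 14539))) (.node (.node (.leaf 4485) (.leaf 12073)) (.node (.leaf 12464) (.leaf 11214)))) (.node (.node (.node (.leaf 13051) (.leaf 4259)) (.node (.leaf 13973) (.leaf 10378))) (.node (.node (.leaf 11850) (.leaf 15760)) (.node (.leaf 9028) (.leaf 10390))))) (.node (.node (.node (.node (.leaf 10389) (.leaf 16346)) (.node (.leaf 1845) (.leaf 8255))) (.node (.node (.leaf 1148) (.leaf 4214)) (.node (.leaf 11554) (.leaf 15011)))) (.node (.node (.node (.leaf 770) (.leaf 16211)) (.node (.leaf 4367) (.leaf 15001))) (.node (.node (.leaf 1510) (.leaf 4188)) (.node (.leaf 2727) (.leaf 8545)))))))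

def twoRank105 : Janko.Tree (ℕ) :=
  (.node (.node (.node (.node (.node (.node (.leaf 57) (.leaf 10975)) (.node (.leaf 1604) (.leaf 3663))) (.node (.node (.leaf 5837) (.leaf 13833)) (.node (.leaf 11613) (.leaf 15776)))) (.node (.node (.node (.leaf 478) (.leaf 3036)) (.node (.leaf 5570) (.leaf 10956))) (.node (.node (.leaf 1243) (.leaf 5041)) (.node (.leaf 5390) (.leaf 16379))))) (.node (.node (.node (.node (.leaf 283) (.leaf 2930)) (.node (.leaf 5617) (.leaf 15892))) (.node (.node (.leaf 12441) (.leaf 3386)) (.node (.leaf 5440) (.leaf 4711)))) (.node (.node (.node (.leaf 672) (.leaf 3154)) (.node (.leaf 2092) (.leaf 4808))) (.node (.node (.leaf 1429) (.leaf 3583)) (.node (.leaf 5347) (.leaf 15684)))))) (.node (.node (.node (.node (.node (.leaf 11093) (.leaf 5284)) (.node (.leaf 1686) (.leaf 4925))) (.node (.node (.leaf 958) (.leaf 5106)) (.node (.leaf 2318) (.leaf 4733)))) (.node (.node (.node (.leaf 574) (.leaf 15968)) (.node (.leaf 5549) (.leaf 4828))) (.node (.node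 (.leaf 1337) (.leaf 5022)) (.node (.leaf 2602) (.leaf 4633))))) (.node (.node (.node (.node (.leaf 385) (.leaf 5241)) (.node (.leaf 5592) (.leaf 3813))) (.node (.node (.leaf 5770) (.leaf 13651)) (.node (.leaf 2438) (.leaf 14344)))) (.node (.node (.node (.leaf 5860) (.leaf 5149)) (.node (.leaf 2177) (.leaf 4783))) (.node (.node (.leaf 5680) (.leaf 12923)) (.node (.leaf 5330) (.leaf 15580)))))))

def twoRank106 : Janko.Tree (ℕ) :=
  (.node (.node (.node (.node (.node (.node (.leaf 58) (.leaf 9355)) (.node (.leaf 6566) (.leaf 12152))) (.node (.node (.leaf 862) (.leaf 6285)) (.node (.leaf 6469) (.leaf 9249)))) (.node (.node (.node (.leaf 9912) (.leaf 10474)) (.node (.leaf 11499) (.leaf 13952))) (.node (.node (.leaf 10690) (.leaf 11295)) (.node (.leaf 11992) (.leaf 6054))))) (.node (.node (.node (.node (.leaf 9914) (.leaf 9441)) (.node (.leaf 1761) (.leaf 15302))) (.node (.node (.leaf 9793) (.leaf 10597)) (.node (.leaf 15281) (.leaf 4017)))) (.node (.node (.node (.leaf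 9886) (.leaf 12105)) (.node (.leaf 6493) (.leaf 14109))) (.node (.node (.leaf 10738) (.leaf 15140)) (.node (.leaf 13922) (.leaf 9236)))))) (.node (.node (.node (.node (.node (.leaf 9903) (.leaf 14062)) (.node (.leaf 9695) (.leaf 14541))) (.node (.node (.leaf 13955) (.leaf 11902)) (.node (.leaf 6459) (.leaf 11219)))) (.node (.node (.node (.leaf 9896) (.leaf 3082)) (.node (.leaf 2018) (.leaf 3887))) (.node (.node (.leaf 11833) (.leaf 3539)) (.node (.leaf 10514) (.leaf 15247))))) (.node (.node (.node (.node (.leaf 6725) (.leaf 10873)) (.node (.leaf 1846) (.leaf 6158))) (.node (.node (.leaf 1149) (.leaf 3432)) (.node (.leaf 6435) (.leaf 14336)))) (.node (.node (.node (.leaf 13415) (.leaf 13540)) (.node (.leaf 10667) (.leaf 15005))) (.node (.node (.leaf 1511) (.leaf 10479)) (.node (.leaf 13254) (.leaf 15578)))))))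

def twoRank107 : Janko.Tree (ℕ) :=
  (.node (.node (.node (.node (.node (.node (.leaf 59) (.leaf 7495)) (.node (.leaf 1605) (.leaf 14692))) (.node (.node (.leaf 863) (.leaf 12543)) (.node (.leaf 2252) (.leaf 6952)))) (.node (.node (.node (.leaf 8096) (.leaf 7398)) (.node (.leaf 1936) (.leaf 7038))) (.node (.node (.leaf 1244) (.leaf 3492)) (.node (.leaf 2527) (.leaf 12327))))) (.node (.node (.node (.node (.leaf 8141) (.leaf 7450)) (.node (.leaf 12707) (.leaf 7083))) (.node (.node (.leaf 7970) (.leaf 7258)) (.node (.leaf 15295) (.leaf 4018)))) (.node (.node (.node (.leaf 8053) (.leaf 3155)) (.node (.leaf 12856) (.leaf 12405))) (.node (.node (.leaf 7887) (.leaf 13021)) (.node (.leaf 12942) (.leaf 6812)))))) (.node (.node (.node (.node (.node (.leaf 8164) (.leaf 13911)) (.node (.leaf 7826) (.leaf 14531))) (.node (.node (.leaf 13596) (.leaf 3333)) (.node (.leaf 12460) (.leaf 3990)))) (.node (.node (.node (.leaf 8074) (.leaf 12418)) (.node (.leaf 2019) (.leaf 3888))) (.node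 (.node (.leaf 7909) (.leaf 3540)) (.node (.leaf 7566) (.leaf 15239))))) (.node (.node (.node (.node (.leaf 386) (.leaf 16228)) (.node (.leaf 1847) (.leaf 15363))) (.node (.node (.leaf 1150) (.leaf 3433)) (.node (.leaf 2439) (.leaf 6880)))) (.node (.node (.node (.leaf 13426) (.leaf 13517)) (.node (.leaf 14747) (.leaf 14989))) (.node (.node (.leaf 1512) (.leaf 3623)) (.node (.leaf 2728) (.leaf 6790)))))))

def twoRank108 : Janko.Tree (ℕ) :=
  (.node (.node (.node (.node (.node (.node (.leaf 8534) (.leaf 2791)) (.node (.leaf 8740) (.leaf 12127))) (.node (.node (.leaf 12903) (.leaf 14671)) (.node (.leaf 10170) (.leaf 8583)))) (.node (.node (.node (.leaf 479) (.leaf 8738)) (.node (.leaf 8816) (.leaf 16126))) (.node (.node (.leaf 9140) (.leaf 11910)) (.node (.leaf 8719) (.leaf 8915))))) (.node (.node (.node (.node (.leaf 284) (.leaf 2931)) (.node (.leaf 8427) (.leaf 11978))) (.node (.node (.leaf 1057) (.leaf 15880)) (.node (.leaf 9105) (.leaf 12253)))) (.node (.node (.node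 (.leaf 10136) (.leaf 12082)) (.node (.leaf 2093) (.leaf 14564))) (.node (.node (.leaf 1430) (.leaf 12634)) (.node (.leaf 11479) (.leaf 12273)))))) (.node (.node (.node (.node (.node (.leaf 10212) (.leaf 14090)) (.node (.leaf 1687) (.leaf 8265))) (.node (.node (.leaf 12003) (.leaf 12395)) (.node (.leaf 14327) (.leaf 12131)))) (.node (.node (.node (.leaf 10318) (.leaf 8272)) (.node (.leaf 8409) (.leaf 4146))) (.node (.node (.leaf 1338) (.leaf 15713)) (.node (.leaf 13849) (.leaf 15858))))) (.node (.node (.node (.node (.leaf 13092) (.leaf 15185)) (.node (.leaf 13622) (.leaf 12171))) (.node (.node (.leaf 1151) (.leaf 8246)) (.node (.leaf 10365) (.leaf 4112)))) (.node (.node (.node (.leaf 11965) (.leaf 11980)) (.node (.leaf 14666) (.leaf 4135))) (.node (.node (.leaf 12839) (.leaf 8934)) (.node (.leaf 8695) (.leaf 15487)))))))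

def twoRank109 : Janko.Tree (ℕ) :=
  (.node (.node (.node (.node (.node (.node (.leaf 10829) (.leaf 5306)) (.node (.leaf 12445) (.leaf 10538))) (.node (.node (.leaf 864) (.leaf 5129)) (.node (.leaf 2253) (.leaf 13215)))) (.node (.node (.node (.leaf 5928) (.leaf 3037)) (.node (.leaf 1937) (.leaf 4854))) (.node (.node (.leaf 13859) (.leaf 3493)) (.node (.leaf 13508) (.leaf 15679))))) (.node (.node (.node (.node (.leaf 5970) (.leaf 5261)) (.node (.leaf 1762) (.leaf 4907))) (.node (.node (.leaf 5793) (.leaf 5083)) (.node (.leaf 2377) (.leaf 15198)))) (.node (.node (.node (.leaf 5883) (.leaf 10628)) (.node (.leaf 5524) (.leaf 4807))) (.node (.node (.leaf 5704) (.leaf 4996)) (.node (.leaf 2668) (.leaf 4607)))))) (.node (.node (.node (.node (.node (.leaf 5991) (.leaf 5283)) (.node (.leaf 5637) (.leaf 11401))) (.node (.node (.leaf 959) (.leaf 3334)) (.node (.leaf 5457) (.leaf 3991)))) (.node (.node (.node (.leaf 575) (.leaf 3083)) (.node (.leaf 14936) (.leaf 3889))) (.node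 (.node (.leaf 5725) (.leaf 5021)) (.node (.leaf 5369) (.leaf 4632))))) (.node (.node (.node (.node (.leaf 387) (.leaf 2985)) (.node (.leaf 1848) (.leaf 4881))) (.node (.node (.leaf 5769) (.leaf 3434)) (.node (.leaf 2440) (.leaf 4046)))) (.node (.node (.node (.leaf 5859) (.leaf 3226)) (.node (.leaf 13674) (.leaf 14991))) (.node (.node (.leaf 1513) (.leaf 13391)) (.node (.leaf 13258) (.leaf 4580)))))))

def twoRank110 : Janko.Tree (ℕ) :=
  (.node (.node (.node (.node (.node (.node (.leaf 6767) (.leaf 10452)) (.node (.leaf 9711) (.leaf 6193))) (.node (.node (.leaf 6667) (.leaf 10787)) (.node (.leaf 9583) (.leaf 9248)))) (.node (.node (.node (.leaf 480) (.leaf 9566)) (.node (.leaf 9756) (.leaf 10877))) (.node (.node (.leaf 13832) (.leaf 9464)) (.node (.leaf 9532) (.leaf 14517))))) (.node (.node (.node (.node (.leaf 285) (.leaf 10481)) (.node (.leaf 6542) (.leaf 11990))) (.node (.node (.leaf 10717) (.leaf 15681)) (.node (.leaf 10634) (.leaf 6079)))) (.node (.node (.node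 (.leaf 673) (.leaf 6309)) (.node (.leaf 12061) (.leaf 16440))) (.node (.node (.leaf 14020) (.leaf 15480)) (.node (.leaf 6401) (.leaf 16022)))))) (.node (.node (.node (.node (.node (.leaf 177) (.leaf 2869)) (.node (.leaf 10631) (.leaf 6179))) (.node (.node (.leaf 12014) (.leaf 9498)) (.node (.leaf 2319) (.leaf 9312)))) (.node (.node (.node (.leaf 11889) (.leaf 6323)) (.node (.leaf 6505) (.leaf 11267))) (.node (.node (.leaf 1339) (.leaf 15802)) (.node (.leaf 13801) (.leaf 14058))))) (.node (.node (.node (.node (.leaf 9889) (.leaf 9580)) (.node (.leaf 6529) (.leaf 3814))) (.node (.node (.leaf 1152) (.leaf 6252)) (.node (.leaf 9543) (.leaf 14982)))) (.node (.node (.node (.leaf 12004) (.leaf 6295)) (.node (.leaf 10665) (.leaf 15175))) (.node (.node (.leaf 9798) (.leaf 10477)) (.node (.leaf 9478) (.leaf 16425)))))))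

def twoRank111 : Janko.Tree (ℕ) :=
  (.node (.node (.node (.node (.node (.node (.leaf 60) (.leaf 2792)) (.node (.leaf 7848) (.leaf 3664))) (.node (.node (.leaf 12897) (.leaf 14705)) (.node (.leaf 7678) (.leaf 6951)))) (.node (.node (.node (.leaf 481) (.leaf 7397)) (.node (.leaf 7762) (.leaf 13941))) (.node (.node (.leaf 7928) (.leaf 7218)) (.node (.leaf 7588) (.leaf 6858))))) (.node (.node (.node (.node (.leaf 286) (.leaf 2932)) (.node (.leaf 12755) (.leaf 3768))) (.node (.node (.leaf 1058) (.leaf 15878)) (.node (.leaf 7625) (.leaf 12259)))) (.node (.node (.node (.leaf 674) (.leaf 3156)) (.node (.leaf 14124) (.leaf 14059))) (.node (.node (.leaf 14039) (.leaf 12643)) (.node (.leaf 2669) (.leaf 12269)))))) (.node (.node (.node (.node (.node (.leaf 178) (.leaf 2870)) (.node (.leaf 1688) (.leaf 3723))) (.node (.node (.leaf 7989) (.leaf 7286)) (.node (.leaf 14247) (.leaf 6926)))) (.node (.node (.node (.leaf 8073) (.leaf 14603)) (.node (.leaf 2020) (.leaf 16179))) (.node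 (.node (.leaf 1340) (.leaf 3541)) (.node (.leaf 13797) (.leaf 16436))))) (.node (.node (.node (.node (.leaf 8118) (.leaf 7423)) (.node (.leaf 12748) (.leaf 12169))) (.node (.node (.leaf 1153) (.leaf 3435)) (.node (.leaf 7605) (.leaf 14984)))) (.node (.node (.node (.leaf 771) (.leaf 3227)) (.node (.leaf 7700) (.leaf 14818))) (.node (.node (.leaf 7869) (.leaf 7148)) (.node (.leaf 7513) (.leaf 16433)))))))

def twoRank112 : Janko.Tree (ℕ) :=
  (.node (.node (.node (.node (.node (.node (.leaf 8889) (.leaf 14012)) (.node (.leaf 1606) (.leaf 14704))) (.node (.node (.leaf 11859) (.leaf 12545)) (.node (.leaf 8800) (.leaf 15750)))) (.node (.node (.node (.leaf 482) (.leaf 12630)) (.node (.leaf 4391) (.leaf 15852))) (.node (.node (.leaf 11716) (.leaf 4205)) (.node (.leaf 10070) (.leaf 15683))))) (.node (.node (.node (.node (.leaf 4542) (.leaf 8681)) (.node (.leaf 1763) (.leaf 12370))) (.node (.node (.leaf 8829) (.leaf 4223)) (.node (.leaf 2378) (.leaf 15747)))) (.node (.node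 (.node (.leaf 8493) (.leaf 8974)) (.node (.leaf 10050) (.leaf 15955))) (.node (.node (.leaf 4441) (.leaf 16135)) (.node (.leaf 10104) (.leaf 16172)))))) (.node (.node (.node (.node (.node (.leaf 8527) (.leaf 11792)) (.node (.leaf 8789) (.leaf 8572))) (.node (.node (.leaf 960) (.leaf 12076)) (.node (.leaf 13398) (.leaf 4123)))) (.node (.node (.node (.leaf 576) (.leaf 12408)) (.node (.leaf 8692) (.leaf 11262))) (.node (.node (.leaf 12924) (.leaf 4199)) (.node (.leaf 13851) (.leaf 4102))))) (.node (.node (.node (.node (.leaf 388) (.leaf 10161)) (.node (.leaf 10064) (.leaf 16362))) (.node (.node (.leaf 4468) (.leaf 8562)) (.node (.leaf 2441) (.leaf 12536)))) (.node (.node (.node (.leaf 11934) (.leaf 12364)) (.node (.leaf 2178) (.leaf 14476))) (.node (.node (.leaf 12833) (.leaf 8985)) (.node (.leaf 8764) (.leaf 16381)))))))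

def twoRank113 : Janko.Tree (ℕ) :=
  (.node (.node (.node (.node (.node (.node (.leaf 61) (.leaf 2793)) (.node (.leaf 5657) (.leaf 14869))) (.node (.node (.leaf 5836) (.leaf 3284)) (.node (.leaf 2254) (.leaf 11111)))) (.node (.node (.node (.leaf 5927) (.leaf 5217)) (.node (.leaf 1938) (.leaf 3855))) (.node (.node (.leaf 5748) (.leaf 14022)) (.node (.leaf 2528) (.leaf 4660))))) (.node (.node (.node (.node (.leaf 287) (.leaf 14608)) (.node (.leaf 5616) (.leaf 3769))) (.node (.node (.leaf 13637) (.leaf 3387)) (.node (.leaf 5439) (.leaf 4019)))) (.node (.node (.node (.leaf 675) (.leaf 15041)) (.node (.leaf 2094) (.leaf 15602))) (.node (.node (.leaf 1431) (.leaf 4995)) (.node (.leaf 15410) (.leaf 16164)))))) (.node (.node (.node (.node (.node (.leaf 179) (.leaf 2871)) (.node (.leaf 13293) (.leaf 3724))) (.node (.node (.leaf 5815) (.leaf 16250)) (.node (.leaf 2320) (.leaf 13470)))) (.node (.node (.node (.leaf 5905) (.leaf 10990)) (.node (.leaf 2021) (.leaf 10891))) (.node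 (.node (.leaf 1341) (.leaf 13635)) (.node (.leaf 5368) (.leaf 13628))))) (.node (.node (.node (.node (.leaf 5949) (.leaf 13305)) (.node (.leaf 5591) (.leaf 14032))) (.node (.node (.leaf 1154) (.leaf 16287)) (.node (.leaf 5415) (.leaf 16119)))) (.node (.node (.node (.leaf 772) (.leaf 12372)) (.node (.leaf 5500) (.leaf 4782))) (.node (.node (.leaf 5679) (.leaf 3624)) (.node (.leaf 2729) (.leaf 13203)))))))

def twoRank114 : Janko.Tree (ℕ) :=
  (.node (.node (.node (.node (.node (.node (.leaf 9955) (.leaf 11605)) (.node (.leaf 12089) (.leaf 9315))) (.node (.node (.leaf 11867) (.leaf 9516)) (.node (.leaf 9720) (.leaf 15792)))) (.node (.node (.node (.leaf 483) (.leaf 3038)) (.node (.leaf 10689) (.leaf 13945))) (.node (.node (.leaf 11705) (.leaf 3494)) (.node (.leaf 6422) (.leaf 15663))))) (.node (.node (.node (.node (.leaf 288) (.leaf 9440)) (.node (.leaf 12099) (.leaf 9390))) (.node (.node (.leaf 9792) (.leaf 14313)) (.node (.leaf 14306) (.leaf 9286)))) (.node (.node (.node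 (.leaf 6690) (.leaf 9413)) (.node (.leaf 6492) (.leaf 16428))) (.node (.node (.leaf 13592) (.leaf 3584)) (.node (.leaf 9497) (.leaf 13569)))))) (.node (.node (.node (.node (.node (.leaf 6751) (.leaf 11789)) (.node (.leaf 9694) (.leaf 9295))) (.node (.node (.leaf 961) (.leaf 12071)) (.node (.leaf 11671) (.leaf 3992)))) (.node (.node (.node (.leaf 577) (.leaf 13375)) (.node (.leaf 9629) (.leaf 6133))) (.node (.node (.leaf 6603) (.leaf 3542)) (.node (.leaf 2603) (.leaf 4074))))) (.node (.node (.node (.node (.leaf 389) (.leaf 6342)) (.node (.leaf 1849) (.leaf 14384))) (.node (.node (.leaf 1155) (.leaf 9265)) (.node (.leaf 2442) (.leaf 6066)))) (.node (.node (.node (.leaf 9872) (.leaf 9391)) (.node (.leaf 2179) (.leaf 14474))) (.node (.node (.leaf 1514) (.leaf 10476)) (.node (.leaf 9630) (.leaf 9224)))))))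

def twoRank115 : Janko.Tree (ℕ) :=
  (.node (.node (.node (.node (.node (.node (.leaf 8185) (.leaf 7494)) (.node (.leaf 1607) (.leaf 7132))) (.node (.node (.leaf 865) (.leaf 7310)) (.node (.leaf 7677) (.leaf 6950)))) (.node (.node (.node (.leaf 484) (.leaf 12624)) (.node (.leaf 1939) (.leaf 7037))) (.node (.node (.leaf 1245) (.leaf 12302)) (.node (.leaf 2529) (.leaf 15884))))) (.node (.node (.node (.node (.leaf 289) (.leaf 7449)) (.node (.leaf 14195) (.leaf 7082))) (.node (.node (.leaf 7969) (.leaf 12937)) (.node (.leaf 13095) (.leaf 6900)))) (.node (.node (.node (.leaf 13418) (.leaf 7360)) (.node (.leaf 12801) (.leaf 6995))) (.node (.node (.leaf 13583) (.leaf 3585)) (.node (.leaf 7539) (.leaf 6811)))))) (.node (.node (.node (.node (.node (.leaf 180) (.leaf 7474)) (.node (.leaf 7825) (.leaf 7108))) (.node (.node (.leaf 962) (.leaf 7285)) (.node (.leaf 7652) (.leaf 12281)))) (.node (.node (.node (.leaf 578) (.leaf 7374)) (.node (.leaf 7740) (.leaf 13560))) (.node (.node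 (.leaf 12928) (.leaf 14751)) (.node (.leaf 2604) (.leaf 14785))))) (.node (.node (.node (.node (.leaf 390) (.leaf 12641)) (.node (.leaf 1850) (.leaf 7058))) (.node (.node (.leaf 1156) (.leaf 7242)) (.node (.leaf 2443) (.leaf 12546)))) (.node (.node (.node (.leaf 8031) (.leaf 7338)) (.node (.leaf 2180) (.leaf 13696))) (.node (.node (.leaf 12827) (.leaf 7147)) (.node (.leaf 7512) (.leaf 6789)))))))

def twoRank116 : Janko.Tree (ℕ) :=
  (.node (.node (.node (.node (.node (.node (.leaf 62) (.leaf 2794)) (.node (.leaf 8795) (.leaf 12577))) (.node (.node (.leaf 9185) (.leaf 3285)) (.node (.leaf 12649) (.leaf 16035)))) (.node (.node (.node (.leaf 4526) (.leaf 4267)) (.node (.leaf 9086) (.leaf 14077))) (.node (.node (.leaf 10201) (.leaf 8242)) (.node (.leaf 10068) (.leaf 8215))))) (.node (.node (.node (.node (.leaf 8506) (.leaf 4280)) (.node (.leaf 12086) (.leaf 11927))) (.node (.node (.leaf 10145) (.leaf 8299)) (.node (.leaf 14279) (.leaf 14881)))) (.node (.node (.node (.leaf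 8828) (.leaf 14889)) (.node (.leaf 2095) (.leaf 14132))) (.node (.node (.leaf 4440) (.leaf 12642)) (.node (.leaf 4312) (.leaf 12275)))))) (.node (.node (.node (.node (.node (.leaf 8876) (.leaf 14854)) (.node (.leaf 4415) (.leaf 3725))) (.node (.node (.leaf 4484) (.leaf 3335)) (.node (.leaf 10146) (.leaf 8206)))) (.node (.node (.node (.leaf 579) (.leaf 8321)) (.node (.leaf 2022) (.leaf 16281))) (.node (.node (.leaf 1342) (.leaf 8240)) (.node (.leaf 9091) (.leaf 8198))))) (.node (.node (.node (.node (.leaf 8892) (.leaf 13998)) (.node (.leaf 9139) (.leaf 3815))) (.node (.node (.leaf 8430) (.leaf 3436)) (.node (.leaf 4336) (.leaf 8921)))) (.node (.node (.node (.leaf 773) (.leaf 11988)) (.node (.leaf 4366) (.leaf 14422))) (.node (.node (.leaf 4432) (.leaf 15925)) (.node (.leaf 12335) (.leaf 8570)))))))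

def twoRank117 : Janko.Tree (ℕ) :=
  (.node (.node (.node (.node (.node (.node (.leaf 6008) (.leaf 5305)) (.node (.leaf 13627) (.leaf 16391))) (.node (.node (.leaf 866) (.leaf 5128)) (.node (.leaf 5478) (.leaf 14639)))) (.node (.node (.node (.leaf 485) (.leaf 11758)) (.node (.leaf 14126) (.leaf 4853))) (.node (.node (.leaf 1246) (.leaf 15623)) (.node (.leaf 12403) (.leaf 16377))))) (.node (.node (.node (.node (.leaf 290) (.leaf 13311)) (.node (.leaf 5615) (.leaf 16242))) (.node (.node (.leaf 1059) (.leaf 16253)) (.node (.leaf 16249) (.leaf 4710)))) (.node (.node (.node (.leaf 676) (.leaf 5168)) (.node (.leaf 5523) (.leaf 4806))) (.node (.node (.leaf 1432) (.leaf 3586)) (.node (.leaf 15232) (.leaf 15586)))))) (.node (.node (.node (.node (.node (.leaf 181) (.leaf 5282)) (.node (.leaf 1689) (.leaf 4924))) (.node (.node (.leaf 963) (.leaf 5105)) (.node (.leaf 5456) (.leaf 15225)))) (.node (.node (.node (.leaf 5904) (.leaf 3084)) (.node (.leaf 5548) (.leaf 15989))) (.node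 (.node (.leaf 5724) (.leaf 12440)) (.node (.leaf 2605) (.leaf 12230))))) (.node (.node (.node (.node (.leaf 391) (.leaf 5240)) (.node (.leaf 1851) (.leaf 4880))) (.node (.node (.leaf 1157) (.leaf 5059)) (.node (.leaf 2444) (.leaf 16359)))) (.node (.node (.node (.leaf 5858) (.leaf 5148)) (.node (.leaf 2181) (.leaf 4781))) (.node (.node (.leaf 1515) (.leaf 4969)) (.node (.leaf 5329) (.leaf 16028)))))))

def twoRank118 : Janko.Tree (ℕ) :=
  (.node (.node (.node (.node (.node (.node (.leaf 63) (.leaf 2795)) (.node (.leaf 9710) (.leaf 6192))) (.node (.node (.leaf 10805) (.leaf 3286)) (.node (.leaf 2255) (.leaf 9326)))) (.node (.node (.node (.leaf 486) (.leaf 10557)) (.node (.leaf 10687) (.leaf 13931))) (.node (.node (.leaf 9822) (.leaf 6239)) (.node (.leaf 9529) (.leaf 6053))))) (.node (.node (.node (.node (.leaf 6738) (.leaf 10480)) (.node (.leaf 1764) (.leaf 11982))) (.node (.node (.leaf 6640) (.leaf 6267)) (.node (.leaf 6448) (.leaf 13219)))) (.node (.node (.node (.leaf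 13414) (.leaf 3157)) (.node (.leaf 2096) (.leaf 14134))) (.node (.node (.leaf 1433) (.leaf 6217)) (.node (.leaf 14114) (.leaf 6034)))))) (.node (.node (.node (.node (.node (.leaf 9943) (.leaf 2872)) (.node (.leaf 10630) (.leaf 10431))) (.node (.node (.leaf 964) (.leaf 3336)) (.node (.leaf 11634) (.leaf 6089)))) (.node (.node (.node (.leaf 580) (.leaf 6322)) (.node (.leaf 13993) (.leaf 13558))) (.node (.node (.leaf 1343) (.leaf 6226)) (.node (.leaf 15704) (.leaf 6043))))) (.node (.node (.node (.node (.leaf 9928) (.leaf 13234)) (.node (.leaf 13838) (.leaf 15568))) (.node (.node (.leaf 6629) (.leaf 10428)) (.node (.leaf 13722) (.leaf 14338)))) (.node (.node (.node (.leaf 774) (.leaf 11929)) (.node (.leaf 11444) (.leaf 15159))) (.node (.node (.leaf 11427) (.leaf 15941)) (.node (.leaf 2730) (.leaf 9220)))))))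

def twoRank119 : Janko.Tree (ℕ) :=
  (.node (.node (.node (.node (.node (.node (.leaf 64) (.leaf 2796)) (.node (.leaf 7847) (.leaf 12557))) (.node (.node (.leaf 8009) (.leaf 3287)) (.node (.leaf 12632) (.leaf 6949)))) (.node (.node (.node (.leaf 487) (.leaf 3039)) (.node (.leaf 7761) (.leaf 13934))) (.node (.node (.leaf 7927) (.leaf 3495)) (.node (.leaf 7587) (.leaf 4063))))) (.node (.node (.node (.node (.leaf 291) (.leaf 2933)) (.node (.leaf 12459) (.leaf 7081))) (.node (.node (.leaf 12933) (.leaf 12490)) (.node (.leaf 2379) (.leaf 14662)))) (.node (.node (.node (.leaf 8052) (.leaf 3158)) (.node (.leaf 2097) (.leaf 14136))) (.node (.node (.leaf 12843) (.leaf 12640)) (.node (.leaf 14130) (.leaf 12277)))))) (.node (.node (.node (.node (.node (.leaf 8163) (.leaf 2873)) (.node (.leaf 1690) (.leaf 3726))) (.node (.node (.leaf 12824) (.leaf 3337)) (.node (.leaf 2321) (.leaf 3993)))) (.node (.node (.node (.leaf 581) (.leaf 12410)) (.node (.leaf 2023) (.leaf 7020))) (.node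 (.node (.leaf 1344) (.leaf 3543)) (.node (.leaf 7565) (.leaf 15468))))) (.node (.node (.node (.node (.leaf 8117) (.leaf 13236)) (.node (.leaf 7784) (.leaf 15271))) (.node (.node (.leaf 1158) (.leaf 3437)) (.node (.leaf 13712) (.leaf 6879)))) (.node (.node (.node (.leaf 775) (.leaf 3228)) (.node (.leaf 2182) (.leaf 14820))) (.node (.node (.leaf 1516) (.leaf 15952)) (.node (.leaf 12337) (.leaf 6788)))))))

def twoRank120 : Janko.Tree (ℕ) :=
  (.node (.node (.node (.node (.node (.node (.leaf 4558) (.leaf 10336)) (.node (.leaf 10143) (.leaf 9989))) (.node (.node (.leaf 4494) (.leaf 4235)) (.node (.leaf 4358) (.leaf 8618)))) (.node (.node (.node (.leaf 8488) (.leaf 8984)) (.node (.leaf 1940) (.leaf 13972))) (.node (.node (.leaf 12710) (.leaf 12298)) (.node (.leaf 11366) (.leaf 8549))))) (.node (.node (.node (.node (.leaf 8841) (.leaf 8996)) (.node (.leaf 8425) (.leaf 3770))) (.node (.node (.leaf 1060) (.leaf 14709)) (.node (.leaf 12603) (.leaf 4117)))) (.node (.node (.node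 (.leaf 677) (.leaf 12736)) (.node (.leaf 4375) (.leaf 14838))) (.node (.node (.leaf 8402) (.leaf 4192)) (.node (.leaf 11493) (.leaf 16378)))))) (.node (.node (.node (.node (.node (.leaf 182) (.leaf 4285)) (.node (.leaf 9106) (.leaf 8607))) (.node (.node (.leaf 8448) (.leaf 11894)) (.node (.leaf 9109) (.leaf 12180)))) (.node (.node (.node (.leaf 4518) (.leaf 15640)) (.node (.leaf 8761) (.leaf 10026))) (.node (.node (.leaf 4450) (.leaf 14777)) (.node (.leaf 15799) (.leaf 14783))))) (.node (.node (.node (.node (.leaf 12971) (.leaf 16220)) (.node (.leaf 11712) (.leaf 13817))) (.node (.node (.leaf 8723) (.leaf 11993)) (.node (.leaf 12964) (.leaf 14905)))) (.node (.node (.node (.leaf 11984) (.leaf 8720)) (.node (.leaf 11431) (.leaf 15387))) (.node (.node (.leaf 11449) (.leaf 15740)) (.node (.leaf 4303) (.leaf 15170)))))))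

def twoRank121 : Janko.Tree (ℕ) :=
  (.node (.node (.node (.node (.node (.node (.leaf 65) (.leaf 5304)) (.node (.leaf 1608) (.leaf 4942))) (.node (.node (.leaf 867) (.leaf 3288)) (.node (.leaf 11611) (.leaf 15752)))) (.node (.node (.node (.leaf 488) (.leaf 13390)) (.node (.leaf 5569) (.leaf 3856))) (.node (.node (.leaf 5747) (.leaf 15807)) (.node (.leaf 5389) (.leaf 4064))))) (.node (.node (.node (.node (.leaf 11085) (.leaf 2934)) (.node (.leaf 1765) (.leaf 4906))) (.node (.node (.leaf 5792) (.leaf 5082)) (.node (.leaf 2380) (.leaf 4020)))) (.node (.node (.node (.leaf 5882) (.leaf 3159)) (.node (.leaf 2098) (.leaf 4805))) (.node (.node (.leaf 1434) (.leaf 13240)) (.node (.leaf 2670) (.leaf 16030)))))) (.node (.node (.node (.node (.node (.leaf 5990) (.leaf 2874)) (.node (.leaf 1691) (.leaf 13222))) (.node (.node (.leaf 965) (.leaf 5104)) (.node (.leaf 15823) (.leaf 15019)))) (.node (.node (.node (.leaf 582) (.leaf 5195)) (.node (.leaf 13255) (.leaf 4827))) (.node (.node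 (.leaf 13617) (.leaf 11116)) (.node (.leaf 5367) (.leaf 15071))))) (.node (.node (.node (.node (.leaf 5948) (.leaf 5239)) (.node (.leaf 1852) (.leaf 3816))) (.node (.node (.leaf 11050) (.leaf 3438)) (.node (.leaf 5414) (.leaf 4047)))) (.node (.node (.node (.leaf 776) (.leaf 3229)) (.node (.leaf 10908) (.leaf 3947))) (.node (.node (.leaf 10729) (.leaf 4968)) (.node (.leaf 12956) (.leaf 11696)))))))

def twoRank122 : Janko.Tree (ℕ) :=
  (.node (.node (.node (.node (.node (.node (.leaf 66) (.leaf 11562)) (.node (.leaf 6565) (.leaf 12150))) (.node (.node (.leaf 11841) (.leaf 3289)) (.node (.leaf 10661) (.leaf 9322)))) (.node (.node (.node (.leaf 6713) (.leaf 10555)) (.node (.leaf 1941) (.leaf 6146))) (.node (.node (.leaf 1247) (.leaf 9339)) (.node (.leaf 11383) (.leaf 9219))))) (.node (.node (.node (.node (.leaf 9869) (.leaf 10482)) (.node (.leaf 6541) (.leaf 3771))) (.node (.node (.leaf 1061) (.leaf 14724)) (.node (.leaf 9549) (.leaf 15887)))) (.node (.node (.node (.leaf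 10761) (.leaf 6308)) (.node (.leaf 11895) (.leaf 10835))) (.node (.node (.leaf 6591) (.leaf 15476)) (.node (.leaf 11515) (.leaf 9234)))))) (.node (.node (.node (.node (.node (.leaf 10808) (.leaf 2875)) (.node (.leaf 10632) (.leaf 9294))) (.node (.node (.leaf 6654) (.leaf 11911)) (.node (.leaf 11667) (.leaf 9237)))) (.node (.node (.node (.leaf 583) (.leaf 10540)) (.node (.leaf 9628) (.leaf 11277))) (.node (.node (.leaf 1345) (.leaf 9331)) (.node (.leaf 13853) (.leaf 15149))))) (.node (.node (.node (.node (.leaf 392) (.leaf 14232)) (.node (.leaf 11734) (.leaf 6157))) (.node (.node (.leaf 9679) (.leaf 6251)) (.node (.leaf 12976) (.leaf 6065)))) (.node (.node (.node (.leaf 11925) (.leaf 9530)) (.node (.leaf 6480) (.leaf 6111))) (.node (.node (.leaf 6578) (.leaf 16105)) (.node (.leaf 10593) (.leaf 15863)))))))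

def twoRank123 : Janko.Tree (ℕ) :=
  (.node (.node (.node (.node (.node (.node (.leaf 67) (.leaf 2797)) (.node (.leaf 1609) (.leaf 3665))) (.node (.node (.leaf 868) (.leaf 13104)) (.node (.leaf 2256) (.leaf 6948)))) (.node (.node (.node (.leaf 489) (.leaf 7396)) (.node (.leaf 1942) (.leaf 13965))) (.node (.node (.leaf 12704) (.leaf 7217)) (.node (.leaf 2530) (.leaf 6857))))) (.node (.node (.node (.node (.leaf 8140) (.leaf 7448)) (.node (.leaf 13439) (.leaf 3772))) (.node (.node (.leaf 1062) (.leaf 14719)) (.node (.leaf 7624) (.leaf 12529)))) (.node (.node (.node (.leaf 14240) (.leaf 12713)) (.node (.leaf 14113) (.leaf 3920))) (.node (.node (.leaf 13313) (.leaf 3587)) (.node (.leaf 7538) (.leaf 6810)))))) (.node (.node (.node (.node (.node (.leaf 183) (.leaf 13059)) (.node (.leaf 7824) (.leaf 7107))) (.node (.node (.leaf 966) (.leaf 3338)) (.node (.leaf 7651) (.leaf 6925)))) (.node (.node (.node (.leaf 584) (.leaf 16419)) (.node (.leaf 7739) (.leaf 13756))) (.node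 (.node (.leaf 1346) (.leaf 7192)) (.node (.leaf 2606) (.leaf 6837))))) (.node (.node (.node (.node (.leaf 12979) (.leaf 16338)) (.node (.leaf 7783) (.leaf 13823))) (.node (.node (.leaf 7948) (.leaf 3439)) (.node (.leaf 2445) (.leaf 4048)))) (.node (.node (.node (.leaf 8030) (.leaf 7337)) (.node (.leaf 14428) (.leaf 14470))) (.node (.node (.leaf 1517) (.leaf 3625)) (.node (.leaf 2731) (.leaf 6787)))))))

def twoRank124 : Janko.Tree (ℕ) :=
  (.node (.node (.node (.node (.node (.node (.leaf 8532) (.leaf 9071)) (.node (.leaf 10139) (.leaf 8975))) (.node (.node (.leaf 11848) (.leaf 8256)) (.node (.leaf 9060) (.leaf 16191)))) (.node (.node (.node (.leaf 8817) (.leaf 9049)) (.node (.leaf 4390) (.leaf 8642))) (.node (.node (.leaf 14332) (.leaf 14995)) (.node (.leaf 8778) (.leaf 14750))))) (.node (.node (.node (.node (.leaf 10155) (.leaf 11410)) (.node (.leaf 1766) (.leaf 11972))) (.node (.node (.leaf 4476) (.leaf 12486)) (.node (.leaf 8788) (.leaf 15885)))) (.node (.node (.node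 (.leaf 10124) (.leaf 10010)) (.node (.leaf 11903) (.leaf 14972))) (.node (.node (.leaf 12845) (.leaf 15193)) (.node (.leaf 15783) (.leaf 4098)))))) (.node (.node (.node (.node (.node (.leaf 8895) (.leaf 8286)) (.node (.leaf 13347) (.leaf 4171))) (.node (.node (.leaf 12818) (.leaf 9019)) (.node (.leaf 11665) (.leaf 8929)))) (.node (.node (.node (.leaf 8480) (.leaf 14357)) (.node (.leaf 10236) (.leaf 13571))) (.node (.node (.leaf 8414) (.leaf 10075)) (.node (.leaf 15732) (.leaf 14554))))) (.node (.node (.node (.node (.leaf 4535) (.leaf 12639)) (.node (.leaf 14851) (.leaf 8961))) (.node (.node (.leaf 10331) (.leaf 9987)) (.node (.leaf 10196) (.leaf 14909)))) (.node (.node (.node (.leaf 777) (.leaf 4241)) (.node (.leaf 9068) (.leaf 15850))) (.node (.node (.leaf 9122) (.leaf 12628)) (.node (.leaf 9010) (.leaf 14768)))))))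

def twoRank125 : Janko.Tree (ℕ) :=
  (.node (.node (.node (.node (.node (.node (.leaf 68) (.leaf 2798)) (.node (.leaf 12466) (.leaf 13728))) (.node (.node (.leaf 10826) (.leaf 15355)) (.node (.leaf 13232) (.leaf 4756)))) (.node (.node (.node (.leaf 11086) (.leaf 3040)) (.node (.leaf 1943) (.leaf 16167))) (.node (.node (.leaf 1248) (.leaf 3496)) (.node (.leaf 2531) (.leaf 4659))))) (.node (.node (.node (.node (.leaf 5969) (.leaf 5260)) (.node (.leaf 5614) (.leaf 4905))) (.node (.node (.leaf 1063) (.leaf 3388)) (.node (.leaf 15814) (.leaf 14713)))) (.node (.node (.node (.leaf 678) (.leaf 5167)) (.node (.leaf 2099) (.leaf 14651))) (.node (.node (.leaf 11161) (.leaf 3588)) (.node (.leaf 5346) (.leaf 4084)))))) (.node (.node (.node (.node (.node (.leaf 184) (.leaf 15826)) (.node (.leaf 5636) (.leaf 13479))) (.node (.node (.leaf 11062) (.leaf 15222)) (.node (.leaf 2322) (.leaf 3994)))) (.node (.node (.node (.leaf 585) (.leaf 15647)) (.node (.leaf 11461) (.leaf 4826))) (.node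 (.node (.leaf 1347) (.leaf 5020)) (.node (.leaf 14034) (.leaf 14857))))) (.node (.node (.node (.node (.leaf 393) (.leaf 2986)) (.node (.leaf 5590) (.leaf 3817))) (.node (.node (.leaf 5768) (.leaf 16252)) (.node (.leaf 5413) (.leaf 11536)))) (.node (.node (.node (.leaf 5857) (.leaf 3230)) (.node (.leaf 2183) (.leaf 10954))) (.node (.node (.leaf 1518) (.leaf 3626)) (.node (.leaf 13987) (.leaf 4579)))))))

def twoRank126 : Janko.Tree (ℕ) :=
  (.node (.node (.node (.node (.node (.node (.leaf 6766) (.leaf 11601)) (.node (.leaf 9707) (.leaf 12147))) (.node (.node (.leaf 6666) (.leaf 6284)) (.node (.leaf 10659) (.leaf 15634)))) (.node (.node (.node (.leaf 9825) (.leaf 10554)) (.node (.leaf 11521) (.leaf 9368))) (.node (.node (.leaf 11747) (.leaf 6238)) (.node (.leaf 9668) (.leaf 10855))))) (.node (.node (.node (.node (.leaf 292) (.leaf 11413)) (.node (.leaf 10625) (.leaf 11974))) (.node (.node (.leaf 10716) (.leaf 9480)) (.node (.leaf 9688) (.leaf 6078)))) (.node (.node (.node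 (.leaf 6689) (.leaf 12101)) (.node (.leaf 6491) (.leaf 9344))) (.node (.node (.leaf 13329) (.leaf 6216)) (.node (.leaf 2671) (.leaf 16354)))))) (.node (.node (.node (.node (.node (.leaf 9942) (.leaf 6364)) (.node (.leaf 13349) (.leaf 10430))) (.node (.node (.leaf 9801) (.leaf 14129)) (.node (.leaf 9704) (.leaf 16012)))) (.node (.node (.node (.leaf 6702) (.leaf 6321)) (.node (.leaf 6504) (.leaf 13556))) (.node (.node (.leaf 6602) (.leaf 11419)) (.node (.leaf 9662) (.leaf 14688))))) (.node (.node (.node (.node (.leaf 10790) (.leaf 9578)) (.node (.leaf 1853) (.leaf 10515))) (.node (.node (.leaf 1159) (.leaf 9361)) (.node (.leaf 2446) (.leaf 9229)))) (.node (.node (.node (.leaf 778) (.leaf 11986)) (.node (.leaf 14434) (.leaf 14480))) (.node (.node (.leaf 9727) (.leaf 6206)) (.node (.leaf 10591) (.leaf 15240)))))))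

def twoRank127 : Janko.Tree (ℕ) :=
  (.node (.node (.node (.node (.node (.node (.leaf 69) (.leaf 7493)) (.node (.leaf 7846) (.leaf 7131))) (.node (.node (.leaf 869) (.leaf 14270)) (.node (.leaf 7676) (.leaf 15888)))) (.node (.node (.node (.leaf 8095) (.leaf 7395)) (.node (.leaf 1944) (.leaf 7036))) (.node (.node (.leaf 7926) (.leaf 3497)) (.node (.leaf 7586) (.leaf 14752))))) (.node (.node (.node (.node (.leaf 293) (.leaf 2935)) (.node (.leaf 13467) (.leaf 16229))) (.node (.node (.leaf 1064) (.leaf 7257)) (.node (.leaf 7623) (.leaf 14389)))) (.node (.node (.node (.leaf 679) (.leaf 3160)) (.node (.leaf 12397) (.leaf 6994))) (.node (.node (.leaf 7886) (.leaf 3589)) (.node (.leaf 2672) (.leaf 13181)))))) (.node (.node (.node (.node (.node (.leaf 8162) (.leaf 2876)) (.node (.leaf 13399) (.leaf 16413))) (.node (.node (.leaf 7988) (.leaf 7284)) (.node (.leaf 7650) (.leaf 6924)))) (.node (.node (.node (.leaf 586) (.leaf 12794)) (.node (.leaf 2024) (.leaf 12566))) (.node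 (.node (.leaf 1348) (.leaf 3544)) (.node (.leaf 7564) (.leaf 6836))))) (.node (.node (.node (.node (.leaf 394) (.leaf 7422)) (.node (.leaf 1854) (.leaf 7057))) (.node (.node (.leaf 1160) (.leaf 7241)) (.node (.leaf 12734) (.leaf 6878)))) (.node (.node (.node (.leaf 779) (.leaf 16227)) (.node (.leaf 7699) (.leaf 6970))) (.node (.node (.leaf 7868) (.leaf 12626)) (.node (.leaf 7511) (.leaf 14770)))))))

def twoRank128 : Janko.Tree (ℕ) :=
  (.node (.node (.node (.node (.node (.node (.leaf 8885) (.leaf 2799)) (.node (.leaf 11637) (.leaf 12149))) (.node (.node (.leaf 9164) (.leaf 13100)) (.node (.leaf 12977) (.leaf 4129)))) (.node (.node (.node (.leaf 10191) (.leaf 15937)) (.node (.leaf 11527) (.leaf 12504))) (.node (.node (.leaf 1249) (.leaf 14864)) (.node (.leaf 4327) (.leaf 8566))))) (.node (.node (.node (.node (.leaf 8517) (.leaf 11454)) (.node (.leaf 10033) (.leaf 11399))) (.node (.node (.leaf 9152) (.leaf 13361)) (.node (.leaf 12781) (.leaf 12163)))) (.node (.node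 (.node (.leaf 12919) (.leaf 9035)) (.node (.leaf 11306) (.leaf 15054))) (.node (.node (.leaf 10042) (.leaf 8936)) (.node (.leaf 12398) (.leaf 16334)))))) (.node (.node (.node (.node (.node (.leaf 185) (.leaf 13066)) (.node (.leaf 14331) (.leaf 16058))) (.node (.node (.leaf 967) (.leaf 11495)) (.node (.leaf 15830) (.leaf 15712)))) (.node (.node (.node (.leaf 8805) (.leaf 13288)) (.node (.leaf 10240) (.leaf 11264))) (.node (.node (.leaf 8697) (.leaf 8997)) (.node (.leaf 10004) (.leaf 16165))))) (.node (.node (.node (.node (.leaf 9196) (.leaf 12637)) (.node (.leaf 12706) (.leaf 13182))) (.node (.node (.leaf 8467) (.leaf 3440)) (.node (.leaf 8371) (.leaf 14760)))) (.node (.node (.node (.leaf 4502) (.leaf 16209)) (.node (.leaf 10082) (.leaf 16125))) (.node (.node (.leaf 1519) (.leaf 8983)) (.node (.leaf 13085) (.leaf 8542)))))))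

def twoRank129 : Janko.Tree (ℕ) :=
  (.node (.node (.node (.node (.node (.node (.leaf 11099) (.leaf 5303)) (.node (.leaf 5656) (.leaf 3666))) (.node (.node (.leaf 870) (.leaf 11126)) (.node (.leaf 5477) (.leaf 15643)))) (.node (.node (.node (.leaf 5926) (.leaf 5216)) (.node (.leaf 10910) (.leaf 4852))) (.node (.node (.leaf 5746) (.leaf 10972)) (.node (.leaf 2532) (.leaf 14588))))) (.node (.node (.node (.node (.leaf 294) (.leaf 2936)) (.node (.leaf 1767) (.leaf 3773))) (.node (.node (.leaf 1065) (.leaf 5081)) (.node (.leaf 5438) (.leaf 11105)))) (.node (.node (.node (.leaf 680) (.leaf 13731)) (.node (.leaf 5522) (.leaf 16067))) (.node (.node (.leaf 5703) (.leaf 11624)) (.node (.leaf 2673) (.leaf 15959)))))) (.node (.node (.node (.node (.node (.leaf 5989) (.leaf 11153)) (.node (.leaf 5635) (.leaf 15051))) (.node (.node (.leaf 5814) (.leaf 3339)) (.node (.leaf 5455) (.leaf 4732)))) (.node (.node (.node (.leaf 11084) (.leaf 5194)) (.node (.leaf 2025) (.leaf 3890))) (.node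 (.node (.leaf 11040) (.leaf 3545)) (.node (.leaf 11466) (.leaf 10942))))) (.node (.node (.node (.node (.leaf 395) (.leaf 5238)) (.node (.leaf 1855) (.leaf 4879))) (.node (.node (.leaf 1161) (.leaf 5058)) (.node (.leaf 2447) (.leaf 4685)))) (.node (.node (.node (.leaf 780) (.leaf 13519)) (.node (.leaf 5499) (.leaf 4780))) (.node (.node (.leaf 5678) (.leaf 3627)) (.node (.leaf 5328) (.leaf 15699)))))))

def twoRank130 : Janko.Tree (ℕ) :=
  (.node (.node (.node (.node (.node (.node (.leaf 9951) (.leaf 14383)) (.node (.leaf 11646) (.leaf 9416))) (.node (.node (.leaf 9815) (.leaf 14266)) (.node (.leaf 2257) (.leaf 14356)))) (.node (.node (.node (.leaf 490) (.leaf 15929)) (.node (.leaf 6516) (.leaf 3857))) (.node (.node (.leaf 1250) (.leaf 9337)) (.node (.leaf 10623) (.leaf 9218))))) (.node (.node (.node (.node (.leaf 6737) (.leaf 9598)) (.node (.leaf 6540) (.leaf 11372))) (.node (.node (.leaf 10718) (.leaf 13359)) (.node (.leaf 2381) (.leaf 14380)))) (.node (.node (.node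 (.leaf 9839) (.leaf 12091)) (.node (.leaf 11293) (.leaf 10834))) (.node (.node (.leaf 1435) (.leaf 9329)) (.node (.leaf 6400) (.leaf 6033)))))) (.node (.node (.node (.node (.node (.leaf 186) (.leaf 9453)) (.node (.leaf 1692) (.leaf 10432))) (.node (.node (.leaf 968) (.leaf 11513)) (.node (.leaf 15827) (.leaf 13567)))) (.node (.node (.node (.leaf 9805) (.leaf 13286)) (.node (.leaf 9625) (.leaf 6132))) (.node (.node (.leaf 9637) (.leaf 11433)) (.node (.leaf 6410) (.leaf 15250))))) (.node (.node (.node (.node (.leaf 10792) (.leaf 2987)) (.node (.leaf 6528) (.leaf 15985))) (.node (.node (.leaf 6628) (.leaf 3441)) (.node (.leaf 6434) (.leaf 10409)))) (.node (.node (.node (.leaf 781) (.leaf 13542)) (.node (.leaf 2184) (.leaf 10875))) (.node (.node (.leaf 1520) (.leaf 10553)) (.node (.leaf 15287) (.leaf 9216)))))))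

def twoRank131 : Janko.Tree (ℕ) :=
  (.node (.node (.node (.node (.node (.node (.leaf 8184) (.leaf 13173)) (.node (.leaf 1610) (.leaf 7130))) (.node (.node (.leaf 8008) (.leaf 7309)) (.node (.leaf 2258) (.leaf 12200)))) (.node (.node (.node (.leaf 491) (.leaf 15950)) (.node (.leaf 14091) (.leaf 12176))) (.node (.node (.leaf 1251) (.leaf 7216)) (.node (.leaf 16217) (.leaf 6856))))) (.node (.node (.node (.node (.leaf 295) (.leaf 7447)) (.node (.leaf 1768) (.leaf 7080))) (.node (.node (.leaf 7968) (.leaf 13363)) (.node (.leaf 12791) (.leaf 6899)))) (.node (.node (.node (.leaf 8051) (.leaf 7359)) (.node (.leaf 2100) (.leaf 6993))) (.node (.node (.leaf 12803) (.leaf 7169)) (.node (.leaf 12394) (.leaf 14590)))))) (.node (.node (.node (.node (.node (.leaf 187) (.leaf 7473)) (.node (.leaf 1693) (.leaf 7106))) (.node (.node (.leaf 969) (.leaf 7283)) (.node (.leaf 2323) (.leaf 3995)))) (.node (.node (.node (.leaf 8072) (.leaf 14611)) (.node (.leaf 7738) (.leaf 16450))) (.node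 (.node (.leaf 7908) (.leaf 7191)) (.node (.leaf 2607) (.leaf 6835))))) (.node (.node (.node (.node (.leaf 8116) (.leaf 14456)) (.node (.leaf 12708) (.leaf 13184))) (.node (.node (.leaf 1162) (.leaf 3442)) (.node (.leaf 12760) (.leaf 14756)))) (.node (.node (.node (.leaf 12720) (.leaf 7336)) (.node (.leaf 2185) (.leaf 13699))) (.node (.node (.leaf 1521) (.leaf 7146)) (.node (.leaf 15279) (.leaf 6786)))))))

def twoRank132 : Janko.Tree (ℕ) :=
  (.node (.node (.node (.node (.node (.node (.leaf 10156) (.leaf 10373)) (.node (.leaf 8830) (.leaf 4179))) (.node (.node (.leaf 871) (.leaf 9979)) (.node (.leaf 9117) (.leaf 13395)))) (.node (.node (.node (.leaf 8505) (.leaf 11655)) (.node (.leaf 9084) (.leaf 4153))) (.node (.node (.leaf 13612) (.leaf 14848)) (.node (.leaf 16219) (.leaf 4107))))) (.node (.node (.node (.node (.leaf 8860) (.leaf 15911)) (.node (.leaf 12703) (.leaf 16128))) (.node (.node (.leaf 13621) (.leaf 4222)) (.node (.leaf 4342) (.leaf 10402)))) (.node (.node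 (.node (.leaf 681) (.leaf 12139)) (.node (.leaf 4374) (.leaf 8628))) (.node (.node (.leaf 8451) (.leaf 16169)) (.node (.leaf 13924) (.leaf 13183)))))) (.node (.node (.node (.node (.node (.leaf 10370) (.leaf 10381)) (.node (.leaf 8433) (.leaf 11196))) (.node (.node (.leaf 4483) (.leaf 15755)) (.node (.leaf 4351) (.leaf 16026)))) (.node (.node (.node (.leaf 10300) (.leaf 16414)) (.node (.leaf 8812) (.leaf 13544))) (.node (.node (.leaf 1349) (.leaf 3546)) (.node (.leaf 10008) (.leaf 8211))))) (.node (.node (.node (.node (.leaf 396) (.leaf 11406)) (.node (.leaf 1856) (.leaf 4158))) (.node (.node (.leaf 8782) (.leaf 4213)) (.node (.leaf 2448) (.leaf 14986)))) (.node (.node (.node (.leaf 8464) (.leaf 11357)) (.node (.leaf 14668) (.leaf 16264))) (.node (.node (.leaf 13309) (.leaf 15432)) (.node (.leaf 9077) (.leaf 12174)))))))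

def twoRank133 : Janko.Tree (ℕ) :=
  (.node (.node (.node (.node (.node (.node (.leaf 6007) (.leaf 2800)) (.node (.leaf 1611) (.leaf 13478))) (.node (.node (.leaf 5835) (.leaf 5127)) (.node (.leaf 2259) (.leaf 15653)))) (.node (.node (.node (.leaf 492) (.leaf 3041)) (.node (.leaf 1945) (.leaf 12869))) (.node (.node (.leaf 1252) (.leaf 5040)) (.node (.leaf 13522) (.leaf 15689))))) (.node (.node (.node (.node (.leaf 296) (.leaf 5259)) (.node (.leaf 1769) (.leaf 4904))) (.node (.node (.leaf 5791) (.leaf 3389)) (.node (.leaf 16243) (.leaf 4709)))) (.node (.node (.node (.leaf 5881) (.leaf 3161)) (.node (.leaf 2101) (.leaf 15815))) (.node (.node (.leaf 1436) (.leaf 4994)) (.node (.leaf 5345) (.leaf 10936)))))) (.node (.node (.node (.node (.node (.leaf 188) (.leaf 5281)) (.node (.leaf 16251) (.leaf 4923))) (.node (.node (.leaf 970) (.leaf 5103)) (.node (.leaf 16400) (.leaf 16014)))) (.node (.node (.node (.leaf 5903) (.leaf 5193)) (.node (.leaf 2026) (.leaf 16316))) (.node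 (.node (.leaf 5723) (.leaf 5019)) (.node (.leaf 2608) (.leaf 11168))))) (.node (.node (.node (.node (.leaf 5947) (.leaf 2988)) (.node (.leaf 5589) (.leaf 3818))) (.node (.node (.leaf 1163) (.leaf 14400)) (.node (.leaf 5412) (.leaf 4684)))) (.node (.node (.node (.leaf 782) (.leaf 5147)) (.node (.leaf 5498) (.leaf 3948))) (.node (.node (.leaf 1522) (.leaf 4967)) (.node (.leaf 2732) (.leaf 4578)))))))

def twoRank134 : Janko.Tree (ℕ) :=
  (.node (.node (.node (.node (.node (.node (.leaf 70) (.leaf 11569)) (.node (.leaf 9790) (.leaf 3667))) (.node (.node (.leaf 872) (.leaf 15561)) (.node (.leaf 10658) (.leaf 6098)))) (.node (.node (.node (.leaf 6712) (.leaf 11648)) (.node (.leaf 13889) (.leaf 10417))) (.node (.node (.leaf 6616) (.leaf 10768)) (.node (.leaf 10621) (.leaf 15876))))) (.node (.node (.node (.node (.leaf 9911) (.leaf 16021)) (.node (.leaf 9675) (.leaf 3774))) (.node (.node (.leaf 13619) (.leaf 3390)) (.node (.leaf 14295) (.leaf 15391)))) (.node (.node (.node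 (.leaf 682) (.leaf 9540)) (.node (.leaf 10671) (.leaf 9340))) (.node (.node (.leaf 6590) (.leaf 10864)) (.node (.leaf 2674) (.leaf 14592)))))) (.node (.node (.node (.node (.node (.leaf 9958) (.leaf 2877)) (.node (.leaf 6553) (.leaf 11192))) (.node (.node (.leaf 971) (.leaf 3340)) (.node (.leaf 2324) (.leaf 9310)))) (.node (.node (.node (.leaf 587) (.leaf 13335)) (.node (.leaf 9748) (.leaf 16312))) (.node (.node (.leaf 10600) (.leaf 14447)) (.node (.leaf 9509) (.leaf 6042))))) (.node (.node (.node (.node (.leaf 13419) (.leaf 13002)) (.node (.leaf 1857) (.leaf 15914))) (.node (.node (.leaf 9777) (.leaf 15255)) (.node (.leaf 11958) (.leaf 15917)))) (.node (.node (.node (.leaf 6678) (.leaf 11364)) (.node (.leaf 13676) (.leaf 14477))) (.node (.node (.leaf 6577) (.leaf 15430)) (.node (.leaf 10590) (.leaf 15870)))))))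

def twoRank135 : Janko.Tree (ℕ) :=
  (.node (.node (.node (.node (.node (.node (.leaf 71) (.leaf 7492)) (.node (.leaf 7845) (.leaf 3668))) (.node (.node (.leaf 873) (.leaf 15301)) (.node (.leaf 7675) (.leaf 13386)))) (.node (.node (.node (.leaf 493) (.leaf 7394)) (.node (.leaf 7760) (.leaf 3858))) (.node (.node (.leaf 12752) (.leaf 3498)) (.node (.leaf 7585) (.leaf 12494))))) (.node (.node (.node (.node (.leaf 8139) (.leaf 2937)) (.node (.leaf 7802) (.leaf 3775))) (.node (.node (.leaf 13625) (.leaf 12340)) (.node (.leaf 2382) (.leaf 15565)))) (.node (.node (.node (.leaf 683) (.leaf 7358)) (.node (.leaf 14047) (.leaf 6992))) (.node (.node (.leaf 12851) (.leaf 16408)) (.node (.leaf 13950) (.leaf 6809)))))) (.node (.node (.node (.node (.node (.leaf 8161) (.leaf 13064)) (.node (.leaf 1694) (.leaf 3727))) (.node (.node (.leaf 972) (.leaf 3341)) (.node (.leaf 2325) (.leaf 6923)))) (.node (.node (.node (.leaf 588) (.leaf 14349)) (.node (.leaf 7737) (.leaf 7019))) (.node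 (.node (.leaf 1350) (.leaf 12857)) (.node (.leaf 7563) (.leaf 15472))))) (.node (.node (.node (.node (.leaf 13436) (.leaf 7421)) (.node (.leaf 1858) (.leaf 13180))) (.node (.node (.leaf 7947) (.leaf 3443)) (.node (.leaf 14212) (.leaf 4049)))) (.node (.node (.node (.leaf 783) (.leaf 3231)) (.node (.leaf 13670) (.leaf 6969))) (.node (.node (.leaf 12844) (.leaf 15422)) (.node (.leaf 7510) (.leaf 12157)))))))

def twoRank136 : Janko.Tree (ℕ) :=
  (.node (.node (.node (.node (.node (.node (.leaf 8535) (.leaf 13553)) (.node (.leaf 4424) (.leaf 8230))) (.node (.node (.leaf 13032) (.leaf 9029)) (.node (.leaf 2260) (.leaf 12198)))) (.node (.node (.node (.leaf 8842) (.leaf 15891)) (.node (.leaf 10106) (.leaf 8918))) (.node (.node (.leaf 11749) (.leaf 14878)) (.node (.leaf 2533) (.leaf 12155))))) (.node (.node (.node (.node (.leaf 297) (.leaf 4279)) (.node (.leaf 1770) (.leaf 15166))) (.node (.node (.leaf 10138) (.leaf 8252)) (.node (.leaf 9042) (.leaf 13132)))) (.node (.node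 (.node (.leaf 8868) (.leaf 4249)) (.node (.leaf 2102) (.leaf 12305))) (.node (.node (.leaf 1437) (.leaf 3590)) (.node (.leaf 13883) (.leaf 9973)))))) (.node (.node (.node (.node (.node (.leaf 189) (.leaf 8341)) (.node (.leaf 8726) (.leaf 12095))) (.node (.node (.leaf 8446) (.leaf 15131)) (.node (.leaf 8332) (.leaf 8610)))) (.node (.node (.node (.leaf 8499) (.leaf 12788)) (.node (.leaf 12689) (.leaf 16324))) (.node (.node (.leaf 11877) (.leaf 10081)) (.node (.leaf 8774) (.leaf 14769))))) (.node (.node (.node (.node (.leaf 11964) (.leaf 16157)) (.node (.leaf 4398) (.leaf 12508))) (.node (.node (.leaf 1164) (.leaf 15128)) (.node (.leaf 10038) (.leaf 16008)))) (.node (.node (.node (.leaf 12730) (.leaf 10066)) (.node (.leaf 11442) (.leaf 14488))) (.node (.node (.leaf 10087) (.leaf 15886)) (.node (.leaf 2733) (.leaf 10345)))))))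

def twoRank137 : Janko.Tree (ℕ) :=
  (.node (.node (.node (.node (.node (.node (.leaf 72) (.leaf 5302)) (.node (.leaf 1612) (.leaf 3669))) (.node (.node (.leaf 874) (.leaf 3290)) (.node (.leaf 5476) (.leaf 15738)))) (.node (.node (.node (.leaf 494) (.leaf 5215)) (.node (.leaf 5568) (.leaf 13879))) (.node (.node (.leaf 5745) (.leaf 14444)) (.node (.leaf 5388) (.leaf 11695))))) (.node (.node (.node (.node (.leaf 5968) (.leaf 14233)) (.node (.leaf 5613) (.leaf 4903))) (.node (.node (.leaf 1066) (.leaf 16328)) (.node (.leaf 14299) (.leaf 15935)))) (.node (.node (.node (.leaf 684) (.leaf 13481)) (.node (.leaf 5521) (.leaf 4804))) (.node (.node (.leaf 5702) (.leaf 4993)) (.node (.leaf 2675) (.leaf 4606)))))) (.node (.node (.node (.node (.node (.leaf 5988) (.leaf 14017)) (.node (.leaf 1695) (.leaf 3728))) (.node (.node (.leaf 973) (.leaf 5102)) (.node (.leaf 2326) (.leaf 16380)))) (.node (.node (.node (.leaf 589) (.leaf 3085)) (.node (.leaf 5547) (.leaf 3891))) (.node (.node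 (.leaf 1351) (.leaf 3547)) (.node (.leaf 2609) (.leaf 4075))))) (.node (.node (.node (.node (.leaf 5946) (.leaf 5237)) (.node (.leaf 13614) (.leaf 4878))) (.node (.node (.leaf 5767) (.leaf 3444)) (.node (.leaf 2449) (.leaf 4683)))) (.node (.node (.node (.leaf 11047) (.leaf 3232)) (.node (.leaf 5497) (.leaf 4779))) (.node (.node (.leaf 5677) (.leaf 4966)) (.node (.leaf 5327) (.leaf 4577)))))))

def twoRank138 : Janko.Tree (ℕ) :=
  (.node (.node (.node (.node (.node (.node (.leaf 6765) (.leaf 13555)) (.node (.leaf 10723) (.leaf 6191))) (.node (.node (.leaf 6665) (.leaf 16018)) (.node (.leaf 14396) (.leaf 13396)))) (.node (.node (.node (.leaf 9871) (.leaf 3042)) (.node (.leaf 1946) (.leaf 10415))) (.node (.node (.leaf 11751) (.leaf 9462)) (.node (.leaf 2534) (.leaf 15874))))) (.node (.node (.node (.node (.leaf 10784) (.leaf 2938)) (.node (.leaf 1771) (.leaf 15158))) (.node (.node (.leaf 6639) (.leaf 6266)) (.node (.leaf 14304) (.leaf 9284)))) (.node (.node (.node (.leaf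 9882) (.leaf 3162)) (.node (.leaf 2103) (.leaf 3921))) (.node (.node (.leaf 11914) (.leaf 15148)) (.node (.leaf 11524) (.leaf 15499)))))) (.node (.node (.node (.node (.node (.leaf 190) (.leaf 6363)) (.node (.leaf 9691) (.leaf 9410))) (.node (.node (.leaf 6653) (.leaf 15109)) (.node (.leaf 6458) (.leaf 9306)))) (.node (.node (.node (.leaf 6701) (.leaf 6320)) (.node (.leaf 2027) (.leaf 13546))) (.node (.node (.leaf 11865) (.leaf 11422)) (.node (.leaf 9658) (.leaf 15520))))) (.node (.node (.node (.node (.leaf 11933) (.leaf 14465)) (.node (.leaf 1859) (.leaf 15951))) (.node (.node (.leaf 10701) (.leaf 6250)) (.node (.leaf 6433) (.leaf 15980)))) (.node (.node (.node (.leaf 9829) (.leaf 9528)) (.node (.leaf 11416) (.leaf 14482))) (.node (.node (.leaf 1523) (.leaf 3628)) (.node (.leaf 14083) (.leaf 12027)))))))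

def twoRank139 : Janko.Tree (ℕ) :=
  (.node (.node (.node (.node (.node (.node (.leaf 73) (.leaf 13565)) (.node (.leaf 1613) (.leaf 3670))) (.node (.node (.leaf 13087) (.leaf 7308)) (.node (.leaf 12981) (.leaf 6947)))) (.node (.node (.node (.leaf 8094) (.leaf 3043)) (.node (.leaf 1947) (.leaf 7035))) (.node (.node (.leaf 1253) (.leaf 7215)) (.node (.leaf 2535) (.leaf 6855))))) (.node (.node (.node (.node (.leaf 298) (.leaf 12426)) (.node (.leaf 1772) (.leaf 3776))) (.node (.node (.leaf 1067) (.leaf 14612)) (.node (.leaf 7622) (.leaf 6898)))) (.node (.node (.node (.leaf 8050) (.leaf 3163)) (.node (.leaf 2104) (.leaf 12299))) (.node (.node (.leaf 14127) (.leaf 3591)) (.node (.leaf 7537) (.leaf 15606)))))) (.node (.node (.node (.node (.node (.leaf 191) (.leaf 15682)) (.node (.leaf 7823) (.leaf 7105))) (.node (.node (.leaf 974) (.leaf 3342)) (.node (.leaf 2327) (.leaf 6922)))) (.node (.node (.node (.leaf 590) (.leaf 14347)) (.node (.leaf 12672) (.leaf 7018))) (.node (.node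 (.leaf 7907) (.leaf 7190)) (.node (.leaf 7562) (.leaf 6834))))) (.node (.node (.node (.node (.leaf 397) (.leaf 14460)) (.node (.leaf 1860) (.leaf 12517))) (.node (.node (.leaf 1165) (.leaf 3445)) (.node (.leaf 12705) (.leaf 15984)))) (.node (.node (.node (.leaf 8029) (.leaf 7335)) (.node (.leaf 2186) (.leaf 14485))) (.node (.node (.leaf 1524) (.leaf 3629)) (.node (.leaf 13170) (.leaf 14831)))))))

def twoRank140 : Janko.Tree (ℕ) :=
  (.node (.node (.node (.node (.node (.node (.leaf 8900) (.leaf 4295)) (.node (.leaf 9114) (.leaf 8554))) (.node (.node (.leaf 10228) (.leaf 15907)) (.node (.leaf 11791) (.leaf 15651)))) (.node (.node (.node (.leaf 495) (.leaf 15731)) (.node (.leaf 9135) (.leaf 8955))) (.node (.node (.leaf 9169) (.leaf 14976)) (.node (.leaf 4326) (.leaf 15966))))) (.node (.node (.node (.node (.leaf 8881) (.leaf 8284)) (.node (.leaf 8822) (.leaf 4164))) (.node (.node (.leaf 10142) (.leaf 12330)) (.node (.leaf 10223) (.leaf 13124)))) (.node (.node (.node (.leaf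 12888) (.leaf 8266)) (.node (.leaf 12805) (.leaf 4139))) (.node (.node (.leaf 11901) (.leaf 11407)) (.node (.leaf 10122) (.leaf 12992)))))) (.node (.node (.node (.node (.node (.leaf 4549) (.leaf 15877)) (.node (.leaf 1696) (.leaf 4170))) (.node (.node (.leaf 8751) (.leaf 4229)) (.node (.leaf 8615) (.leaf 12271)))) (.node (.node (.node (.leaf 8834) (.leaf 16102)) (.node (.leaf 4381) (.leaf 13564))) (.node (.node (.leaf 1352) (.leaf 14430)) (.node (.leaf 12523) (.leaf 15600))))) (.node (.node (.node (.node (.leaf 10276) (.leaf 15484)) (.node (.leaf 8366) (.leaf 15930))) (.node (.node (.leaf 8823) (.leaf 8946)) (.node (.leaf 2450) (.leaf 14907)))) (.node (.node (.node (.leaf 4501) (.leaf 11398)) (.node (.leaf 10092) (.leaf 14500))) (.node (.node (.leaf 9155) (.leaf 15895)) (.node (.leaf 13933) (.leaf 12025)))))))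

def twoRank141 : Janko.Tree (ℕ) :=
  (.node (.node (.node (.node (.node (.node (.leaf 74) (.leaf 2801)) (.node (.leaf 14220) (.leaf 15023))) (.node (.node (.leaf 5834) (.leaf 5126)) (.node (.leaf 2261) (.leaf 4755)))) (.node (.node (.node (.leaf 5925) (.leaf 11151)) (.node (.leaf 15226) (.leaf 3859))) (.node (.node (.leaf 1254) (.leaf 3499)) (.node (.leaf 2536) (.leaf 4658))))) (.node (.node (.node (.node (.leaf 299) (.leaf 2939)) (.node (.leaf 1773) (.leaf 13510))) (.node (.node (.leaf 1068) (.leaf 11143)) (.node (.leaf 2383) (.leaf 4708)))) (.node (.node (.node (.leaf 5880) (.leaf 3164)) (.node (.leaf 2105) (.leaf 11457))) (.node (.node (.leaf 5701) (.leaf 3592)) (.node (.leaf 5344) (.leaf 4605)))))) (.node (.node (.node (.node (.node (.leaf 192) (.leaf 2878)) (.node (.leaf 5634) (.leaf 13477))) (.node (.node (.leaf 11060) (.leaf 13514)) (.node (.leaf 10993) (.leaf 4731)))) (.node (.node (.node (.leaf 591) (.leaf 5192)) (.node (.leaf 11469) (.leaf 4825))) (.node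 (.node (.leaf 5722) (.leaf 5018)) (.node (.leaf 5366) (.leaf 4631))))) (.node (.node (.node (.node (.leaf 398) (.leaf 2989)) (.node (.leaf 1861) (.leaf 4877))) (.node (.node (.leaf 13490) (.leaf 10974)) (.node (.leaf 5411) (.leaf 4682)))) (.node (.node (.node (.leaf 784) (.leaf 3233)) (.node (.leaf 2187) (.leaf 3949))) (.node (.node (.leaf 1525) (.leaf 15899)) (.node (.leaf 14930) (.leaf 4576)))))))

def twoRank142 : Janko.Tree (ℕ) :=
  (.node (.node (.node (.node (.node (.node (.leaf 9963) (.leaf 16004)) (.node (.leaf 10721) (.leaf 9239))) (.node (.node (.leaf 11821) (.leaf 14387)) (.node (.leaf 11784) (.leaf 15661)))) (.node (.node (.node (.leaf 10779) (.leaf 15889)) (.node (.leaf 10686) (.leaf 10414))) (.node (.node (.leaf 10781) (.leaf 10769)) (.node (.leaf 11390) (.leaf 16423))))) (.node (.node (.node (.node (.leaf 9910) (.leaf 6352)) (.node (.leaf 9770) (.leaf 3777))) (.node (.node (.leaf 9789) (.leaf 13289)) (.node (.leaf 9686) (.leaf 15429)))) (.node (.node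 (.node (.leaf 685) (.leaf 6307)) (.node (.leaf 9736) (.leaf 10447))) (.node (.node (.leaf 1438) (.leaf 9426)) (.node (.leaf 11487) (.leaf 15524)))))) (.node (.node (.node (.node (.node (.leaf 11922) (.leaf 9612)) (.node (.leaf 14307) (.leaf 3729))) (.node (.node (.leaf 9731) (.leaf 3343)) (.node (.leaf 9423) (.leaf 3996)))) (.node (.node (.node (.leaf 9855) (.leaf 13442)) (.node (.leaf 10681) (.leaf 13550))) (.node (.node (.leaf 1353) (.leaf 14420)) (.node (.leaf 2610) (.leaf 15522))))) (.node (.node (.node (.node (.leaf 9926) (.leaf 6341)) (.node (.leaf 6527) (.leaf 3819))) (.node (.node (.leaf 9776) (.leaf 9359)) (.node (.leaf 2451) (.leaf 14619)))) (.node (.node (.node (.leaf 785) (.leaf 11394)) (.node (.leaf 9728) (.leaf 6110))) (.node (.node (.leaf 14229) (.leaf 6205)) (.node (.leaf 6389) (.leaf 12032)))))))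

def twoRank143 : Janko.Tree (ℕ) :=
  (.node (.node (.node (.node (.node (.node (.leaf 8183) (.leaf 13139)) (.node (.leaf 7844) (.leaf 7129))) (.node (.node (.leaf 875) (.leaf 3291)) (.node (.leaf 7674) (.leaf 15655)))) (.node (.node (.node (.leaf 496) (.leaf 7393)) (.node (.leaf 7759) (.leaf 7034))) (.node (.node (.leaf 7925) (.leaf 7214)) (.node (.leaf 2537) (.leaf 16429))))) (.node (.node (.node (.node (.leaf 8138) (.leaf 2940)) (.node (.leaf 7801) (.leaf 16366))) (.node (.node (.leaf 7967) (.leaf 7256)) (.node (.leaf 7621) (.leaf 13119)))) (.node (.node (.node (.leaf 12878) (.leaf 3165)) (.node (.leaf 7719) (.leaf 14796))) (.node (.node (.leaf 12393) (.leaf 7168)) (.node (.leaf 2676) (.leaf 12999)))))) (.node (.node (.node (.node (.node (.leaf 193) (.leaf 7472)) (.node (.leaf 1697) (.leaf 12264))) (.node (.node (.leaf 7987) (.leaf 3344)) (.node (.leaf 7649) (.leaf 12190)))) (.node (.node (.node (.leaf 8071) (.leaf 14359)) (.node (.leaf 2028) (.leaf 13762))) (.node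 (.node (.leaf 1354) (.leaf 14426)) (.node (.leaf 12506) (.leaf 15406))))) (.node (.node (.node (.node (.leaf 8115) (.leaf 14481)) (.node (.leaf 1862) (.leaf 3820))) (.node (.node (.leaf 7946) (.leaf 7240)) (.node (.leaf 2452) (.leaf 14613)))) (.node (.node (.node (.leaf 786) (.leaf 7334)) (.node (.leaf 7698) (.leaf 14497))) (.node (.node (.leaf 7867) (.leaf 14350)) (.node (.leaf 2734) (.leaf 15607)))))))

def twoRank144 : Janko.Tree (ℕ) :=
  (.node (.node (.node (.node (.node (.node (.leaf 75) (.leaf 11555)) (.node (.leaf 1614) (.leaf 3671))) (.node (.node (.leaf 9183) (.leaf 15743)) (.node (.leaf 15012) (.leaf 16088)))) (.node (.node (.node (.leaf 8861) (.leaf 8329)) (.node (.leaf 1948) (.leaf 15479))) (.node (.node (.leaf 4458) (.leaf 9001)) (.node (.leaf 11377) (.leaf 14803))))) (.node (.node (.node (.node (.leaf 10261) (.leaf 12422)) (.node (.leaf 12729) (.leaf 8224))) (.node (.node (.leaf 11669) (.leaf 9997)) (.node (.leaf 12774) (.leaf 15103)))) (.node (.node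 (.node (.leaf 4509) (.leaf 8571)) (.node (.leaf 12853) (.leaf 14788))) (.node (.node (.leaf 8449) (.leaf 13192)) (.node (.leaf 9081) (.leaf 15534)))))) (.node (.node (.node (.node (.node (.leaf 11932) (.leaf 10382)) (.node (.leaf 8787) (.leaf 8226))) (.node (.node (.leaf 10083) (.leaf 8254)) (.node (.leaf 2328) (.leaf 4122)))) (.node (.node (.node (.leaf 592) (.leaf 16062)) (.node (.leaf 9076) (.leaf 13562))) (.node (.node (.leaf 10284) (.leaf 4198)) (.node (.leaf 4318) (.leaf 13693))))) (.node (.node (.node (.node (.leaf 399) (.leaf 11959)) (.node (.leaf 8647) (.leaf 12516))) (.node (.node (.leaf 10337) (.leaf 8293)) (.node (.leaf 4335) (.leaf 10153)))) (.node (.node (.node (.leaf 8462) (.leaf 3234)) (.node (.leaf 12437) (.leaf 14979))) (.node (.node (.leaf 11776) (.leaf 16068)) (.node (.leaf 12474) (.leaf 12216)))))))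

def twoRank145 : Janko.Tree (ℕ) :=
  (.node (.node (.node (.node (.node (.node (.leaf 6006) (.leaf 5301)) (.node (.leaf 5655) (.leaf 4941))) (.node (.node (.leaf 876) (.leaf 14382)) (.node (.leaf 5475) (.leaf 4754)))) (.node (.node (.node (.leaf 13618) (.leaf 13338)) (.node (.leaf 5567) (.leaf 4851))) (.node (.node (.leaf 1255) (.leaf 3500)) (.node (.leaf 10904) (.leaf 4657))))) (.node (.node (.node (.node (.leaf 300) (.leaf 11138)) (.node (.leaf 5612) (.leaf 12374))) (.node (.node (.leaf 5790) (.leaf 5080)) (.node (.leaf 5437) (.leaf 15241)))) (.node (.node (.node (.leaf 686) (.leaf 15025)) (.node (.leaf 5520) (.leaf 14652))) (.node (.node (.leaf 1439) (.leaf 4992)) (.node (.leaf 15216) (.leaf 15530)))))) (.node (.node (.node (.node (.node (.leaf 10831) (.leaf 15621)) (.node (.leaf 13284) (.leaf 15223))) (.node (.node (.leaf 5813) (.leaf 12381)) (.node (.leaf 5454) (.leaf 11200)))) (.node (.node (.node (.leaf 5902) (.leaf 5191)) (.node (.leaf 13980) (.leaf 3892)))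 (.node (.node (.leaf 5721) (.leaf 3548)) (.node (.leaf 11464) (.leaf 4630))))) (.node (.node (.node (.node (.leaf 5945) (.leaf 2990)) (.node (.leaf 11015) (.leaf 3821))) (.node (.node (.leaf 1166) (.leaf 11312)) (.node (.leaf 2453) (.leaf 4681)))) (.node (.node (.node (.leaf 787) (.leaf 5146)) (.node (.leaf 5496) (.leaf 14609))) (.node (.node (.leaf 1526) (.leaf 11110)) (.node (.leaf 2735) (.leaf 16283)))))))

def twoRank146 : Janko.Tree (ℕ) :=
  (.node (.node (.node (.node (.node (.node (.leaf 76) (.leaf 11558)) (.node (.leaf 1615) (.leaf 10421))) (.node (.node (.leaf 11830) (.leaf 9514)) (.node (.leaf 2262) (.leaf 14289)))) (.node (.node (.node (.leaf 9870) (.leaf 6333)) (.node (.leaf 14128) (.leaf 15212))) (.node (.node (.leaf 11719) (.leaf 15196)) (.node (.leaf 6421) (.leaf 15030))))) (.node (.node (.node (.node (.leaf 6736) (.leaf 9437)) (.node (.leaf 1774) (.leaf 6165))) (.node (.node (.leaf 11673) (.leaf 15341)) (.node (.leaf 2384) (.leaf 6077)))) (.node (.node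 (.node (.leaf 10760) (.leaf 9293)) (.node (.leaf 2106) (.leaf 10445))) (.node (.node (.leaf 6589) (.leaf 15454)) (.node (.leaf 11520) (.leaf 6032)))))) (.node (.node (.node (.node (.node (.leaf 6750) (.leaf 6362)) (.node (.leaf 9690) (.leaf 6178))) (.node (.node (.leaf 975) (.leaf 6274)) (.node (.leaf 10478) (.leaf 10441)))) (.node (.node (.node (.leaf 10771) (.leaf 14245)) (.node (.leaf 10679) (.leaf 16279))) (.node (.node (.leaf 11826) (.leaf 15110)) (.node (.leaf 10617) (.leaf 15513))))) (.node (.node (.node (.node (.leaf 400) (.leaf 6340)) (.node (.leaf 9519) (.leaf 6156))) (.node (.node (.leaf 6627) (.leaf 6249)) (.node (.leaf 12080) (.leaf 15235)))) (.node (.node (.node (.leaf 6677) (.leaf 3235)) (.node (.leaf 2188) (.leaf 10848))) (.node (.node (.leaf 11798) (.leaf 13340)) (.node (.leaf 9475) (.leaf 6022)))))))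

def twoRank147 : Janko.Tree (ℕ) :=
  (.node (.node (.node (.node (.node (.node (.leaf 77) (.leaf 2802)) (.node (.leaf 1616) (.leaf 3672))) (.node (.node (.leaf 8007) (.leaf 7307)) (.node (.leaf 2263) (.leaf 14282)))) (.node (.node (.node (.leaf 8093) (.leaf 12629)) (.node (.leaf 14122) (.leaf 15481))) (.node (.node (.leaf 1256) (.leaf 7213)) (.node (.leaf 13750) (.leaf 14817))))) (.node (.node (.node (.node (.leaf 301) (.leaf 7446)) (.node (.leaf 12715) (.leaf 3778))) (.node (.node (.leaf 1069) (.leaf 15337)) (.node (.leaf 12772) (.leaf 13200)))) (.node (.node (.node (.leaf 687) (.leaf 7357)) (.node (.leaf 12807) (.leaf 6991))) (.node (.node (.leaf 13954) (.leaf 12995)) (.node (.leaf 7536) (.leaf 15536)))))) (.node (.node (.node (.node (.node (.leaf 194) (.leaf 2879)) (.node (.leaf 7822) (.leaf 3730))) (.node (.node (.leaf 12837) (.leaf 3345)) (.node (.leaf 2329) (.leaf 16409)))) (.node (.node (.node (.leaf 593) (.leaf 14328)) (.node (.leaf 7736) (.leaf 7017))) (.node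 (.node (.leaf 1355) (.leaf 14826)) (.node (.leaf 2611) (.leaf 13691))))) (.node (.node (.node (.node (.leaf 401) (.leaf 15282)) (.node (.leaf 7782) (.leaf 12514))) (.node (.node (.leaf 13007) (.leaf 3446)) (.node (.leaf 14201) (.leaf 15375)))) (.node (.node (.node (.leaf 13593) (.leaf 3236)) (.node (.leaf 12431) (.leaf 6968))) (.node (.node (.leaf 7866) (.leaf 7145)) (.node (.leaf 7509) (.leaf 12214)))))))

def twoRank148 : Janko.Tree (ℕ) :=
  (.node (.node (.node (.node (.node (.node (.leaf 8907) (.leaf 11592)) (.node (.leaf 4423) (.leaf 12125))) (.node (.node (.leaf 11846) (.leaf 8714)) (.node (.leaf 4357) (.leaf 15931)))) (.node (.node (.node (.leaf 10148) (.leaf 16218)) (.node (.leaf 11497) (.leaf 15186))) (.node (.node (.leaf 11710) (.leaf 15130)) (.node (.leaf 9034) (.leaf 4106))))) (.node (.node (.node (.node (.leaf 10250) (.leaf 14856)) (.node (.leaf 4406) (.leaf 15781))) (.node (.node (.leaf 12454) (.leaf 8297)) (.node (.leaf 2385) (.leaf 14863)))) (.node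 (.node (.node (.leaf 9176) (.leaf 3166)) (.node (.leaf 4373) (.leaf 16426))) (.node (.node (.leaf 1440) (.leaf 12997)) (.node (.leaf 11518) (.leaf 15309)))))) (.node (.node (.node (.node (.node (.leaf 9206) (.leaf 13071)) (.node (.leaf 10221) (.leaf 12260))) (.node (.node (.leaf 8477) (.leaf 8567)) (.node (.leaf 10134) (.leaf 16166)))) (.node (.node (.node (.leaf 8853) (.leaf 10325)) (.node (.leaf 13054) (.leaf 10029))) (.node (.node (.leaf 9163) (.leaf 11414)) (.node (.leaf 9026) (.leaf 16096))))) (.node (.node (.node (.node (.leaf 12081) (.leaf 12153)) (.node (.leaf 1863) (.leaf 4157))) (.node (.node (.leaf 1167) (.leaf 8588)) (.node (.leaf 12088) (.leaf 8221)))) (.node (.node (.node (.leaf 8775) (.leaf 11396)) (.node (.leaf 14432) (.leaf 16270))) (.node (.node (.leaf 14836) (.leaf 14354)) (.node (.leaf 8762) (.leaf 16181)))))))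

def twoRank149 : Janko.Tree (ℕ) :=
  (.node (.node (.node (.node (.node (.node (.leaf 78) (.leaf 15991)) (.node (.leaf 1617) (.leaf 3673))) (.node (.node (.leaf 877) (.leaf 3292)) (.node (.leaf 2264) (.leaf 4753)))) (.node (.node (.node (.leaf 497) (.leaf 5214)) (.node (.leaf 5566) (.leaf 4850))) (.node (.node (.leaf 10788) (.leaf 5039)) (.node (.leaf 2538) (.leaf 13985))))) (.node (.node (.node (.node (.leaf 302) (.leaf 2941)) (.node (.leaf 1775) (.leaf 11102))) (.node (.node (.leaf 5789) (.leaf 3391)) (.node (.leaf 5436) (.leaf 11103)))) (.node (.node (.node (.leaf 14238) (.leaf 5166)) (.node (.leaf 2107) (.leaf 3922))) (.node (.node (.leaf 5700) (.leaf 4991)) (.node (.leaf 2677) (.leaf 4604)))))) (.node (.node (.node (.node (.node (.leaf 195) (.leaf 2880)) (.node (.leaf 11608) (.leaf 14893))) (.node (.node (.leaf 976) (.leaf 11124)) (.node (.leaf 14224) (.leaf 16170)))) (.node (.node (.node (.leaf 13662) (.leaf 5190)) (.node (.leaf 5546) (.leaf 4824))) (.node (.node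 (.leaf 1356) (.leaf 5017)) (.node (.leaf 13808) (.leaf 12444))))) (.node (.node (.node (.node (.leaf 402) (.leaf 12229)) (.node (.leaf 5588) (.leaf 14375))) (.node (.node (.leaf 5766) (.leaf 3447)) (.node (.leaf 2454) (.leaf 4050)))) (.node (.node (.node (.leaf 11072) (.leaf 5145)) (.node (.leaf 2189) (.leaf 4778))) (.node (.node (.leaf 5676) (.leaf 4965)) (.node (.leaf 14894) (.leaf 4575)))))))

def twoRank150 : Janko.Tree (ℕ) :=
  (.node (.node (.node (.node (.node (.node (.leaf 9962) (.leaf 9616)) (.node (.leaf 11668) (.leaf 6190))) (.node (.node (.leaf 9856) (.leaf 9510)) (.node (.leaf 15213) (.leaf 14291)))) (.node (.node (.node (.leaf 6711) (.leaf 13334)) (.node (.leaf 11486) (.leaf 15107))) (.node (.node (.leaf 6615) (.leaf 14445)) (.node (.leaf 13783) (.leaf 15583))))) (.node (.node (.node (.node (.leaf 9907) (.leaf 6351)) (.node (.leaf 10624) (.leaf 9283))) (.node (.node (.leaf 13410) (.leaf 6265)) (.node (.leaf 2386) (.leaf 13218)))) (.node (.node (.node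 (.leaf 13332) (.leaf 10434)) (.node (.leaf 11908) (.leaf 16434))) (.node (.node (.leaf 10669) (.leaf 15458)) (.node (.leaf 9642) (.leaf 14512)))))) (.node (.node (.node (.node (.node (.leaf 9939) (.leaf 9451)) (.node (.leaf 6552) (.leaf 9291))) (.node (.node (.leaf 6652) (.leaf 9275)) (.node (.leaf 11641) (.leaf 10439)))) (.node (.node (.node (.leaf 9854) (.leaf 3086)) (.node (.leaf 2029) (.leaf 11265))) (.node (.node (.leaf 11873) (.leaf 11441)) (.node (.leaf 10615) (.leaf 6041))))) (.node (.node (.node (.node (.leaf 12092) (.leaf 15294)) (.node (.leaf 10526) (.leaf 15718))) (.node (.node (.leaf 1168) (.leaf 9357)) (.node (.leaf 6432) (.leaf 6064)))) (.node (.node (.node (.leaf 13599) (.leaf 11374)) (.node (.leaf 11443) (.leaf 16149))) (.node (.node (.leaf 1527) (.leaf 13388)) (.node (.leaf 9626) (.leaf 16196)))))))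

def twoRank151 : Janko.Tree (ℕ) :=
  (.node (.node (.node (.node (.node (.node (.leaf 8182) (.leaf 7491)) (.node (.leaf 1618) (.leaf 3674))) (.node (.node (.leaf 8006) (.leaf 7306)) (.node (.leaf 12650) (.leaf 12470)))) (.node (.node (.node (.leaf 498) (.leaf 16206)) (.node (.leaf 1949) (.leaf 3860))) (.node (.node (.leaf 1257) (.leaf 3501)) (.node (.leaf 7584) (.leaf 15579))))) (.node (.node (.node (.node (.leaf 8137) (.leaf 2942)) (.node (.leaf 1776) (.leaf 7079))) (.node (.node (.leaf 12450) (.leaf 12345)) (.node (.leaf 2387) (.leaf 6897)))) (.node (.node (.node (.leaf 8049) (.leaf 3167)) (.node (.leaf 2108) (.leaf 6990))) (.node (.node (.leaf 14055) (.leaf 13190)) (.node (.leaf 7535) (.leaf 14514)))))) (.node (.node (.node (.node (.node (.leaf 8160) (.leaf 7471)) (.node (.leaf 1698) (.leaf 7104))) (.node (.node (.leaf 12820) (.leaf 7282)) (.node (.leaf 7648) (.leaf 6921)))) (.node (.node (.node (.leaf 8070) (.leaf 12575)) (.node (.leaf 2030) (.leaf 3893))) (.node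 (.node (.leaf 7906) (.leaf 14743)) (.node (.leaf 7561) (.leaf 4076))))) (.node (.node (.node (.node (.leaf 8114) (.leaf 7420)) (.node (.leaf 1864) (.leaf 3822))) (.node (.node (.leaf 1169) (.leaf 7239)) (.node (.leaf 12463) (.leaf 15564)))) (.node (.node (.node (.leaf 8028) (.leaf 16372)) (.node (.leaf 7697) (.leaf 16147))) (.node (.node (.leaf 1528) (.leaf 13394)) (.node (.leaf 7508) (.leaf 4093)))))))

def twoRank152 : Janko.Tree (ℕ) :=
  (.node (.node (.node (.node (.node (.node (.leaf 79) (.leaf 2803)) (.node (.leaf 11674) (.leaf 9983))) (.node (.node (.leaf 878) (.leaf 12530)) (.node (.leaf 15215) (.leaf 15638)))) (.node (.node (.node (.leaf 12947) (.leaf 12625)) (.node (.leaf 10116) (.leaf 12500))) (.node (.node (.leaf 9138) (.leaf 15267)) (.node (.leaf 10059) (.leaf 14797))))) (.node (.node (.node (.node (.leaf 11997) (.leaf 14900)) (.node (.leaf 9098) (.leaf 10052))) (.node (.node (.leaf 4475) (.leaf 8696)) (.node (.leaf 12792) (.leaf 15428)))) (.node (.node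 (.node (.leaf 11844) (.leaf 12090)) (.node (.leaf 12074) (.leaf 16254))) (.node (.node (.leaf 10041) (.leaf 15102)) (.node (.leaf 15178) (.leaf 16266)))))) (.node (.node (.node (.node (.node (.leaf 196) (.leaf 13070)) (.node (.leaf 10225) (.leaf 14861))) (.node (.node (.leaf 977) (.leaf 11519)) (.node (.leaf 14524) (.leaf 16168)))) (.node (.node (.node (.leaf 10392) (.leaf 8319)) (.node (.leaf 9131) (.leaf 16343))) (.node (.node (.leaf 11875) (.leaf 15838)) (.node (.leaf 13044) (.leaf 16113))))) (.node (.node (.node (.node (.leaf 403) (.leaf 11961)) (.node (.leaf 13276) (.leaf 15734))) (.node (.node (.leaf 4467) (.leaf 3448)) (.node (.leaf 11551) (.leaf 13737)))) (.node (.node (.node (.leaf 10055) (.leaf 4240)) (.node (.leaf 11432) (.leaf 14981))) (.node (.node (.leaf 12802) (.leaf 8668)) (.node (.leaf 12685) (.leaf 16297)))))))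

def twoRank153 : Janko.Tree (ℕ) :=
  (.node (.node (.node (.node (.node (.node (.leaf 6005) (.leaf 5300)) (.node (.leaf 10914) (.leaf 14917))) (.node (.node (.leaf 5833) (.leaf 5125)) (.node (.leaf 2265) (.leaf 4752)))) (.node (.node (.node (.leaf 499) (.leaf 3044)) (.node (.leaf 1950) (.leaf 3861))) (.node (.node (.leaf 1258) (.leaf 14439)) (.node (.leaf 5387) (.leaf 4656))))) (.node (.node (.node (.node (.leaf 5967) (.leaf 10998)) (.node (.leaf 13469) (.leaf 4902))) (.node (.node (.leaf 1070) (.leaf 15028)) (.node (.leaf 2388) (.leaf 16344)))) (.node (.node (.node (.leaf 5879) (.leaf 3168)) (.node (.leaf 10673) (.leaf 4803))) (.node (.node (.leaf 1441) (.leaf 3593)) (.node (.leaf 5343) (.leaf 4603)))))) (.node (.node (.node (.node (.node (.leaf 5987) (.leaf 5280)) (.node (.leaf 1699) (.leaf 3731))) (.node (.node (.leaf 5812) (.leaf 15182)) (.node (.leaf 5453) (.leaf 4730)))) (.node (.node (.node (.leaf 594) (.leaf 3087)) (.node (.leaf 2031) (.leaf 3894))) (.node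 (.node (.leaf 1357) (.leaf 5016)) (.node (.leaf 5365) (.leaf 14957))))) (.node (.node (.node (.node (.leaf 5944) (.leaf 5236)) (.node (.leaf 1865) (.leaf 3823))) (.node (.node (.leaf 1170) (.leaf 5057)) (.node (.leaf 5410) (.leaf 4680)))) (.node (.node (.node (.leaf 5856) (.leaf 3237)) (.node (.leaf 5495) (.leaf 4777))) (.node (.node (.leaf 1529) (.leaf 15772)) (.node (.leaf 5326) (.leaf 10925)))))))

def twoRank154 : Janko.Tree (ℕ) :=
  (.node (.node (.node (.node (.node (.node (.leaf 80) (.leaf 2804)) (.node (.leaf 6564) (.leaf 9313))) (.node (.node (.leaf 879) (.leaf 3293)) (.node (.leaf 6468) (.leaf 15642)))) (.node (.node (.node (.leaf 9867) (.leaf 9564)) (.node (.leaf 9754) (.leaf 6145))) (.node (.node (.leaf 9763) (.leaf 9460)) (.node (.leaf 2539) (.leaf 10853))))) (.node (.node (.node (.node (.leaf 11892) (.leaf 9435)) (.node (.leaf 13475) (.leaf 11365))) (.node (.node (.leaf 10763) (.leaf 9476)) (.node (.leaf 6447) (.leaf 6076)))) (.node (.node (.node (.leaf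 11825) (.leaf 6306)) (.node (.leaf 6490) (.leaf 16438))) (.node (.node (.leaf 6588) (.leaf 6215)) (.node (.leaf 15172) (.leaf 14594)))))) (.node (.node (.node (.node (.node (.leaf 197) (.leaf 2881)) (.node (.leaf 9687) (.leaf 6177))) (.node (.node (.leaf 10666) (.leaf 11517)) (.node (.leaf 14222) (.leaf 13568)))) (.node (.node (.node (.leaf 6700) (.leaf 6319)) (.node (.leaf 10678) (.leaf 9362))) (.node (.node (.leaf 9814) (.leaf 3549)) (.node (.leaf 2612) (.leaf 9213))))) (.node (.node (.node (.node (.leaf 404) (.leaf 11947)) (.node (.leaf 11743) (.leaf 6155))) (.node (.node (.leaf 10700) (.leaf 10449)) (.node (.leaf 11198) (.leaf 13739)))) (.node (.node (.node (.leaf 788) (.leaf 11386)) (.node (.leaf 11430) (.leaf 16005))) (.node (.node (.leaf 6576) (.leaf 9418)) (.node (.leaf 2736) (.leaf 14573)))))))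

def twoRank155 : Janko.Tree (ℕ) :=
  (.node (.node (.node (.node (.node (.node (.leaf 81) (.leaf 2805)) (.node (.leaf 14249) (.leaf 7128))) (.node (.node (.leaf 880) (.leaf 12164)) (.node (.leaf 2266) (.leaf 16417)))) (.node (.node (.node (.leaf 8092) (.leaf 7392)) (.node (.leaf 7758) (.leaf 12498))) (.node (.node (.leaf 7924) (.leaf 7212)) (.node (.leaf 2540) (.leaf 14787))))) (.node (.node (.node (.node (.leaf 303) (.leaf 7445)) (.node (.leaf 7800) (.leaf 3779))) (.node (.node (.leaf 13342) (.leaf 7255)) (.node (.leaf 12783) (.leaf 15444)))) (.node (.node (.node (.leaf 688) (.leaf 3169)) (.node (.leaf 2109) (.leaf 3923))) (.node (.node (.leaf 1442) (.leaf 14630)) (.node (.leaf 2678) (.leaf 15599)))))) (.node (.node (.node (.node (.node (.leaf 198) (.leaf 13942)) (.node (.leaf 7821) (.leaf 3732))) (.node (.node (.leaf 978) (.leaf 7281)) (.node (.leaf 14522) (.leaf 12565)))) (.node (.node (.node (.leaf 13084) (.leaf 12590)) (.node (.leaf 7735) (.leaf 7016))) (.node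 (.node (.leaf 7905) (.leaf 3550)) (.node (.leaf 2613) (.leaf 6833))))) (.node (.node (.node (.node (.leaf 405) (.leaf 2991)) (.node (.leaf 7781) (.leaf 3824))) (.node (.node (.leaf 1171) (.leaf 3449)) (.node (.leaf 2455) (.leaf 15321)))) (.node (.node (.node (.leaf 789) (.leaf 3238)) (.node (.leaf 2190) (.leaf 3950))) (.node (.node (.leaf 12804) (.leaf 7144)) (.node (.leaf 12695) (.leaf 6785)))))))

def twoRank156 : Janko.Tree (ℕ) :=
  (.node (.node (.node (.node (.node (.node (.leaf 4557) (.leaf 4294)) (.node (.leaf 9112) (.leaf 3675))) (.node (.node (.leaf 4493) (.leaf 4234)) (.node (.leaf 12631) (.leaf 13393)))) (.node (.node (.node (.leaf 500) (.leaf 8327)) (.node (.leaf 12392) (.leaf 8953))) (.node (.node (.leaf 1259) (.leaf 8690)) (.node (.leaf 16225) (.leaf 15698))))) (.node (.node (.node (.node (.leaf 8898) (.leaf 14950)) (.node (.leaf 11700) (.leaf 8967))) (.node (.node (.leaf 1071) (.leaf 12347)) (.node (.leaf 9103) (.leaf 15373)))) (.node (.node (.node (.leaf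 10257) (.leaf 10011)) (.node (.leaf 9070) (.leaf 8241))) (.node (.node (.leaf 12799) (.leaf 14942)) (.node (.leaf 4311) (.leaf 15528)))))) (.node (.node (.node (.node (.node (.leaf 4548) (.leaf 12011)) (.node (.leaf 8826) (.leaf 14998))) (.node (.node (.leaf 12814) (.leaf 10099)) (.node (.leaf 15742) (.leaf 4121)))) (.node (.node (.node (.leaf 595) (.leaf 3088)) (.node (.leaf 2032) (.leaf 10001))) (.node (.node (.leaf 1358) (.leaf 15758)) (.node (.leaf 9089) (.leaf 8209))))) (.node (.node (.node (.node (.leaf 4534) (.leaf 8744)) (.node (.leaf 1866) (.leaf 8920))) (.node (.node (.leaf 9146) (.leaf 8629)) (.node (.leaf 4334) (.leaf 14378)))) (.node (.node (.node (.leaf 8487) (.leaf 11370)) (.node (.leaf 4365) (.leaf 12427))) (.node (.node (.leaf 1530) (.leaf 12413)) (.node (.leaf 4302) (.leaf 10338)))))))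

def twoRank157 : Janko.Tree (ℕ) :=
  (.node (.node (.node (.node (.node (.node (.leaf 82) (.leaf 2806)) (.node (.leaf 1619) (.leaf 4940))) (.node (.node (.leaf 881) (.leaf 12951)) (.node (.leaf 10995) (.leaf 15736)))) (.node (.node (.node (.leaf 5924) (.leaf 15040)) (.node (.leaf 5565) (.leaf 3862))) (.node (.node (.leaf 5744) (.leaf 3502)) (.node (.leaf 5386) (.leaf 14653))))) (.node (.node (.node (.node (.leaf 304) (.leaf 5258)) (.node (.leaf 5611) (.leaf 3780))) (.node (.node (.leaf 5788) (.leaf 5079)) (.node (.leaf 2389) (.leaf 4707)))) (.node (.node (.node (.leaf 689) (.leaf 14919)) (.node (.leaf 16246) (.leaf 14053))) (.node (.node (.leaf 1443) (.leaf 10968)) (.node (.leaf 16392) (.leaf 4085)))))) (.node (.node (.node (.node (.node (.leaf 199) (.leaf 5279)) (.node (.leaf 1700) (.leaf 10962))) (.node (.node (.leaf 979) (.leaf 5101)) (.node (.leaf 11027) (.leaf 13746)))) (.node (.node (.node (.leaf 5901) (.leaf 5189)) (.node (.leaf 5545) (.leaf 14142))) (.node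 (.node (.leaf 5720) (.leaf 3551)) (.node (.leaf 2614) (.leaf 11243))))) (.node (.node (.node (.node (.leaf 406) (.leaf 2992)) (.node (.leaf 5587) (.leaf 11477))) (.node (.node (.leaf 1172) (.leaf 15771)) (.node (.leaf 2456) (.leaf 15728)))) (.node (.node (.node (.leaf 790) (.leaf 10903)) (.node (.leaf 2191) (.leaf 3951))) (.node (.node (.leaf 5675) (.leaf 4964)) (.node (.leaf 14926) (.leaf 4574)))))))

def twoRank158 : Janko.Tree (ℕ) :=
  (.node (.node (.node (.node (.node (.node (.leaf 83) (.leaf 2807)) (.node (.leaf 13404) (.leaf 3676))) (.node (.node (.leaf 882) (.leaf 10519)) (.node (.leaf 9581) (.leaf 6097)))) (.node (.node (.node (.leaf 501) (.leaf 6332)) (.node (.leaf 1951) (.leaf 10507))) (.node (.node (.leaf 1260) (.leaf 9456)) (.node (.leaf 13520) (.leaf 9272))))) (.node (.node (.node (.node (.leaf 9944) (.leaf 10732)) (.node (.leaf 11707) (.leaf 11379))) (.node (.node (.leaf 1072) (.leaf 3392)) (.node (.leaf 10711) (.leaf 14275)))) (.node (.node (.node (.leaf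 9880) (.leaf 9411)) (.node (.leaf 9615) (.leaf 6121))) (.node (.node (.leaf 9737) (.leaf 14626)) (.node (.leaf 2679) (.leaf 6031)))))) (.node (.node (.node (.node (.node (.leaf 200) (.leaf 2882)) (.node (.leaf 9782) (.leaf 9289))) (.node (.node (.leaf 9850) (.leaf 11489)) (.node (.leaf 15715) (.leaf 15905)))) (.node (.node (.node (.leaf 596) (.leaf 12030)) (.node (.leaf 14081) (.leaf 11977))) (.node (.node (.leaf 1359) (.leaf 6225)) (.node (.leaf 10614) (.leaf 6040))))) (.node (.node (.node (.node (.leaf 407) (.leaf 9574)) (.node (.leaf 1867) (.leaf 9281))) (.node (.node (.leaf 10702) (.leaf 9356)) (.node (.leaf 10627) (.leaf 6063)))) (.node (.node (.node (.leaf 6676) (.leaf 6294)) (.node (.leaf 11438) (.leaf 6109))) (.node (.node (.leaf 1531) (.leaf 3630)) (.node (.leaf 14087) (.leaf 15503)))))))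

def twoRank159 : Janko.Tree (ℕ) :=
  (.node (.node (.node (.node (.node (.node (.leaf 84) (.leaf 13144)) (.node (.leaf 7843) (.leaf 3677))) (.node (.node (.leaf 883) (.leaf 3294)) (.node (.leaf 7673) (.leaf 14353)))) (.node (.node (.node (.leaf 502) (.leaf 3045)) (.node (.leaf 12396) (.leaf 7033))) (.node (.node (.leaf 1261) (.leaf 7211)) (.node (.leaf 13543) (.leaf 6854))))) (.node (.node (.node (.node (.leaf 8136) (.leaf 2943)) (.node (.leaf 1777) (.leaf 7078))) (.node (.node (.leaf 1073) (.leaf 12339)) (.node (.leaf 7620) (.leaf 14273)))) (.node (.node (.node (.leaf 8048) (.leaf 7356)) (.node (.leaf 7718) (.leaf 12304))) (.node (.node (.leaf 7885) (.leaf 7167)) (.node (.leaf 2680) (.leaf 15523)))))) (.node (.node (.node (.node (.node (.leaf 13082) (.leaf 2883)) (.node (.leaf 7820) (.leaf 7103))) (.node (.node (.leaf 7986) (.leaf 3346)) (.node (.leaf 7647) (.leaf 12270)))) (.node (.node (.node (.leaf 597) (.leaf 13672)) (.node (.leaf 13058) (.leaf 7015))) (.node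 (.node (.leaf 1360) (.leaf 14466)) (.node (.leaf 7560) (.leaf 14755))))) (.node (.node (.node (.node (.leaf 12898) (.leaf 7419)) (.node (.leaf 1868) (.leaf 7056))) (.node (.node (.leaf 7945) (.leaf 7238)) (.node (.leaf 13473) (.leaf 16190)))) (.node (.node (.node (.leaf 791) (.leaf 13800)) (.node (.leaf 14735) (.leaf 12425))) (.node (.node (.leaf 1532) (.leaf 12415)) (.node (.leaf 2737) (.leaf 15508)))))))

def twoRank160 : Janko.Tree (ℕ) :=
  (.node (.node (.node (.node (.node (.node (.leaf 8530) (.leaf 8292)) (.node (.leaf 10130) (.leaf 4178))) (.node (.node (.leaf 8456) (.leaf 8962)) (.node (.leaf 10159) (.leaf 8933)))) (.node (.node (.node (.leaf 8882) (.leaf 8614)) (.node (.leaf 13891) (.leaf 15848))) (.node (.node (.leaf 13022) (.leaf 12293)) (.node (.leaf 11388) (.leaf 8592))))) (.node (.node (.node (.node (.leaf 305) (.leaf 14960)) (.node (.leaf 10204) (.leaf 3781))) (.node (.node (.leaf 12921) (.leaf 4221)) (.node (.leaf 11606) (.leaf 15921)))) (.node (.node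 (.node (.leaf 12868) (.leaf 3170)) (.node (.leaf 2110) (.leaf 12300))) (.node (.node (.leaf 1444) (.leaf 16232)) (.node (.leaf 8306) (.leaf 16268)))))) (.node (.node (.node (.node (.node (.leaf 8514) (.leaf 8339)) (.node (.leaf 12785) (.leaf 14837))) (.node (.node (.leaf 10088) (.leaf 9017)) (.node (.leaf 8387) (.leaf 15896)))) (.node (.node (.node (.leaf 4517) (.leaf 10023)) (.node (.leaf 11839) (.leaf 13682))) (.node (.node (.leaf 4449) (.leaf 16404)) (.node (.leaf 2615) (.leaf 14833))))) (.node (.node (.node (.node (.leaf 8496) (.leaf 4273)) (.node (.leaf 10151) (.leaf 14821))) (.node (.node (.leaf 1173) (.leaf 4212)) (.node (.leaf 2457) (.leaf 4111)))) (.node (.node (.node (.leaf 8818) (.leaf 8968)) (.node (.leaf 11421) (.leaf 8939))) (.node (.node (.leaf 4431) (.leaf 4187)) (.node (.leaf 9008) (.leaf 16271)))))))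

def twoRank161 : Janko.Tree (ℕ) :=
  (.node (.node (.node (.node (.node (.node (.leaf 10825) (.leaf 15617)) (.node (.leaf 5654) (.leaf 13752))) (.node (.node (.leaf 884) (.leaf 13815)) (.node (.leaf 5474) (.leaf 15923)))) (.node (.node (.node (.leaf 503) (.leaf 3046)) (.node (.leaf 1952) (.leaf 4849))) (.node (.node (.leaf 1262) (.leaf 5038)) (.node (.leaf 5385) (.leaf 15094))))) (.node (.node (.node (.node (.leaf 5966) (.leaf 13900)) (.node (.leaf 1778) (.leaf 4901))) (.node (.node (.leaf 1074) (.leaf 14920)) (.node (.leaf 11612) (.leaf 4706)))) (.node (.node (.node (.leaf 5878) (.leaf 5165)) (.node (.leaf 5519) (.leaf 3924))) (.node (.node (.leaf 5699) (.leaf 4990)) (.node (.leaf 2681) (.leaf 4602)))))) (.node (.node (.node (.node (.node (.leaf 201) (.leaf 2884)) (.node (.leaf 5633) (.leaf 4922))) (.node (.node (.leaf 5811) (.leaf 3347)) (.node (.leaf 11754) (.leaf 15353)))) (.node (.node (.node (.leaf 598) (.leaf 3089)) (.node (.leaf 2033) (.leaf 4823))) (.node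 (.node (.leaf 1361) (.leaf 10955)) (.node (.leaf 5364) (.leaf 14632))))) (.node (.node (.node (.node (.leaf 408) (.leaf 2993)) (.node (.leaf 5586) (.leaf 4876))) (.node (.node (.leaf 5765) (.leaf 13657)) (.node (.leaf 5409) (.leaf 13819)))) (.node (.node (.node (.leaf 792) (.leaf 3239)) (.node (.leaf 10728) (.leaf 3952))) (.node (.node (.leaf 13323) (.leaf 15042)) (.node (.leaf 14079) (.leaf 4573)))))))

def twoRank162 : Janko.Tree (ℕ) :=
  (.node (.node (.node (.node (.node (.node (.leaf 6764) (.leaf 6375)) (.node (.leaf 1620) (.leaf 16038))) (.node (.node (.leaf 6664) (.leaf 10517)) (.node (.leaf 2267) (.leaf 10475)))) (.node (.node (.node (.leaf 9908) (.leaf 9421)) (.node (.leaf 11528) (.leaf 15859))) (.node (.node (.leaf 6614) (.leaf 3503)) (.node (.leaf 11362) (.leaf 9268))))) (.node (.node (.node (.node (.leaf 306) (.leaf 9596)) (.node (.leaf 9768) (.leaf 14581))) (.node (.node (.leaf 9838) (.leaf 14562)) (.node (.leaf 6446) (.leaf 14365)))) (.node (.node (.node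 (.leaf 690) (.leaf 3171)) (.node (.leaf 2111) (.leaf 9338))) (.node (.node (.leaf 1445) (.leaf 10874)) (.node (.leaf 6399) (.leaf 14484)))))) (.node (.node (.node (.node (.node (.leaf 6749) (.leaf 6361)) (.node (.leaf 1701) (.leaf 10750))) (.node (.node (.leaf 980) (.leaf 11531)) (.node (.leaf 6457) (.leaf 6088)))) (.node (.node (.node (.leaf 10770) (.leaf 6318)) (.node (.leaf 11858) (.leaf 13684))) (.node (.node (.leaf 1362) (.leaf 14468)) (.node (.leaf 14386) (.leaf 9258))))) (.node (.node (.node (.node (.leaf 6724) (.leaf 11937)) (.node (.leaf 11706) (.leaf 10858))) (.node (.node (.leaf 13423) (.leaf 10448)) (.node (.leaf 2458) (.leaf 15735)))) (.node (.node (.node (.leaf 9827) (.leaf 13796)) (.node (.leaf 6479) (.leaf 10483))) (.node (.node (.leaf 1533) (.leaf 14097)) (.node (.leaf 14560) (.leaf 14572)))))))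

def twoRank163 : Janko.Tree (ℕ) :=
  (.node (.node (.node (.node (.node (.node (.leaf 85) (.leaf 2808)) (.node (.leaf 1621) (.leaf 3678))) (.node (.node (.leaf 885) (.leaf 7305)) (.node (.leaf 12633) (.leaf 6946)))) (.node (.node (.node (.leaf 8091) (.leaf 7391)) (.node (.leaf 7757) (.leaf 16133))) (.node (.node (.leaf 13034) (.leaf 12287)) (.node (.leaf 2541) (.leaf 6853))))) (.node (.node (.node (.node (.leaf 307) (.leaf 7444)) (.node (.leaf 7799) (.leaf 12761))) (.node (.node (.leaf 7966) (.leaf 3393)) (.node (.leaf 2390) (.leaf 15433)))) (.node (.node (.node (.leaf 12872) (.leaf 3172)) (.node (.leaf 2112) (.leaf 6989))) (.node (.node (.leaf 1446) (.leaf 16453)) (.node (.leaf 2682) (.leaf 14486)))))) (.node (.node (.node (.node (.node (.leaf 202) (.leaf 2885)) (.node (.leaf 12768) (.leaf 3733))) (.node (.node (.leaf 981) (.leaf 7280)) (.node (.leaf 2330) (.leaf 3997)))) (.node (.node (.node (.leaf 599) (.leaf 12549)) (.node (.leaf 7734) (.leaf 13686))) (.node (.node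 (.leaf 1363) (.leaf 7189)) (.node (.leaf 13159) (.leaf 6832))))) (.node (.node (.node (.node (.leaf 409) (.leaf 2994)) (.node (.leaf 1869) (.leaf 14805))) (.node (.node (.leaf 13428) (.leaf 14808)) (.node (.leaf 2459) (.leaf 15570)))) (.node (.node (.node (.leaf 8027) (.leaf 7333)) (.node (.leaf 2192) (.leaf 6967))) (.node (.node (.leaf 1534) (.leaf 3631)) (.node (.leaf 7507) (.leaf 16295)))))))

def twoRank164 : Janko.Tree (ℕ) :=
  (.node (.node (.node (.node (.node (.node (.leaf 8879) (.leaf 13146)) (.node (.leaf 9151) (.leaf 15801))) (.node (.node (.leaf 8759) (.leaf 13091)) (.node (.leaf 8391) (.leaf 15443)))) (.node (.node (.node (.leaf 13042) (.leaf 3047)) (.node (.leaf 11530) (.leaf 16192))) (.node (.node (.leaf 10175) (.leaf 4204)) (.node (.leaf 10069) (.leaf 12223))))) (.node (.node (.node (.node (.leaf 308) (.leaf 15070)) (.node (.leaf 12744) (.leaf 10058))) (.node (.node (.leaf 12913) (.leaf 8948)) (.node (.leaf 12969) (.leaf 15425)))) (.node (.node (.node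 (.leaf 11847) (.leaf 14877)) (.node (.leaf 12813) (.leaf 15177))) (.node (.node (.leaf 8836) (.leaf 14499)) (.node (.leaf 8595) (.leaf 10194)))))) (.node (.node (.node (.node (.node (.leaf 13043) (.leaf 8624)) (.node (.leaf 4414) (.leaf 14969))) (.node (.node (.leaf 8475) (.leaf 3348)) (.node (.leaf 8670) (.leaf 12189)))) (.node (.node (.node (.leaf 9182) (.leaf 3090)) (.node (.leaf 2034) (.leaf 8245))) (.node (.node (.leaf 8412) (.leaf 16100)) (.node (.leaf 11727) (.leaf 16029))))) (.node (.node (.node (.node (.leaf 12908) (.leaf 8990)) (.node (.leaf 9137) (.leaf 3825))) (.node (.node (.leaf 1174) (.leaf 14824)) (.node (.leaf 12709) (.leaf 14825)))) (.node (.node (.node (.leaf 793) (.leaf 10056)) (.node (.leaf 14733) (.leaf 15527))) (.node (.node (.leaf 8396) (.leaf 8932)) (.node (.leaf 10238) (.leaf 15849)))))))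

def twoRank165 : Janko.Tree (ℕ) :=
  (.node (.node (.node (.node (.node (.node (.leaf 86) (.leaf 11142)) (.node (.leaf 15614) (.leaf 3679))) (.node (.node (.leaf 11066) (.leaf 5124)) (.node (.leaf 13301) (.leaf 4751)))) (.node (.node (.node (.leaf 5923) (.leaf 5213)) (.node (.leaf 5564) (.leaf 4848))) (.node (.node (.leaf 5743) (.leaf 11456)) (.node (.leaf 2542) (.leaf 4655))))) (.node (.node (.node (.node (.leaf 5965) (.leaf 2944)) (.node (.leaf 5610) (.leaf 3782))) (.node (.node (.leaf 5787) (.leaf 14084)) (.node (.leaf 2391) (.leaf 4021)))) (.node (.node (.node (.leaf 691) (.leaf 5164)) (.node (.leaf 2113) (.leaf 4802))) (.node (.node (.leaf 1447) (.leaf 15181)) (.node (.leaf 10979) (.leaf 4601)))))) (.node (.node (.node (.node (.node (.leaf 11091) (.leaf 12228)) (.node (.leaf 11616) (.leaf 13791))) (.node (.node (.leaf 982) (.leaf 5100)) (.node (.leaf 2331) (.leaf 11107)))) (.node (.node (.node (.leaf 600) (.leaf 5188)) (.node (.leaf 5544) (.leaf 11309))) (.node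 (.node (.leaf 1364) (.leaf 5015)) (.node (.leaf 2616) (.leaf 10940))))) (.node (.node (.node (.node (.leaf 11079) (.leaf 14198)) (.node (.leaf 1870) (.leaf 4875))) (.node (.node (.leaf 5764) (.leaf 3450)) (.node (.leaf 2460) (.leaf 4679)))) (.node (.node (.node (.leaf 5855) (.leaf 5144)) (.node (.leaf 2193) (.leaf 4776))) (.node (.node (.leaf 1535) (.leaf 14070)) (.node (.leaf 2738) (.leaf 10928)))))))

def twoRank166 : Janko.Tree (ℕ) :=
  (.node (.node (.node (.node (.node (.node (.leaf 9945) (.leaf 9469)) (.node (.leaf 10720) (.leaf 6189))) (.node (.node (.leaf 9749) (.leaf 15495)) (.node (.leaf 6467) (.leaf 15424)))) (.node (.node (.node (.leaf 504) (.leaf 14092)) (.node (.leaf 11532) (.leaf 3863))) (.node (.node (.leaf 11717) (.leaf 10493)) (.node (.leaf 9666) (.leaf 15865))))) (.node (.node (.node (.node (.leaf 309) (.leaf 10733)) (.node (.leaf 1779) (.leaf 11368))) (.node (.node (.leaf 1075) (.leaf 14080)) (.node (.leaf 9547) (.leaf 6075)))) (.node (.node (.node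 (.leaf 11845) (.leaf 3173)) (.node (.leaf 6489) (.leaf 14438))) (.node (.node (.leaf 9804) (.leaf 6214)) (.node (.leaf 9369) (.leaf 11281)))))) (.node (.node (.node (.node (.node (.leaf 9937) (.leaf 9449)) (.node (.leaf 10715) (.leaf 9408))) (.node (.node (.leaf 6651) (.leaf 13887)) (.node (.leaf 9569) (.leaf 9235)))) (.node (.node (.node (.leaf 10772) (.leaf 3091)) (.node (.leaf 2035) (.leaf 6131))) (.node (.node (.leaf 6601) (.leaf 10876)) (.node (.leaf 11720) (.leaf 16033))))) (.node (.node (.node (.node (.leaf 9887) (.leaf 14192)) (.node (.leaf 11739) (.leaf 16358))) (.node (.node (.leaf 1175) (.leaf 10450)) (.node (.leaf 9674) (.leaf 15124)))) (.node (.node (.node (.leaf 10692) (.leaf 11358)) (.node (.leaf 9601) (.leaf 15525))) (.node (.node (.leaf 6575) (.leaf 14094)) (.node (.leaf 9624) (.leaf 14568)))))))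

def twoRank167 : Janko.Tree (ℕ) :=
  (.node (.node (.node (.node (.node (.node (.leaf 8181) (.leaf 7490)) (.node (.leaf 7842) (.leaf 3680))) (.node (.node (.leaf 8005) (.leaf 15277)) (.node (.leaf 12654) (.leaf 15426)))) (.node (.node (.node (.leaf 13036) (.leaf 3048)) (.node (.leaf 1953) (.leaf 3864))) (.node (.node (.leaf 1263) (.leaf 14812)) (.node (.leaf 7583) (.leaf 12219))))) (.node (.node (.node (.node (.leaf 310) (.leaf 7443)) (.node (.leaf 12738) (.leaf 7077))) (.node (.node (.leaf 12909) (.leaf 7254)) (.node (.leaf 7619) (.leaf 15442)))) (.node (.node (.node (.leaf 8047) (.leaf 3174)) (.node (.leaf 12823) (.leaf 3925))) (.node (.node (.leaf 7884) (.leaf 15211)) (.node (.leaf 7534) (.leaf 16205)))))) (.node (.node (.node (.node (.node (.leaf 8159) (.leaf 7470)) (.node (.leaf 1702) (.leaf 7102))) (.node (.node (.leaf 13412) (.leaf 12946)) (.node (.leaf 7646) (.leaf 6920)))) (.node (.node (.node (.leaf 8069) (.leaf 3092)) (.node (.leaf 2036) (.leaf 3895)))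 (.node (.node (.leaf 1365) (.leaf 3552)) (.node (.leaf 7559) (.leaf 6831))))) (.node (.node (.node (.node (.leaf 8113) (.leaf 7418)) (.node (.leaf 7780) (.leaf 3826))) (.node (.node (.leaf 1176) (.leaf 7237)) (.node (.leaf 7604) (.leaf 14823)))) (.node (.node (.node (.leaf 794) (.leaf 3240)) (.node (.leaf 7696) (.leaf 15455))) (.node (.node (.leaf 1536) (.leaf 7143)) (.node (.leaf 7506) (.leaf 6784)))))))

def twoRank168 : Janko.Tree (ℕ) :=
  (.node (.node (.node (.node (.node (.node (.leaf 87) (.leaf 10355)) (.node (.leaf 1622) (.leaf 8930))) (.node (.node (.leaf 886) (.leaf 9027)) (.node (.leaf 16214) (.leaf 15703)))) (.node (.node (.node (.leaf 4525) (.leaf 8667)) (.node (.leaf 4389) (.leaf 16087))) (.node (.node (.leaf 9167) (.leaf 14804)) (.node (.leaf 12371) (.leaf 16138))))) (.node (.node (.node (.node (.leaf 4541) (.leaf 8335)) (.node (.leaf 11752) (.leaf 13570))) (.node (.node (.leaf 4474) (.leaf 3394)) (.node (.leaf 13134) (.leaf 15927)))) (.node (.node (.node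 (.leaf 692) (.leaf 14845)) (.node (.leaf 10046) (.leaf 14968))) (.node (.node (.leaf 12825) (.leaf 14000)) (.node (.leaf 2683) (.leaf 11230)))))) (.node (.node (.node (.node (.node (.leaf 10299) (.leaf 2886)) (.node (.leaf 9104) (.leaf 15078))) (.node (.node (.leaf 8802) (.leaf 10105)) (.node (.leaf 2332) (.leaf 8227)))) (.node (.node (.node (.leaf 601) (.leaf 4258)) (.node (.leaf 4380) (.leaf 8563))) (.node (.node (.leaf 8693) (.leaf 14462)) (.node (.leaf 14859) (.leaf 16027))))) (.node (.node (.node (.node (.leaf 4533) (.leaf 11345)) (.node (.leaf 11737) (.leaf 11353))) (.node (.node (.leaf 4466) (.leaf 3451)) (.node (.leaf 12757) (.leaf 4051)))) (.node (.node (.node (.leaf 8843) (.leaf 9033)) (.node (.leaf 14852) (.leaf 16435))) (.node (.node (.leaf 8677) (.leaf 13371)) (.node (.leaf 12678) (.leaf 15098)))))))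

def twoRank169 : Janko.Tree (ℕ) :=
  (.node (.node (.node (.node (.node (.node (.leaf 6004) (.leaf 5299)) (.node (.leaf 5653) (.leaf 10964))) (.node (.node (.leaf 5832) (.leaf 3295)) (.node (.leaf 5473) (.leaf 11756)))) (.node (.node (.node (.leaf 505) (.leaf 13373)) (.node (.leaf 1954) (.leaf 14766))) (.node (.node (.leaf 1264) (.leaf 14443)) (.node (.leaf 5384) (.leaf 11473))))) (.node (.node (.node (.node (.leaf 311) (.leaf 14924)) (.node (.leaf 1780) (.leaf 4900))) (.node (.node (.leaf 1076) (.leaf 5078)) (.node (.leaf 5435) (.leaf 4705)))) (.node (.node (.node (.leaf 5877) (.leaf 3175)) (.node (.leaf 5518) (.leaf 14446))) (.node (.node (.leaf 5698) (.leaf 4989)) (.node (.leaf 5342) (.leaf 4600)))))) (.node (.node (.node (.node (.node (.leaf 5986) (.leaf 5278)) (.node (.leaf 14265) (.leaf 3734))) (.node (.node (.leaf 983) (.leaf 3349)) (.node (.leaf 5452) (.leaf 13714)))) (.node (.node (.node (.leaf 5900) (.leaf 3093)) (.node (.leaf 2037) (.leaf 3896))) (.node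 (.node (.leaf 11038) (.leaf 3553)) (.node (.leaf 5363) (.leaf 14637))))) (.node (.node (.node (.node (.leaf 410) (.leaf 5235)) (.node (.leaf 1871) (.leaf 3827))) (.node (.node (.leaf 1177) (.leaf 5056)) (.node (.leaf 5408) (.leaf 4678)))) (.node (.node (.node (.leaf 13606) (.leaf 3241)) (.node (.leaf 5494) (.leaf 4775))) (.node (.node (.leaf 11032) (.leaf 15780)) (.node (.leaf 5325) (.leaf 15696)))))))

def twoRank170 : Janko.Tree (ℕ) :=
  (.node (.node (.node (.node (.node (.node (.leaf 88) (.leaf 2809)) (.node (.leaf 14194) (.leaf 9311))) (.node (.node (.leaf 10680) (.leaf 10516)) (.node (.leaf 10794) (.leaf 15697)))) (.node (.node (.node (.leaf 10778) (.leaf 9420)) (.node (.leaf 11500) (.leaf 6144))) (.node (.node (.leaf 11753) (.leaf 10491)) (.node (.leaf 2543) (.leaf 16136))))) (.node (.node (.node (.node (.leaf 312) (.leaf 6350)) (.node (.leaf 11722) (.leaf 13549))) (.node (.node (.leaf 11659) (.leaf 15122)) (.node (.leaf 15553) (.leaf 14281)))) (.node (.node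 (.node (.leaf 693) (.leaf 6305)) (.node (.leaf 2114) (.leaf 9336))) (.node (.node (.leaf 1448) (.leaf 14509)) (.node (.leaf 10416) (.leaf 11232)))))) (.node (.node (.node (.node (.node (.leaf 203) (.leaf 12016)) (.node (.leaf 10713) (.leaf 10751))) (.node (.node (.leaf 13422) (.leaf 11492)) (.node (.leaf 10551) (.leaf 6087)))) (.node (.node (.node (.leaf 13577) (.leaf 12146)) (.node (.leaf 2038) (.leaf 9267))) (.node (.node (.leaf 9631) (.leaf 6224)) (.node (.leaf 2617) (.leaf 9256))))) (.node (.node (.node (.node (.leaf 411) (.leaf 11320)) (.node (.leaf 9762) (.leaf 9372))) (.node (.node (.leaf 1178) (.leaf 3452)) (.node (.leaf 2461) (.leaf 15275)))) (.node (.node (.node (.leaf 9826) (.leaf 11392)) (.node (.leaf 2194) (.leaf 3953))) (.node (.node (.leaf 9593) (.leaf 6204)) (.node (.leaf 2739) (.leaf 9214)))))))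

def twoRank171 : Janko.Tree (ℕ) :=
  (.node (.node (.node (.node (.node (.node (.leaf 89) (.leaf 2810)) (.node (.leaf 14200) (.leaf 7127))) (.node (.node (.leaf 887) (.leaf 7304)) (.node (.leaf 16226) (.leaf 6945)))) (.node (.node (.node (.leaf 506) (.leaf 7390)) (.node (.leaf 1955) (.leaf 14574))) (.node (.node (.leaf 7923) (.leaf 7210)) (.node (.leaf 12365) (.leaf 6852))))) (.node (.node (.node (.node (.leaf 313) (.leaf 2945)) (.node (.leaf 7798) (.leaf 13551))) (.node (.node (.leaf 1077) (.leaf 15112)) (.node (.leaf 13128) (.leaf 14290)))) (.node (.node (.node (.leaf 694) (.leaf 3176)) (.node (.leaf 2115) (.leaf 6988))) (.node (.node (.leaf 12811) (.leaf 14511)) (.node (.leaf 2684) (.leaf 15563)))))) (.node (.node (.node (.node (.node (.leaf 204) (.leaf 2887)) (.node (.leaf 7819) (.leaf 7101))) (.node (.node (.leaf 7985) (.leaf 7279)) (.node (.leaf 2333) (.leaf 12272)))) (.node (.node (.node (.leaf 13588) (.leaf 14706)) (.node (.leaf 12690) (.leaf 7014))) (.node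 (.node (.leaf 7904) (.leaf 14472)) (.node (.leaf 2618) (.leaf 6830))))) (.node (.node (.node (.node (.leaf 412) (.leaf 15342)) (.node (.leaf 7779) (.leaf 7055))) (.node (.node (.leaf 12751) (.leaf 3453)) (.node (.leaf 12711) (.leaf 15573)))) (.node (.node (.node (.leaf 8026) (.leaf 7332)) (.node (.leaf 2195) (.leaf 3954))) (.node (.node (.leaf 7865) (.leaf 12411)) (.node (.leaf 12676) (.leaf 6783)))))))

def twoRank172 : Janko.Tree (ℕ) :=
  (.node (.node (.node (.node (.node (.node (.leaf 4556) (.leaf 13142)) (.node (.leaf 11644) (.leaf 8269))) (.node (.node (.leaf 11818) (.leaf 3296)) (.node (.leaf 12648) (.leaf 15729)))) (.node (.node (.node (.leaf 9188) (.leaf 8736)) (.node (.leaf 11491) (.leaf 16054))) (.node (.node (.leaf 11723) (.leaf 14802)) (.node (.leaf 13781) (.leaf 16431))))) (.node (.node (.node (.node (.leaf 8504) (.leaf 8620)) (.node (.leaf 1781) (.leaf 4163))) (.node (.node (.leaf 11649) (.leaf 13264)) (.node (.leaf 4341) (.leaf 12046)))) (.node (.node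 (.node (.leaf 12884) (.leaf 14853)) (.node (.leaf 9125) (.leaf 15026))) (.node (.node (.leaf 4439) (.leaf 16442)) (.node (.leaf 10110) (.leaf 15382)))))) (.node (.node (.node (.node (.node (.leaf 8525) (.leaf 8687)) (.node (.leaf 12967) (.leaf 8971))) (.node (.node (.leaf 984) (.leaf 13927)) (.node (.leaf 8737) (.leaf 12276)))) (.node (.node (.node (.leaf 11879) (.leaf 12123)) (.node (.leaf 8348) (.leaf 3897))) (.node (.node (.leaf 1366) (.leaf 14491)) (.node (.leaf 4317) (.leaf 16353))))) (.node (.node (.node (.node (.leaf 8494) (.leaf 14521)) (.node (.leaf 1872) (.leaf 13150))) (.node (.node (.leaf 8428) (.leaf 4211)) (.node (.leaf 4333) (.leaf 13176)))) (.node (.node (.node (.leaf 10205) (.leaf 3242)) (.node (.leaf 12829) (.leaf 15903))) (.node (.node (.leaf 1537) (.leaf 8981)) (.node (.leaf 2740) (.leaf 8197)))))))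

def twoRank173 : Janko.Tree (ℕ) :=
  (.node (.node (.node (.node (.node (.node (.leaf 90) (.leaf 2811)) (.node (.leaf 5652) (.leaf 11211))) (.node (.node (.leaf 888) (.leaf 5123)) (.node (.leaf 2268) (.leaf 4750)))) (.node (.node (.node (.leaf 507) (.leaf 15774)) (.node (.leaf 10746) (.leaf 10947))) (.node (.node (.leaf 1265) (.leaf 5037)) (.node (.leaf 2544) (.leaf 4654))))) (.node (.node (.node (.node (.leaf 314) (.leaf 2946)) (.node (.leaf 5609) (.leaf 3783))) (.node (.node (.leaf 10765) (.leaf 3395)) (.node (.leaf 2392) (.leaf 4704)))) (.node (.node (.node (.leaf 695) (.leaf 10963)) (.node (.leaf 2116) (.leaf 14436))) (.node (.node (.leaf 1449) (.leaf 4988)) (.node (.leaf 14182) (.leaf 4599)))))) (.node (.node (.node (.node (.node (.leaf 205) (.leaf 13642)) (.node (.leaf 5632) (.leaf 3735))) (.node (.node (.leaf 5810) (.leaf 5099)) (.node (.leaf 13392) (.leaf 16376)))) (.node (.node (.node (.leaf 5899) (.leaf 3094)) (.node (.leaf 2039) (.leaf 4822))) (.node (.node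 (.leaf 5719) (.leaf 5014)) (.node (.leaf 2619) (.leaf 4629))))) (.node (.node (.node (.node (.leaf 413) (.leaf 2995)) (.node (.leaf 5585) (.leaf 4874))) (.node (.node (.leaf 1179) (.leaf 14049)) (.node (.leaf 2462) (.leaf 4677)))) (.node (.node (.node (.leaf 795) (.leaf 5143)) (.node (.leaf 2196) (.leaf 15893))) (.node (.node (.leaf 5674) (.leaf 16284)) (.node (.leaf 5324) (.leaf 11170)))))))

def twoRank174 : Janko.Tree (ℕ) :=
  (.node (.node (.node (.node (.node (.node (.leaf 91) (.leaf 13045)) (.node (.leaf 11633) (.leaf 6188))) (.node (.node (.leaf 6663) (.leaf 14033)) (.node (.leaf 9718) (.leaf 16019)))) (.node (.node (.node (.leaf 10780) (.leaf 9560)) (.node (.leaf 6515) (.leaf 13967))) (.node (.node (.leaf 9820) (.leaf 14507)) (.node (.leaf 11389) (.leaf 15962))))) (.node (.node (.node (.node (.leaf 6735) (.leaf 9433)) (.node (.leaf 1782) (.leaf 15706))) (.node (.node (.leaf 6638) (.leaf 6264)) (.node (.leaf 14303) (.leaf 12028)))) (.node (.node (.node (.leaf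 6688) (.leaf 9409)) (.node (.leaf 14043) (.leaf 10766))) (.node (.node (.leaf 10668) (.leaf 14494)) (.node (.leaf 11494) (.leaf 16302)))))) (.node (.node (.node (.node (.node (.leaf 6748) (.leaf 9448)) (.node (.leaf 1703) (.leaf 16016))) (.node (.node (.leaf 10725) (.leaf 13929)) (.node (.leaf 9568) (.leaf 9304)))) (.node (.node (.node (.leaf 11931) (.leaf 6317)) (.node (.leaf 6503) (.leaf 10425))) (.node (.node (.leaf 10592) (.leaf 3554)) (.node (.leaf 15720) (.leaf 15972))))) (.node (.node (.node (.node (.leaf 6723) (.leaf 11341)) (.node (.leaf 1873) (.leaf 16263))) (.node (.node (.leaf 6626) (.leaf 3454)) (.node (.leaf 12093) (.leaf 15981)))) (.node (.node (.node (.leaf 6675) (.leaf 13786)) (.node (.leaf 6478) (.leaf 6108))) (.node (.node (.leaf 10572) (.leaf 10545)) (.node (.leaf 2741) (.leaf 6021)))))))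

def twoRank175 : Janko.Tree (ℕ) :=
  (.node (.node (.node (.node (.node (.node (.leaf 92) (.leaf 7489)) (.node (.leaf 1623) (.leaf 3681))) (.node (.node (.leaf 889) (.leaf 13178)) (.node (.leaf 7672) (.leaf 16367)))) (.node (.node (.node (.leaf 8090) (.leaf 7389)) (.node (.leaf 1956) (.leaf 7032))) (.node (.node (.leaf 7922) (.leaf 12859)) (.node (.leaf 7582) (.leaf 16427))))) (.node (.node (.node (.node (.leaf 315) (.leaf 7442)) (.node (.leaf 1783) (.leaf 16040))) (.node (.node (.leaf 1078) (.leaf 12348)) (.node (.leaf 13129) (.leaf 15500)))) (.node (.node (.node (.leaf 12874) (.leaf 7355)) (.node (.leaf 7717) (.leaf 6987))) (.node (.node (.leaf 1450) (.leaf 14452)) (.node (.leaf 7533) (.leaf 16257)))))) (.node (.node (.node (.node (.node (.leaf 206) (.leaf 7469)) (.node (.leaf 1704) (.leaf 7100))) (.node (.node (.leaf 14453) (.leaf 13919)) (.node (.leaf 7645) (.leaf 6919)))) (.node (.node (.node (.leaf 602) (.leaf 12432)) (.node (.leaf 2040) (.leaf 3898))) (.node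 (.node (.leaf 1367) (.leaf 14451)) (.node (.leaf 12524) (.leaf 14983))))) (.node (.node (.node (.node (.leaf 13437) (.leaf 7417)) (.node (.leaf 1874) (.leaf 13143))) (.node (.node (.leaf 13620) (.leaf 12312)) (.node (.leaf 2463) (.leaf 13174)))) (.node (.node (.node (.leaf 796) (.leaf 12764)) (.node (.leaf 12831) (.leaf 14501))) (.node (.node (.leaf 1538) (.leaf 7142)) (.node (.leaf 2742) (.leaf 15141)))))))

def twoRank176 : Janko.Tree (ℕ) :=
  (.node (.node (.node (.node (.node (.node (.leaf 8528) (.leaf 10320)) (.node (.leaf 10140) (.leaf 8574))) (.node (.node (.leaf 10243) (.leaf 14388)) (.node (.leaf 10160) (.leaf 15939)))) (.node (.node (.node (.leaf 508) (.leaf 12419)) (.node (.leaf 9082) (.leaf 13876))) (.node (.node (.leaf 1266) (.leaf 4203)) (.node (.leaf 11378) (.leaf 4105))))) (.node (.node (.node (.node (.leaf 8839) (.leaf 2947)) (.node (.leaf 12725) (.leaf 11360))) (.node (.node (.leaf 9150) (.leaf 9009)) (.node (.leaf 2393) (.leaf 13685)))) (.node (.node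 (.node (.leaf 11831) (.leaf 14887)) (.node (.leaf 11778) (.leaf 14814))) (.node (.node (.leaf 9126) (.leaf 15486)) (.node (.leaf 14184) (.leaf 14973)))))) (.node (.node (.node (.node (.node (.leaf 8874) (.leaf 12056)) (.node (.leaf 9147) (.leaf 15797))) (.node (.node (.leaf 10076) (.leaf 4228)) (.node (.leaf 4350) (.leaf 3998)))) (.node (.node (.node (.leaf 12050) (.leaf 11217)) (.node (.leaf 12671) (.leaf 8589))) (.node (.node (.leaf 10242) (.leaf 10096)) (.node (.leaf 15726) (.leaf 15379))))) (.node (.node (.node (.node (.leaf 8827) (.leaf 2996)) (.node (.leaf 4397) (.leaf 13145))) (.node (.node (.leaf 12745) (.leaf 8244)) (.node (.leaf 12141) (.leaf 15924)))) (.node (.node (.node (.leaf 10203) (.leaf 11355)) (.node (.leaf 10084) (.leaf 16131))) (.node (.node (.leaf 13243) (.leaf 15362)) (.node (.leaf 12696) (.leaf 15092)))))))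

def twoRank177 : Janko.Tree (ℕ) :=
  (.node (.node (.node (.node (.node (.node (.leaf 93) (.leaf 2812)) (.node (.leaf 1624) (.leaf 3682))) (.node (.node (.leaf 890) (.leaf 15795)) (.node (.leaf 2269) (.leaf 4749)))) (.node (.node (.node (.leaf 5922) (.leaf 5212)) (.node (.leaf 1957) (.leaf 4847))) (.node (.node (.leaf 5742) (.leaf 14413)) (.node (.leaf 5383) (.leaf 4065))))) (.node (.node (.node (.node (.leaf 11094) (.leaf 5257)) (.node (.leaf 1784) (.leaf 4899))) (.node (.node (.leaf 1079) (.leaf 3396)) (.node (.leaf 5434) (.leaf 16244)))) (.node (.node (.node (.leaf 5876) (.leaf 5163)) (.node (.leaf 2117) (.leaf 4801))) (.node (.node (.leaf 14041) (.leaf 3594)) (.node (.leaf 5341) (.leaf 13221)))))) (.node (.node (.node (.node (.node (.leaf 207) (.leaf 2888)) (.node (.leaf 1705) (.leaf 4921))) (.node (.node (.leaf 985) (.leaf 3350)) (.node (.leaf 13308) (.leaf 4729)))) (.node (.node (.node (.leaf 603) (.leaf 5187)) (.node (.leaf 11005) (.leaf 16291))) (.node (.node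 (.leaf 1368) (.leaf 14745)) (.node (.leaf 2620) (.leaf 4628))))) (.node (.node (.node (.node (.leaf 11081) (.leaf 5234)) (.node (.leaf 1875) (.leaf 4873))) (.node (.node (.leaf 11160) (.leaf 15627)) (.node (.leaf 10629) (.leaf 4052)))) (.node (.node (.node (.leaf 797) (.leaf 3243)) (.node (.leaf 5493) (.leaf 10939))) (.node (.node (.leaf 1539) (.leaf 4963)) (.node (.leaf 2743) (.leaf 4572)))))))

def twoRank178 : Janko.Tree (ℕ) :=
  (.node (.node (.node (.node (.node (.node (.leaf 6763) (.leaf 6374)) (.node (.leaf 9788) (.leaf 9309))) (.node (.node (.leaf 9813) (.leaf 6283)) (.node (.leaf 6466) (.leaf 15420)))) (.node (.node (.node (.leaf 13581) (.leaf 3049)) (.node (.leaf 9643) (.leaf 14104))) (.node (.node (.leaf 1267) (.leaf 15264)) (.node (.leaf 11376) (.leaf 12044))))) (.node (.node (.node (.node (.leaf 9861) (.leaf 13901)) (.node (.leaf 6539) (.leaf 11387))) (.node (.node (.leaf 9787) (.leaf 10589)) (.node (.leaf 2394) (.leaf 13681)))) (.node (.node (.node (.leaf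 11837) (.leaf 10749)) (.node (.leaf 11796) (.leaf 14504))) (.node (.node (.leaf 14045) (.leaf 6213)) (.node (.leaf 14186) (.leaf 10842)))))) (.node (.node (.node (.node (.node (.leaf 9935) (.leaf 6360)) (.node (.leaf 10712) (.leaf 14583))) (.node (.node (.leaf 6650) (.leaf 14068)) (.node (.leaf 10550) (.leaf 3999)))) (.node (.node (.node (.leaf 9894) (.leaf 11239)) (.node (.leaf 9623) (.leaf 9266))) (.node (.node (.leaf 11851) (.leaf 14727)) (.node (.leaf 6409) (.leaf 14478))))) (.node (.node (.node (.node (.leaf 13433) (.leaf 2997)) (.node (.leaf 1876) (.leaf 15987))) (.node (.node (.leaf 13626) (.leaf 6248)) (.node (.leaf 6431) (.leaf 6062)))) (.node (.node (.node (.leaf 9823) (.leaf 6293)) (.node (.leaf 11436) (.leaf 14455))) (.node (.node (.leaf 11807) (.leaf 15368)) (.node (.leaf 6388) (.leaf 15596)))))))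

def twoRank179 : Janko.Tree (ℕ) :=
  (.node (.node (.node (.node (.node (.node (.leaf 94) (.leaf 12828)) (.node (.leaf 7841) (.leaf 7126))) (.node (.node (.leaf 8004) (.leaf 16103)) (.node (.leaf 2270) (.leaf 3970)))) (.node (.node (.node (.leaf 13600) (.leaf 12409)) (.node (.leaf 7756) (.leaf 13871))) (.node (.node (.leaf 1268) (.leaf 12294)) (.node (.leaf 2545) (.leaf 14763))))) (.node (.node (.node (.node (.leaf 8135) (.leaf 2948)) (.node (.leaf 12719) (.leaf 15969))) (.node (.node (.leaf 7965) (.leaf 7253)) (.node (.leaf 2395) (.leaf 6896)))) (.node (.node (.node (.leaf 696) (.leaf 3177)) (.node (.leaf 7716) (.leaf 12858))) (.node (.node (.leaf 7883) (.leaf 14492)) (.node (.leaf 14178) (.leaf 6808)))))) (.node (.node (.node (.node (.node (.leaf 8158) (.leaf 15494)) (.node (.leaf 7818) (.leaf 3736))) (.node (.node (.leaf 986) (.leaf 12940)) (.node (.leaf 2334) (.leaf 4000)))) (.node (.node (.node (.leaf 8068) (.leaf 3095)) (.node (.leaf 7733) (.leaf 7013))) (.node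 (.node (.leaf 7903) (.leaf 7188)) (.node (.leaf 2621) (.leaf 14464))))) (.node (.node (.node (.node (.leaf 8112) (.leaf 2998)) (.node (.leaf 1877) (.leaf 13138))) (.node (.node (.leaf 7944) (.leaf 3455)) (.node (.leaf 2464) (.leaf 4053)))) (.node (.node (.node (.leaf 8025) (.leaf 16326)) (.node (.leaf 2197) (.leaf 6966))) (.node (.node (.leaf 7864) (.leaf 15366)) (.node (.leaf 12687) (.leaf 15236)))))))

def twoRank180 : Janko.Tree (ℕ) :=
  (.node (.node (.node (.node (.node (.node (.leaf 8875) (.leaf 2813)) (.node (.leaf 12458) (.leaf 3683))) (.node (.node (.leaf 891) (.leaf 12354)) (.node (.leaf 12635) (.leaf 16189)))) (.node (.node (.node (.leaf 11880) (.leaf 4266)) (.node (.leaf 1958) (.leaf 8638))) (.node (.node (.leaf 4457) (.leaf 15262)) (.node (.leaf 4325) (.leaf 12005))))) (.node (.node (.node (.node (.leaf 10244) (.leaf 8679)) (.node (.leaf 11724) (.leaf 16314))) (.node (.node (.leaf 1080) (.leaf 13161)) (.node (.leaf 4340) (.leaf 4022)))) (.node (.node (.node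 (.leaf 9193) (.leaf 4248)) (.node (.leaf 14882) (.leaf 12289))) (.node (.node (.leaf 11764) (.leaf 16141)) (.node (.leaf 15188) (.leaf 12265)))))) (.node (.node (.node (.node (.node (.leaf 8893) (.leaf 12068)) (.node (.leaf 1706) (.leaf 16036))) (.node (.node (.leaf 12854) (.leaf 11484)) (.node (.leaf 9050) (.leaf 4120)))) (.node (.node (.node (.leaf 604) (.leaf 4257)) (.node (.leaf 10229) (.leaf 4145))) (.node (.node (.leaf 13925) (.leaf 14168)) (.node (.leaf 12505) (.leaf 16260))))) (.node (.node (.node (.node (.leaf 10126) (.leaf 11348)) (.node (.leaf 8364) (.leaf 15105))) (.node (.node (.leaf 4465) (.leaf 12306)) (.node (.leaf 9036) (.leaf 15920)))) (.node (.node (.node (.leaf 11741) (.leaf 10057)) (.node (.leaf 9121) (.leaf 14993))) (.node (.node (.leaf 1540) (.leaf 4186)) (.node (.leaf 9075) (.leaf 16117)))))))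

def twoRank181 : Janko.Tree (ℕ) :=
  (.node (.node (.node (.node (.node (.node (.leaf 11097) (.leaf 5298)) (.node (.leaf 5651) (.leaf 4939))) (.node (.node (.leaf 5831) (.leaf 3297)) (.node (.leaf 2271) (.leaf 3971)))) (.node (.node (.node (.leaf 5921) (.leaf 12922)) (.node (.leaf 5563) (.leaf 16384))) (.node (.node (.leaf 1269) (.leaf 16083)) (.node (.leaf 2546) (.leaf 10883))))) (.node (.node (.node (.node (.leaf 5964) (.leaf 13909)) (.node (.leaf 5608) (.leaf 4898))) (.node (.node (.leaf 5786) (.leaf 5077)) (.node (.leaf 15659) (.leaf 4703)))) (.node (.node (.node (.leaf 697) (.leaf 13782)) (.node (.leaf 5517) (.leaf 4800))) (.node (.node (.leaf 5697) (.leaf 4987)) (.node (.leaf 11010) (.leaf 15114)))))) (.node (.node (.node (.node (.node (.leaf 208) (.leaf 12247)) (.node (.leaf 5631) (.leaf 13787))) (.node (.node (.leaf 987) (.leaf 5098)) (.node (.leaf 2335) (.leaf 4001)))) (.node (.node (.node (.leaf 5898) (.leaf 3096)) (.node (.leaf 5543) (.leaf 13647))) (.node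 (.node (.leaf 5718) (.leaf 5013)) (.node (.leaf 10981) (.leaf 4627))))) (.node (.node (.node (.node (.leaf 5943) (.leaf 5233)) (.node (.leaf 1878) (.leaf 3828))) (.node (.node (.leaf 1180) (.leaf 11122)) (.node (.leaf 14927) (.leaf 11462)))) (.node (.node (.node (.leaf 5854) (.leaf 16310)) (.node (.leaf 14223) (.leaf 4774))) (.node (.node (.leaf 5673) (.leaf 3632)) (.node (.leaf 2744) (.leaf 13216)))))))

def twoRank182 : Janko.Tree (ℕ) :=
  (.node (.node (.node (.node (.node (.node (.leaf 9941) (.leaf 2814)) (.node (.leaf 1625) (.leaf 10437))) (.node (.node (.leaf 892) (.leaf 15949)) (.node (.leaf 9579) (.leaf 6096)))) (.node (.node (.node (.leaf 12049) (.leaf 10549)) (.node (.leaf 1959) (.leaf 9364))) (.node (.node (.leaf 1270) (.leaf 6237)) (.node (.leaf 11384) (.leaf 6052))))) (.node (.node (.node (.node (.leaf 316) (.leaf 9432)) (.node (.leaf 11730) (.leaf 3784))) (.node (.node (.leaf 1081) (.leaf 15664)) (.node (.leaf 2396) (.leaf 4023)))) (.node (.node (.node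 (.leaf 10815) (.leaf 15793)) (.node (.leaf 2118) (.leaf 15266))) (.node (.node (.leaf 11771) (.leaf 13698)) (.node (.leaf 15168) (.leaf 6030)))))) (.node (.node (.node (.node (.node (.leaf 9934) (.leaf 15284)) (.node (.leaf 14298) (.leaf 9406))) (.node (.node (.leaf 9799) (.leaf 11496)) (.node (.leaf 10552) (.leaf 14006)))) (.node (.node (.node (.leaf 605) (.leaf 10537)) (.node (.leaf 2041) (.leaf 10424))) (.node (.node (.leaf 14074) (.leaf 14170)) (.node (.leaf 9507) (.leaf 14473))))) (.node (.node (.node (.node (.leaf 414) (.leaf 11332)) (.node (.leaf 6526) (.leaf 6154))) (.node (.node (.leaf 1181) (.leaf 9353)) (.node (.leaf 9541) (.leaf 9227)))) (.node (.node (.node (.leaf 11745) (.leaf 16320)) (.node (.leaf 11451) (.leaf 14985))) (.node (.node (.leaf 1541) (.leaf 14098)) (.node (.leaf 10677) (.leaf 9212)))))))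

def twoRank183 : Janko.Tree (ℕ) :=
  (.node (.node (.node (.node (.node (.node (.leaf 8180) (.leaf 2815)) (.node (.leaf 12462) (.leaf 3684))) (.node (.node (.leaf 893) (.leaf 7303)) (.node (.leaf 7671) (.leaf 14351)))) (.node (.node (.node (.leaf 509) (.leaf 3050)) (.node (.leaf 1960) (.leaf 7031))) (.node (.node (.leaf 1271) (.leaf 3504)) (.node (.leaf 16420) (.leaf 14552))))) (.node (.node (.node (.node (.leaf 317) (.leaf 7441)) (.node (.leaf 1785) (.leaf 3785))) (.node (.node (.leaf 1082) (.leaf 13165)) (.node (.leaf 12412) (.leaf 4024)))) (.node (.node (.node (.leaf 8046) (.leaf 3178)) (.node (.leaf 2119) (.leaf 12295))) (.node (.node (.leaf 1451) (.leaf 14483)) (.node (.leaf 7532) (.leaf 12263)))))) (.node (.node (.node (.node (.node (.leaf 8157) (.leaf 7468)) (.node (.leaf 13131) (.leaf 7099))) (.node (.node (.leaf 7984) (.leaf 3351)) (.node (.leaf 7644) (.leaf 13177)))) (.node (.node (.node (.leaf 606) (.leaf 13717)) (.node (.leaf 12673) (.leaf 14792))) (.node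 (.node (.leaf 13890) (.leaf 14166)) (.node (.leaf 7558) (.leaf 12473))))) (.node (.node (.node (.node (.leaf 415) (.leaf 2999)) (.node (.leaf 1879) (.leaf 14620))) (.node (.node (.leaf 12455) (.leaf 7236)) (.node (.leaf 7603) (.leaf 6877)))) (.node (.node (.node (.leaf 798) (.leaf 7331)) (.node (.leaf 7695) (.leaf 14987))) (.node (.node (.leaf 1542) (.leaf 12945)) (.node (.leaf 7505) (.leaf 6782)))))))

def twoRank184 : Janko.Tree (ℕ) :=
  (.node (.node (.node (.node (.node (.node (.leaf 10324) (.leaf 4293)) (.node (.leaf 13406) (.leaf 8609))) (.node (.node (.leaf 4492) (.leaf 12519)) (.node (.leaf 11408) (.leaf 16055)))) (.node (.node (.node (.leaf 10279) (.leaf 8982)) (.node (.leaf 12916) (.leaf 12323))) (.node (.node (.leaf 8420) (.leaf 12286)) (.node (.leaf 11367) (.leaf 14690))))) (.node (.node (.node (.node (.leaf 8515) (.leaf 8750)) (.node (.leaf 9143) (.leaf 16124))) (.node (.node (.leaf 12876) (.leaf 4220)) (.node (.leaf 8322) (.leaf 12002)))) (.node (.node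 (.node (.leaf 4508) (.leaf 15710)) (.node (.leaf 12836) (.leaf 15572))) (.node (.node (.leaf 10304) (.leaf 15840)) (.node (.leaf 8357) (.leaf 15956)))))) (.node (.node (.node (.node (.node (.leaf 209) (.leaf 11249)) (.node (.leaf 11856) (.leaf 8660))) (.node (.node (.leaf 988) (.leaf 11514)) (.node (.leaf 11627) (.leaf 14008)))) (.node (.node (.node (.leaf 12126) (.leaf 3097)) (.node (.leaf 8407) (.leaf 14828))) (.node (.node (.leaf 13923) (.leaf 15974)) (.node (.leaf 10176) (.leaf 16230))))) (.node (.node (.node (.node (.leaf 8509) (.leaf 9057)) (.node (.leaf 8645) (.leaf 14901))) (.node (.node (.leaf 8426) (.leaf 10375)) (.node (.leaf 2465) (.leaf 14829)))) (.node (.node (.node (.leaf 8862) (.leaf 16318)) (.node (.leaf 11447) (.leaf 4134))) (.node (.node (.leaf 10391) (.leaf 12618)) (.node (.leaf 11459) (.leaf 15082)))))))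

def twoRank185 : Janko.Tree (ℕ) :=
  (.node (.node (.node (.node (.node (.node (.leaf 95) (.leaf 2816)) (.node (.leaf 1626) (.leaf 16383))) (.node (.node (.leaf 894) (.leaf 5122)) (.node (.leaf 5472) (.leaf 11109)))) (.node (.node (.node (.leaf 510) (.leaf 13369)) (.node (.leaf 1961) (.leaf 4846))) (.node (.node (.leaf 1272) (.leaf 11139)) (.node (.leaf 10694) (.leaf 14872))))) (.node (.node (.node (.node (.leaf 318) (.leaf 2949)) (.node (.leaf 1786) (.leaf 3786))) (.node (.node (.leaf 1083) (.leaf 3397)) (.node (.leaf 2397) (.leaf 4702)))) (.node (.node (.node (.leaf 698) (.leaf 3179)) (.node (.leaf 2120) (.leaf 14506))) (.node (.node (.leaf 1452) (.leaf 4986)) (.node (.leaf 11690) (.leaf 4598)))))) (.node (.node (.node (.node (.node (.leaf 5985) (.leaf 5277)) (.node (.leaf 1707) (.leaf 3737))) (.node (.node (.leaf 5809) (.leaf 15352)) (.node (.leaf 5451) (.leaf 16077)))) (.node (.node (.node (.leaf 607) (.leaf 5186)) (.node (.leaf 13826) (.leaf 15946))) (.node (.node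 (.leaf 5717) (.leaf 10970)) (.node (.leaf 5362) (.leaf 4626))))) (.node (.node (.node (.node (.leaf 416) (.leaf 15626)) (.node (.leaf 11013) (.leaf 10958))) (.node (.node (.leaf 1182) (.leaf 3456)) (.node (.leaf 5407) (.leaf 4676)))) (.node (.node (.node (.leaf 799) (.leaf 3244)) (.node (.leaf 2198) (.leaf 14870))) (.node (.node (.leaf 5672) (.leaf 14914)) (.node (.leaf 11465) (.leaf 11688)))))))

def twoRank186 : Janko.Tree (ℕ) :=
  (.node (.node (.node (.node (.node (.node (.leaf 6762) (.leaf 11887)) (.node (.leaf 11675) (.leaf 9308))) (.node (.node (.leaf 13861) (.leaf 16455)) (.node (.leaf 12963) (.leaf 14348)))) (.node (.node (.node (.leaf 9906) (.leaf 10547)) (.node (.leaf 6514) (.leaf 3865))) (.node (.node (.leaf 6613) (.leaf 9335)) (.node (.leaf 6420) (.leaf 14550))))) (.node (.node (.node (.node (.leaf 6734) (.leaf 9592)) (.node (.leaf 10755) (.leaf 6164))) (.node (.node (.leaf 6637) (.leaf 14563)) (.node (.leaf 6445) (.leaf 12008)))) (.node (.node (.node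 (.leaf 11855) (.leaf 6304)) (.node (.leaf 6488) (.leaf 14503))) (.node (.node (.leaf 9802) (.leaf 14471)) (.node (.leaf 6398) (.leaf 15401)))))) (.node (.node (.node (.node (.node (.leaf 210) (.leaf 11256)) (.node (.leaf 11840) (.leaf 9402))) (.node (.node (.leaf 989) (.leaf 9496)) (.node (.leaf 11630) (.leaf 6086)))) (.node (.node (.node (.leaf 12110) (.leaf 3098)) (.node (.leaf 6502) (.leaf 10426))) (.node (.node (.leaf 13978) (.leaf 15982)) (.node (.leaf 2622) (.leaf 16340))))) (.node (.node (.node (.node (.leaf 6722) (.leaf 10649)) (.node (.leaf 9511) (.leaf 14616))) (.node (.node (.leaf 6625) (.leaf 11584)) (.node (.leaf 2466) (.leaf 10405)))) (.node (.node (.node (.leaf 9868) (.leaf 11391)) (.node (.leaf 9726) (.leaf 14876))) (.node (.node (.leaf 11770) (.leaf 6203)) (.node (.leaf 6387) (.leaf 15543)))))))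

def twoRank187 : Janko.Tree (ℕ) :=
  (.node (.node (.node (.node (.node (.node (.leaf 96) (.leaf 14118)) (.node (.leaf 7840) (.leaf 7125))) (.node (.node (.leaf 13865) (.leaf 12525)) (.node (.leaf 2272) (.leaf 6944)))) (.node (.node (.node (.leaf 8089) (.leaf 7388)) (.node (.leaf 12891) (.leaf 12325))) (.node (.node (.leaf 1273) (.leaf 7209)) (.node (.leaf 2547) (.leaf 6851))))) (.node (.node (.node (.node (.leaf 319) (.leaf 7440)) (.node (.leaf 7797) (.leaf 13766))) (.node (.node (.leaf 12882) (.leaf 13163)) (.node (.leaf 14355) (.leaf 4025)))) (.node (.node (.node (.leaf 699) (.leaf 3180)) (.node (.leaf 12838) (.leaf 6986))) (.node (.node (.leaf 7882) (.leaf 14479)) (.node (.leaf 2685) (.leaf 4086)))))) (.node (.node (.node (.node (.node (.leaf 211) (.leaf 2889)) (.node (.leaf 7817) (.leaf 7098))) (.node (.node (.leaf 990) (.leaf 7278)) (.node (.leaf 2336) (.leaf 13811)))) (.node (.node (.node (.leaf 8067) (.leaf 3099)) (.node (.leaf 12697) (.leaf 7012))) (.node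 (.node (.leaf 13995) (.leaf 7187)) (.node (.leaf 12507) (.leaf 16348))))) (.node (.node (.node (.node (.leaf 417) (.leaf 7416)) (.node (.leaf 7778) (.leaf 7054))) (.node (.node (.leaf 13416) (.leaf 7235)) (.node (.leaf 2467) (.leaf 14789)))) (.node (.node (.node (.leaf 8024) (.leaf 7330)) (.node (.leaf 7694) (.leaf 15061))) (.node (.node (.leaf 1543) (.leaf 12620)) (.node (.leaf 2745) (.leaf 6781)))))))

def twoRank188 : Janko.Tree (ℕ) :=
  (.node (.node (.node (.node (.node (.node (.leaf 10343) (.leaf 2817)) (.node (.leaf 11677) (.leaf 4177))) (.node (.node (.leaf 10239) (.leaf 16010)) (.node (.leaf 10165) (.leaf 13377)))) (.node (.node (.node (.leaf 511) (.leaf 9047)) (.node (.leaf 10108) (.leaf 4152))) (.node (.node (.leaf 8711) (.leaf 8287)) (.node (.leaf 16374) (.leaf 10379))))) (.node (.node (.node (.node (.leaf 8856) (.leaf 12658)) (.node (.leaf 4405) (.leaf 15934))) (.node (.node (.leaf 10135) (.leaf 12476)) (.node (.leaf 12414) (.leaf 15127)))) (.node (.node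 (.node (.leaf 11864) (.leaf 8972)) (.node (.leaf 2121) (.leaf 14999))) (.node (.node (.leaf 12840) (.leaf 11957)) (.node (.leaf 8640) (.leaf 15933)))))) (.node (.node (.node (.node (.node (.leaf 4547) (.leaf 8756)) (.node (.leaf 1708) (.leaf 12255))) (.node (.node (.leaf 8852) (.leaf 15898)) (.node (.leaf 11663) (.leaf 13175)))) (.node (.node (.node (.leaf 608) (.leaf 12553)) (.node (.leaf 14669) (.leaf 11263))) (.node (.node (.leaf 4448) (.leaf 14884)) (.node (.leaf 8361) (.leaf 14946))))) (.node (.node (.node (.node (.leaf 8848) (.leaf 4272)) (.node (.leaf 1880) (.leaf 14832))) (.node (.node (.leaf 12451) (.leaf 3457)) (.node (.leaf 12717) (.leaf 8919)))) (.node (.node (.node (.leaf 12750) (.leaf 16101)) (.node (.leaf 15711) (.leaf 15072))) (.node (.node (.leaf 9153) (.leaf 8979)) (.node (.leaf 13063) (.leaf 16331)))))))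

def twoRank189 : Janko.Tree (ℕ) :=
  (.node (.node (.node (.node (.node (.node (.leaf 97) (.leaf 5297)) (.node (.leaf 5650) (.leaf 13488))) (.node (.node (.leaf 5830) (.leaf 14385)) (.node (.leaf 2273) (.leaf 15778)))) (.node (.node (.node (.leaf 5920) (.leaf 3051)) (.node (.leaf 5562) (.leaf 15645))) (.node (.node (.leaf 11044) (.leaf 14044)) (.node (.leaf 2548) (.leaf 4653))))) (.node (.node (.node (.node (.leaf 320) (.leaf 5256)) (.node (.leaf 1787) (.leaf 11016))) (.node (.node (.leaf 5785) (.leaf 14974)) (.node (.leaf 10991) (.leaf 4701)))) (.node (.node (.node (.leaf 10822) (.leaf 10988)) (.node (.leaf 5516) (.leaf 4799))) (.node (.node (.leaf 5696) (.leaf 4985)) (.node (.leaf 2686) (.leaf 10927)))))) (.node (.node (.node (.node (.node (.leaf 212) (.leaf 2890)) (.node (.leaf 5630) (.leaf 4920))) (.node (.node (.leaf 991) (.leaf 5097)) (.node (.leaf 2337) (.leaf 10937)))) (.node (.node (.node (.leaf 5897) (.leaf 16399)) (.node (.leaf 5542) (.leaf 4821))) (.node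 (.node (.leaf 1369) (.leaf 5012)) (.node (.leaf 13829) (.leaf 11684))))) (.node (.node (.node (.node (.leaf 418) (.leaf 3000)) (.node (.leaf 5584) (.leaf 4872))) (.node (.node (.leaf 11019) (.leaf 5055)) (.node (.leaf 2468) (.leaf 4054)))) (.node (.node (.node (.leaf 5853) (.leaf 5142)) (.node (.leaf 5492) (.leaf 14063))) (.node (.node (.leaf 1544) (.leaf 15088)) (.node (.leaf 2746) (.leaf 4571)))))))

def twoRank190 : Janko.Tree (ℕ) :=
  (.node (.node (.node (.node (.node (.node (.leaf 9959) (.leaf 2818)) (.node (.leaf 11679) (.leaf 10436))) (.node (.node (.leaf 895) (.leaf 14031)) (.node (.leaf 9716) (.leaf 6095)))) (.node (.node (.node (.leaf 512) (.leaf 10546)) (.node (.leaf 11498) (.leaf 14256))) (.node (.node (.leaf 9659) (.leaf 6236)) (.node (.leaf 9527) (.leaf 12045))))) (.node (.node (.node (.node (.leaf 9905) (.leaf 2950)) (.node (.leaf 11744) (.leaf 13760))) (.node (.node (.leaf 1084) (.leaf 9474)) (.node (.leaf 13381) (.leaf 15268)))) (.node (.node (.node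 (.leaf 6687) (.leaf 9407)) (.node (.leaf 2122) (.leaf 3926))) (.node (.node (.leaf 1453) (.leaf 11941)) (.node (.leaf 9495) (.leaf 14366)))))) (.node (.node (.node (.node (.node (.leaf 213) (.leaf 9608)) (.node (.leaf 1709) (.leaf 3738))) (.node (.node (.leaf 9846) (.leaf 3352)) (.node (.leaf 9702) (.leaf 13809)))) (.node (.node (.node (.leaf 609) (.leaf 9544)) (.node (.leaf 10806) (.leaf 11268))) (.node (.node (.leaf 1370) (.leaf 10846)) (.node (.leaf 6408) (.leaf 15919))))) (.node (.node (.node (.node (.leaf 9885) (.leaf 11331)) (.node (.leaf 10518) (.leaf 10870))) (.node (.node (.leaf 13425) (.leaf 3458)) (.node (.leaf 6430) (.leaf 15716)))) (.node (.node (.node (.leaf 800) (.leaf 3245)) (.node (.leaf 16011) (.leaf 13914))) (.node (.node (.leaf 11803) (.leaf 14072)) (.node (.leaf 9473) (.leaf 16352)))))))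

def twoRank191 : Janko.Tree (ℕ) :=
  (.node (.node (.node (.node (.node (.node (.leaf 8179) (.leaf 2819)) (.node (.leaf 1627) (.leaf 16162))) (.node (.node (.leaf 896) (.leaf 7302)) (.node (.leaf 7670) (.leaf 12417)))) (.node (.node (.node (.leaf 513) (.leaf 7387)) (.node (.leaf 1962) (.leaf 3866))) (.node (.node (.leaf 7921) (.leaf 12292)) (.node (.leaf 7581) (.leaf 14555))))) (.node (.node (.node (.node (.leaf 8134) (.leaf 12666)) (.node (.leaf 1788) (.leaf 7076))) (.node (.node (.leaf 1085) (.leaf 7252)) (.node (.leaf 7618) (.leaf 4026)))) (.node (.node (.node (.leaf 700) (.leaf 7354)) (.node (.leaf 2123) (.leaf 3927))) (.node (.node (.leaf 12834) (.leaf 15300)) (.node (.leaf 7531) (.leaf 6807)))))) (.node (.node (.node (.node (.node (.leaf 214) (.leaf 7467)) (.node (.leaf 1710) (.leaf 12249))) (.node (.node (.leaf 7983) (.leaf 3353)) (.node (.leaf 7643) (.leaf 6918)))) (.node (.node (.node (.leaf 610) (.leaf 7373)) (.node (.leaf 14746) (.leaf 3899))) (.node (.node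 (.leaf 1371) (.leaf 3555)) (.node (.leaf 12528) (.leaf 6829))))) (.node (.node (.node (.node (.leaf 8111) (.leaf 3001)) (.node (.leaf 1881) (.leaf 14693))) (.node (.node (.leaf 7943) (.leaf 3459)) (.node (.leaf 12727) (.leaf 6876)))) (.node (.node (.node (.leaf 12756) (.leaf 3246)) (.node (.leaf 2199) (.leaf 6965))) (.node (.node (.leaf 7863) (.leaf 7141)) (.node (.leaf 7504) (.leaf 16336)))))))

def twoRank192 : Janko.Tree (ℕ) :=
  (.node (.node (.node (.node (.node (.node (.leaf 98) (.leaf 4292)) (.node (.leaf 4422) (.leaf 16174))) (.node (.node (.leaf 10326) (.leaf 10006)) (.node (.leaf 12421) (.leaf 8931)))) (.node (.node (.node (.leaf 11896) (.leaf 3052)) (.node (.leaf 9133) (.leaf 8916))) (.node (.node (.leaf 1274) (.leaf 12288)) (.node (.leaf 14843) (.leaf 12039))))) (.node (.node (.node (.node (.leaf 321) (.leaf 4278)) (.node (.leaf 11742) (.leaf 15789))) (.node (.node (.leaf 9175) (.leaf 12674)) (.node (.leaf 14352) (.leaf 4116)))) (.node (.node (.node (.leaf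 9174) (.leaf 8317)) (.node (.leaf 4372) (.leaf 12291))) (.node (.node (.leaf 11816) (.leaf 14548)) (.node (.leaf 2687) (.leaf 15029)))))) (.node (.node (.node (.node (.node (.leaf 8512) (.leaf 4284)) (.node (.leaf 4413) (.leaf 4169))) (.node (.node (.leaf 12842) (.leaf 15761)) (.node (.leaf 15897) (.leaf 10342)))) (.node (.node (.node (.leaf 4516) (.leaf 12571)) (.node (.leaf 12688) (.leaf 11995))) (.node (.node (.leaf 8410) (.leaf 15010)) (.node (.leaf 14679) (.leaf 16007))))) (.node (.node (.node (.node (.leaf 419) (.leaf 11329)) (.node (.leaf 10181) (.leaf 14580))) (.node (.node (.leaf 10037) (.leaf 4210)) (.node (.leaf 10013) (.leaf 14807)))) (.node (.node (.node (.leaf 4500) (.leaf 12367)) (.node (.leaf 4364) (.leaf 4133))) (.node (.node (.leaf 11801) (.leaf 4185)) (.node (.leaf 13067) (.leaf 10327)))))))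

def twoRank193 : Janko.Tree (ℕ) :=
  (.node (.node (.node (.node (.node (.node (.leaf 6003) (.leaf 2820)) (.node (.leaf 1628) (.leaf 3685))) (.node (.node (.leaf 897) (.leaf 3298)) (.node (.leaf 5471) (.leaf 16282)))) (.node (.node (.node (.leaf 514) (.leaf 5211)) (.node (.leaf 14180) (.leaf 14258))) (.node (.node (.leaf 5741) (.leaf 3505)) (.node (.leaf 5382) (.leaf 4066))))) (.node (.node (.node (.node (.leaf 5963) (.leaf 11689)) (.node (.leaf 10917) (.leaf 4897))) (.node (.node (.leaf 1086) (.leaf 5076)) (.node (.leaf 5433) (.leaf 13513)))) (.node (.node (.node (.leaf 701) (.leaf 11404)) (.node (.leaf 13658) (.leaf 15751))) (.node (.node (.leaf 1454) (.leaf 14931)) (.node (.leaf 5340) (.leaf 4597)))))) (.node (.node (.node (.node (.node (.leaf 215) (.leaf 2891)) (.node (.leaf 1711) (.leaf 11402))) (.node (.node (.leaf 5808) (.leaf 3354)) (.node (.leaf 5450) (.leaf 4728)))) (.node (.node (.node (.leaf 611) (.leaf 5185)) (.node (.leaf 2042) (.leaf 3900))) (.node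 (.node (.leaf 1372) (.leaf 14607)) (.node (.leaf 5361) (.leaf 4625))))) (.node (.node (.node (.node (.leaf 5942) (.leaf 10905)) (.node (.leaf 1882) (.leaf 15824))) (.node (.node (.leaf 5763) (.leaf 3460)) (.node (.leaf 5406) (.leaf 4675)))) (.node (.node (.node (.leaf 801) (.leaf 3247)) (.node (.leaf 13307) (.leaf 3955))) (.node (.node (.leaf 1545) (.leaf 15770)) (.node (.leaf 5323) (.leaf 4570)))))))

def twoRank194 : Janko.Tree (ℕ) :=
  (.node (.node (.node (.node (.node (.node (.leaf 99) (.leaf 11305)) (.node (.leaf 11647) (.leaf 10438))) (.node (.node (.leaf 12001) (.leaf 9508)) (.node (.leaf 2274) (.leaf 14099)))) (.node (.node (.node (.leaf 11907) (.leaf 14071)) (.node (.leaf 11534) (.leaf 14254))) (.node (.node (.leaf 10616) (.leaf 9454)) (.node (.leaf 2549) (.leaf 6051))))) (.node (.node (.node (.node (.leaf 10803) (.leaf 10573)) (.node (.leaf 6538) (.leaf 10872))) (.node (.node (.leaf 13336) (.leaf 3398)) (.node (.leaf 2398) (.leaf 4027)))) (.node (.node (.node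 (.leaf 9837) (.leaf 6303)) (.node (.leaf 2124) (.leaf 6120))) (.node (.node (.leaf 11786) (.leaf 11955)) (.node (.leaf 10505) (.leaf 14891)))))) (.node (.node (.node (.node (.node (.leaf 6747) (.leaf 10579)) (.node (.leaf 1712) (.leaf 10471))) (.node (.node (.leaf 992) (.leaf 6273)) (.node (.leaf 15744) (.leaf 15510)))) (.node (.node (.node (.leaf 612) (.leaf 3100)) (.node (.leaf 9746) (.leaf 9360))) (.node (.node (.leaf 6600) (.leaf 9442)) (.node (.leaf 10782) (.leaf 15913))))) (.node (.node (.node (.node (.leaf 10762) (.leaf 6339)) (.node (.leaf 11713) (.leaf 6153))) (.node (.node (.leaf 1183) (.leaf 15912)) (.node (.leaf 2469) (.leaf 10857)))) (.node (.node (.node (.leaf 10783) (.leaf 6292)) (.node (.leaf 2200) (.leaf 15058))) (.node (.node (.leaf 9796) (.leaf 3633)) (.node (.leaf 15879) (.leaf 12040)))))))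

def twoRank195 : Janko.Tree (ℕ) :=
  (.node (.node (.node (.node (.node (.node (.leaf 100) (.leaf 13928)) (.node (.leaf 1629) (.leaf 7124))) (.node (.node (.leaf 8003) (.leaf 7301)) (.node (.leaf 14467) (.leaf 6943)))) (.node (.node (.node (.leaf 8088) (.leaf 12943)) (.node (.leaf 7755) (.leaf 7030))) (.node (.node (.leaf 1275) (.leaf 7208)) (.node (.leaf 2550) (.leaf 15506))))) (.node (.node (.node (.node (.leaf 322) (.leaf 2951)) (.node (.leaf 13280) (.leaf 3787))) (.node (.node (.leaf 7964) (.leaf 12683)) (.node (.leaf 12790) (.leaf 16106)))) (.node (.node (.node (.leaf 8045) (.leaf 3181)) (.node (.leaf 2125) (.leaf 12297))) (.node (.node (.leaf 7881) (.leaf 7166)) (.node (.leaf 2688) (.leaf 15440)))))) (.node (.node (.node (.node (.node (.leaf 216) (.leaf 14771)) (.node (.leaf 12786) (.leaf 16411))) (.node (.node (.leaf 12855) (.leaf 13893)) (.node (.leaf 2338) (.leaf 15501)))) (.node (.node (.node (.leaf 12816) (.leaf 12555)) (.node (.leaf 7732) (.leaf 7011)))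 (.node (.node (.leaf 1373) (.leaf 7186)) (.node (.leaf 14711) (.leaf 15915))))) (.node (.node (.node (.node (.leaf 420) (.leaf 14176)) (.node (.leaf 7777) (.leaf 15948))) (.node (.node (.leaf 1184) (.leaf 13179)) (.node (.leaf 2470) (.leaf 14809)))) (.node (.node (.node (.leaf 802) (.leaf 12369)) (.node (.leaf 2201) (.leaf 15060))) (.node (.node (.leaf 7862) (.leaf 3634)) (.node (.leaf 13065) (.leaf 16351)))))))

def twoRank196 : Janko.Tree (ℕ) :=
  (.node (.node (.node (.node (.node (.node (.leaf 8910) (.leaf 11299)) (.node (.leaf 11638) (.leaf 3686))) (.node (.node (.leaf 898) (.leaf 12512)) (.node (.leaf 11945) (.leaf 15370)))) (.node (.node (.node (.leaf 515) (.leaf 8734)) (.node (.leaf 11504) (.leaf 13352))) (.node (.node (.leaf 11704) (.leaf 3506)) (.node (.leaf 12733) (.leaf 14557))))) (.node (.node (.node (.node (.leaf 8877) (.leaf 8994)) (.node (.leaf 9096) (.leaf 13854))) (.node (.node (.leaf 11852) (.leaf 12702)) (.node (.leaf 8377) (.leaf 8204)))) (.node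 (.node (.node (.leaf 702) (.leaf 8606)) (.node (.leaf 8344) (.leaf 15259))) (.node (.node (.leaf 1455) (.leaf 3595)) (.node (.leaf 8703) (.leaf 14971)))))) (.node (.node (.node (.node (.node (.leaf 8849) (.leaf 14680)) (.node (.leaf 8378) (.leaf 15813))) (.node (.node (.leaf 4482) (.leaf 16073)) (.node (.leaf 4349) (.leaf 14489)))) (.node (.node (.node (.leaf 8478) (.leaf 4256)) (.node (.leaf 10230) (.leaf 4144))) (.node (.node (.leaf 8691) (.leaf 15080)) (.node (.leaf 12522) (.leaf 15056))))) (.node (.node (.node (.node (.leaf 8867) (.leaf 8988)) (.node (.leaf 13751) (.leaf 14381))) (.node (.node (.leaf 8465) (.leaf 13559)) (.node (.leaf 9097) (.leaf 15867)))) (.node (.node (.node (.leaf 9170) (.leaf 13803)) (.node (.leaf 8338) (.leaf 12660))) (.node (.node (.leaf 1546) (.leaf 8232)) (.node (.leaf 4301) (.leaf 12038)))))))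

def twoRank197 : Janko.Tree (ℕ) :=
  (.node (.node (.node (.node (.node (.node (.leaf 101) (.leaf 10900)) (.node (.leaf 10764) (.leaf 4938))) (.node (.node (.leaf 5829) (.leaf 5121)) (.node (.leaf 5470) (.leaf 4748)))) (.node (.node (.node (.leaf 5919) (.leaf 14912)) (.node (.leaf 1963) (.leaf 16025))) (.node (.node (.leaf 1276) (.leaf 5036)) (.node (.leaf 2551) (.leaf 15902))))) (.node (.node (.node (.node (.leaf 13615) (.leaf 13899)) (.node (.leaf 1789) (.leaf 3788))) (.node (.node (.leaf 1087) (.leaf 14890)) (.node (.leaf 15636) (.leaf 12243)))) (.node (.node (.node (.leaf 5875) (.leaf 3182)) (.node (.leaf 2126) (.leaf 3928))) (.node (.node (.leaf 5695) (.leaf 4984)) (.node (.leaf 13880) (.leaf 14584)))))) (.node (.node (.node (.node (.node (.leaf 11089) (.leaf 13671)) (.node (.leaf 1713) (.leaf 14582))) (.node (.node (.leaf 993) (.leaf 10957)) (.node (.leaf 14226) (.leaf 15161)))) (.node (.node (.node (.leaf 613) (.leaf 3101)) (.node (.leaf 2043) (.leaf 14042)))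 (.node (.node (.leaf 11065) (.leaf 3556)) (.node (.leaf 2623) (.leaf 4624))))) (.node (.node (.node (.node (.leaf 13330) (.leaf 15174)) (.node (.leaf 5583) (.leaf 4871))) (.node (.node (.leaf 1185) (.leaf 5054)) (.node (.leaf 2471) (.leaf 14654)))) (.node (.node (.node (.leaf 13827) (.leaf 5141)) (.node (.leaf 2202) (.leaf 14906))) (.node (.node (.leaf 5671) (.leaf 3635)) (.node (.leaf 2747) (.leaf 4569)))))))

def twoRank198 : Janko.Tree (ℕ) :=
  (.node (.node (.node (.node (.node (.node (.leaf 9964) (.leaf 6373)) (.node (.leaf 6563) (.leaf 3687))) (.node (.node (.leaf 899) (.leaf 3299)) (.node (.leaf 2275) (.leaf 15360)))) (.node (.node (.node (.leaf 516) (.leaf 9556)) (.node (.leaf 9752) (.leaf 6143))) (.node (.node (.leaf 6612) (.leaf 3507)) (.node (.leaf 6419) (.leaf 15306))))) (.node (.node (.node (.node (.leaf 9904) (.leaf 10571)) (.node (.leaf 13274) (.leaf 6163))) (.node (.node (.leaf 11835) (.leaf 6263)) (.node (.leaf 6444) (.leaf 6074)))) (.node (.node (.node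 (.leaf 703) (.leaf 9405)) (.node (.leaf 6487) (.leaf 9334))) (.node (.node (.leaf 1456) (.leaf 3596)) (.node (.leaf 9494) (.leaf 13793)))))) (.node (.node (.node (.node (.node (.leaf 9891) (.leaf 10577)) (.node (.leaf 6551) (.leaf 10469))) (.node (.node (.leaf 10724) (.leaf 13597)) (.node (.leaf 2339) (.leaf 6085)))) (.node (.node (.node (.leaf 6699) (.leaf 12111)) (.node (.leaf 6501) (.leaf 3901))) (.node (.node (.leaf 9627) (.leaf 10845)) (.node (.leaf 9656) (.leaf 15539))))) (.node (.node (.node (.node (.leaf 9884) (.leaf 14174)) (.node (.leaf 13749) (.leaf 14377))) (.node (.node (.leaf 6624) (.leaf 13561)) (.node (.leaf 13465) (.leaf 9280)))) (.node (.node (.node (.leaf 10785) (.leaf 3248)) (.node (.leaf 6477) (.leaf 6107))) (.node (.node (.leaf 1547) (.leaf 6202)) (.node (.leaf 14076) (.leaf 12047)))))))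

def twoRank199 : Janko.Tree (ℕ) :=
  (.node (.node (.node (.node (.node (.node (.leaf 8178) (.leaf 13897)) (.node (.leaf 1630) (.leaf 3688))) (.node (.node (.leaf 900) (.leaf 12510)) (.node (.leaf 2276) (.leaf 15374)))) (.node (.node (.node (.leaf 517) (.leaf 7386)) (.node (.leaf 7754) (.leaf 12321))) (.node (.node (.leaf 1277) (.leaf 3508)) (.node (.leaf 12735) (.leaf 6850))))) (.node (.node (.node (.node (.leaf 8133) (.leaf 7439)) (.node (.leaf 7796) (.leaf 13777))) (.node (.node (.leaf 7963) (.leaf 12700)) (.node (.leaf 12797) (.leaf 15571)))) (.node (.node (.node (.leaf 704) (.leaf 7353)) (.node (.leaf 2127) (.leaf 6985))) (.node (.node (.leaf 1457) (.leaf 3597)) (.node (.leaf 7530) (.leaf 6806)))))) (.node (.node (.node (.node (.node (.leaf 8156) (.leaf 7466)) (.node (.leaf 1714) (.leaf 7097))) (.node (.node (.leaf 994) (.leaf 7277)) (.node (.leaf 12627) (.leaf 15450)))) (.node (.node (.node (.leaf 614) (.leaf 3102)) (.node (.leaf 2044) (.leaf 12215))) (.node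 (.node (.leaf 7902) (.leaf 7185)) (.node (.leaf 7557) (.leaf 4077))))) (.node (.node (.node (.node (.leaf 8110) (.leaf 7415)) (.node (.leaf 13802) (.leaf 14379))) (.node (.node (.leaf 1186) (.leaf 13557)) (.node (.leaf 7602) (.leaf 6875)))) (.node (.node (.node (.leaf 8023) (.leaf 13768)) (.node (.leaf 2203) (.leaf 12670))) (.node (.node (.leaf 1548) (.leaf 3636)) (.node (.leaf 13060) (.leaf 15504)))))))

def twoRank200 : Janko.Tree (ℕ) :=
  (.node (.node (.node (.node (.node (.node (.leaf 102) (.leaf 13918)) (.node (.leaf 9110) (.leaf 4176))) (.node (.node (.leaf 901) (.leaf 3300)) (.node (.leaf 8389) (.leaf 8231)))) (.node (.node (.node (.leaf 4524) (.leaf 12610)) (.node (.leaf 15129) (.leaf 8951))) (.node (.node (.leaf 10182) (.leaf 4202)) (.node (.leaf 10061) (.leaf 10024))))) (.node (.node (.node (.node (.leaf 10290) (.leaf 9065)) (.node (.leaf 10188) (.leaf 13850))) (.node (.node (.leaf 1088) (.leaf 9007)) (.node (.leaf 15657) (.leaf 15737)))) (.node (.node (.node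 (.leaf 12950) (.leaf 3183)) (.node (.leaf 8625) (.leaf 14970))) (.node (.node (.leaf 12821) (.leaf 11935)) (.node (.leaf 4310) (.leaf 15095)))))) (.node (.node (.node (.node (.node (.leaf 10172) (.leaf 2892)) (.node (.leaf 12767) (.leaf 15805))) (.node (.node (.leaf 9156) (.leaf 16099)) (.node (.leaf 8330) (.leaf 12984)))) (.node (.node (.node (.leaf 12826) (.leaf 12144)) (.node (.leaf 12675) (.leaf 8214))) (.node (.node (.leaf 10234) (.leaf 8682)) (.node (.leaf 10177) (.leaf 15397))))) (.node (.node (.node (.node (.leaf 10255) (.leaf 10266)) (.node (.leaf 13804) (.leaf 15940))) (.node (.node (.leaf 8780) (.leaf 13785)) (.node (.leaf 11714) (.leaf 4110)))) (.node (.node (.node (.leaf 803) (.leaf 13798)) (.node (.leaf 8621) (.leaf 8937))) (.node (.node (.leaf 4430) (.leaf 8556)) (.node (.leaf 2748) (.leaf 12280)))))))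

def twoRank201 : Janko.Tree (ℕ) :=
  (.node (.node (.node (.node (.node (.node (.leaf 6002) (.leaf 2821)) (.node (.leaf 1631) (.leaf 13734))) (.node (.node (.leaf 5828) (.leaf 5120)) (.node (.leaf 2277) (.leaf 14910)))) (.node (.node (.node (.leaf 518) (.leaf 5210)) (.node (.leaf 5561) (.leaf 15677))) (.node (.node (.leaf 1278) (.leaf 3509)) (.node (.leaf 5381) (.leaf 4652))))) (.node (.node (.node (.node (.leaf 323) (.leaf 2952)) (.node (.leaf 5607) (.leaf 4896))) (.node (.node (.leaf 5784) (.leaf 15020)) (.node (.leaf 5432) (.leaf 10935)))) (.node (.node (.node (.leaf 705) (.leaf 5162)) (.node (.leaf 11003) (.leaf 4798))) (.node (.node (.leaf 1458) (.leaf 4983)) (.node (.leaf 13607) (.leaf 15257)))))) (.node (.node (.node (.node (.node (.leaf 5984) (.leaf 5276)) (.node (.leaf 11022) (.leaf 4919))) (.node (.node (.leaf 14225) (.leaf 5096)) (.node (.leaf 2340) (.leaf 4002)))) (.node (.node (.node (.leaf 11061) (.leaf 10539)) (.node (.leaf 2045) (.leaf 15625))) (.node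 (.node (.leaf 5716) (.leaf 3557)) (.node (.leaf 2624) (.leaf 4078))))) (.node (.node (.node (.node (.leaf 421) (.leaf 5232)) (.node (.leaf 5582) (.leaf 4870))) (.node (.node (.leaf 1187) (.leaf 5053)) (.node (.leaf 2472) (.leaf 13810)))) (.node (.node (.node (.leaf 5852) (.leaf 3249)) (.node (.leaf 11001) (.leaf 15068))) (.node (.node (.leaf 1549) (.leaf 11755)) (.node (.leaf 5322) (.leaf 15577)))))))

def twoRank202 : Janko.Tree (ℕ) :=
  (.node (.node (.node (.node (.node (.node (.leaf 103) (.leaf 13905)) (.node (.leaf 9705) (.leaf 3689))) (.node (.node (.leaf 902) (.leaf 3301)) (.node (.leaf 6465) (.leaf 6094)))) (.node (.node (.node (.leaf 519) (.leaf 3053)) (.node (.leaf 15195) (.leaf 10499))) (.node (.node (.leaf 9761) (.leaf 13249)) (.node (.leaf 11382) (.leaf 11275))))) (.node (.node (.node (.node (.leaf 6733) (.leaf 10570)) (.node (.leaf 11701) (.leaf 3789))) (.node (.node (.leaf 1089) (.leaf 14085)) (.node (.leaf 10541) (.leaf 15270)))) (.node (.node (.node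 (.leaf 6686) (.leaf 10467)) (.node (.leaf 9457) (.leaf 14642))) (.node (.node (.leaf 6587) (.leaf 11953)) (.node (.leaf 10504) (.leaf 6029)))))) (.node (.node (.node (.node (.node (.leaf 217) (.leaf 2893)) (.node (.leaf 9685) (.leaf 13795))) (.node (.node (.leaf 14237) (.leaf 10878)) (.node (.leaf 6456) (.leaf 15538)))) (.node (.node (.node (.leaf 9851) (.leaf 6316)) (.node (.leaf 9621) (.leaf 6130))) (.node (.node (.leaf 1374) (.leaf 9438)) (.node (.leaf 6407) (.leaf 6039))))) (.node (.node (.node (.node (.leaf 6721) (.leaf 11343)) (.node (.leaf 13784) (.leaf 13837))) (.node (.node (.leaf 9773) (.leaf 3461)) (.node (.leaf 11732) (.leaf 15873)))) (.node (.node (.node (.leaf 804) (.leaf 11371)) (.node (.leaf 9439) (.leaf 14066))) (.node (.node (.leaf 1550) (.leaf 9243)) (.node (.leaf 2749) (.leaf 6020)))))))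

def twoRank203 : Janko.Tree (ℕ) :=
  (.node (.node (.node (.node (.node (.node (.leaf 104) (.leaf 7488)) (.node (.leaf 7839) (.leaf 12274))) (.node (.node (.leaf 903) (.leaf 3302)) (.node (.leaf 2278) (.leaf 3972)))) (.node (.node (.node (.leaf 12873) (.leaf 12614)) (.node (.leaf 1964) (.leaf 7029))) (.node (.node (.leaf 7920) (.leaf 12185)) (.node (.leaf 2552) (.leaf 16183))))) (.node (.node (.node (.node (.leaf 324) (.leaf 7438)) (.node (.leaf 1790) (.leaf 13848))) (.node (.node (.leaf 1090) (.leaf 7251)) (.node (.leaf 16373) (.leaf 6895)))) (.node (.node (.node (.leaf 12957) (.leaf 3184)) (.node (.leaf 7715) (.leaf 14647))) (.node (.node (.leaf 12815) (.leaf 3598)) (.node (.leaf 2689) (.leaf 4087)))))) (.node (.node (.node (.node (.node (.leaf 218) (.leaf 2894)) (.node (.leaf 7816) (.leaf 12763))) (.node (.node (.leaf 7982) (.leaf 3355)) (.node (.leaf 2341) (.leaf 6917)))) (.node (.node (.node (.leaf 8066) (.leaf 3103)) (.node (.leaf 7731) (.leaf 3902))) (.node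 (.node (.leaf 1375) (.leaf 7184)) (.node (.leaf 2625) (.leaf 14495))))) (.node (.node (.node (.node (.leaf 422) (.leaf 3002)) (.node (.leaf 13747) (.leaf 14575))) (.node (.node (.leaf 7942) (.leaf 3462)) (.node (.leaf 7601) (.leaf 12222)))) (.node (.node (.node (.leaf 805) (.leaf 7329)) (.node (.leaf 7693) (.leaf 6964))) (.node (.node (.leaf 1551) (.leaf 7140)) (.node (.leaf 2750) (.leaf 12282)))))))

def twoRank204 : Janko.Tree (ℕ) :=
  (.node (.node (.node (.node (.node (.node (.leaf 4555) (.leaf 10049)) (.node (.leaf 1632) (.leaf 8228))) (.node (.node (.leaf 4491) (.leaf 12527)) (.node (.leaf 8674) (.leaf 8557)))) (.node (.node (.node (.leaf 8486) (.leaf 4265)) (.node (.leaf 4388) (.leaf 15673))) (.node (.node (.leaf 1279) (.leaf 13253)) (.node (.leaf 9093) (.leaf 11269))))) (.node (.node (.node (.node (.leaf 10288) (.leaf 2953)) (.node (.leaf 9141) (.leaf 10072))) (.node (.node (.leaf 12870) (.leaf 16071)) (.node (.leaf 12795) (.leaf 13523)))) (.node (.node (.node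 (.leaf 10213) (.leaf 8659)) (.node (.leaf 2128) (.leaf 4138))) (.node (.node (.leaf 11788) (.leaf 8989)) (.node (.leaf 9016) (.leaf 15099)))))) (.node (.node (.node (.node (.node (.leaf 8523) (.leaf 4283)) (.node (.leaf 10214) (.leaf 4168))) (.node (.node (.leaf 11780) (.leaf 14089)) (.node (.leaf 12623) (.leaf 14490)))) (.node (.node (.node (.leaf 4515) (.leaf 8976)) (.node (.leaf 11467) (.leaf 12211))) (.node (.node (.leaf 8455) (.leaf 12429)) (.node (.leaf 12509) (.leaf 15842))))) (.node (.node (.node (.node (.leaf 10259) (.leaf 9055)) (.node (.leaf 4396) (.leaf 15953))) (.node (.node (.leaf 1188) (.leaf 11577)) (.node (.leaf 14953) (.leaf 12161)))) (.node (.node (.node (.leaf 12955) (.leaf 10074)) (.node (.leaf 2204) (.leaf 14958))) (.node (.node (.leaf 8394) (.leaf 15766)) (.node (.leaf 4300) (.leaf 16186)))))))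

def twoRank205 : Janko.Tree (ℕ) :=
  (.node (.node (.node (.node (.node (.node (.leaf 105) (.leaf 5296)) (.node (.leaf 5649) (.leaf 15219))) (.node (.node (.leaf 904) (.leaf 3303)) (.node (.leaf 12233) (.leaf 3973)))) (.node (.node (.node (.leaf 520) (.leaf 14928)) (.node (.leaf 13605) (.leaf 4845))) (.node (.node (.leaf 5740) (.leaf 16311)) (.node (.leaf 14183) (.leaf 4651))))) (.node (.node (.node (.node (.leaf 325) (.leaf 5255)) (.node (.leaf 1791) (.leaf 15963))) (.node (.node (.leaf 1091) (.leaf 5075)) (.node (.leaf 2399) (.leaf 15641)))) (.node (.node (.node (.leaf 5874) (.leaf 13789)) (.node (.leaf 5515) (.leaf 3929))) (.node (.node (.leaf 5694) (.leaf 15628)) (.node (.leaf 2690) (.leaf 15097)))))) (.node (.node (.node (.node (.node (.leaf 219) (.leaf 2895)) (.node (.leaf 5629) (.leaf 13735))) (.node (.node (.leaf 5807) (.leaf 3356)) (.node (.leaf 11152) (.leaf 4727)))) (.node (.node (.node (.leaf 615) (.leaf 14937)) (.node (.leaf 5541) (.leaf 16293))) (.node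 (.node (.leaf 11463) (.leaf 5011)) (.node (.leaf 2626) (.leaf 10938))))) (.node (.node (.node (.node (.leaf 423) (.leaf 3003)) (.node (.leaf 1883) (.leaf 3829))) (.node (.node (.leaf 5762) (.leaf 15965)) (.node (.leaf 5405) (.leaf 11474)))) (.node (.node (.node (.leaf 806) (.leaf 5140)) (.node (.leaf 5491) (.leaf 3956))) (.node (.node (.leaf 1552) (.leaf 4962)) (.node (.leaf 15998) (.leaf 4568)))))))

def twoRank206 : Janko.Tree (ℕ) :=
  (.node (.node (.node (.node (.node (.node (.leaf 106) (.leaf 2822)) (.node (.leaf 1633) (.leaf 6187))) (.node (.node (.leaf 905) (.leaf 6282)) (.node (.leaf 9577) (.leaf 9245)))) (.node (.node (.node (.leaf 6710) (.leaf 13975)) (.node (.leaf 1965) (.leaf 15667))) (.node (.node (.leaf 1280) (.leaf 6235)) (.node (.leaf 11397) (.leaf 11271))))) (.node (.node (.node (.node (.leaf 9901) (.leaf 13915)) (.node (.leaf 11748) (.leaf 16329))) (.node (.node (.leaf 6636) (.leaf 3399)) (.node (.leaf 9684) (.leaf 16418)))) (.node (.node (.node (.leaf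 11853) (.leaf 9404)) (.node (.leaf 10492) (.leaf 15245))) (.node (.node (.leaf 11794) (.leaf 14210)) (.node (.leaf 10506) (.leaf 9211)))))) (.node (.node (.node (.node (.node (.leaf 6746) (.leaf 11881)) (.node (.leaf 1715) (.leaf 16034))) (.node (.node (.leaf 11769) (.leaf 6272)) (.node (.leaf 9565) (.leaf 4003)))) (.node (.node (.node (.leaf 616) (.leaf 9417)) (.node (.leaf 13040) (.leaf 9263))) (.node (.node (.leaf 6599) (.leaf 3558)) (.node (.leaf 9505) (.leaf 14493))))) (.node (.node (.node (.node (.leaf 9881) (.leaf 11325)) (.node (.leaf 16104) (.leaf 6152))) (.node (.node (.leaf 10626) (.leaf 11586)) (.node (.leaf 2473) (.leaf 15869)))) (.node (.node (.node (.leaf 9866) (.leaf 11363)) (.node (.leaf 10486) (.leaf 6106))) (.node (.node (.leaf 6574) (.leaf 10862)) (.node (.leaf 2751) (.leaf 15349)))))))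

def twoRank207 : Janko.Tree (ℕ) :=
  (.node (.node (.node (.node (.node (.node (.leaf 107) (.leaf 2823)) (.node (.leaf 1634) (.leaf 3690))) (.node (.node (.leaf 906) (.leaf 12521)) (.node (.leaf 7669) (.leaf 6942)))) (.node (.node (.node (.leaf 521) (.leaf 3054)) (.node (.leaf 1966) (.leaf 15671))) (.node (.node (.leaf 1281) (.leaf 13241)) (.node (.leaf 7580) (.leaf 16202))))) (.node (.node (.node (.node (.leaf 8132) (.leaf 12850)) (.node (.leaf 7795) (.leaf 7075))) (.node (.node (.leaf 12866) (.leaf 3400)) (.node (.leaf 7617) (.leaf 6894)))) (.node (.node (.node (.leaf 706) (.leaf 7352)) (.node (.leaf 2129) (.leaf 12210))) (.node (.node (.leaf 1459) (.leaf 7165)) (.node (.leaf 7529) (.leaf 6805)))))) (.node (.node (.node (.node (.node (.leaf 220) (.leaf 2896)) (.node (.leaf 12769) (.leaf 12256))) (.node (.node (.leaf 995) (.leaf 14108)) (.node (.leaf 7642) (.leaf 12991)))) (.node (.node (.node (.leaf 617) (.leaf 7372)) (.node (.leaf 2046) (.leaf 7010))) (.node (.node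 (.leaf 1376) (.leaf 12423)) (.node (.leaf 7556) (.leaf 6828))))) (.node (.node (.node (.node (.leaf 8109) (.leaf 7414)) (.node (.leaf 1884) (.leaf 14577))) (.node (.node (.leaf 1189) (.leaf 7234)) (.node (.leaf 2474) (.leaf 6874)))) (.node (.node (.node (.leaf 8022) (.leaf 3250)) (.node (.leaf 2205) (.leaf 3957))) (.node (.node (.leaf 1553) (.leaf 16369)) (.node (.leaf 12322) (.leaf 4094)))))))

def twoRank208 : Janko.Tree (ℕ) :=
  (.node (.node (.node (.node (.node (.node (.leaf 8526) (.leaf 11300)) (.node (.leaf 12911) (.leaf 12268))) (.node (.node (.leaf 8454) (.leaf 9025)) (.node (.leaf 2279) (.leaf 15768)))) (.node (.node (.node (.leaf 12887) (.leaf 8980)) (.node (.leaf 8358) (.leaf 4151))) (.node (.node (.leaf 4456) (.leaf 12183)) (.node (.leaf 11393) (.leaf 16308))))) (.node (.node (.node (.node (.leaf 326) (.leaf 4277)) (.node (.leaf 1792) (.leaf 13526))) (.node (.node (.leaf 1092) (.leaf 12682)) (.node (.leaf 10216) (.leaf 10208)))) (.node (.node (.node (.leaf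 9191) (.leaf 4247)) (.node (.leaf 11802) (.leaf 15610))) (.node (.node (.leaf 9159) (.leaf 15709)) (.node (.leaf 11480) (.leaf 14967)))))) (.node (.node (.node (.node (.node (.leaf 8870) (.leaf 12065)) (.node (.leaf 8431) (.leaf 15904))) (.node (.node (.leaf 10301) (.leaf 13365)) (.node (.leaf 4348) (.leaf 15313)))) (.node (.node (.node (.leaf 8476) (.leaf 3104)) (.node (.leaf 10235) (.leaf 8945))) (.node (.node (.leaf 8760) (.leaf 4197)) (.node (.leaf 11354) (.leaf 15312))))) (.node (.node (.node (.node (.leaf 11829) (.leaf 11319)) (.node (.leaf 15714) (.leaf 16267))) (.node (.node (.leaf 8821) (.leaf 4209)) (.node (.leaf 12740) (.leaf 16274)))) (.node (.node (.node (.leaf 13030) (.leaf 15654)) (.node (.leaf 11415) (.leaf 15084))) (.node (.node (.leaf 8675) (.leaf 3637)) (.node (.leaf 8296) (.leaf 16145)))))))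

def twoRank209 : Janko.Tree (ℕ) :=
  (.node (.node (.node (.node (.node (.node (.leaf 10828) (.leaf 5295)) (.node (.leaf 1635) (.leaf 11108))) (.node (.node (.leaf 907) (.leaf 3304)) (.node (.leaf 5469) (.leaf 4747)))) (.node (.node (.node (.leaf 11069) (.leaf 14093)) (.node (.leaf 1967) (.leaf 3867))) (.node (.node (.leaf 1282) (.leaf 11120)) (.node (.leaf 2553) (.leaf 4650))))) (.node (.node (.node (.node (.leaf 5962) (.leaf 13247)) (.node (.leaf 5606) (.leaf 4895))) (.node (.node (.leaf 5783) (.leaf 3401)) (.node (.leaf 13304) (.leaf 4700)))) (.node (.node (.node (.leaf 707) (.leaf 13491)) (.node (.leaf 2130) (.leaf 16197))) (.node (.node (.leaf 1460) (.leaf 4982)) (.node (.leaf 5339) (.leaf 4596)))))) (.node (.node (.node (.node (.node (.leaf 221) (.leaf 10898)) (.node (.leaf 13298) (.leaf 15411))) (.node (.node (.leaf 996) (.leaf 5095)) (.node (.leaf 15988) (.leaf 4004)))) (.node (.node (.node (.leaf 618) (.leaf 5184)) (.node (.leaf 2047) (.leaf 3903))) (.node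 (.node (.leaf 1377) (.leaf 11686)) (.node (.leaf 5360) (.leaf 4623))))) (.node (.node (.node (.node (.leaf 5941) (.leaf 3004)) (.node (.leaf 1885) (.leaf 4869))) (.node (.node (.leaf 13727) (.leaf 3463)) (.node (.leaf 2475) (.leaf 4674)))) (.node (.node (.node (.leaf 5851) (.leaf 3251)) (.node (.leaf 2206) (.leaf 11683))) (.node (.node (.leaf 11030) (.leaf 4961)) (.node (.leaf 2752) (.leaf 10923)))))))

def twoRank210 : Janko.Tree (ℕ) :=
  (.node (.node (.node (.node (.node (.node (.leaf 6761) (.leaf 11307)) (.node (.leaf 6562) (.leaf 9305))) (.node (.node (.leaf 6662) (.leaf 10613)) (.node (.leaf 11939) (.leaf 10861)))) (.node (.node (.node (.leaf 9865) (.leaf 14069)) (.node (.leaf 6513) (.leaf 14257))) (.node (.node (.leaf 13843) (.leaf 13239)) (.node (.leaf 9664) (.leaf 13774))))) (.node (.node (.node (.node (.leaf 327) (.leaf 2954)) (.node (.leaf 14277) (.leaf 13528))) (.node (.node (.leaf 1093) (.leaf 6262)) (.node (.leaf 6443) (.leaf 11206)))) (.node (.node (.node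 (.leaf 11871) (.leaf 10466)) (.node (.leaf 11800) (.leaf 6119))) (.node (.node (.leaf 10773) (.leaf 15794)) (.node (.leaf 11483) (.leaf 14660)))))) (.node (.node (.node (.node (.node (.leaf 9931) (.leaf 6359)) (.node (.leaf 6550) (.leaf 6176))) (.node (.node (.leaf 9844) (.leaf 3357)) (.node (.leaf 2342) (.leaf 9302)))) (.node (.node (.node (.leaf 6698) (.leaf 3105)) (.node (.leaf 9744) (.leaf 15460))) (.node (.node (.leaf 9751) (.leaf 10487)) (.node (.leaf 13050) (.leaf 15604))))) (.node (.node (.node (.node (.leaf 11842) (.leaf 6338)) (.node (.leaf 6525) (.leaf 13771))) (.node (.node (.leaf 9772) (.leaf 16009)) (.node (.leaf 6429) (.leaf 16142)))) (.node (.node (.node (.leaf 807) (.leaf 9526)) (.node (.leaf 6476) (.leaf 9255))) (.node (.node (.leaf 9585) (.leaf 15547)) (.node (.leaf 6386) (.leaf 14597)))))))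

def twoRank211 : Janko.Tree (ℕ) :=
  (.node (.node (.node (.node (.node (.node (.leaf 108) (.leaf 2824)) (.node (.leaf 12915) (.leaf 7123))) (.node (.node (.leaf 908) (.leaf 7300)) (.node (.leaf 2280) (.leaf 16365)))) (.node (.node (.node (.leaf 8087) (.leaf 7385)) (.node (.leaf 1968) (.leaf 12930))) (.node (.node (.leaf 13839) (.leaf 7207)) (.node (.leaf 7579) (.leaf 12406))))) (.node (.node (.node (.node (.leaf 328) (.leaf 12659)) (.node (.leaf 13109) (.leaf 13524))) (.node (.node (.leaf 1094) (.leaf 12680)) (.node (.leaf 12777) (.leaf 4028)))) (.node (.node (.node (.leaf 8044) (.leaf 16160)) (.node (.leaf 7714) (.leaf 14510))) (.node (.node (.leaf 7880) (.leaf 3599)) (.node (.leaf 2691) (.leaf 14663)))))) (.node (.node (.node (.node (.node (.leaf 8155) (.leaf 14138)) (.node (.leaf 12793) (.leaf 3739))) (.node (.node (.leaf 7981) (.leaf 13962)) (.node (.leaf 2343) (.leaf 6916)))) (.node (.node (.node (.leaf 13431) (.leaf 3106)) (.node (.leaf 7730) (.leaf 7009)))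 (.node (.node (.leaf 7901) (.leaf 3559)) (.node (.leaf 2627) (.leaf 15066))))) (.node (.node (.node (.node (.leaf 424) (.leaf 15394)) (.node (.leaf 1886) (.leaf 13763))) (.node (.node (.leaf 7941) (.leaf 13158)) (.node (.leaf 12742) (.leaf 4055)))) (.node (.node (.node (.leaf 13089) (.leaf 7328)) (.node (.leaf 2207) (.leaf 6963))) (.node (.node (.leaf 7861) (.leaf 3638)) (.node (.leaf 14103) (.leaf 6780)))))))

def twoRank212 : Janko.Tree (ℕ) :=
  (.node (.node (.node (.node (.node (.node (.leaf 8873) (.leaf 13930)) (.node (.leaf 10132) (.leaf 10333))) (.node (.node (.leaf 8757) (.leaf 11351)) (.node (.leaf 8743) (.leaf 8579)))) (.node (.node (.node (.leaf 4523) (.leaf 3055)) (.node (.leaf 8639) (.leaf 12489))) (.node (.node (.leaf 10007) (.leaf 10397)) (.node (.leaf 15164) (.leaf 14038))))) (.node (.node (.node (.node (.leaf 8896) (.leaf 8282)) (.node (.leaf 11698) (.leaf 15322))) (.node (.node (.leaf 4473) (.leaf 4219)) (.node (.leaf 13294) (.leaf 8925)))) (.node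 (.node (.node (.leaf 11862) (.leaf 15817)) (.node (.leaf 2131) (.leaf 12207))) (.node (.node (.leaf 4438) (.leaf 4191)) (.node (.leaf 11516) (.leaf 10150)))))) (.node (.node (.node (.node (.node (.leaf 222) (.leaf 9000)) (.node (.leaf 16224) (.leaf 12248))) (.node (.node (.leaf 12806) (.leaf 10120)) (.node (.leaf 8328) (.leaf 10361)))) (.node (.node (.node (.leaf 8801) (.leaf 13480)) (.node (.leaf 12477) (.leaf 15165))) (.node (.node (.leaf 1378) (.leaf 8940)) (.node (.leaf 10003) (.leaf 16111))))) (.node (.node (.node (.node (.leaf 8888) (.leaf 10267)) (.node (.leaf 9092) (.leaf 15938))) (.node (.node (.leaf 10202) (.leaf 15999)) (.node (.leaf 2476) (.leaf 14697)))) (.node (.node (.node (.leaf 4499) (.leaf 15609)) (.node (.leaf 10085) (.leaf 16121))) (.node (.node (.leaf 1554) (.leaf 15358)) (.node (.leaf 12324) (.leaf 10335)))))))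

def twoRank213 : Janko.Tree (ℕ) :=
  (.node (.node (.node (.node (.node (.node (.leaf 109) (.leaf 2825)) (.node (.leaf 5648) (.leaf 3691))) (.node (.node (.leaf 11064) (.leaf 11460)) (.node (.leaf 13630) (.leaf 13306)))) (.node (.node (.node (.leaf 522) (.leaf 5209)) (.node (.leaf 11011) (.leaf 16031))) (.node (.node (.leaf 5739) (.leaf 5035)) (.node (.leaf 5380) (.leaf 4649))))) (.node (.node (.node (.node (.leaf 329) (.leaf 2955)) (.node (.leaf 1793) (.leaf 10960))) (.node (.node (.leaf 13318) (.leaf 13261)) (.node (.leaf 5431) (.leaf 4029)))) (.node (.node (.node (.leaf 708) (.leaf 3185)) (.node (.leaf 5514) (.leaf 11119))) (.node (.node (.leaf 1461) (.leaf 13636)) (.node (.leaf 2692) (.leaf 4595)))))) (.node (.node (.node (.node (.node (.leaf 5983) (.leaf 16240)) (.node (.leaf 5628) (.leaf 11129))) (.node (.node (.leaf 5806) (.leaf 15234)) (.node (.leaf 2344) (.leaf 13718)))) (.node (.node (.node (.leaf 11082) (.leaf 3107)) (.node (.leaf 5540) (.leaf 4820))) (.node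 (.node (.leaf 5715) (.leaf 14606)) (.node (.leaf 2628) (.leaf 4622))))) (.node (.node (.node (.node (.leaf 425) (.leaf 3005)) (.node (.leaf 11043) (.leaf 4868))) (.node (.node (.leaf 1190) (.leaf 15997)) (.node (.leaf 5404) (.leaf 4673)))) (.node (.node (.node (.leaf 808) (.leaf 5139)) (.node (.leaf 2208) (.leaf 4773))) (.node (.node (.leaf 5670) (.leaf 4960)) (.node (.leaf 10977) (.leaf 4567)))))))

def twoRank214 : Janko.Tree (ℕ) :=
  (.node (.node (.node (.node (.node (.node (.leaf 9933) (.leaf 13920)) (.node (.leaf 11645) (.leaf 11576))) (.node (.node (.leaf 9741) (.leaf 6281)) (.node (.leaf 9576) (.leaf 9244)))) (.node (.node (.node (.leaf 523) (.leaf 3056)) (.node (.leaf 9493) (.leaf 6142))) (.node (.node (.leaf 1283) (.leaf 15347)) (.node (.leaf 15459) (.leaf 16178))))) (.node (.node (.node (.node (.leaf 9940) (.leaf 6349)) (.node (.leaf 6537) (.leaf 15316))) (.node (.node (.leaf 1095) (.leaf 3402)) (.node (.leaf 13292) (.leaf 11936)))) (.node (.node (.node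 (.leaf 9878) (.leaf 10468)) (.node (.leaf 2132) (.leaf 13999))) (.node (.node (.leaf 11808) (.leaf 3600)) (.node (.leaf 9640) (.leaf 16188)))))) (.node (.node (.node (.node (.node (.leaf 10796) (.leaf 14146)) (.node (.leaf 10816) (.leaf 9287))) (.node (.node (.leaf 997) (.leaf 11510)) (.node (.leaf 6455) (.leaf 6084)))) (.node (.node (.node (.leaf 13435) (.leaf 6315)) (.node (.leaf 2048) (.leaf 13704))) (.node (.node (.leaf 10675) (.leaf 10485)) (.node (.leaf 9654) (.leaf 10851))))) (.node (.node (.node (.node (.leaf 9922) (.leaf 15386)) (.node (.leaf 9663) (.leaf 13776))) (.node (.node (.leaf 6623) (.leaf 6247)) (.node (.leaf 2477) (.leaf 14695)))) (.node (.node (.node (.leaf 11731) (.leaf 15531)) (.node (.leaf 9599) (.leaf 10852))) (.node (.node (.leaf 10564) (.leaf 15364)) (.node (.leaf 13362) (.leaf 16335)))))))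

def twoRank215 : Janko.Tree (ℕ) :=
  (.node (.node (.node (.node (.node (.node (.leaf 8177) (.leaf 7487)) (.node (.leaf 1636) (.leaf 7122))) (.node (.node (.leaf 8002) (.leaf 3305)) (.node (.leaf 7668) (.leaf 6941)))) (.node (.node (.node (.leaf 524) (.leaf 3057)) (.node (.leaf 7753) (.leaf 12491))) (.node (.node (.leaf 1284) (.leaf 15405)) (.node (.leaf 2554) (.leaf 14029))))) (.node (.node (.node (.node (.leaf 8131) (.leaf 2956)) (.node (.leaf 1794) (.leaf 7074))) (.node (.node (.leaf 1096) (.leaf 3403)) (.node (.leaf 14516) (.leaf 6893)))) (.node (.node (.node (.leaf 8043) (.leaf 7351)) (.node (.leaf 2133) (.leaf 6984))) (.node (.node (.leaf 1462) (.leaf 3601)) (.node (.leaf 7528) (.leaf 15562)))))) (.node (.node (.node (.node (.node (.leaf 223) (.leaf 7465)) (.node (.leaf 16216) (.leaf 7096))) (.node (.node (.leaf 12800) (.leaf 7276)) (.node (.leaf 2345) (.leaf 15526)))) (.node (.node (.node (.leaf 8065) (.leaf 12588)) (.node (.leaf 13892) (.leaf 3904))) (.node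 (.node (.leaf 1379) (.leaf 7183)) (.node (.leaf 7555) (.leaf 16107))))) (.node (.node (.node (.node (.leaf 8108) (.leaf 7413)) (.node (.leaf 7776) (.leaf 13767))) (.node (.node (.leaf 1191) (.leaf 3464)) (.node (.leaf 2478) (.leaf 14699)))) (.node (.node (.node (.leaf 809) (.leaf 3252)) (.node (.leaf 7692) (.leaf 16115))) (.node (.node (.leaf 1555) (.leaf 15356)) (.node (.leaf 7503) (.leaf 15505)))))))

def twoRank216 : Janko.Tree (ℕ) :=
  (.node (.node (.node (.node (.node (.node (.leaf 110) (.leaf 11296)) (.node (.leaf 9149) (.leaf 3692))) (.node (.node (.leaf 10349) (.leaf 13046)) (.node (.leaf 10260) (.leaf 4128)))) (.node (.node (.node (.leaf 8484) (.leaf 12622)) (.node (.leaf 1969) (.leaf 8949))) (.node (.node (.leaf 1285) (.leaf 14086)) (.node (.leaf 4324) (.leaf 16204))))) (.node (.node (.node (.node (.leaf 13048) (.leaf 12665)) (.node (.leaf 10189) (.leaf 14949))) (.node (.node (.leaf 8438) (.leaf 8250)) (.node (.leaf 16210) (.leaf 9981)))) (.node (.node (.node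 (.leaf 709) (.leaf 3186)) (.node (.leaf 10394) (.leaf 10398))) (.node (.node (.leaf 11806) (.leaf 8236)) (.node (.leaf 15516) (.leaf 15954)))))) (.node (.node (.node (.node (.node (.leaf 8891) (.leaf 10314)) (.node (.leaf 12784) (.leaf 8263))) (.node (.node (.leaf 13974) (.leaf 14175)) (.node (.leaf 8613) (.leaf 15317)))) (.node (.node (.node (.leaf 10078) (.leaf 10014)) (.node (.leaf 4379) (.leaf 15588))) (.node (.node (.leaf 8811) (.leaf 8995)) (.node (.leaf 12355) (.leaf 15086))))) (.node (.node (.node (.node (.leaf 12880) (.leaf 4271)) (.node (.leaf 10002) (.leaf 12060))) (.node (.node (.leaf 10206) (.leaf 13155)) (.node (.leaf 4332) (.leaf 15926)))) (.node (.node (.node (.leaf 11721) (.leaf 14885)) (.node (.leaf 2209) (.leaf 15063))) (.node (.node (.leaf 10400) (.leaf 13374)) (.node (.leaf 13874) (.leaf 16258)))))))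

def twoRank217 : Janko.Tree (ℕ) :=
  (.node (.node (.node (.node (.node (.node (.leaf 6001) (.leaf 5294)) (.node (.leaf 14520) (.leaf 4937))) (.node (.node (.leaf 5827) (.leaf 3306)) (.node (.leaf 2281) (.leaf 16292)))) (.node (.node (.node (.leaf 525) (.leaf 3058)) (.node (.leaf 5560) (.leaf 15687))) (.node (.node (.leaf 5738) (.leaf 14932)) (.node (.leaf 13608) (.leaf 16200))))) (.node (.node (.node (.node (.leaf 5961) (.leaf 10996)) (.node (.leaf 1795) (.leaf 4894))) (.node (.node (.leaf 1097) (.leaf 3404)) (.node (.leaf 5430) (.leaf 4030)))) (.node (.node (.node (.leaf 5873) (.leaf 5161)) (.node (.leaf 5513) (.leaf 4797))) (.node (.node (.leaf 10919) (.leaf 12231)) (.node (.leaf 5338) (.leaf 4594)))))) (.node (.node (.node (.node (.node (.leaf 224) (.leaf 5275)) (.node (.leaf 1716) (.leaf 13466))) (.node (.node (.leaf 998) (.leaf 5094)) (.node (.leaf 11025) (.leaf 4726)))) (.node (.node (.node (.leaf 5896) (.leaf 5183)) (.node (.leaf 2049) (.leaf 15763))) (.node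 (.node (.leaf 13263) (.leaf 3560)) (.node (.leaf 5359) (.leaf 14610))))) (.node (.node (.node (.node (.leaf 5940) (.leaf 15618)) (.node (.leaf 5581) (.leaf 4867))) (.node (.node (.leaf 1192) (.leaf 11141)) (.node (.leaf 13489) (.leaf 4672)))) (.node (.node (.node (.leaf 10789) (.leaf 3253)) (.node (.leaf 5490) (.leaf 4772))) (.node (.node (.leaf 1556) (.leaf 4959)) (.node (.leaf 5321) (.leaf 4566)))))))

def twoRank218 : Janko.Tree (ℕ) :=
  (.node (.node (.node (.node (.node (.node (.leaf 111) (.leaf 11298)) (.node (.leaf 11681) (.leaf 3693))) (.node (.node (.leaf 909) (.leaf 9373)) (.node (.leaf 6464) (.leaf 15595)))) (.node (.node (.node (.leaf 6709) (.leaf 6331)) (.node (.leaf 10510) (.leaf 14341))) (.node (.node (.leaf 1286) (.leaf 6234)) (.node (.leaf 2555) (.leaf 16198))))) (.node (.node (.node (.node (.leaf 330) (.leaf 9429)) (.node (.leaf 9673) (.leaf 10839))) (.node (.node (.leaf 6635) (.leaf 6261)) (.node (.leaf 13339) (.leaf 15558)))) (.node (.node (.node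 (.leaf 710) (.leaf 3187)) (.node (.leaf 11772) (.leaf 15339))) (.node (.node (.leaf 6586) (.leaf 6212)) (.node (.leaf 15265) (.leaf 14367)))))) (.node (.node (.node (.node (.node (.leaf 9930) (.leaf 2897)) (.node (.leaf 9780) (.leaf 6175))) (.node (.node (.leaf 11811) (.leaf 14177)) (.node (.leaf 9419) (.leaf 13228)))) (.node (.node (.node (.leaf 619) (.leaf 3108)) (.node (.leaf 2050) (.leaf 9358))) (.node (.node (.leaf 9750) (.leaf 10484)) (.node (.leaf 2629) (.leaf 9254))))) (.node (.node (.node (.node (.leaf 426) (.leaf 14525)) (.node (.leaf 1887) (.leaf 12057))) (.node (.node (.leaf 9769) (.leaf 9351)) (.node (.leaf 2479) (.leaf 13847)))) (.node (.node (.node (.leaf 6674) (.leaf 6291)) (.node (.leaf 2210) (.leaf 15143))) (.node (.node (.leaf 11777) (.leaf 13372)) (.node (.leaf 2753) (.leaf 14596)))))))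

def twoRank219 : Janko.Tree (ℕ) :=
  (.node (.node (.node (.node (.node (.node (.leaf 112) (.leaf 2826)) (.node (.leaf 7838) (.leaf 3694))) (.node (.node (.leaf 910) (.leaf 7299)) (.node (.leaf 15490) (.leaf 12285)))) (.node (.node (.node (.leaf 13956) (.leaf 12612)) (.node (.leaf 1970) (.leaf 7028))) (.node (.node (.leaf 1287) (.leaf 3510)) (.node (.leaf 2556) (.leaf 6849))))) (.node (.node (.node (.node (.leaf 13056) (.leaf 7437)) (.node (.leaf 7794) (.leaf 3790))) (.node (.node (.leaf 1098) (.leaf 3405)) (.node (.leaf 16415) (.leaf 6892)))) (.node (.node (.node (.leaf 711) (.leaf 3188)) (.node (.leaf 2134) (.leaf 15335))) (.node (.node (.leaf 13251) (.leaf 15591)) (.node (.leaf 2693) (.leaf 15438)))))) (.node (.node (.node (.node (.node (.leaf 8154) (.leaf 2898)) (.node (.leaf 7815) (.leaf 12254))) (.node (.node (.leaf 7980) (.leaf 14173)) (.node (.leaf 7641) (.leaf 13230)))) (.node (.node (.node (.leaf 620) (.leaf 3109)) (.node (.leaf 12587) (.leaf 7008))) (.node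 (.node (.leaf 7900) (.leaf 7182)) (.node (.leaf 13780) (.leaf 6827))))) (.node (.node (.node (.node (.leaf 12886) (.leaf 14209)) (.node (.leaf 1888) (.leaf 15498))) (.node (.node (.leaf 7940) (.leaf 7233)) (.node (.leaf 2480) (.leaf 13845)))) (.node (.node (.node (.leaf 810) (.leaf 3254)) (.node (.leaf 2211) (.leaf 3958))) (.node (.node (.leaf 7860) (.leaf 14602)) (.node (.leaf 12694) (.leaf 15597)))))))

def twoRank220 : Janko.Tree (ℕ) :=
  (.node (.node (.node (.node (.node (.node (.leaf 4554) (.leaf 4291)) (.node (.leaf 11651) (.leaf 4175))) (.node (.node (.leaf 8481) (.leaf 13160)) (.node (.leaf 10251) (.leaf 12192)))) (.node (.node (.node (.leaf 8813) (.leaf 9045)) (.node (.leaf 11485) (.leaf 4150))) (.node (.node (.leaf 4455) (.leaf 13061)) (.node (.leaf 8312) (.leaf 13211))))) (.node (.node (.node (.node (.leaf 4540) (.leaf 8333)) (.node (.leaf 1796) (.leaf 15073))) (.node (.node (.leaf 8731) (.leaf 8564)) (.node (.leaf 12775) (.leaf 14538)))) (.node (.node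 (.node (.leaf 4507) (.leaf 4246)) (.node (.leaf 9123) (.leaf 13188))) (.node (.node (.leaf 9124) (.leaf 8560)) (.node (.leaf 4309) (.leaf 4097)))))) (.node (.node (.node (.node (.node (.leaf 10247) (.leaf 14682)) (.node (.leaf 10215) (.leaf 12250))) (.node (.node (.leaf 999) (.leaf 15194)) (.node (.leaf 8385) (.leaf 15456)))) (.node (.node (.node (.leaf 8497) (.leaf 9039)) (.node (.leaf 8346) (.leaf 8630))) (.node (.node (.leaf 4447) (.leaf 16143)) (.node (.leaf 12064) (.leaf 15009))))) (.node (.node (.node (.node (.leaf 4532) (.leaf 12140)) (.node (.leaf 8419) (.leaf 14144))) (.node (.node (.leaf 11709) (.leaf 10352)) (.node (.leaf 8318) (.leaf 4109)))) (.node (.node (.node (.leaf 9168) (.leaf 15067)) (.node (.leaf 14868) (.leaf 15308))) (.node (.node (.leaf 14427) (.leaf 10291)) (.node (.leaf 8347) (.leaf 15943)))))))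

def twoRank221 : Janko.Tree (ℕ) :=
  (.node (.node (.node (.node (.node (.node (.leaf 113) (.leaf 2827)) (.node (.leaf 1637) (.leaf 3695))) (.node (.node (.leaf 911) (.leaf 5119)) (.node (.leaf 12238) (.leaf 11759)))) (.node (.node (.node (.leaf 11071) (.leaf 3059)) (.node (.leaf 1971) (.leaf 16013))) (.node (.node (.leaf 1288) (.leaf 3511)) (.node (.leaf 2557) (.leaf 4648))))) (.node (.node (.node (.node (.leaf 331) (.leaf 14228)) (.node (.leaf 5605) (.leaf 14599))) (.node (.node (.leaf 11054) (.leaf 11476)) (.node (.leaf 2400) (.leaf 4699)))) (.node (.node (.node (.leaf 712) (.leaf 13719)) (.node (.leaf 2135) (.leaf 15022))) (.node (.node (.leaf 1463) (.leaf 11114)) (.node (.leaf 13862) (.leaf 13505)))))) (.node (.node (.node (.node (.node (.leaf 225) (.leaf 5274)) (.node (.leaf 1717) (.leaf 3740))) (.node (.node (.leaf 5805) (.leaf 10978)) (.node (.leaf 12912) (.leaf 4005)))) (.node (.node (.node (.leaf 621) (.leaf 3110)) (.node (.leaf 2051) (.leaf 15765))) (.node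 (.node (.leaf 1380) (.leaf 5010)) (.node (.leaf 5358) (.leaf 11687))))) (.node (.node (.node (.node (.leaf 427) (.leaf 5231)) (.node (.leaf 11468) (.leaf 16238))) (.node (.node (.leaf 5761) (.leaf 5052)) (.node (.leaf 2481) (.leaf 13503)))) (.node (.node (.node (.leaf 811) (.leaf 10961)) (.node (.leaf 5489) (.leaf 4771))) (.node (.node (.leaf 5669) (.leaf 4958)) (.node (.leaf 15044) (.leaf 10926)))))))

def twoRank222 : Janko.Tree (ℕ) :=
  (.node (.node (.node (.node (.node (.node (.leaf 114) (.leaf 11920)) (.node (.leaf 9786) (.leaf 15138))) (.node (.node (.leaf 6661) (.leaf 16356)) (.node (.leaf 15280) (.leaf 15545)))) (.node (.node (.node (.leaf 13601) (.leaf 10641)) (.node (.leaf 6512) (.leaf 3868))) (.node (.node (.leaf 1289) (.leaf 9333)) (.node (.leaf 6418) (.leaf 13213))))) (.node (.node (.node (.node (.leaf 10802) (.leaf 6348)) (.node (.leaf 1797) (.leaf 9388))) (.node (.node (.leaf 9699) (.leaf 9269)) (.node (.leaf 9682) (.leaf 14534)))) (.node (.node (.node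 (.leaf 713) (.leaf 3189)) (.node (.leaf 11814) (.leaf 9332))) (.node (.node (.leaf 13245) (.leaf 15332)) (.node (.leaf 2694) (.leaf 4088)))))) (.node (.node (.node (.node (.node (.leaf 6745) (.leaf 13673)) (.node (.leaf 6549) (.leaf 9400))) (.node (.node (.leaf 1000) (.leaf 15252)) (.node (.leaf 6454) (.leaf 9300)))) (.node (.node (.node (.leaf 6697) (.leaf 13713)) (.node (.leaf 6500) (.leaf 9354))) (.node (.node (.leaf 10674) (.leaf 16275)) (.node (.leaf 2630) (.leaf 15151))))) (.node (.node (.node (.node (.leaf 10817) (.leaf 12087)) (.node (.leaf 6524) (.leaf 12066))) (.node (.node (.leaf 11718) (.leaf 3465)) (.node (.leaf 6428) (.leaf 4056)))) (.node (.node (.node (.leaf 9821) (.leaf 9389)) (.node (.leaf 2212) (.leaf 15314))) (.node (.node (.leaf 14421) (.leaf 15399)) (.node (.leaf 6385) (.leaf 14364)))))))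

def twoRank223 : Janko.Tree (ℕ) :=
  (.node (.node (.node (.node (.node (.node (.leaf 115) (.leaf 2828)) (.node (.leaf 7837) (.leaf 13017))) (.node (.node (.leaf 912) (.leaf 13156)) (.node (.leaf 7667) (.leaf 6940)))) (.node (.node (.node (.leaf 8086) (.leaf 7384)) (.node (.leaf 1972) (.leaf 3869))) (.node (.node (.leaf 1290) (.leaf 7206)) (.node (.leaf 2558) (.leaf 13208))))) (.node (.node (.node (.node (.leaf 332) (.leaf 12667)) (.node (.leaf 1798) (.leaf 7073))) (.node (.node (.leaf 7962) (.leaf 7250)) (.node (.leaf 7616) (.leaf 14542)))) (.node (.node (.node (.leaf 714) (.leaf 12252)) (.node (.leaf 7713) (.leaf 6983))) (.node (.node (.leaf 7879) (.leaf 7164)) (.node (.leaf 12499) (.leaf 16364)))))) (.node (.node (.node (.node (.node (.leaf 226) (.leaf 13643)) (.node (.leaf 1718) (.leaf 7095))) (.node (.node (.leaf 1001) (.leaf 7275)) (.node (.leaf 2346) (.leaf 6915)))) (.node (.node (.node (.leaf 622) (.leaf 7371)) (.node (.leaf 13484) (.leaf 7007))) (.node (.node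 (.leaf 1381) (.leaf 16298)) (.node (.leaf 2631) (.leaf 6826))))) (.node (.node (.node (.node (.leaf 428) (.leaf 3006)) (.node (.leaf 1889) (.leaf 7053))) (.node (.node (.leaf 1193) (.leaf 13151)) (.node (.leaf 2482) (.leaf 4057)))) (.node (.node (.node (.leaf 8021) (.leaf 7327)) (.node (.leaf 2213) (.leaf 15318))) (.node (.node (.leaf 14433) (.leaf 15436)) (.node (.leaf 12701) (.leaf 6779)))))))

def twoRank224 : Janko.Tree (ℕ) :=
  (.node (.node (.node (.node (.node (.node (.leaf 8524) (.leaf 11897)) (.node (.leaf 15798) (.leaf 13710))) (.node (.node (.leaf 8808) (.leaf 4233)) (.node (.leaf 11339) (.leaf 15036)))) (.node (.node (.node (.leaf 10102) (.leaf 15552)) (.node (.leaf 10109) (.leaf 8216))) (.node (.node (.leaf 8418) (.leaf 14966)) (.node (.leaf 8601) (.leaf 8590))))) (.node (.node (.node (.node (.leaf 9200) (.leaf 16222)) (.node (.leaf 4404) (.leaf 15087))) (.node (.node (.leaf 1099) (.leaf 14801)) (.node (.leaf 12773) (.leaf 11204)))) (.node (.node (.node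 (.leaf 8470) (.leaf 8264)) (.node (.leaf 2136) (.leaf 13069))) (.node (.node (.leaf 10380) (.leaf 14219)) (.node (.leaf 8304) (.leaf 8196)))))) (.node (.node (.node (.node (.node (.leaf 10264) (.leaf 12132)) (.node (.leaf 12771) (.leaf 3741))) (.node (.node (.leaf 13325) (.leaf 8305)) (.node (.leaf 8666) (.leaf 13000)))) (.node (.node (.node (.leaf 8832) (.leaf 11593)) (.node (.leaf 12570) (.leaf 12315))) (.node (.node (.leaf 9132) (.leaf 14729)) (.node (.leaf 8359) (.leaf 14964))))) (.node (.node (.node (.node (.leaf 9194) (.leaf 12461)) (.node (.leaf 8712) (.leaf 3830))) (.node (.node (.leaf 8846) (.leaf 8291)) (.node (.leaf 8605) (.leaf 8200)))) (.node (.node (.node (.leaf 812) (.leaf 14849)) (.node (.leaf 14888) (.leaf 14962))) (.node (.node (.leaf 14399) (.leaf 8275)) (.node (.leaf 14736) (.leaf 15101)))))))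

def twoRank225 : Janko.Tree (ℕ) :=
  (.node (.node (.node (.node (.node (.node (.leaf 116) (.leaf 10672)) (.node (.leaf 5647) (.leaf 4936))) (.node (.node (.leaf 913) (.leaf 3307)) (.node (.leaf 5468) (.leaf 4746)))) (.node (.node (.node (.leaf 5918) (.leaf 5208)) (.node (.leaf 1973) (.leaf 3870))) (.node (.node (.leaf 1291) (.leaf 5034)) (.node (.leaf 10987) (.leaf 16289))))) (.node (.node (.node (.node (.leaf 333) (.leaf 5254)) (.node (.leaf 1799) (.leaf 3791))) (.node (.node (.leaf 5782) (.leaf 5074)) (.node (.leaf 5429) (.leaf 4698)))) (.node (.node (.node (.leaf 715) (.leaf 15221)) (.node (.leaf 5512) (.leaf 4796))) (.node (.node (.leaf 5693) (.leaf 3602)) (.node (.leaf 2695) (.leaf 12236)))))) (.node (.node (.node (.node (.node (.leaf 227) (.leaf 2899)) (.node (.leaf 1719) (.leaf 4918))) (.node (.node (.leaf 1002) (.leaf 12925)) (.node (.leaf 2347) (.leaf 4725)))) (.node (.node (.node (.leaf 623) (.leaf 15993)) (.node (.leaf 11157) (.leaf 4819))) (.node (.node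 (.leaf 1382) (.leaf 3561)) (.node (.leaf 2632) (.leaf 4621))))) (.node (.node (.node (.node (.leaf 13302) (.leaf 3007)) (.node (.leaf 1890) (.leaf 4866))) (.node (.node (.leaf 1194) (.leaf 14051)) (.node (.leaf 10989) (.leaf 12242)))) (.node (.node (.node (.leaf 5850) (.leaf 5138)) (.node (.leaf 2214) (.leaf 4770))) (.node (.node (.leaf 5668) (.leaf 3639)) (.node (.leaf 5320) (.leaf 15694)))))))

def twoRank226 : Janko.Tree (ℕ) :=
  (.node (.node (.node (.node (.node (.node (.leaf 6760) (.leaf 6372)) (.node (.leaf 16456) (.leaf 13706))) (.node (.node (.leaf 9811) (.leaf 16457)) (.node (.leaf 11336) (.leaf 15050)))) (.node (.node (.node (.leaf 526) (.leaf 15372)) (.node (.leaf 9641) (.leaf 6141))) (.node (.node (.leaf 6611) (.leaf 3512)) (.node (.leaf 9385) (.leaf 9264))))) (.node (.node (.node (.node (.leaf 10804) (.leaf 10799)) (.node (.leaf 13472) (.leaf 10838))) (.node (.node (.leaf 10644) (.leaf 10866)) (.node (.leaf 2401) (.leaf 11237)))) (.node (.node (.node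 (.leaf 6685) (.leaf 6302)) (.node (.leaf 13992) (.leaf 16403))) (.node (.node (.leaf 11765) (.leaf 11334)) (.node (.leaf 6397) (.leaf 6028)))))) (.node (.node (.node (.node (.node (.leaf 9927) (.leaf 6358)) (.node (.leaf 9683) (.leaf 3742))) (.node (.node (.leaf 6649) (.leaf 6271)) (.node (.leaf 9563) (.leaf 4006)))) (.node (.node (.node (.leaf 9849) (.leaf 11573)) (.node (.leaf 13499) (.leaf 3905))) (.node (.node (.leaf 10676) (.leaf 11439)) (.node (.leaf 6406) (.leaf 15018))))) (.node (.node (.node (.node (.leaf 10819) (.leaf 9572)) (.node (.leaf 9661) (.leaf 3831))) (.node (.node (.leaf 9830) (.leaf 6246)) (.node (.leaf 9403) (.leaf 6061)))) (.node (.node (.node (.leaf 813) (.leaf 10840)) (.node (.leaf 6475) (.leaf 14629))) (.node (.node (.leaf 14397) (.leaf 6201)) (.node (.leaf 10495) (.leaf 9210)))))))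

def twoRank227 : Janko.Tree (ℕ) :=
  (.node (.node (.node (.node (.node (.node (.leaf 117) (.leaf 2829)) (.node (.leaf 1638) (.leaf 13708))) (.node (.node (.leaf 8001) (.leaf 13157)) (.node (.leaf 2282) (.leaf 15032)))) (.node (.node (.node (.leaf 527) (.leaf 15554)) (.node (.leaf 7752) (.leaf 3871))) (.node (.node (.leaf 1292) (.leaf 3513)) (.node (.leaf 7578) (.leaf 6848))))) (.node (.node (.node (.node (.leaf 8130) (.leaf 16451)) (.node (.leaf 13464) (.leaf 7072))) (.node (.node (.leaf 1100) (.leaf 14811)) (.node (.leaf 13397) (.leaf 15376)))) (.node (.node (.node (.leaf 716) (.leaf 3190)) (.node (.leaf 13172) (.leaf 13076))) (.node (.node (.leaf 1464) (.leaf 7163)) (.node (.leaf 2696) (.leaf 15274)))))) (.node (.node (.node (.node (.node (.leaf 8153) (.leaf 2900)) (.node (.leaf 7814) (.leaf 3743))) (.node (.node (.leaf 12848) (.leaf 3358)) (.node (.leaf 7640) (.leaf 14416)))) (.node (.node (.node (.leaf 8064) (.leaf 7370)) (.node (.leaf 7729) (.leaf 12309))) (.node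 (.node (.leaf 7899) (.leaf 7181)) (.node (.leaf 2633) (.leaf 15014))))) (.node (.node (.node (.node (.leaf 8107) (.leaf 7412)) (.node (.leaf 7775) (.leaf 3832))) (.node (.node (.leaf 7939) (.leaf 15977)) (.node (.leaf 7600) (.leaf 15582)))) (.node (.node (.node (.leaf 814) (.leaf 3255)) (.node (.leaf 2215) (.leaf 14623))) (.node (.node (.leaf 14401) (.leaf 12352)) (.node (.leaf 14730) (.leaf 6778)))))))

def twoRank228 : Janko.Tree (ℕ) :=
  (.node (.node (.node (.node (.node (.node (.leaf 8869) (.leaf 9004)) (.node (.leaf 4421) (.leaf 14414))) (.node (.node (.leaf 914) (.leaf 14963)) (.node (.leaf 8798) (.leaf 15812)))) (.node (.node (.node (.leaf 8503) (.leaf 4264)) (.node (.leaf 1974) (.leaf 8548))) (.node (.node (.leaf 8707) (.leaf 14866)) (.node (.leaf 2559) (.leaf 12218))))) (.node (.node (.node (.node (.leaf 334) (.leaf 12669)) (.node (.leaf 12972) (.leaf 8652))) (.node (.node (.leaf 11872) (.leaf 3406)) (.node (.leaf 11617) (.leaf 11996)))) (.node (.node (.node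 (.leaf 8785) (.leaf 12258)) (.node (.leaf 10386) (.leaf 15104))) (.node (.node (.leaf 9157) (.leaf 10249)) (.node (.leaf 12495) (.leaf 16360)))))) (.node (.node (.node (.node (.node (.leaf 12108) (.leaf 12430)) (.node (.leaf 11614) (.leaf 4167))) (.node (.node (.leaf 11813) (.leaf 8596)) (.node (.leaf 2348) (.leaf 15540)))) (.node (.node (.node (.leaf 624) (.leaf 12581)) (.node (.leaf 10028) (.leaf 4143))) (.node (.node (.leaf 11823) (.leaf 15906)) (.node (.leaf 8644) (.leaf 4101))))) (.node (.node (.node (.node (.leaf 429) (.leaf 12143)) (.node (.leaf 1891) (.leaf 12051))) (.node (.node (.leaf 12721) (.leaf 15973)) (.node (.leaf 2483) (.leaf 8544)))) (.node (.node (.node (.leaf 13038) (.leaf 10063)) (.node (.leaf 14940) (.leaf 10393))) (.node (.node (.leaf 4429) (.leaf 13277)) (.node (.leaf 12699) (.leaf 8195)))))))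

def twoRank229 : Janko.Tree (ℕ) :=
  (.node (.node (.node (.node (.node (.node (.leaf 11100) (.leaf 15658)) (.node (.leaf 13310) (.leaf 4935))) (.node (.node (.leaf 5826) (.leaf 5118)) (.node (.leaf 2283) (.leaf 4745)))) (.node (.node (.node (.leaf 528) (.leaf 3060)) (.node (.leaf 5559) (.leaf 11691))) (.node (.node (.leaf 11042) (.leaf 15822)) (.node (.leaf 5379) (.leaf 4647))))) (.node (.node (.node (.node (.leaf 5960) (.leaf 2957)) (.node (.leaf 5604) (.leaf 3792))) (.node (.node (.leaf 1101) (.leaf 5073)) (.node (.leaf 2402) (.leaf 16303)))) (.node (.node (.node (.leaf 11076) (.leaf 11130)) (.node (.leaf 2137) (.leaf 15633))) (.node (.node (.leaf 1465) (.leaf 4981)) (.node (.leaf 11146) (.leaf 16006)))))) (.node (.node (.node (.node (.node (.leaf 5982) (.leaf 12438)) (.node (.leaf 5627) (.leaf 3744))) (.node (.node (.leaf 5804) (.leaf 3359)) (.node (.leaf 5449) (.leaf 4007)))) (.node (.node (.node (.leaf 5895) (.leaf 16395)) (.node (.leaf 5539) (.leaf 11310)))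 (.node (.node (.leaf 5714) (.leaf 5009)) (.node (.leaf 12240) (.leaf 13229))))) (.node (.node (.node (.node (.leaf 5939) (.leaf 15089)) (.node (.leaf 5580) (.leaf 4865))) (.node (.node (.leaf 5760) (.leaf 3466)) (.node (.leaf 5403) (.leaf 15678)))) (.node (.node (.node (.leaf 815) (.leaf 14181)) (.node (.leaf 10999) (.leaf 4769))) (.node (.node (.leaf 1557) (.leaf 4957)) (.node (.leaf 2754) (.leaf 11164)))))))

def twoRank230 : Janko.Tree (ℕ) :=
  (.node (.node (.node (.node (.node (.node (.leaf 9929) (.leaf 9467)) (.node (.leaf 1639) (.leaf 3696))) (.node (.node (.leaf 10735) (.leaf 3308)) (.node (.leaf 9712) (.leaf 15818)))) (.node (.node (.node (.leaf 6708) (.leaf 14101)) (.node (.leaf 1975) (.leaf 9217))) (.node (.node (.leaf 9651) (.leaf 6233)) (.node (.leaf 10464) (.leaf 4067))))) (.node (.node (.node (.node (.leaf 13594) (.leaf 9590)) (.node (.leaf 12970) (.leaf 9384))) (.node (.node (.leaf 11874) (.leaf 15688)) (.node (.leaf 13113) (.leaf 11994)))) (.node (.node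 (.node (.leaf 9783) (.leaf 9401)) (.node (.leaf 11775) (.leaf 6118))) (.node (.node (.leaf 11812) (.leaf 11321)) (.node (.leaf 9491) (.leaf 15574)))))) (.node (.node (.node (.node (.node (.leaf 12077) (.leaf 9445)) (.node (.leaf 12973) (.leaf 13278))) (.node (.node (.leaf 11815) (.leaf 9371)) (.node (.leaf 10543) (.leaf 6083)))) (.node (.node (.node (.leaf 10726) (.leaf 6314)) (.node (.leaf 2052) (.leaf 10453))) (.node (.node (.leaf 11843) (.leaf 3562)) (.node (.leaf 9503) (.leaf 15142))))) (.node (.node (.node (.node (.leaf 430) (.leaf 12138)) (.node (.leaf 10611) (.leaf 11888))) (.node (.node (.leaf 1195) (.leaf 9468)) (.node (.leaf 10470) (.leaf 15576)))) (.node (.node (.node (.leaf 6673) (.leaf 11380)) (.node (.leaf 9597) (.leaf 15237))) (.node (.node (.leaf 15106) (.leaf 13273)) (.node (.leaf 9622) (.leaf 6019)))))))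

def twoRank231 : Janko.Tree (ℕ) :=
  (.node (.node (.node (.node (.node (.node (.leaf 8176) (.leaf 7486)) (.node (.leaf 1640) (.leaf 3697))) (.node (.node (.leaf 915) (.leaf 3309)) (.node (.leaf 7666) (.leaf 16421)))) (.node (.node (.node (.leaf 529) (.leaf 12941)) (.node (.leaf 1976) (.leaf 7027))) (.node (.node (.leaf 7919) (.leaf 14648)) (.node (.leaf 2560) (.leaf 12212))))) (.node (.node (.node (.node (.leaf 13602) (.leaf 7436)) (.node (.leaf 1800) (.leaf 7071))) (.node (.node (.leaf 7961) (.leaf 3407)) (.node (.leaf 7615) (.leaf 6891)))) (.node (.node (.node (.leaf 8042) (.leaf 7350)) (.node (.leaf 7712) (.leaf 14643))) (.node (.node (.leaf 7878) (.leaf 3603)) (.node (.leaf 7527) (.leaf 6804)))))) (.node (.node (.node (.node (.node (.leaf 228) (.leaf 7464)) (.node (.leaf 1720) (.leaf 12172))) (.node (.node (.leaf 1003) (.leaf 7274)) (.node (.leaf 2349) (.leaf 14463)))) (.node (.node (.node (.leaf 625) (.leaf 12583)) (.node (.leaf 12582) (.leaf 14806))) (.node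 (.node (.leaf 1383) (.leaf 3563)) (.node (.leaf 7554) (.leaf 15467))))) (.node (.node (.node (.node (.leaf 431) (.leaf 7411)) (.node (.leaf 1892) (.leaf 3833))) (.node (.node (.leaf 12723) (.leaf 7232)) (.node (.leaf 2484) (.leaf 6873)))) (.node (.node (.node (.leaf 13136) (.leaf 7326)) (.node (.leaf 7691) (.leaf 15521))) (.node (.node (.leaf 1558) (.leaf 13271)) (.node (.leaf 7502) (.leaf 15585)))))))

def twoRank232 : Janko.Tree (ℕ) :=
  (.node (.node (.node (.node (.node (.node (.leaf 10245) (.leaf 14954)) (.node (.leaf 8388) (.leaf 11585))) (.node (.node (.leaf 8837) (.leaf 14874)) (.node (.leaf 4356) (.leaf 4127)))) (.node (.node (.node (.leaf 8840) (.leaf 8325)) (.node (.leaf 1977) (.leaf 14754))) (.node (.node (.leaf 10265) (.leaf 14862)) (.node (.leaf 11361) (.leaf 4104))))) (.node (.node (.node (.node (.leaf 4539) (.leaf 2958)) (.node (.leaf 1801) (.leaf 12363))) (.node (.node (.leaf 1102) (.leaf 11471)) (.node (.leaf 16090) (.leaf 15759)))) (.node (.node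 (.node (.leaf 717) (.leaf 10154)) (.node (.leaf 13896) (.leaf 14997))) (.node (.node (.leaf 1466) (.leaf 8987)) (.node (.leaf 4308) (.leaf 13207)))))) (.node (.node (.node (.node (.node (.leaf 8904) (.leaf 12129)) (.node (.leaf 10220) (.leaf 13282))) (.node (.node (.leaf 9179) (.leaf 3360)) (.node (.leaf 8735) (.leaf 4119)))) (.node (.node (.node (.leaf 8851) (.leaf 3111)) (.node (.leaf 8405) (.leaf 14810))) (.node (.node (.leaf 11834) (.leaf 16458)) (.node (.leaf 2634) (.leaf 15857))))) (.node (.node (.node (.node (.leaf 10294) (.leaf 3008)) (.node (.leaf 8773) (.leaf 8959))) (.node (.node (.leaf 4464) (.leaf 10353)) (.node (.leaf 11738) (.leaf 14135)))) (.node (.node (.node (.leaf 10180) (.leaf 13537)) (.node (.leaf 14850) (.leaf 8237))) (.node (.node (.leaf 15167) (.leaf 13285)) (.node (.leaf 10231) (.leaf 15091)))))))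

def twoRank233 : Janko.Tree (ℕ) :=
  (.node (.node (.node (.node (.node (.node (.leaf 6000) (.leaf 5293)) (.node (.leaf 1641) (.leaf 15971))) (.node (.node (.leaf 13659) (.leaf 3310)) (.node (.leaf 2284) (.leaf 14268)))) (.node (.node (.node (.leaf 530) (.leaf 14916)) (.node (.leaf 5558) (.leaf 4844))) (.node (.node (.leaf 5737) (.leaf 11118)) (.node (.leaf 2561) (.leaf 11311))))) (.node (.node (.node (.node (.leaf 335) (.leaf 5253)) (.node (.leaf 5603) (.leaf 4893))) (.node (.node (.leaf 5781) (.leaf 3408)) (.node (.leaf 5428) (.leaf 4697)))) (.node (.node (.node (.leaf 5872) (.leaf 3191)) (.node (.leaf 5511) (.leaf 11117))) (.node (.node (.leaf 5692) (.leaf 3604)) (.node (.leaf 15649) (.leaf 16233)))))) (.node (.node (.node (.node (.node (.leaf 229) (.leaf 5273)) (.node (.leaf 1721) (.leaf 14723))) (.node (.node (.leaf 1004) (.leaf 5093)) (.node (.leaf 13379) (.leaf 4008)))) (.node (.node (.node (.leaf 13315) (.leaf 5182)) (.node (.leaf 2053) (.leaf 15741))) (.node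 (.node (.leaf 1384) (.leaf 11137)) (.node (.leaf 5357) (.leaf 4620))))) (.node (.node (.node (.node (.leaf 432) (.leaf 5230)) (.node (.leaf 13816) (.leaf 15220))) (.node (.node (.leaf 1196) (.leaf 15615)) (.node (.leaf 2485) (.leaf 15637)))) (.node (.node (.node (.leaf 5849) (.leaf 5137)) (.node (.leaf 5488) (.leaf 3959))) (.node (.node (.leaf 1559) (.leaf 3640)) (.node (.leaf 13836) (.leaf 4565)))))))

def twoRank234 : Janko.Tree (ℕ) :=
  (.node (.node (.node (.node (.node (.node (.leaf 118) (.leaf 2830)) (.node (.leaf 6561) (.leaf 11578))) (.node (.node (.leaf 9810) (.leaf 6280)) (.node (.leaf 10653) (.leaf 15154)))) (.node (.node (.node (.leaf 9863) (.leaf 6330)) (.node (.leaf 1978) (.leaf 10856))) (.node (.node (.leaf 1293) (.leaf 14645)) (.node (.leaf 6417) (.leaf 10429))))) (.node (.node (.node (.node (.leaf 11930) (.leaf 2959)) (.node (.leaf 1802) (.leaf 3793))) (.node (.node (.leaf 1103) (.leaf 9472)) (.node (.leaf 14283) (.leaf 4031)))) (.node (.node (.node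 (.leaf 10714) (.leaf 11726)) (.node (.leaf 13898) (.leaf 14641))) (.node (.node (.leaf 13932) (.leaf 11350)) (.node (.leaf 2697) (.leaf 16347)))))) (.node (.node (.node (.node (.node (.leaf 9954) (.leaf 12114)) (.node (.leaf 9778) (.leaf 6174))) (.node (.node (.leaf 10793) (.leaf 10455)) (.node (.leaf 9562) (.leaf 11208)))) (.node (.node (.node (.leaf 9848) (.leaf 3112)) (.node (.leaf 6499) (.leaf 10451))) (.node (.node (.leaf 9812) (.leaf 16363)) (.node (.leaf 12055) (.leaf 10849))))) (.node (.node (.node (.node (.leaf 9920) (.leaf 3009)) (.node (.leaf 9660) (.leaf 14149))) (.node (.node (.leaf 10759) (.leaf 6245)) (.node (.leaf 11736) (.leaf 11886)))) (.node (.node (.node (.leaf 816) (.leaf 13535)) (.node (.leaf 10731) (.leaf 6105))) (.node (.node (.leaf 6573) (.leaf 6200)) (.node (.leaf 6384) (.leaf 16180)))))))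

def twoRank235 : Janko.Tree (ℕ) :=
  (.node (.node (.node (.node (.node (.node (.leaf 119) (.leaf 2831)) (.node (.leaf 1642) (.leaf 7121))) (.node (.node (.leaf 8000) (.leaf 14618)) (.node (.leaf 2285) (.leaf 15550)))) (.node (.node (.node (.leaf 8085) (.leaf 12619)) (.node (.leaf 1979) (.leaf 14748))) (.node (.node (.leaf 12914) (.leaf 7205)) (.node (.leaf 2562) (.leaf 14790))))) (.node (.node (.node (.node (.leaf 336) (.leaf 2960)) (.node (.leaf 1803) (.leaf 12357))) (.node (.node (.leaf 1104) (.leaf 7249)) (.node (.leaf 14246) (.leaf 4032)))) (.node (.node (.node (.leaf 718) (.leaf 7349)) (.node (.leaf 13904) (.leaf 6982))) (.node (.node (.leaf 13080) (.leaf 7162)) (.node (.leaf 2698) (.leaf 6803)))))) (.node (.node (.node (.node (.node (.leaf 8152) (.leaf 2901)) (.node (.leaf 7813) (.leaf 14376))) (.node (.node (.leaf 7979) (.leaf 3361)) (.node (.leaf 7639) (.leaf 15635)))) (.node (.node (.node (.leaf 8063) (.leaf 3113)) (.node (.leaf 12564) (.leaf 7006))) (.node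 (.node (.leaf 7898) (.leaf 7180)) (.node (.leaf 2635) (.leaf 16159))))) (.node (.node (.node (.node (.leaf 8106) (.leaf 3010)) (.node (.leaf 7774) (.leaf 7052))) (.node (.node (.leaf 1197) (.leaf 3467)) (.node (.leaf 7599) (.leaf 6872)))) (.node (.node (.node (.leaf 817) (.leaf 13529)) (.node (.leaf 2216) (.leaf 15881))) (.node (.node (.leaf 1560) (.leaf 12350)) (.node (.leaf 12681) (.leaf 16300)))))))

def twoRank236 : Janko.Tree (ℕ) :=
  (.node (.node (.node (.node (.node (.node (.leaf 8533) (.leaf 12832)) (.node (.leaf 8669) (.leaf 4174))) (.node (.node (.leaf 10334) (.leaf 14941)) (.node (.leaf 9058) (.leaf 16051)))) (.node (.node (.node (.leaf 531) (.leaf 16323)) (.node (.leaf 4387) (.leaf 3872))) (.node (.node (.leaf 8459) (.leaf 14567)) (.node (.leaf 10062) (.leaf 14794))))) (.node (.node (.node (.node (.leaf 11998) (.leaf 4276)) (.node (.leaf 4403) (.leaf 4162))) (.node (.node (.leaf 10289) (.leaf 13189)) (.node (.leaf 12604) (.leaf 4115)))) (.node (.node (.node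 (.leaf 11824) (.leaf 3192)) (.node (.leaf 4371) (.leaf 15724))) (.node (.node (.leaf 11762) (.leaf 10268)) (.node (.leaf 8302) (.leaf 15569)))))) (.node (.node (.node (.node (.node (.leaf 230) (.leaf 8754)) (.node (.leaf 12606) (.leaf 12170))) (.node (.node (.leaf 4481) (.leaf 8641)) (.node (.leaf 4347) (.leaf 11203)))) (.node (.node (.node (.leaf 10322) (.leaf 4255)) (.node (.leaf 2054) (.leaf 14822))) (.node (.node (.leaf 1385) (.leaf 8283)) (.node (.leaf 8709) (.leaf 15542))))) (.node (.node (.node (.node (.leaf 12952) (.leaf 12079)) (.node (.leaf 4395) (.leaf 15162))) (.node (.node (.leaf 9144) (.leaf 13153)) (.node (.leaf 2486) (.leaf 15121)))) (.node (.node (.node (.leaf 9187) (.leaf 15147)) (.node (.leaf 4363) (.leaf 14013))) (.node (.node (.leaf 9120) (.leaf 8977)) (.node (.leaf 13269) (.leaf 16110)))))))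

def twoRank237 : Janko.Tree (ℕ) :=
  (.node (.node (.node (.node (.node (.node (.leaf 120) (.leaf 2832)) (.node (.leaf 11028) (.leaf 3698))) (.node (.node (.leaf 916) (.leaf 10959)) (.node (.leaf 14213) (.leaf 4744)))) (.node (.node (.node (.leaf 5917) (.leaf 5207)) (.node (.leaf 16398) (.leaf 4843))) (.node (.node (.leaf 1294) (.leaf 5033)) (.node (.leaf 2563) (.leaf 15936))))) (.node (.node (.node (.node (.leaf 10830) (.leaf 2961)) (.node (.leaf 1804) (.leaf 11539))) (.node (.node (.leaf 5780) (.leaf 5072)) (.node (.leaf 2403) (.leaf 13502)))) (.node (.node (.node (.leaf 719) (.leaf 5160)) (.node (.leaf 2138) (.leaf 14875))) (.node (.node (.leaf 1467) (.leaf 3605)) (.node (.leaf 2699) (.leaf 10934)))))) (.node (.node (.node (.node (.node (.leaf 5981) (.leaf 2902)) (.node (.leaf 5626) (.leaf 11106))) (.node (.node (.leaf 1005) (.leaf 13877)) (.node (.leaf 16396) (.leaf 10885)))) (.node (.node (.node (.leaf 626) (.leaf 13492)) (.node (.leaf 5538) (.leaf 4818))) (.node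 (.node (.leaf 5713) (.leaf 14231)) (.node (.leaf 13507) (.leaf 14633))))) (.node (.node (.node (.node (.leaf 5938) (.leaf 5229)) (.node (.leaf 1893) (.leaf 4864))) (.node (.node (.leaf 13732) (.leaf 3468)) (.node (.leaf 5402) (.leaf 10950)))) (.node (.node (.node (.leaf 818) (.leaf 10986)) (.node (.leaf 13926) (.leaf 4768))) (.node (.node (.leaf 11057) (.leaf 16288)) (.node (.leaf 5319) (.leaf 13194)))))))

def twoRank238 : Janko.Tree (ℕ) :=
  (.node (.node (.node (.node (.node (.node (.leaf 6759) (.leaf 6371)) (.node (.leaf 9567) (.leaf 15452))) (.node (.node (.leaf 6660) (.leaf 14614)) (.node (.leaf 10651) (.leaf 10859)))) (.node (.node (.node (.leaf 10744) (.leaf 16309)) (.node (.leaf 1980) (.leaf 15685))) (.node (.node (.leaf 6610) (.leaf 3514)) (.node (.leaf 9525) (.leaf 10427))))) (.node (.node (.node (.node (.leaf 6732) (.leaf 2962)) (.node (.leaf 1805) (.leaf 10465))) (.node (.node (.leaf 11828) (.leaf 16132)) (.node (.leaf 6442) (.leaf 4033)))) (.node (.node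 (.node (.leaf 6684) (.leaf 3193)) (.node (.leaf 14078) (.leaf 6117))) (.node (.node (.leaf 6585) (.leaf 15380)) (.node (.leaf 6396) (.leaf 15567)))))) (.node (.node (.node (.node (.node (.leaf 231) (.leaf 9604)) (.node (.leaf 1722) (.leaf 14374))) (.node (.node (.leaf 11783) (.leaf 9370)) (.node (.leaf 10542) (.leaf 6082)))) (.node (.node (.node (.leaf 6696) (.leaf 3114)) (.node (.leaf 11979) (.leaf 14410))) (.node (.node (.leaf 1386) (.leaf 6223)) (.node (.leaf 9502) (.leaf 9252))))) (.node (.node (.node (.node (.leaf 433) (.leaf 12096)) (.node (.leaf 10610) (.leaf 15209))) (.node (.node (.leaf 10757) (.leaf 9349)) (.node (.leaf 2487) (.leaf 15113)))) (.node (.node (.node (.leaf 10786) (.leaf 15133)) (.node (.leaf 2217) (.leaf 14009))) (.node (.node (.leaf 9725) (.leaf 14300)) (.node (.leaf 13265) (.leaf 9208)))))))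

def twoRank239 : Janko.Tree (ℕ) :=
  (.node (.node (.node (.node (.node (.node (.leaf 121) (.leaf 12809)) (.node (.leaf 7836) (.leaf 12982))) (.node (.node (.leaf 13090) (.leaf 7298)) (.node (.leaf 7665) (.leaf 16412)))) (.node (.node (.node (.leaf 532) (.leaf 16319)) (.node (.leaf 1981) (.leaf 3873))) (.node (.node (.leaf 12877) (.leaf 13068)) (.node (.leaf 7577) (.leaf 6847))))) (.node (.node (.node (.node (.leaf 337) (.leaf 13171)) (.node (.leaf 1806) (.leaf 3794))) (.node (.node (.leaf 1105) (.leaf 13072)) (.node (.leaf 14285) (.leaf 16108)))) (.node (.node (.node (.leaf 720) (.leaf 3194)) (.node (.leaf 13186) (.leaf 15845))) (.node (.node (.leaf 1468) (.leaf 7161)) (.node (.leaf 2700) (.leaf 6802)))))) (.node (.node (.node (.node (.node (.leaf 232) (.leaf 7463)) (.node (.leaf 13407) (.leaf 7094))) (.node (.node (.leaf 1006) (.leaf 7273)) (.node (.leaf 2350) (.leaf 13527)))) (.node (.node (.node (.leaf 627) (.leaf 3115)) (.node (.leaf 13521) (.leaf 12595))) (.node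 (.node (.leaf 1387) (.leaf 12428)) (.node (.leaf 7553) (.leaf 6825))))) (.node (.node (.node (.node (.leaf 13093) (.leaf 3011)) (.node (.leaf 1894) (.leaf 3834))) (.node (.node (.leaf 7938) (.leaf 7231)) (.node (.leaf 2488) (.leaf 6871)))) (.node (.node (.node (.leaf 8020) (.leaf 7325)) (.node (.leaf 2218) (.leaf 16461))) (.node (.node (.leaf 7859) (.leaf 7139)) (.node (.leaf 13267) (.leaf 6777)))))))

def twoRank240 : Janko.Tree (ℕ) :=
  (.node (.node (.node (.node (.node (.node (.leaf 8890) (.leaf 10043)) (.node (.leaf 1643) (.leaf 15533))) (.node (.node (.leaf 917) (.leaf 13799)) (.node (.leaf 2286) (.leaf 15717)))) (.node (.node (.node (.leaf 8857) (.leaf 12615)) (.node (.leaf 8356) (.leaf 15675))) (.node (.node (.leaf 1295) (.leaf 8285)) (.node (.leaf 2564) (.leaf 16187))))) (.node (.node (.node (.node (.leaf 9198) (.leaf 8280)) (.node (.leaf 8370) (.leaf 8924))) (.node (.node (.leaf 9173) (.leaf 13074)) (.node (.leaf 4339) (.leaf 8202)))) (.node (.node (.node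 (.leaf 10298) (.leaf 4245)) (.node (.leaf 11767) (.leaf 15680))) (.node (.node (.leaf 10387) (.leaf 13531)) (.node (.leaf 8593) (.leaf 8203)))))) (.node (.node (.node (.node (.node (.leaf 233) (.leaf 4282)) (.node (.leaf 1723) (.leaf 10403))) (.node (.node (.leaf 11774) (.leaf 4227)) (.node (.leaf 9048) (.leaf 15646)))) (.node (.node (.node (.leaf 10303) (.leaf 8270)) (.node (.leaf 11989) (.leaf 4142))) (.node (.node (.leaf 4446) (.leaf 16208)) (.node (.leaf 10277) (.leaf 12203))))) (.node (.node (.node (.node (.leaf 4531) (.leaf 9053)) (.node (.leaf 9090) (.leaf 4156))) (.node (.node (.leaf 1198) (.leaf 13140)) (.node (.leaf 10147) (.leaf 8219)))) (.node (.node (.node (.leaf 819) (.leaf 8311)) (.node (.leaf 8336) (.leaf 14508))) (.node (.node (.leaf 10164) (.leaf 4184)) (.node (.leaf 14683) (.leaf 15008)))))))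

def twoRank241 : Janko.Tree (ℕ) :=
  (.node (.node (.node (.node (.node (.node (.leaf 122) (.leaf 5292)) (.node (.leaf 5646) (.leaf 15601))) (.node (.node (.leaf 5825) (.leaf 5117)) (.node (.leaf 5467) (.leaf 14635)))) (.node (.node (.node (.leaf 13603) (.leaf 3061)) (.node (.leaf 1982) (.leaf 4842))) (.node (.node (.leaf 5736) (.leaf 14858)) (.node (.leaf 5378) (.leaf 4068))))) (.node (.node (.node (.node (.leaf 338) (.leaf 16085)) (.node (.leaf 1807) (.leaf 14598))) (.node (.node (.leaf 1106) (.leaf 5071)) (.node (.leaf 2404) (.leaf 12382)))) (.node (.node (.node (.leaf 721) (.leaf 3195)) (.node (.leaf 5510) (.leaf 4795))) (.node (.node (.leaf 1469) (.leaf 4980)) (.node (.leaf 11008) (.leaf 11166)))))) (.node (.node (.node (.node (.node (.leaf 5980) (.leaf 2903)) (.node (.leaf 5625) (.leaf 4917))) (.node (.node (.leaf 10800) (.leaf 16402)) (.node (.leaf 2351) (.leaf 15535)))) (.node (.node (.node (.leaf 628) (.leaf 3116)) (.node (.leaf 5537) (.leaf 14014))) (.node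 (.node (.leaf 1388) (.leaf 5008)) (.node (.leaf 2636) (.leaf 4619))))) (.node (.node (.node (.node (.leaf 434) (.leaf 15622)) (.node (.leaf 1895) (.leaf 13511))) (.node (.node (.leaf 5759) (.leaf 5051)) (.node (.leaf 5401) (.leaf 11174)))) (.node (.node (.node (.leaf 5848) (.leaf 11535)) (.node (.leaf 2219) (.leaf 15251))) (.node (.node (.leaf 5667) (.leaf 14515)) (.node (.leaf 5318) (.leaf 11541)))))))

def twoRank242 : Janko.Tree (ℕ) :=
  (.node (.node (.node (.node (.node (.node (.leaf 9957) (.leaf 11916)) (.node (.leaf 10556) (.leaf 6186))) (.node (.node (.leaf 918) (.leaf 3311)) (.node (.leaf 2287) (.leaf 9320)))) (.node (.node (.node (.leaf 9862) (.leaf 9554)) (.node (.leaf 6511) (.leaf 15669))) (.node (.node (.leaf 10608) (.leaf 6232)) (.node (.leaf 2565) (.leaf 16185))))) (.node (.node (.node (.node (.leaf 9899) (.leaf 6347)) (.node (.leaf 6536) (.leaf 10463))) (.node (.node (.leaf 11876) (.leaf 15672)) (.node (.leaf 2405) (.leaf 6073)))) (.node (.node (.node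 (.leaf 9835) (.leaf 14373)) (.node (.leaf 11779) (.leaf 13988))) (.node (.node (.leaf 9735) (.leaf 13533)) (.node (.leaf 9365) (.leaf 6027)))))) (.node (.node (.node (.node (.node (.leaf 234) (.leaf 12128)) (.node (.leaf 1724) (.leaf 15381))) (.node (.node (.leaf 6648) (.leaf 10454)) (.node (.leaf 10544) (.leaf 13525)))) (.node (.node (.node (.leaf 9845) (.leaf 6313)) (.node (.leaf 2055) (.leaf 15204))) (.node (.node (.leaf 1389) (.leaf 14227)) (.node (.leaf 6405) (.leaf 15134))))) (.node (.node (.node (.node (.leaf 11868) (.leaf 14197)) (.node (.leaf 10612) (.leaf 3835))) (.node (.node (.leaf 1199) (.leaf 3469)) (.node (.leaf 11708) (.leaf 6060)))) (.node (.node (.node (.leaf 13857) (.leaf 6290)) (.node (.leaf 6474) (.leaf 6104))) (.node (.node (.leaf 1561) (.leaf 15329)) (.node (.leaf 13863) (.leaf 16139)))))))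

def twoRank243 : Janko.Tree (ℕ) :=
  (.node (.node (.node (.node (.node (.node (.leaf 8175) (.leaf 2833)) (.node (.leaf 1644) (.leaf 3699))) (.node (.node (.leaf 919) (.leaf 12526)) (.node (.leaf 2288) (.leaf 6939)))) (.node (.node (.node (.leaf 8084) (.leaf 7383)) (.node (.leaf 1983) (.leaf 15665))) (.node (.node (.leaf 1296) (.leaf 15676)) (.node (.leaf 2566) (.leaf 6846))))) (.node (.node (.node (.node (.leaf 8129) (.leaf 13983)) (.node (.leaf 1808) (.leaf 7070))) (.node (.node (.leaf 7960) (.leaf 13185)) (.node (.leaf 12602) (.leaf 4034)))) (.node (.node (.node (.leaf 8041) (.leaf 13102)) (.node (.leaf 2139) (.leaf 13990))) (.node (.node (.leaf 7877) (.leaf 14187)) (.node (.leaf 7526) (.leaf 15272)))))) (.node (.node (.node (.node (.node (.leaf 235) (.leaf 14712)) (.node (.leaf 1725) (.leaf 15377))) (.node (.node (.leaf 1007) (.leaf 3362)) (.node (.leaf 7638) (.leaf 6914)))) (.node (.node (.node (.leaf 8062) (.leaf 3117)) (.node (.leaf 12368) (.leaf 12316))) (.node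 (.node (.leaf 12686) (.leaf 16350)) (.node (.leaf 15492) (.leaf 12201))))) (.node (.node (.node (.node (.leaf 435) (.leaf 7410)) (.node (.leaf 7773) (.leaf 3836))) (.node (.node (.leaf 1200) (.leaf 13573)) (.node (.leaf 2489) (.leaf 15119)))) (.node (.node (.node (.leaf 13831) (.leaf 3256)) (.node (.leaf 2220) (.leaf 15243))) (.node (.node (.leaf 1562) (.leaf 15327)) (.node (.leaf 14772) (.leaf 6776)))))))

def twoRank244 : Janko.Tree (ℕ) :=
  (.node (.node (.node (.node (.node (.node (.leaf 8903) (.leaf 9069)) (.node (.leaf 11632) (.leaf 12989))) (.node (.node (.leaf 4490) (.leaf 14691)) (.node (.leaf 4355) (.leaf 8612)))) (.node (.node (.node (.leaf 10258) (.leaf 13380)) (.node (.leaf 8635) (.leaf 13355))) (.node (.node (.leaf 12883) (.leaf 15670)) (.node (.leaf 15002) (.leaf 15835))))) (.node (.node (.node (.node (.leaf 339) (.leaf 13166)) (.node (.leaf 8655) (.leaf 8965))) (.node (.node (.leaf 11866) (.leaf 4218)) (.node (.leaf 8320) (.leaf 16114)))) (.node (.node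 (.node (.leaf 722) (.leaf 13462)) (.node (.leaf 11797) (.leaf 15847))) (.node (.node (.leaf 1470) (.leaf 11314)) (.node (.leaf 8355) (.leaf 15883)))))) (.node (.node (.node (.node (.node (.leaf 4546) (.leaf 14676)) (.node (.leaf 4412) (.leaf 14296))) (.node (.node (.leaf 9154) (.leaf 8956)) (.node (.leaf 8383) (.leaf 10198)))) (.node (.node (.node (.leaf 11805) (.leaf 8573)) (.node (.leaf 8403) (.leaf 15517))) (.node (.node (.leaf 8408) (.leaf 12424)) (.node (.leaf 10246) (.leaf 16137))))) (.node (.node (.node (.node (.leaf 11860) (.leaf 11642)) (.node (.leaf 11699) (.leaf 8220))) (.node (.node (.leaf 4463) (.leaf 3470)) (.node (.leaf 9095) (.leaf 8553)))) (.node (.node (.node (.leaf 4498) (.leaf 8602)) (.node (.leaf 8619) (.leaf 4132))) (.node (.node (.leaf 8443) (.leaf 15816)) (.node (.leaf 12679) (.leaf 15961)))))))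

def twoRank245 : Janko.Tree (ℕ) :=
  (.node (.node (.node (.node (.node (.node (.leaf 123) (.leaf 14143)) (.node (.leaf 1645) (.leaf 11131))) (.node (.node (.leaf 920) (.leaf 5116)) (.node (.leaf 2289) (.leaf 15695)))) (.node (.node (.node (.leaf 533) (.leaf 5206)) (.node (.leaf 11009) (.leaf 4841))) (.node (.node (.leaf 1297) (.leaf 3515)) (.node (.leaf 5377) (.leaf 4646))))) (.node (.node (.node (.node (.leaf 5959) (.leaf 11136)) (.node (.leaf 11018) (.leaf 3795))) (.node (.node (.leaf 1107) (.leaf 15958)) (.node (.leaf 2406) (.leaf 16122)))) (.node (.node (.node (.leaf 5871) (.leaf 5159)) (.node (.leaf 2140) (.leaf 4794))) (.node (.node (.leaf 5691) (.leaf 4979)) (.node (.leaf 12920) (.leaf 4089)))))) (.node (.node (.node (.node (.node (.leaf 236) (.leaf 13645)) (.node (.leaf 1726) (.leaf 16239))) (.node (.node (.leaf 1008) (.leaf 3363)) (.node (.leaf 14938) (.leaf 4724)))) (.node (.node (.node (.leaf 5894) (.leaf 10965)) (.node (.leaf 2056) (.leaf 16079))) (.node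 (.node (.leaf 1390) (.leaf 3564)) (.node (.leaf 12246) (.leaf 11619))))) (.node (.node (.node (.node (.leaf 10823) (.leaf 3012)) (.node (.leaf 5579) (.leaf 12235))) (.node (.node (.leaf 1201) (.leaf 5050)) (.node (.leaf 2490) (.leaf 15117)))) (.node (.node (.node (.leaf 820) (.leaf 3257)) (.node (.leaf 11031) (.leaf 13235))) (.node (.node (.leaf 11615) (.leaf 4956)) (.node (.leaf 2755) (.leaf 4564)))))))

def twoRank246 : Janko.Tree (ℕ) :=
  (.node (.node (.node (.node (.node (.node (.leaf 9956) (.leaf 11906)) (.node (.leaf 6560) (.leaf 9303))) (.node (.node (.leaf 10734) (.leaf 10869)) (.node (.leaf 11338) (.leaf 9316)))) (.node (.node (.node (.leaf 6707) (.leaf 13378)) (.node (.leaf 9487) (.leaf 13353))) (.node (.node (.leaf 9818) (.leaf 9452)) (.node (.leaf 2567) (.leaf 15833))))) (.node (.node (.node (.node (.leaf 340) (.leaf 13981)) (.node (.leaf 9535) (.leaf 10462))) (.node (.node (.leaf 9836) (.leaf 3409)) (.node (.leaf 6441) (.leaf 9233)))) (.node (.node (.node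 (.leaf 723) (.leaf 13460)) (.node (.leaf 9734) (.leaf 14569))) (.node (.node (.leaf 1471) (.leaf 11317)) (.node (.leaf 6395) (.leaf 15350)))))) (.node (.node (.node (.node (.node (.leaf 237) (.leaf 13669)) (.node (.leaf 1727) (.leaf 6173))) (.node (.node (.leaf 9797) (.leaf 10456)) (.node (.leaf 6453) (.leaf 11236)))) (.node (.node (.node (.leaf 11809) (.leaf 9307)) (.node (.leaf 6498) (.leaf 6129))) (.node (.node (.leaf 6598) (.leaf 9436)) (.node (.leaf 15288) (.leaf 15419))))) (.node (.node (.node (.node (.leaf 6720) (.leaf 11660)) (.node (.leaf 11702) (.leaf 6151))) (.node (.node (.leaf 11740) (.leaf 3471)) (.node (.leaf 11750) (.leaf 15115)))) (.node (.node (.node (.leaf 13575) (.leaf 9387)) (.node (.leaf 9431) (.leaf 15471))) (.node (.node (.leaf 6572) (.leaf 15331)) (.node (.leaf 9620) (.leaf 15509)))))))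

def twoRank247 : Janko.Tree (ℕ) :=
  (.node (.node (.node (.node (.node (.node (.leaf 8174) (.leaf 7485)) (.node (.leaf 1646) (.leaf 7120))) (.node (.node (.leaf 921) (.leaf 14701)) (.node (.leaf 2290) (.leaf 6938)))) (.node (.node (.node (.leaf 534) (.leaf 13382)) (.node (.leaf 7751) (.leaf 14604))) (.node (.node (.leaf 7918) (.leaf 7204)) (.node (.leaf 2568) (.leaf 4069))))) (.node (.node (.node (.node (.leaf 341) (.leaf 7435)) (.node (.leaf 7793) (.leaf 7069))) (.node (.node (.leaf 7959) (.leaf 12328)) (.node (.leaf 13677) (.leaf 6890)))) (.node (.node (.node (.leaf 724) (.leaf 13453)) (.node (.leaf 7711) (.leaf 15839))) (.node (.node (.leaf 1472) (.leaf 15489)) (.node (.leaf 2701) (.leaf 6801)))))) (.node (.node (.node (.node (.node (.leaf 238) (.leaf 7462)) (.node (.leaf 12598) (.leaf 3745))) (.node (.node (.leaf 7978) (.leaf 7272)) (.node (.leaf 2352) (.leaf 14530)))) (.node (.node (.node (.leaf 629) (.leaf 7369)) (.node (.leaf 13591) (.leaf 3906))) (.node (.node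 (.leaf 1391) (.leaf 7179)) (.node (.leaf 7552) (.leaf 6824))))) (.node (.node (.node (.node (.leaf 436) (.leaf 7409)) (.node (.leaf 1896) (.leaf 15123))) (.node (.node (.leaf 1202) (.leaf 3472)) (.node (.leaf 7598) (.leaf 6870)))) (.node (.node (.node (.leaf 13759) (.leaf 7324)) (.node (.leaf 7690) (.leaf 15249))) (.node (.node (.leaf 1563) (.leaf 15804)) (.node (.leaf 7501) (.leaf 14830)))))))

def twoRank248 : Janko.Tree (ℕ) :=
  (.node (.node (.node (.node (.node (.node (.leaf 124) (.leaf 12072)) (.node (.leaf 10133) (.leaf 10359))) (.node (.node (.leaf 9162) (.leaf 15739)) (.node (.leaf 11327) (.leaf 12205)))) (.node (.node (.node (.leaf 10256) (.leaf 4263)) (.node (.leaf 1984) (.leaf 10286))) (.node (.node (.leaf 4454) (.leaf 10383)) (.node (.leaf 14947) (.leaf 8213))))) (.node (.node (.node (.node (.leaf 4538) (.leaf 10396)) (.node (.leaf 10210) (.leaf 15449))) (.node (.node (.leaf 1108) (.leaf 8248)) (.node (.leaf 12600) (.leaf 15254)))) (.node (.node (.node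 (.leaf 4506) (.leaf 14319)) (.node (.leaf 2141) (.leaf 15851))) (.node (.node (.leaf 4437) (.leaf 15390)) (.node (.leaf 8636) (.leaf 16002)))))) (.node (.node (.node (.node (.node (.leaf 8510) (.leaf 11411)) (.node (.leaf 8376) (.leaf 13121))) (.node (.node (.leaf 1009) (.leaf 8704)) (.node (.leaf 8664) (.leaf 11205)))) (.node (.node (.node (.leaf 8872) (.leaf 3118)) (.node (.leaf 2057) (.leaf 12308))) (.node (.node (.leaf 12684) (.leaf 3565)) (.node (.leaf 11324) (.leaf 8207))))) (.node (.node (.node (.node (.leaf 9192) (.leaf 16129)) (.node (.leaf 11735) (.leaf 8552))) (.node (.node (.leaf 11746) (.leaf 4208)) (.node (.leaf 2491) (.leaf 15214)))) (.node (.node (.node (.leaf 11884) (.leaf 3258)) (.node (.leaf 8395) (.leaf 16175))) (.node (.node (.leaf 8746) (.leaf 3641)) (.node (.leaf 12677) (.leaf 16261)))))))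

def twoRank249 : Janko.Tree (ℕ) :=
  (.node (.node (.node (.node (.node (.node (.leaf 5999) (.leaf 2834)) (.node (.leaf 1647) (.leaf 4934))) (.node (.node (.leaf 922) (.leaf 3312)) (.node (.leaf 10906) (.leaf 4743)))) (.node (.node (.node (.leaf 535) (.leaf 3062)) (.node (.leaf 5557) (.leaf 4840))) (.node (.node (.leaf 1298) (.leaf 14048)) (.node (.leaf 2569) (.leaf 14023))))) (.node (.node (.node (.node (.leaf 342) (.leaf 5252)) (.node (.leaf 5602) (.leaf 4892))) (.node (.node (.leaf 5779) (.leaf 3410)) (.node (.leaf 11155) (.leaf 4696)))) (.node (.node (.node (.leaf 725) (.leaf 5158)) (.node (.leaf 5509) (.leaf 3930))) (.node (.node (.leaf 1473) (.leaf 4978)) (.node (.leaf 2702) (.leaf 4593)))))) (.node (.node (.node (.node (.node (.leaf 239) (.leaf 5272)) (.node (.leaf 1728) (.leaf 3746))) (.node (.node (.leaf 5803) (.leaf 3364)) (.node (.leaf 2353) (.leaf 4009)))) (.node (.node (.node (.leaf 630) (.leaf 5181)) (.node (.leaf 5536) (.leaf 11121))) (.node (.node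 (.leaf 11004) (.leaf 5007)) (.node (.leaf 5356) (.leaf 11241))))) (.node (.node (.node (.node (.leaf 437) (.leaf 5228)) (.node (.leaf 1897) (.leaf 10951))) (.node (.node (.leaf 10918) (.leaf 3473)) (.node (.leaf 5400) (.leaf 4671)))) (.node (.node (.node (.leaf 821) (.leaf 5136)) (.node (.leaf 11685) (.leaf 4767))) (.node (.node (.leaf 1564) (.leaf 4955)) (.node (.leaf 5317) (.leaf 10924)))))))

def twoRank250 : Janko.Tree (ℕ) :=
  (.node (.node (.node (.node (.node (.node (.leaf 125) (.leaf 9614)) (.node (.leaf 9703) (.leaf 3700))) (.node (.node (.leaf 10736) (.leaf 9506)) (.node (.leaf 6463) (.leaf 15325)))) (.node (.node (.node (.leaf 9859) (.leaf 3063)) (.node (.leaf 10502) (.leaf 15488))) (.node (.node (.leaf 1299) (.leaf 6231)) (.node (.leaf 6416) (.leaf 6050))))) (.node (.node (.node (.node (.leaf 343) (.leaf 15514)) (.node (.leaf 1809) (.leaf 15451))) (.node (.node (.leaf 1109) (.leaf 6260)) (.node (.leaf 13655) (.leaf 15139)))) (.node (.node (.node (.leaf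 13341) (.leaf 3196)) (.node (.leaf 2142) (.leaf 6116))) (.node (.node (.leaf 14052) (.leaf 15832)) (.node (.leaf 9489) (.leaf 15996)))))) (.node (.node (.node (.node (.node (.leaf 6744) (.leaf 11418)) (.node (.leaf 6548) (.leaf 9285))) (.node (.node (.leaf 1010) (.leaf 9492)) (.node (.leaf 9559) (.leaf 6081)))) (.node (.node (.node (.leaf 9890) (.leaf 10440)) (.node (.leaf 10581) (.leaf 9261))) (.node (.node (.leaf 9747) (.leaf 13908)) (.node (.leaf 11326) (.leaf 6038))))) (.node (.node (.node (.node (.leaf 9879) (.leaf 3013)) (.node (.leaf 9760) (.leaf 15111))) (.node (.node (.leaf 6622) (.leaf 11261)) (.node (.leaf 14308) (.leaf 15441)))) (.node (.node (.node (.leaf 11882) (.leaf 10459)) (.node (.leaf 6473) (.leaf 15475))) (.node (.node (.leaf 9723) (.leaf 15548)) (.node (.leaf 2756) (.leaf 14571)))))))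

def twoRank251 : Janko.Tree (ℕ) :=
  (.node (.node (.node (.node (.node (.node (.leaf 126) (.leaf 7484)) (.node (.leaf 7835) (.leaf 12987))) (.node (.node (.leaf 7999) (.leaf 7297)) (.node (.leaf 14185) (.leaf 12195)))) (.node (.node (.node (.leaf 8083) (.leaf 12334)) (.node (.leaf 1985) (.leaf 15395))) (.node (.node (.leaf 1300) (.leaf 15860)) (.node (.leaf 2570) (.leaf 12217))))) (.node (.node (.node (.node (.leaf 13135) (.leaf 15519)) (.node (.leaf 12714) (.leaf 15537))) (.node (.node (.leaf 1110) (.leaf 14605)) (.node (.leaf 7614) (.leaf 4035)))) (.node (.node (.node (.leaf 13337) (.leaf 3197)) (.node (.leaf 2143) (.leaf 15831))) (.node (.node (.leaf 14054) (.leaf 16437)) (.node (.leaf 7525) (.leaf 16276)))))) (.node (.node (.node (.node (.node (.leaf 240) (.leaf 2904)) (.node (.leaf 13667) (.leaf 7093))) (.node (.node (.leaf 1011) (.leaf 7271)) (.node (.leaf 7637) (.leaf 15566)))) (.node (.node (.node (.leaf 8061) (.leaf 3119)) (.node (.leaf 14019) (.leaf 7005)))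 (.node (.node (.leaf 7897) (.leaf 3566)) (.node (.leaf 2637) (.leaf 15153))))) (.node (.node (.node (.node (.leaf 8105) (.leaf 3014)) (.node (.leaf 7772) (.leaf 7051))) (.node (.node (.leaf 14263) (.leaf 14154)) (.node (.leaf 13105) (.leaf 15176)))) (.node (.node (.node (.leaf 8019) (.leaf 3259)) (.node (.leaf 2221) (.leaf 16449))) (.node (.node (.leaf 7858) (.leaf 15557)) (.node (.leaf 13882) (.leaf 6775)))))))

def twoRank252 : Janko.Tree (ℕ) :=
  (.node (.node (.node (.node (.node (.node (.leaf 4553) (.leaf 4290)) (.node (.leaf 1648) (.leaf 8267))) (.node (.node (.leaf 923) (.leaf 10178)) (.node (.leaf 9056) (.leaf 15701)))) (.node (.node (.node (.leaf 11863) (.leaf 8276)) (.node (.leaf 4386) (.leaf 8251))) (.node (.node (.leaf 8416) (.leaf 15666)) (.node (.leaf 14955) (.leaf 12213))))) (.node (.node (.node (.node (.leaf 8502) (.leaf 9063)) (.node (.leaf 8423) (.leaf 15957))) (.node (.node (.leaf 4472) (.leaf 12318)) (.node (.leaf 10019) (.leaf 16095)))) (.node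 (.node (.node (.leaf 10224) (.leaf 11728)) (.node (.leaf 4370) (.leaf 15862))) (.node (.node (.leaf 13041) (.leaf 12104)) (.node (.leaf 2703) (.leaf 14556)))))) (.node (.node (.node (.node (.node (.leaf 8847) (.leaf 10089)) (.node (.leaf 12592) (.leaf 15013))) (.node (.node (.leaf 13033) (.leaf 12502)) (.node (.leaf 2354) (.leaf 14528)))) (.node (.node (.node (.leaf 12846) (.leaf 13736)) (.node (.leaf 10031) (.leaf 8243))) (.node (.node (.leaf 10232) (.leaf 14904)) (.node (.leaf 8772) (.leaf 8547))))) (.node (.node (.node (.node (.leaf 438) (.leaf 16460)) (.node (.leaf 1898) (.leaf 14172))) (.node (.node (.leaf 9142) (.leaf 11255)) (.node (.leaf 10190) (.leaf 10280)))) (.node (.node (.node (.leaf 822) (.leaf 8651)) (.node (.leaf 8678) (.leaf 3960))) (.node (.node (.leaf 1565) (.leaf 13103)) (.node (.leaf 11470) (.leaf 16296)))))))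

def twoRank253 : Janko.Tree (ℕ) :=
  (.node (.node (.node (.node (.node (.node (.leaf 127) (.leaf 13648)) (.node (.leaf 5645) (.leaf 13733))) (.node (.node (.leaf 5824) (.leaf 13835)) (.node (.leaf 15160) (.leaf 11620)))) (.node (.node (.node (.leaf 5916) (.leaf 14726)) (.node (.leaf 14325) (.leaf 3874))) (.node (.node (.leaf 1301) (.leaf 5032)) (.node (.leaf 10985) (.leaf 16285))))) (.node (.node (.node (.node (.leaf 344) (.leaf 2963)) (.node (.leaf 1810) (.leaf 3796))) (.node (.node (.leaf 1111) (.leaf 10976)) (.node (.leaf 5427) (.leaf 12401)))) (.node (.node (.node (.leaf 5870) (.leaf 3198)) (.node (.leaf 2144) (.leaf 4793))) (.node (.node (.leaf 5690) (.leaf 14923)) (.node (.leaf 5337) (.leaf 4592)))))) (.node (.node (.node (.node (.node (.leaf 11096) (.leaf 2905)) (.node (.leaf 11156) (.leaf 4916))) (.node (.node (.leaf 1012) (.leaf 5092)) (.node (.leaf 5448) (.leaf 4010)))) (.node (.node (.node (.leaf 5893) (.leaf 3120)) (.node (.leaf 2058) (.leaf 14026)))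 (.node (.node (.leaf 5712) (.leaf 13902)) (.node (.leaf 2638) (.leaf 16286))))) (.node (.node (.node (.node (.leaf 5937) (.leaf 5227)) (.node (.leaf 5578) (.leaf 3837))) (.node (.node (.leaf 1203) (.leaf 10890)) (.node (.leaf 2492) (.leaf 4058)))) (.node (.node (.node (.leaf 5847) (.leaf 14600)) (.node (.leaf 2222) (.leaf 4766))) (.node (.node (.leaf 5666) (.leaf 4954)) (.node (.leaf 2757) (.leaf 10922)))))))

def twoRank254 : Janko.Tree (ℕ) :=
  (.node (.node (.node (.node (.node (.node (.leaf 128) (.leaf 2835)) (.node (.leaf 1649) (.leaf 6185))) (.node (.node (.leaf 13585) (.leaf 6279)) (.node (.leaf 14179) (.leaf 15546)))) (.node (.node (.node (.leaf 11854) (.leaf 6329)) (.node (.leaf 1986) (.leaf 6140))) (.node (.node (.leaf 6609) (.leaf 13984)) (.node (.leaf 9523) (.leaf 9262))))) (.node (.node (.node (.node (.leaf 6731) (.leaf 15202)) (.node (.leaf 6535) (.leaf 11385))) (.node (.node (.leaf 1112) (.leaf 13356)) (.node (.leaf 2407) (.leaf 6072)))) (.node (.node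 (.node (.leaf 726) (.leaf 11725)) (.node (.leaf 2145) (.leaf 13935))) (.node (.node (.leaf 13053) (.leaf 12094)) (.node (.leaf 10497) (.leaf 15320)))))) (.node (.node (.node (.node (.node (.leaf 9883) (.leaf 9602)) (.node (.leaf 13665) (.leaf 3747))) (.node (.node (.leaf 6647) (.leaf 3365)) (.node (.leaf 13888) (.leaf 15378)))) (.node (.node (.node (.leaf 631) (.leaf 11602)) (.node (.leaf 6497) (.leaf 6128))) (.node (.node (.leaf 1392) (.leaf 9434)) (.node (.leaf 9650) (.leaf 15551))))) (.node (.node (.node (.node (.leaf 439) (.leaf 15705)) (.node (.leaf 1899) (.leaf 11330))) (.node (.node (.leaf 14310) (.leaf 6244)) (.node (.leaf 11711) (.leaf 15396)))) (.node (.node (.node (.leaf 823) (.leaf 9386)) (.node (.leaf 9595) (.leaf 15146))) (.node (.node (.leaf 10655) (.leaf 15369)) (.node (.leaf 13079) (.leaf 14595)))))))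

def twoRank255 : Janko.Tree (ℕ) :=
  (.node (.node (.node (.node (.node (.node (.leaf 129) (.leaf 2836)) (.node (.leaf 1650) (.leaf 15311))) (.node (.node (.leaf 13590) (.leaf 12515)) (.node (.leaf 7664) (.leaf 6937)))) (.node (.node (.node (.leaf 536) (.leaf 14622)) (.node (.leaf 1987) (.leaf 12351))) (.node (.node (.leaf 1302) (.leaf 13986)) (.node (.leaf 7576) (.leaf 6845))))) (.node (.node (.node (.node (.leaf 345) (.leaf 7434)) (.node (.leaf 12716) (.leaf 7068))) (.node (.node (.leaf 1113) (.leaf 7248)) (.node (.leaf 12551) (.leaf 4036)))) (.node (.node (.node (.leaf 727) (.leaf 7348)) (.node (.leaf 13073) (.leaf 13947))) (.node (.node (.leaf 1474) (.leaf 7160)) (.node (.leaf 2704) (.leaf 14558)))))) (.node (.node (.node (.node (.node (.leaf 8151) (.leaf 7461)) (.node (.leaf 7812) (.leaf 3748))) (.node (.node (.leaf 13012) (.leaf 12496)) (.node (.leaf 2355) (.leaf 6913)))) (.node (.node (.node (.leaf 12852) (.leaf 7368)) (.node (.leaf 2059) (.leaf 12314))) (.node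 (.node (.leaf 1393) (.leaf 7178)) (.node (.leaf 7551) (.leaf 6823))))) (.node (.node (.node (.node (.leaf 440) (.leaf 3015)) (.node (.leaf 1900) (.leaf 7050))) (.node (.node (.leaf 7937) (.leaf 14164)) (.node (.leaf 7597) (.leaf 6869)))) (.node (.node (.node (.leaf 824) (.leaf 7323)) (.node (.leaf 7689) (.leaf 15155))) (.node (.node (.leaf 1566) (.leaf 13101)) (.node (.leaf 7500) (.leaf 6774)))))))

def twoRank : Janko.Tree (ℕ) := (.node (.node (.node (.node (.node (.node (.node (.node twoRank0 twoRank128) (.node twoRank64 twoRank192)) (.node (.node twoRank32 twoRank160) (.node twoRank96 twoRank224))) (.node (.node (.node twoRank16 twoRank144) (.node twoRank80 twoRank208)) (.node (.node twoRank48 twoRank176) (.node twoRank112 twoRank240)))) (.node (.node (.node (.node twoRank8 twoRank136) (.node twoRank72 twoRank200)) (.node (.node twoRank40 twoRank168) (.node twoRank104 twoRank232))) (.node (.node (.node twoRank24 twoRank152) (.node twoRank88 twoRank216)) (.node (.node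 twoRank56 twoRank184) (.node twoRank120 twoRank248))))) (.node (.node (.node (.node (.node twoRank4 twoRank132) (.node twoRank68 twoRank196)) (.node (.node twoRank36 twoRank164) (.node twoRank100 twoRank228))) (.node (.node (.node twoRank20 twoRank148) (.node twoRank84 twoRank212)) (.node (.node twoRank52 twoRank180) (.node twoRank116 twoRank244)))) (.node (.node (.node (.node twoRank12 twoRank140) (.node twoRank76 twoRank204)) (.node (.node twoRank44 twoRank172) (.node twoRank108 twoRank236))) (.node (.node (.node twoRank28 twoRank156) (.node twoRank92 twoRank220)) (.node (.node twoRank60 twoRank188) (.node twoRank124 twoRank252)))))) (.node (.node (.node (.node (.node (.node twoRank2 twoRank130) (.node twoRank66 twoRank194)) (.node (.node twoRank34 twoRank162) (.node twoRank98 twoRank226))) (.node (.node (.node twoRank18 twoRank146) (.node twoRank82 twoRank210)) (.node (.node twoRank50 twoRank178) (.node twoRank114 twoRank242)))) (.node (.node (.node (.node twoRank10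 twoRank138) (.node twoRank74 twoRank202)) (.node (.node twoRank42 twoRank170) (.node twoRank106 twoRank234))) (.node (.node (.node twoRank26 twoRank154) (.node twoRank90 twoRank218)) (.node (.node twoRank58 twoRank186) (.node twoRank122 twoRank250))))) (.node (.node (.node (.node (.node twoRank6 twoRank134) (.node twoRank70 twoRank198)) (.node (.node twoRank38 twoRank166) (.node twoRank102 twoRank230))) (.node (.node (.node twoRank22 twoRank150) (.node twoRank86 twoRank214)) (.node (.node twoRank54 twoRank182) (.node twoRank118 twoRank246)))) (.node (.node (.node (.node twoRank14 twoRank142) (.node twoRank78 twoRank206)) (.node (.node twoRank46 twoRank174) (.node twoRank110 twoRank238))) (.node (.node (.node twoRank30 twoRank158) (.node twoRank94 twoRank222)) (.node (.node twoRank62 twoRank190) (.node twoRank126 twoRank254))))))) (.node (.node (.node (.node (.node (.node (.node twoRank1 twoRank129) (.node twoRank65 twoRank193)) (.node (.node twoRank33 twoRank161) (.node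 twoRank97 twoRank225))) (.node (.node (.node twoRank17 twoRank145) (.node twoRank81 twoRank209)) (.node (.node twoRank49 twoRank177) (.node twoRank113 twoRank241)))) (.node (.node (.node (.node twoRank9 twoRank137) (.node twoRank73 twoRank201)) (.node (.node twoRank41 twoRank169) (.node twoRank105 twoRank233))) (.node (.node (.node twoRank25 twoRank153) (.node twoRank89 twoRank217)) (.node (.node twoRank57 twoRank185) (.node twoRank121 twoRank249))))) (.node (.node (.node (.node (.node twoRank5 twoRank133) (.node twoRank69 twoRank197)) (.node (.node twoRank37 twoRank165) (.node twoRank101 twoRank229))) (.node (.node (.node twoRank21 twoRank149) (.node twoRank85 twoRank213)) (.node (.node twoRank53 twoRank181) (.node twoRank117 twoRank245)))) (.node (.node (.node (.node twoRank13 twoRank141) (.node twoRank77 twoRank205)) (.node (.node twoRank45 twoRank173) (.node twoRank109 twoRank237))) (.node (.node (.node twoRank29 twoRank157) (.node twoRank93 twoRank221)) (.node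 (.node twoRank61 twoRank189) (.node twoRank125 twoRank253)))))) (.node (.node (.node (.node (.node (.node twoRank3 twoRank131) (.node twoRank67 twoRank195)) (.node (.node twoRank35 twoRank163) (.node twoRank99 twoRank227))) (.node (.node (.node twoRank19 twoRank147) (.node twoRank83 twoRank211)) (.node (.node twoRank51 twoRank179) (.node twoRank115 twoRank243)))) (.node (.node (.node (.node twoRank11 twoRank139) (.node twoRank75 twoRank203)) (.node (.node twoRank43 twoRank171) (.node twoRank107 twoRank235))) (.node (.node (.node twoRank27 twoRank155) (.node twoRank91 twoRank219)) (.node (.node twoRank59 twoRank187) (.node twoRank123 twoRank251))))) (.node (.node (.node (.node (.node twoRank7 twoRank135) (.node twoRank71 twoRank199)) (.node (.node twoRank39 twoRank167) (.node twoRank103 twoRank231))) (.node (.node (.node twoRank23 twoRank151) (.node twoRank87 twoRank215)) (.node (.node twoRank55 twoRank183) (.node twoRank119 twoRank247)))) (.node (.node (.node (.node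 twoRank15 twoRank143) (.node twoRank79 twoRank207)) (.node (.node twoRank47 twoRank175) (.node twoRank111 twoRank239))) (.node (.node (.node twoRank31 twoRank159) (.node twoRank95 twoRank223)) (.node (.node twoRank63 twoRank191) (.node twoRank127 twoRank255))))))))

def twoVia0 : Janko.Tree (ℕ × ℕ) :=
  (.node (.node (.node (.node (.node (.node (.node (.leaf (0, 0)) (.leaf (0, 0))) (.leaf (77, 2046))) (.node (.leaf (7, 644)) (.leaf (0, 3072)))) (.node (.node (.leaf (0, 512)) (.leaf (0, 2560))) (.node (.leaf (0, 0)) (.leaf (15, 2248))))) (.node (.node (.node (.leaf (75, 147)) (.leaf (0, 2304))) (.node (.leaf (0, 1280)) (.leaf (25, 3328)))) (.node (.node (.leaf (72, 277)) (.leaf (75, 1479))) (.node (.leaf (75, 1765)) (.leaf (75, 2644)))))) (.node (.node (.node (.node (.leaf (73, 29)) (.leaf (62, 994))) (.node (.leaf (0, 1152)) (.leaf (75, 2128)))) (.node (.node (.leaf (72, 220)) (.leaf (0, 2688))) (.node (.leaf (7, 1093)) (.leaf (72, 2450))))) (.node (.node (.node (.leaf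 (0, 384)) (.leaf (0, 0))) (.node (.leaf (50, 1416)) (.leaf (7, 3456)))) (.node (.node (.leaf (7, 1376)) (.leaf (59, 1854))) (.node (.leaf (0, 1920)) (.leaf (77, 3908))))))) (.node (.node (.node (.node (.node (.leaf (0, 129)) (.leaf (0, 2836))) (.node (.leaf (0, 0)) (.leaf (77, 3574)))) (.node (.node (.leaf (0, 0)) (.leaf (76, 1269))) (.node (.leaf (5, 3003)) (.leaf (66, 3712))))) (.node (.node (.node (.leaf (0, 320)) (.leaf (73, 2013))) (.node (.leaf (0, 1987)) (.leaf (66, 2868)))) (.node (.node (.leaf (7, 1300)) (.leaf (77, 2990))) (.node (.leaf (77, 1856)) (.leaf (23, 3904)))))) (.node (.node (.node (.node (.leaf (77, 1381)) (.leaf (47, 2240))) (.node (.leaf (0, 0)) (.leaf (77, 3232)))) (.node (.node (.leaf (0, 1113)) (.leaf (4, 2752))) (.node (.leaf (4, 1728)) (.leaf (77, 3907))))) (.node (.node (.node (.leaf (23, 898)) (.leaf (76, 1246))) (.node (.leaf (0, 2146)) (.leaf (76, 3520)))) (.node (.node (.leaf (0, 0)) (.leaf (77, 1626))) (.node (.leaf (7, 1339)) (.leaf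 (77, 3540))))))))

def twoVia1 : Janko.Tree (ℕ × ℕ) :=
  (.node (.node (.node (.node (.node (.node (.node (.leaf (0, 0)) (.leaf (1, 0))) (.leaf (1, 2048))) (.node (.leaf (77, 1575)) (.leaf (71, 3487)))) (.node (.node (.leaf (0, 0)) (.leaf (77, 1849))) (.node (.leaf (1, 1536)) (.leaf (1, 3584))))) (.node (.node (.node (.leaf (0, 0)) (.leaf (77, 3966))) (.node (.leaf (0, 0)) (.leaf (1, 3328)))) (.node (.node (.leaf (1, 768)) (.leaf (77, 3462))) (.node (.leaf (1, 1792)) (.leaf (1, 3840)))))) (.node (.node (.node (.node (.leaf (1, 128)) (.leaf (0, 0))) (.node (.leaf (0, 0)) (.leaf (77, 2265)))) (.node (.node (.leaf (1, 640)) (.leaf (59, 1993))) (.node (.leaf (77, 1091)) (.leaf (1, 3712))))) (.node (.node (.node (.leaf (0, 0)) (.leaf (1, 2432))) (.node (.leaf (0, 0)) (.leaf (77, 3047)))) (.node (.node (.leaf (0, 0)) (.leaf (69, 2944))) (.node (.leaf (0, 0)) (.leaf (1, 3968))))))) (.node (.node (.node (.node (.node (.leaf (0, 0)) (.leaf (0, 0))) (.node (.leaf (1, 1088))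 (.leaf (0, 0)))) (.node (.node (.leaf (1, 576)) (.leaf (1, 2624))) (.node (.leaf (1, 1600)) (.leaf (1, 3648))))) (.node (.node (.node (.leaf (0, 0)) (.leaf (10, 2368))) (.node (.leaf (0, 0)) (.leaf (1, 3392)))) (.node (.node (.leaf (67, 517)) (.leaf (0, 0))) (.node (.leaf (1, 1856)) (.leaf (1, 3904)))))) (.node (.node (.node (.node (.leaf (1, 192)) (.leaf (1, 2240))) (.node (.leaf (1, 1216)) (.leaf (1, 3264)))) (.node (.node (.leaf (0, 0)) (.leaf (0, 0))) (.node (.leaf (0, 0)) (.leaf (1, 4036))))) (.node (.node (.node (.leaf (1, 448)) (.leaf (1, 2496))) (.node (.leaf (77, 2146)) (.leaf (1, 3520)))) (.node (.node (.leaf (1, 960)) (.leaf (1, 3008))) (.node (.leaf (77, 2751)) (.leaf (1, 4032))))))))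

def twoVia2 : Janko.Tree (ℕ × ℕ) :=
  (.node (.node (.node (.node (.node (.node (.node (.leaf (0, 0)) (.leaf (2, 0))) (.leaf (71, 3519))) (.node (.leaf (2, 1024)) (.leaf (2, 3072)))) (.node (.node (.leaf (0, 0)) (.leaf (24, 3259))) (.node (.leaf (7, 2224)) (.leaf (77, 2247))))) (.node (.node (.node (.leaf (2, 256)) (.leaf (0, 0))) (.node (.leaf (0, 0)) (.leaf (75, 1044)))) (.node (.node (.leaf (0, 0)) (.leaf (77, 2898))) (.node (.leaf (77, 3149)) (.leaf (77, 3790)))))) (.node (.node (.node (.node (.leaf (0, 0)) (.leaf (59, 1516))) (.node (.leaf (0, 0)) (.leaf (2, 3200)))) (.node (.node (.leaf (77, 588)) (.leaf (7, 1970))) (.node (.leaf (2, 1664)) (.leaf (26, 3145))))) (.node (.node (.node (.leaf (13, 395)) (.leaf (0, 0))) (.node (.leaf (2, 2060)) (.leaf (6, 3456)))) (.node (.node (.leaf (2, 896)) (.leaf (24, 942))) (.node (.leaf (55, 827)) (.leaf (71, 3169))))))) (.node (.node (.node (.node (.node (.leaf (2, 64)) (.leaf (2, 2112))) (.node (.leaf (0, 0)) (.leaf (6,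 3136)))) (.node (.node (.leaf (0, 0)) (.leaf (77, 3293))) (.node (.leaf (0, 0)) (.leaf (77, 3063))))) (.node (.node (.node (.leaf (6, 320)) (.leaf (61, 1356))) (.node (.leaf (2, 1344)) (.leaf (77, 3510)))) (.node (.node (.leaf (7, 1303)) (.leaf (6, 2880))) (.node (.leaf (6, 3271)) (.leaf (77, 3696)))))) (.node (.node (.node (.node (.leaf (2, 346)) (.leaf (70, 2248))) (.node (.leaf (6, 2516)) (.leaf (0, 0)))) (.node (.node (.leaf (2, 704)) (.leaf (2, 2752))) (.node (.leaf (2, 1728)) (.leaf (2, 4037))))) (.node (.node (.node (.leaf (77, 204)) (.leaf (0, 0))) (.node (.leaf (2, 1472)) (.leaf (77, 3415)))) (.node (.node (.leaf (0, 0)) (.leaf (0, 0))) (.node (.leaf (2, 1984)) (.leaf (2, 4032))))))))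

def twoVia3 : Janko.Tree (ℕ × ℕ) :=
  (.node (.node (.node (.node (.node (.node (.node (.leaf (0, 0)) (.leaf (3, 0))) (.leaf (70, 2672))) (.node (.leaf (3, 1024)) (.leaf (42, 445)))) (.node (.node (.leaf (73, 239)) (.leaf (0, 0))) (.node (.leaf (0, 0)) (.leaf (57, 2248))))) (.node (.node (.node (.leaf (77, 288)) (.leaf (0, 0))) (.node (.leaf (73, 1272)) (.leaf (0, 0)))) (.node (.node (.leaf (0, 0)) (.leaf (3, 2816))) (.node (.leaf (75, 1178)) (.leaf (71, 3518)))))) (.node (.node (.node (.node (.leaf (0, 0)) (.leaf (3, 2176))) (.node (.leaf (75, 733)) (.leaf (26, 3741)))) (.node (.node (.leaf (0, 0)) (.leaf (0, 0))) (.node (.leaf (3, 1664)) (.leaf (39, 1384))))) (.node (.node (.node (.leaf (0, 0)) (.leaf (0, 0))) (.node (.leaf (3, 1408)) (.leaf (3, 3456)))) (.node (.node (.leaf (0, 0)) (.leaf (3, 2944))) (.node (.leaf (0, 0)) (.leaf (71, 4022))))))) (.node (.node (.node (.node (.node (.leaf (0, 0)) (.leaf (0, 0))) (.node (.leaf (0, 0)) (.leaf (3, 3136)))) (.node (.node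 (.leaf (0, 0)) (.leaf (75, 1866))) (.node (.leaf (0, 0)) (.leaf (77, 1182))))) (.node (.node (.node (.leaf (3, 320)) (.leaf (3, 2368))) (.node (.leaf (0, 0)) (.leaf (76, 1540)))) (.node (.node (.leaf (3, 832)) (.leaf (3, 2880))) (.node (.leaf (0, 0)) (.leaf (59, 2787)))))) (.node (.node (.node (.node (.leaf (3, 192)) (.leaf (0, 0))) (.node (.leaf (0, 0)) (.leaf (0, 0)))) (.node (.node (.leaf (0, 0)) (.leaf (54, 2035))) (.node (.leaf (77, 2418)) (.leaf (3, 3776))))) (.node (.node (.node (.leaf (0, 0)) (.leaf (0, 0))) (.node (.leaf (0, 0)) (.leaf (77, 2760)))) (.node (.node (.leaf (0, 0)) (.leaf (0, 0))) (.node (.leaf (3, 1984)) (.leaf (0, 0))))))))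

def twoVia4 : Janko.Tree (ℕ × ℕ) :=
  (.node (.node (.node (.node (.node (.node (.node (.leaf (0, 1)) (.leaf (4, 0))) (.leaf (4, 2049))) (.node (.leaf (0, 1025)) (.leaf (77, 3727)))) (.node (.node (.leaf (0, 827)) (.leaf (0, 3261))) (.node (.leaf (7, 1000)) (.leaf (59, 3861))))) (.node (.node (.node (.leaf (73, 259)) (.leaf (0, 3017))) (.node (.leaf (0, 1903)) (.leaf (5, 3329)))) (.node (.node (.leaf (5, 769)) (.leaf (72, 1435))) (.node (.leaf (0, 1793)) (.leaf (75, 2893)))))) (.node (.node (.node (.node (.leaf (4, 129)) (.leaf (0, 0))) (.node (.leaf (0, 1731)) (.leaf (66, 3201)))) (.node (.node (.leaf (5, 641)) (.leaf (0, 3367))) (.node (.leaf (0, 1665)) (.leaf (5, 3713))))) (.node (.node (.node (.leaf (0, 634)) (.leaf (12, 3457))) (.node (.leaf (0, 0)) (.leaf (0, 0)))) (.node (.node (.leaf (7, 1375)) (.leaf (0, 0))) (.node (.leaf (0, 2641)) (.leaf (77, 3777))))))) (.node (.node (.node (.node (.node (.leaf (7, 129)) (.leaf (7, 2836))) (.node (.leaf (0, 1089)) (.leaf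 (4, 3137)))) (.node (.node (.leaf (0, 577)) (.leaf (77, 2625))) (.node (.leaf (5, 1601)) (.leaf (0, 0))))) (.node (.node (.node (.leaf (75, 405)) (.leaf (73, 1107))) (.node (.leaf (7, 1987)) (.leaf (77, 894)))) (.node (.node (.leaf (7, 1318)) (.leaf (61, 2748))) (.node (.leaf (0, 1857)) (.leaf (75, 2638)))))) (.node (.node (.node (.node (.leaf (73, 54)) (.leaf (77, 2241))) (.node (.leaf (77, 2467)) (.leaf (77, 3265)))) (.node (.node (.leaf (7, 1113)) (.leaf (62, 2753))) (.node (.leaf (0, 0)) (.leaf (0, 3777))))) (.node (.node (.node (.leaf (5, 449)) (.leaf (0, 2497))) (.node (.leaf (73, 1383)) (.leaf (66, 3521)))) (.node (.node (.leaf (0, 961)) (.leaf (0, 3009))) (.node (.leaf (0, 1985)) (.leaf (77, 4033))))))))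

def twoVia5 : Janko.Tree (ℕ × ℕ) :=
  (.node (.node (.node (.node (.node (.node (.node (.leaf (0, 0)) (.leaf (5, 0))) (.leaf (0, 0))) (.node (.leaf (0, 0)) (.leaf (0, 0)))) (.node (.node (.leaf (0, 0)) (.leaf (0, 0))) (.node (.leaf (67, 1003)) (.leaf (0, 0))))) (.node (.node (.node (.leaf (1, 257)) (.leaf (67, 2305))) (.node (.leaf (0, 0)) (.leaf (0, 0)))) (.node (.node (.leaf (0, 0)) (.leaf (1, 2817))) (.node (.leaf (0, 0)) (.leaf (1, 3841)))))) (.node (.node (.node (.node (.leaf (0, 0)) (.leaf (1, 2177))) (.node (.leaf (0, 0)) (.leaf (1, 3749)))) (.node (.node (.leaf (0, 0)) (.leaf (67, 1962))) (.node (.leaf (0, 0)) (.leaf (66, 3926))))) (.node (.node (.node (.leaf (77, 1576)) (.leaf (1, 2433))) (.node (.leaf (1, 1409)) (.leaf (1, 3457)))) (.node (.node (.leaf (0, 0)) (.leaf (1, 2945))) (.node (.leaf (71, 1921)) (.leaf (28, 3969))))))) (.node (.node (.node (.node (.node (.leaf (67, 126)) (.leaf (77, 2846))) (.node (.leaf (77, 3034)) (.leaf (77, 3701)))) (.node (.node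 (.leaf (0, 0)) (.leaf (1, 2625))) (.node (.leaf (77, 2294)) (.leaf (1, 3649))))) (.node (.node (.node (.leaf (1, 321)) (.leaf (1, 2369))) (.node (.leaf (67, 863)) (.leaf (0, 0)))) (.node (.node (.leaf (1, 833)) (.leaf (1, 2881))) (.node (.leaf (76, 1249)) (.leaf (77, 3627)))))) (.node (.node (.node (.node (.leaf (1, 193)) (.leaf (75, 646))) (.node (.leaf (0, 0)) (.leaf (10, 3265)))) (.node (.node (.leaf (1, 1111)) (.leaf (1, 2753))) (.node (.leaf (1, 1729)) (.leaf (10, 3777))))) (.node (.node (.node (.leaf (0, 0)) (.leaf (0, 0))) (.node (.leaf (1, 2144)) (.leaf (77, 2948)))) (.node (.node (.leaf (0, 0)) (.leaf (77, 3601))) (.node (.leaf (77, 2680)) (.leaf (77, 3806))))))))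

def twoVia6 : Janko.Tree (ℕ × ℕ) :=
  (.node (.node (.node (.node (.node (.node (.node (.leaf (0, 0)) (.leaf (6, 0))) (.leaf (2, 2049))) (.node (.leaf (24, 1566)) (.leaf (2, 3073)))) (.node (.node (.leaf (2, 513)) (.leaf (6, 2561))) (.node (.leaf (2, 1537)) (.leaf (2, 3585))))) (.node (.node (.node (.leaf (0, 0)) (.leaf (2, 2305))) (.node (.leaf (2, 1281)) (.leaf (76, 827)))) (.node (.node (.leaf (2, 1198)) (.leaf (0, 0))) (.node (.leaf (62, 2499)) (.leaf (77, 2633)))))) (.node (.node (.node (.node (.leaf (2, 129)) (.leaf (0, 0))) (.node (.leaf (2, 1153)) (.leaf (28, 3741)))) (.node (.node (.leaf (62, 394)) (.leaf (7, 3367))) (.node (.leaf (6, 1665)) (.leaf (76, 1179))))) (.node (.node (.node (.leaf (6, 385)) (.leaf (75, 571))) (.node (.leaf (0, 0)) (.leaf (0, 0)))) (.node (.node (.leaf (2, 1396)) (.leaf (70, 2822))) (.node (.leaf (59, 513)) (.leaf (6, 3969))))))) (.node (.node (.node (.node (.node (.leaf (7, 132)) (.leaf (7, 2839))) (.node (.leaf (0, 0)) (.leaf (2,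 3137)))) (.node (.node (.leaf (0, 0)) (.leaf (77, 2566))) (.node (.leaf (2, 2286)) (.leaf (0, 0))))) (.node (.node (.node (.leaf (0, 0)) (.leaf (77, 3606))) (.node (.leaf (7, 1990)) (.leaf (2, 3393)))) (.node (.node (.leaf (0, 0)) (.leaf (0, 0))) (.node (.leaf (0, 0)) (.leaf (6, 3905)))))) (.node (.node (.node (.node (.leaf (77, 2896)) (.leaf (6, 2241))) (.node (.leaf (6, 1217)) (.leaf (75, 3568)))) (.node (.node (.leaf (7, 1116)) (.leaf (24, 2752))) (.node (.leaf (77, 3091)) (.leaf (70, 3774))))) (.node (.node (.node (.leaf (74, 3664)) (.leaf (0, 0))) (.node (.leaf (2, 2147)) (.leaf (77, 3975)))) (.node (.node (.leaf (0, 0)) (.leaf (0, 0))) (.node (.leaf (24, 2704)) (.leaf (2, 4091))))))))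

def twoVia7 : Janko.Tree (ℕ × ℕ) :=
  (.node (.node (.node (.node (.node (.node (.node (.leaf (0, 0)) (.leaf (7, 2712))) (.leaf (71, 3350))) (.node (.leaf (0, 0)) (.leaf (0, 0)))) (.node (.node (.leaf (0, 0)) (.leaf (3, 2561))) (.node (.leaf (3, 1537)) (.leaf (0, 0))))) (.node (.node (.node (.leaf (0, 0)) (.leaf (0, 0))) (.node (.leaf (0, 0)) (.leaf (3, 3329)))) (.node (.node (.leaf (3, 769)) (.leaf (0, 0))) (.node (.leaf (61, 2497)) (.leaf (75, 961)))))) (.node (.node (.node (.node (.leaf (0, 0)) (.leaf (0, 0))) (.node (.leaf (77, 1729)) (.leaf (3, 3201)))) (.node (.node (.leaf (3, 641)) (.leaf (3, 2689))) (.node (.leaf (3, 1665)) (.leaf (3, 3713))))) (.node (.node (.node (.leaf (3, 385)) (.leaf (0, 0))) (.node (.leaf (0, 0)) (.leaf (0, 0)))) (.node (.node (.leaf (3, 897)) (.leaf (3, 3479))) (.node (.leaf (3, 1921)) (.leaf (3, 3969))))))) (.node (.node (.node (.node (.node (.leaf (3, 65)) (.leaf (3, 2113))) (.node (.leaf (0, 0)) (.leaf (0, 0)))) (.node (.node (.leaf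 (75, 831)) (.leaf (77, 2000))) (.node (.leaf (3, 1601)) (.leaf (0, 0))))) (.node (.node (.node (.leaf (73, 407)) (.leaf (70, 2637))) (.node (.leaf (3, 1345)) (.leaf (3, 3393)))) (.node (.node (.leaf (0, 0)) (.leaf (59, 2747))) (.node (.leaf (0, 0)) (.leaf (3, 3905)))))) (.node (.node (.node (.node (.leaf (0, 0)) (.leaf (3, 2241))) (.node (.leaf (3, 1217)) (.leaf (3, 3265)))) (.node (.node (.leaf (3, 705)) (.leaf (59, 1498))) (.node (.leaf (71, 1505)) (.leaf (3, 3777))))) (.node (.node (.node (.leaf (3, 449)) (.leaf (61, 1793))) (.node (.leaf (3, 1473)) (.leaf (3, 3521)))) (.node (.node (.leaf (0, 0)) (.leaf (0, 0))) (.node (.leaf (0, 0)) (.leaf (3, 4033))))))))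

def twoVia8 : Janko.Tree (ℕ × ℕ) :=
  (.node (.node (.node (.node (.node (.node (.node (.leaf (0, 0)) (.leaf (7, 0))) (.leaf (11, 3649))) (.node (.leaf (0, 1569)) (.leaf (77, 3870)))) (.node (.node (.leaf (75, 2643)) (.leaf (74, 2562))) (.node (.leaf (0, 1538)) (.leaf (77, 4050))))) (.node (.node (.node (.leaf (5, 258)) (.leaf (7, 3017))) (.node (.leaf (60, 1910)) (.leaf (0, 3330)))) (.node (.node (.leaf (0, 0)) (.leaf (0, 2818))) (.node (.leaf (75, 276)) (.leaf (77, 3941)))))) (.node (.node (.node (.node (.leaf (0, 130)) (.leaf (77, 2178))) (.node (.leaf (75, 3657)) (.leaf (57, 2505)))) (.node (.node (.leaf (59, 640)) (.leaf (5, 2690))) (.node (.leaf (50, 1666)) (.leaf (66, 3714))))) (.node (.node (.node (.leaf (0, 0)) (.leaf (5, 2434))) (.node (.leaf (0, 1410)) (.leaf (0, 3458)))) (.node (.node (.leaf (0, 0)) (.leaf (0, 2946))) (.node (.leaf (0, 0)) (.leaf (0, 3970))))))) (.node (.node (.node (.node (.node (.leaf (72, 69)) (.leaf (0, 0))) (.node (.leaf (0, 1655))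 (.leaf (73, 3139)))) (.node (.node (.leaf (0, 929)) (.leaf (54, 2626))) (.node (.leaf (0, 0)) (.leaf (0, 3650))))) (.node (.node (.node (.leaf (0, 322)) (.leaf (4, 2370))) (.node (.leaf (4, 1346)) (.leaf (5, 3394)))) (.node (.node (.leaf (4, 834)) (.leaf (43, 2033))) (.node (.leaf (0, 2573)) (.leaf (7, 3906)))))) (.node (.node (.node (.node (.leaf (5, 194)) (.leaf (0, 2242))) (.node (.leaf (0, 1218)) (.leaf (4, 3266)))) (.node (.node (.leaf (0, 0)) (.leaf (57, 877))) (.node (.leaf (75, 3097)) (.leaf (4, 3778))))) (.node (.node (.node (.leaf (77, 450)) (.leaf (0, 3203))) (.node (.leaf (4, 2878)) (.leaf (0, 0)))) (.node (.node (.leaf (0, 1480)) (.leaf (0, 3609))) (.node (.leaf (0, 2706)) (.leaf (4, 4034))))))))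

def twoVia9 : Janko.Tree (ℕ × ℕ) :=
  (.node (.node (.node (.node (.node (.node (.node (.leaf (1, 2)) (.leaf (8, 0))) (.leaf (1, 2050))) (.node (.leaf (0, 0)) (.leaf (67, 1020)))) (.node (.node (.leaf (1, 514)) (.leaf (1, 2562))) (.node (.leaf (77, 1003)) (.leaf (67, 3073))))) (.node (.node (.node (.leaf (0, 0)) (.leaf (1, 3016))) (.node (.leaf (67, 1900)) (.leaf (0, 0)))) (.node (.node (.leaf (1, 770)) (.leaf (0, 0))) (.node (.leaf (1, 1794)) (.leaf (67, 2651)))))) (.node (.node (.node (.node (.leaf (0, 0)) (.leaf (1, 2178))) (.node (.leaf (1, 1154)) (.leaf (1, 3202)))) (.node (.node (.leaf (0, 0)) (.leaf (0, 0))) (.node (.leaf (1, 1666)) (.leaf (1, 3714))))) (.node (.node (.node (.leaf (1, 386)) (.leaf (0, 0))) (.node (.leaf (0, 0)) (.leaf (0, 0)))) (.node (.node (.leaf (1, 898)) (.leaf (77, 3538))) (.node (.leaf (1, 1922)) (.leaf (77, 1666))))))) (.node (.node (.node (.node (.node (.leaf (1, 66)) (.leaf (1, 2114))) (.node (.leaf (0, 0)) (.leaf (0, 0)))) (.node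 (.node (.leaf (0, 0)) (.leaf (0, 0))) (.node (.leaf (1, 1602)) (.leaf (0, 0))))) (.node (.node (.node (.leaf (0, 0)) (.leaf (0, 0))) (.node (.leaf (67, 3384)) (.leaf (77, 3678)))) (.node (.node (.leaf (0, 0)) (.leaf (0, 0))) (.node (.leaf (0, 0)) (.leaf (77, 3456)))))) (.node (.node (.node (.node (.leaf (0, 0)) (.leaf (0, 0))) (.node (.leaf (0, 0)) (.leaf (77, 1353)))) (.node (.node (.leaf (1, 706)) (.leaf (77, 876))) (.node (.leaf (1, 1730)) (.leaf (38, 3771))))) (.node (.node (.node (.leaf (0, 0)) (.leaf (77, 1956))) (.node (.leaf (1, 1474)) (.leaf (1, 3522)))) (.node (.node (.leaf (0, 0)) (.leaf (67, 1606))) (.node (.leaf (0, 0)) (.leaf (39, 3772))))))))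

def twoVia10 : Janko.Tree (ℕ × ℕ) :=
  (.node (.node (.node (.node (.node (.node (.node (.leaf (0, 0)) (.leaf (9, 0))) (.leaf (0, 0))) (.node (.leaf (6, 1026)) (.leaf (2, 3644)))) (.node (.node (.leaf (2, 829)) (.leaf (74, 1231))) (.node (.leaf (24, 2224)) (.leaf (2, 3963))))) (.node (.node (.node (.leaf (59, 31)) (.leaf (7, 3019))) (.node (.leaf (2, 1905)) (.leaf (71, 1687)))) (.node (.node (.leaf (77, 1768)) (.leaf (6, 2827))) (.node (.leaf (62, 295)) (.leaf (2, 3842)))))) (.node (.node (.node (.node (.leaf (7, 245)) (.leaf (76, 972))) (.node (.leaf (77, 1034)) (.leaf (0, 0)))) (.node (.node (.leaf (6, 642)) (.leaf (2, 3367))) (.node (.leaf (0, 0)) (.leaf (71, 3270))))) (.node (.node (.node (.leaf (0, 0)) (.leaf (54, 1740))) (.node (.leaf (6, 1410)) (.leaf (76, 2080)))) (.node (.node (.leaf (0, 0)) (.leaf (6, 2946))) (.node (.leaf (0, 0)) (.leaf (6, 3970))))))) (.node (.node (.node (.node (.node (.leaf (0, 0)) (.leaf (6, 3492))) (.node (.leaf (2, 1090)) (.leaf (2,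 3703)))) (.node (.node (.leaf (2, 578)) (.leaf (6, 2626))) (.node (.leaf (61, 3221)) (.leaf (77, 2407))))) (.node (.node (.node (.leaf (13, 333)) (.leaf (2, 2370))) (.node (.leaf (2, 1346)) (.leaf (75, 1473)))) (.node (.node (.leaf (2, 834)) (.leaf (2, 2882))) (.node (.leaf (2, 1858)) (.leaf (2, 3906)))))) (.node (.node (.node (.node (.leaf (76, 46)) (.leaf (6, 2242))) (.node (.leaf (0, 0)) (.leaf (2, 3266)))) (.node (.node (.leaf (6, 1689)) (.leaf (2, 2754))) (.node (.leaf (0, 0)) (.leaf (2, 3778))))) (.node (.node (.node (.leaf (6, 450)) (.leaf (2, 2498))) (.node (.leaf (0, 0)) (.leaf (0, 0)))) (.node (.node (.leaf (2, 962)) (.leaf (2, 3010))) (.node (.leaf (6, 1986)) (.leaf (2, 4034))))))))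

def twoVia11 : Janko.Tree (ℕ × ℕ) :=
  (.node (.node (.node (.node (.node (.node (.node (.leaf (0, 0)) (.leaf (11, 1811))) (.leaf (77, 3653))) (.node (.leaf (3, 1026)) (.leaf (3, 3074)))) (.node (.node (.leaf (3, 514)) (.leaf (0, 0))) (.node (.leaf (0, 0)) (.leaf (3, 3586))))) (.node (.node (.node (.leaf (3, 258)) (.leaf (3, 2306))) (.node (.leaf (3, 1282)) (.leaf (3, 3330)))) (.node (.node (.leaf (75, 146)) (.leaf (0, 0))) (.node (.leaf (0, 0)) (.leaf (0, 0)))))) (.node (.node (.node (.node (.leaf (3, 130)) (.leaf (77, 625))) (.node (.leaf (3, 1154)) (.leaf (44, 3747)))) (.node (.node (.leaf (3, 642)) (.leaf (3, 2690))) (.node (.leaf (59, 1673)) (.leaf (67, 2570))))) (.node (.node (.node (.leaf (0, 0)) (.leaf (3, 2434))) (.node (.leaf (3, 1410)) (.leaf (25, 3584)))) (.node (.node (.leaf (0, 0)) (.leaf (3, 2946))) (.node (.leaf (0, 0)) (.leaf (3, 3970))))))) (.node (.node (.node (.node (.node (.leaf (0, 0)) (.leaf (0, 0))) (.node (.leaf (0, 0)) (.leaf (3, 3138))))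 (.node (.node (.leaf (77, 933)) (.leaf (3, 2626))) (.node (.leaf (56, 2290)) (.leaf (75, 3087))))) (.node (.node (.node (.leaf (0, 0)) (.leaf (3, 2731))) (.node (.leaf (0, 0)) (.leaf (3, 3394)))) (.node (.node (.leaf (0, 0)) (.leaf (71, 3357))) (.node (.leaf (0, 0)) (.leaf (3, 3906)))))) (.node (.node (.node (.node (.leaf (3, 194)) (.leaf (3, 2242))) (.node (.leaf (0, 0)) (.leaf (7, 1852)))) (.node (.node (.leaf (0, 0)) (.leaf (45, 1378))) (.node (.leaf (62, 731)) (.leaf (69, 3636))))) (.node (.node (.node (.leaf (3, 450)) (.leaf (0, 0))) (.node (.leaf (0, 0)) (.leaf (0, 0)))) (.node (.node (.leaf (0, 0)) (.leaf (0, 0))) (.node (.leaf (3, 1986)) (.leaf (77, 2634))))))))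

def twoVia12 : Janko.Tree (ℕ × ℕ) :=
  (.node (.node (.node (.node (.node (.node (.node (.leaf (0, 6)) (.leaf (12, 3126))) (.leaf (4, 2051))) (.node (.leaf (77, 1027)) (.leaf (77, 2736)))) (.node (.node (.leaf (0, 0)) (.leaf (0, 3232))) (.node (.leaf (0, 2226)) (.leaf (77, 3587))))) (.node (.node (.node (.leaf (0, 0)) (.leaf (0, 2307))) (.node (.leaf (4, 2623)) (.leaf (65, 2815)))) (.node (.node (.leaf (0, 771)) (.leaf (17, 2819))) (.node (.leaf (59, 1277)) (.leaf (77, 3843)))))) (.node (.node (.node (.node (.leaf (0, 0)) (.leaf (0, 2179))) (.node (.leaf (14, 1155)) (.leaf (4, 3203)))) (.node (.node (.leaf (0, 0)) (.leaf (61, 3705))) (.node (.leaf (0, 1667)) (.leaf (74, 1179))))) (.node (.node (.node (.leaf (73, 2243)) (.leaf (0, 0))) (.node (.leaf (62, 3650)) (.leaf (77, 3289)))) (.node (.node (.leaf (0, 899)) (.leaf (7, 2947))) (.node (.leaf (0, 1923)) (.leaf (77, 3971))))))) (.node (.node (.node (.node (.node (.leaf (4, 67)) (.leaf (77, 3480))) (.node (.leaf (7,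 1655)) (.leaf (73, 2259)))) (.node (.node (.leaf (60, 943)) (.leaf (73, 2627))) (.node (.leaf (77, 2451)) (.leaf (74, 3651))))) (.node (.node (.node (.leaf (0, 541)) (.leaf (0, 2371))) (.node (.leaf (0, 1347)) (.leaf (0, 3395)))) (.node (.node (.leaf (0, 835)) (.leaf (46, 3650))) (.node (.leaf (7, 2573)) (.leaf (61, 1546)))))) (.node (.node (.node (.node (.leaf (77, 2819)) (.leaf (73, 2238))) (.node (.leaf (0, 1816)) (.leaf (77, 3267)))) (.node (.node (.leaf (5, 707)) (.leaf (77, 553))) (.node (.leaf (4, 1731)) (.leaf (77, 3779))))) (.node (.node (.node (.leaf (0, 0)) (.leaf (61, 3747))) (.node (.leaf (73, 2881)) (.leaf (74, 3523)))) (.node (.node (.leaf (7, 1480)) (.leaf (7, 3609))) (.node (.leaf (4, 1987)) (.leaf (77, 4077))))))))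

def twoVia13 : Janko.Tree (ℕ × ℕ) :=
  (.node (.node (.node (.node (.node (.node (.node (.leaf (0, 0)) (.leaf (13, 3299))) (.leaf (0, 0))) (.node (.leaf (1, 1027)) (.leaf (1, 3075)))) (.node (.node (.leaf (1, 515)) (.leaf (0, 0))) (.node (.leaf (0, 0)) (.leaf (1, 3587))))) (.node (.node (.node (.leaf (1, 259)) (.leaf (77, 1883))) (.node (.leaf (1, 1283)) (.leaf (1, 3331)))) (.node (.node (.leaf (0, 0)) (.leaf (9, 2819))) (.node (.leaf (0, 0)) (.leaf (77, 1988)))))) (.node (.node (.node (.node (.leaf (1, 131)) (.leaf (0, 0))) (.node (.leaf (1, 1155)) (.leaf (77, 3895)))) (.node (.node (.leaf (1, 643)) (.leaf (1, 2691))) (.node (.leaf (10, 3971)) (.leaf (1, 3715))))) (.node (.node (.node (.leaf (0, 0)) (.leaf (1, 2435))) (.node (.leaf (1, 1411)) (.leaf (71, 3700)))) (.node (.node (.leaf (0, 0)) (.leaf (1, 2947))) (.node (.leaf (0, 0)) (.leaf (1, 3971))))))) (.node (.node (.node (.node (.node (.leaf (0, 0)) (.leaf (0, 0))) (.node (.leaf (1, 1654)) (.leaf (1, 3139))))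 (.node (.node (.leaf (1, 927)) (.leaf (1, 2627))) (.node (.leaf (0, 0)) (.leaf (1, 3976))))) (.node (.node (.node (.leaf (77, 1389)) (.leaf (77, 3925))) (.node (.leaf (0, 0)) (.leaf (77, 2730)))) (.node (.node (.leaf (67, 3236)) (.leaf (0, 0))) (.node (.leaf (67, 1251)) (.leaf (77, 1676)))))) (.node (.node (.node (.node (.leaf (0, 0)) (.leaf (1, 2243))) (.node (.leaf (0, 0)) (.leaf (1, 3267)))) (.node (.node (.leaf (0, 0)) (.leaf (1, 2755))) (.node (.leaf (0, 0)) (.leaf (67, 3233))))) (.node (.node (.node (.leaf (1, 451)) (.leaf (10, 2499))) (.node (.leaf (0, 0)) (.leaf (1, 3523)))) (.node (.node (.leaf (1, 1478)) (.leaf (74, 1091))) (.node (.leaf (77, 2776)) (.leaf (68, 4032))))))))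

def twoVia14 : Janko.Tree (ℕ × ℕ) :=
  (.node (.node (.node (.node (.node (.node (.node (.leaf (2, 3)) (.leaf (14, 544))) (.leaf (2, 2051))) (.node (.leaf (74, 379)) (.leaf (2, 3643)))) (.node (.node (.leaf (0, 0)) (.leaf (6, 2563))) (.node (.leaf (6, 1539)) (.leaf (2, 3962))))) (.node (.node (.node (.leaf (77, 723)) (.leaf (54, 1618))) (.node (.leaf (0, 0)) (.leaf (77, 365)))) (.node (.node (.leaf (77, 442)) (.leaf (2, 2819))) (.node (.leaf (6, 1795)) (.leaf (2, 4060)))))) (.node (.node (.node (.node (.leaf (55, 435)) (.leaf (77, 613))) (.node (.leaf (0, 0)) (.leaf (2, 3203)))) (.node (.node (.leaf (0, 0)) (.leaf (77, 1170))) (.node (.leaf (7, 1100)) (.leaf (77, 1767))))) (.node (.node (.node (.leaf (6, 387)) (.leaf (71, 2241))) (.node (.leaf (0, 0)) (.leaf (2, 3459)))) (.node (.node (.leaf (0, 0)) (.leaf (0, 0))) (.node (.leaf (6, 2283)) (.leaf (54, 3207))))))) (.node (.node (.node (.node (.node (.leaf (2, 67)) (.leaf (2, 2115))) (.node (.leaf (7, 1658)) (.leaf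 (0, 0)))) (.node (.node (.leaf (77, 2828)) (.leaf (0, 0))) (.node (.leaf (2, 1603)) (.leaf (2, 3651))))) (.node (.node (.node (.leaf (6, 323)) (.leaf (6, 2371))) (.node (.leaf (7, 1991)) (.leaf (77, 4013)))) (.node (.node (.leaf (7, 1307)) (.leaf (2, 2883))) (.node (.leaf (7, 2576)) (.leaf (6, 3907)))))) (.node (.node (.node (.node (.leaf (6, 195)) (.leaf (0, 0))) (.node (.leaf (2, 1219)) (.leaf (77, 1868)))) (.node (.node (.leaf (77, 244)) (.leaf (59, 1106))) (.node (.leaf (2, 1731)) (.leaf (6, 3779))))) (.node (.node (.node (.leaf (0, 0)) (.leaf (2, 3204))) (.node (.leaf (52, 2871)) (.leaf (72, 4066)))) (.node (.node (.leaf (7, 1483)) (.leaf (7, 3611))) (.node (.leaf (2, 1987)) (.leaf (6, 4035))))))))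

def twoVia15 : Janko.Tree (ℕ × ℕ) :=
  (.node (.node (.node (.node (.node (.node (.node (.leaf (0, 0)) (.leaf (15, 1735))) (.leaf (77, 3651))) (.node (.leaf (0, 0)) (.leaf (75, 3119)))) (.node (.node (.leaf (0, 0)) (.leaf (3, 2563))) (.node (.leaf (3, 1539)) (.leaf (75, 2484))))) (.node (.node (.node (.leaf (71, 385)) (.leaf (3, 2307))) (.node (.leaf (0, 0)) (.leaf (77, 2893)))) (.node (.node (.leaf (70, 1626)) (.leaf (75, 2115))) (.node (.leaf (3, 1795)) (.leaf (3, 3843)))))) (.node (.node (.node (.node (.leaf (0, 0)) (.leaf (0, 0))) (.node (.leaf (0, 0)) (.leaf (66, 1657)))) (.node (.node (.leaf (0, 0)) (.leaf (77, 3549))) (.node (.leaf (0, 0)) (.leaf (77, 753))))) (.node (.node (.node (.leaf (3, 387)) (.leaf (67, 1553))) (.node (.leaf (56, 2405)) (.leaf (77, 2978)))) (.node (.node (.leaf (77, 1404)) (.leaf (59, 1543))) (.node (.leaf (0, 0)) (.leaf (3, 3971))))))) (.node (.node (.node (.node (.node (.leaf (0, 0)) (.leaf (0, 0))) (.node (.leaf (3, 1091)) (.leaf (70,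 2989)))) (.node (.node (.leaf (3, 579)) (.leaf (52, 1265))) (.node (.leaf (0, 0)) (.leaf (75, 3210))))) (.node (.node (.node (.leaf (3, 323)) (.leaf (3, 2371))) (.node (.leaf (3, 1347)) (.leaf (77, 2508)))) (.node (.node (.leaf (3, 835)) (.leaf (77, 1725))) (.node (.leaf (3, 1859)) (.leaf (3, 3907)))))) (.node (.node (.node (.node (.leaf (3, 195)) (.leaf (73, 3510))) (.node (.leaf (0, 0)) (.leaf (77, 1398)))) (.node (.node (.leaf (3, 707)) (.leaf (54, 1378))) (.node (.leaf (75, 451)) (.leaf (3, 3779))))) (.node (.node (.node (.leaf (0, 0)) (.leaf (3, 2499))) (.node (.leaf (3, 1475)) (.leaf (0, 0)))) (.node (.node (.leaf (3, 963)) (.leaf (3, 3011))) (.node (.leaf (0, 0)) (.leaf (3, 4035))))))))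

def twoVia16 : Janko.Tree (ℕ × ℕ) :=
  (.node (.node (.node (.node (.node (.node (.node (.leaf (7, 6)) (.leaf (10, 0))) (.leaf (0, 0))) (.node (.leaf (59, 1468)) (.leaf (4, 3076)))) (.node (.node (.leaf (0, 516)) (.leaf (77, 2553))) (.node (.leaf (0, 0)) (.leaf (5, 3588))))) (.node (.node (.node (.leaf (0, 260)) (.leaf (72, 1060))) (.node (.leaf (7, 1889)) (.leaf (75, 827)))) (.node (.node (.leaf (76, 2154)) (.leaf (0, 3478))) (.node (.leaf (0, 0)) (.leaf (4, 3844)))))) (.node (.node (.node (.node (.leaf (7, 63)) (.leaf (72, 2182))) (.node (.leaf (4, 1156)) (.leaf (77, 3204)))) (.node (.node (.leaf (0, 644)) (.leaf (62, 1310))) (.node (.leaf (0, 2359)) (.leaf (75, 1182))))) (.node (.node (.node (.leaf (77, 807)) (.leaf (5, 2436))) (.node (.leaf (0, 1412)) (.leaf (73, 4071)))) (.node (.node (.leaf (0, 1402)) (.leaf (0, 2948))) (.node (.leaf (77, 2287)) (.leaf (77, 3972))))))) (.node (.node (.node (.node (.node (.leaf (0, 68)) (.leaf (5, 2116))) (.node (.leaf (0, 0))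 (.leaf (0, 0)))) (.node (.node (.leaf (0, 580)) (.leaf (5, 2628))) (.node (.leaf (54, 1626)) (.leaf (61, 3652))))) (.node (.node (.node (.leaf (0, 0)) (.leaf (73, 1114))) (.node (.leaf (0, 0)) (.leaf (77, 2009)))) (.node (.node (.leaf (0, 0)) (.leaf (49, 3755))) (.node (.leaf (4, 1860)) (.leaf (0, 3908)))))) (.node (.node (.node (.node (.leaf (0, 0)) (.leaf (0, 2244))) (.node (.leaf (7, 1816)) (.leaf (7, 3268)))) (.node (.node (.leaf (73, 728)) (.leaf (62, 2656))) (.node (.leaf (0, 0)) (.leaf (12, 1837))))) (.node (.node (.node (.leaf (0, 452)) (.leaf (4, 2503))) (.node (.leaf (0, 1476)) (.leaf (77, 2199)))) (.node (.node (.leaf (72, 2093)) (.leaf (62, 3712))) (.node (.leaf (0, 1988)) (.leaf (0, 4036))))))))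

def twoVia17 : Janko.Tree (ℕ × ℕ) :=
  (.node (.node (.node (.node (.node (.node (.node (.leaf (0, 0)) (.leaf (17, 3664))) (.leaf (1, 2052))) (.node (.leaf (0, 0)) (.leaf (77, 3489)))) (.node (.node (.leaf (0, 0)) (.leaf (1, 2564))) (.node (.leaf (1, 1540)) (.leaf (0, 0))))) (.node (.node (.node (.leaf (0, 0)) (.leaf (1, 2308))) (.node (.leaf (0, 0)) (.leaf (1, 3332)))) (.node (.node (.leaf (0, 0)) (.leaf (0, 0))) (.node (.leaf (1, 1796)) (.leaf (17, 3337)))))) (.node (.node (.node (.node (.leaf (74, 1642)) (.leaf (9, 2180))) (.node (.leaf (0, 0)) (.leaf (0, 0)))) (.node (.node (.leaf (0, 0)) (.leaf (0, 0))) (.node (.leaf (69, 1942)) (.leaf (77, 3264))))) (.node (.node (.node (.leaf (1, 388)) (.leaf (0, 0))) (.node (.leaf (0, 0)) (.leaf (1, 3910)))) (.node (.node (.leaf (0, 0)) (.leaf (77, 3224))) (.node (.leaf (1, 2643)) (.leaf (1, 3972))))))) (.node (.node (.node (.node (.node (.leaf (0, 0)) (.leaf (77, 2783))) (.node (.leaf (1, 1092)) (.leaf (1, 3140)))) (.node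 (.node (.leaf (0, 0)) (.leaf (0, 0))) (.node (.leaf (67, 2171)) (.leaf (77, 3532))))) (.node (.node (.node (.leaf (1, 324)) (.leaf (1, 2372))) (.node (.leaf (1, 1348)) (.leaf (1, 3396)))) (.node (.node (.leaf (1, 836)) (.leaf (20, 3211))) (.node (.leaf (67, 3806)) (.leaf (0, 0)))))) (.node (.node (.node (.node (.leaf (1, 196)) (.leaf (77, 1690))) (.node (.leaf (67, 779)) (.leaf (0, 0)))) (.node (.node (.leaf (1, 708)) (.leaf (1, 2756))) (.node (.leaf (1, 1732)) (.leaf (0, 0))))) (.node (.node (.node (.leaf (0, 0)) (.leaf (1, 2500))) (.node (.leaf (0, 0)) (.leaf (1, 3524)))) (.node (.node (.leaf (1, 964)) (.leaf (77, 3157))) (.node (.leaf (0, 0)) (.leaf (10, 4036))))))))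

def twoVia18 : Janko.Tree (ℕ × ℕ) :=
  (.node (.node (.node (.node (.node (.node (.node (.leaf (7, 12)) (.leaf (18, 3105))) (.leaf (32, 4080))) (.node (.leaf (6, 1028)) (.leaf (2, 3076)))) (.node (.node (.leaf (0, 0)) (.leaf (77, 1008))) (.node (.leaf (0, 0)) (.leaf (77, 2251))))) (.node (.node (.node (.leaf (77, 255)) (.leaf (75, 415))) (.node (.leaf (2, 1284)) (.leaf (74, 1916)))) (.node (.node (.leaf (72, 960)) (.leaf (77, 1439))) (.node (.leaf (0, 0)) (.leaf (2, 3844)))))) (.node (.node (.node (.node (.leaf (2, 132)) (.leaf (2, 2180))) (.node (.leaf (2, 1156)) (.leaf (6, 3204)))) (.node (.node (.leaf (0, 0)) (.leaf (76, 1308))) (.node (.leaf (7, 2359)) (.leaf (6, 3716))))) (.node (.node (.node (.leaf (0, 0)) (.leaf (77, 1162))) (.node (.leaf (24, 2058)) (.leaf (42, 808)))) (.node (.node (.leaf (2, 900)) (.leaf (45, 696))) (.node (.leaf (2, 1924)) (.leaf (62, 4021))))))) (.node (.node (.node (.node (.node (.leaf (7, 136)) (.leaf (2, 2843))) (.node (.leaf (6, 2350))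 (.leaf (0, 0)))) (.node (.node (.leaf (0, 0)) (.leaf (61, 816))) (.node (.leaf (2, 2296)) (.leaf (77, 3888))))) (.node (.node (.node (.leaf (0, 0)) (.leaf (0, 0))) (.node (.leaf (7, 1993)) (.leaf (77, 2028)))) (.node (.node (.leaf (55, 1944)) (.leaf (76, 1555))) (.node (.leaf (2, 1860)) (.leaf (66, 4038)))))) (.node (.node (.node (.node (.leaf (0, 0)) (.leaf (7, 1555))) (.node (.leaf (7, 1819)) (.leaf (6, 3268)))) (.node (.node (.leaf (77, 230)) (.leaf (69, 2693))) (.node (.leaf (23, 3102)) (.leaf (77, 1222))))) (.node (.node (.node (.leaf (0, 0)) (.leaf (0, 0))) (.node (.leaf (0, 0)) (.leaf (77, 2176)))) (.node (.node (.leaf (0, 0)) (.leaf (59, 3155))) (.node (.leaf (7, 2708)) (.leaf (70, 3234))))))))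

def twoVia19 : Janko.Tree (ℕ × ℕ) :=
  (.node (.node (.node (.node (.node (.node (.node (.leaf (3, 4)) (.leaf (11, 0))) (.leaf (71, 2522))) (.node (.leaf (3, 1028)) (.leaf (0, 0)))) (.node (.node (.leaf (0, 0)) (.leaf (0, 0))) (.node (.leaf (0, 0)) (.leaf (3, 3588))))) (.node (.node (.node (.leaf (65, 412)) (.leaf (0, 0))) (.node (.leaf (0, 0)) (.leaf (62, 3954)))) (.node (.node (.leaf (3, 772)) (.leaf (3, 2820))) (.node (.leaf (0, 0)) (.leaf (0, 0)))))) (.node (.node (.node (.node (.leaf (3, 132)) (.leaf (77, 622))) (.node (.leaf (0, 0)) (.leaf (3, 3204)))) (.node (.node (.leaf (0, 0)) (.leaf (3, 2692))) (.node (.leaf (3, 1668)) (.leaf (3, 3716))))) (.node (.node (.node (.leaf (67, 740)) (.leaf (3, 2436))) (.node (.leaf (0, 0)) (.leaf (3, 3460)))) (.node (.node (.leaf (77, 1406)) (.leaf (0, 0))) (.node (.leaf (60, 2285)) (.leaf (73, 4090))))))) (.node (.node (.node (.node (.node (.leaf (3, 68)) (.leaf (3, 2116))) (.node (.leaf (0, 0)) (.leaf (0, 0)))) (.node (.node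 (.leaf (75, 351)) (.leaf (3, 2628))) (.node (.leaf (3, 1604)) (.leaf (3, 3652))))) (.node (.node (.node (.leaf (0, 0)) (.leaf (73, 3390))) (.node (.leaf (0, 0)) (.leaf (73, 3549)))) (.node (.node (.leaf (0, 0)) (.leaf (3, 2884))) (.node (.leaf (0, 0)) (.leaf (61, 1167)))))) (.node (.node (.node (.node (.leaf (0, 0)) (.leaf (0, 0))) (.node (.leaf (3, 1220)) (.leaf (3, 3268)))) (.node (.node (.leaf (77, 1085)) (.leaf (6, 3371))) (.node (.leaf (75, 473)) (.leaf (3, 3780))))) (.node (.node (.node (.leaf (0, 0)) (.leaf (59, 1207))) (.node (.leaf (0, 0)) (.leaf (0, 0)))) (.node (.node (.leaf (77, 2817)) (.leaf (3, 3012))) (.node (.leaf (3, 1988)) (.leaf (3, 4036))))))))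

def twoVia20 : Janko.Tree (ℕ × ℕ) :=
  (.node (.node (.node (.node (.node (.node (.node (.leaf (0, 0)) (.leaf (20, 3080))) (.leaf (8, 3429))) (.node (.leaf (0, 0)) (.leaf (0, 3077)))) (.node (.node (.leaf (0, 834)) (.leaf (0, 2565))) (.node (.leaf (0, 1541)) (.leaf (77, 3589))))) (.node (.node (.node (.leaf (0, 261)) (.leaf (5, 2309))) (.node (.leaf (7, 1888)) (.leaf (75, 869)))) (.node (.node (.leaf (0, 0)) (.leaf (72, 1437))) (.node (.leaf (0, 1797)) (.leaf (0, 3845)))))) (.node (.node (.node (.node (.leaf (73, 871)) (.leaf (0, 2912))) (.node (.leaf (0, 1157)) (.leaf (4, 3205)))) (.node (.node (.leaf (0, 1021)) (.leaf (75, 728))) (.node (.leaf (5, 1669)) (.leaf (77, 3717))))) (.node (.node (.node (.leaf (0, 389)) (.leaf (73, 2981))) (.node (.leaf (0, 2068)) (.leaf (0, 3911)))) (.node (.node (.leaf (77, 1737)) (.leaf (0, 3570))) (.node (.leaf (0, 2646)) (.leaf (0, 3973))))))) (.node (.node (.node (.node (.node (.leaf (0, 0)) (.leaf (0, 0))) (.node (.leaf (0, 1093))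 (.leaf (0, 3141)))) (.node (.node (.leaf (0, 932)) (.leaf (77, 2627))) (.node (.leaf (59, 1607)) (.leaf (0, 3978))))) (.node (.node (.node (.leaf (59, 1112)) (.leaf (0, 2373))) (.node (.leaf (7, 862)) (.leaf (0, 0)))) (.node (.node (.leaf (7, 516)) (.leaf (74, 2760))) (.node (.leaf (0, 1861)) (.leaf (61, 3781)))))) (.node (.node (.node (.node (.leaf (0, 197)) (.leaf (0, 2968))) (.node (.leaf (49, 1221)) (.leaf (0, 0)))) (.node (.node (.leaf (66, 709)) (.leaf (43, 2022))) (.node (.leaf (8, 3981)) (.leaf (77, 2536))))) (.node (.node (.node (.leaf (0, 736)) (.leaf (4, 2501))) (.node (.leaf (0, 2152)) (.leaf (0, 3525)))) (.node (.node (.leaf (4, 965)) (.leaf (77, 2595))) (.node (.leaf (0, 0)) (.leaf (77, 3636))))))))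

def twoVia21 : Janko.Tree (ℕ × ℕ) :=
  (.node (.node (.node (.node (.node (.node (.node (.leaf (1, 5)) (.leaf (21, 3122))) (.leaf (0, 0))) (.node (.leaf (1, 1029)) (.leaf (0, 0)))) (.node (.node (.leaf (0, 0)) (.leaf (77, 1852))) (.node (.leaf (73, 2230)) (.leaf (1, 3589))))) (.node (.node (.node (.leaf (0, 0)) (.leaf (0, 0))) (.node (.leaf (0, 0)) (.leaf (1, 3333)))) (.node (.node (.leaf (1, 773)) (.leaf (1, 2821))) (.node (.leaf (0, 0)) (.leaf (1, 3997)))))) (.node (.node (.node (.node (.leaf (0, 0)) (.leaf (0, 0))) (.node (.leaf (0, 0)) (.leaf (77, 2442)))) (.node (.node (.leaf (0, 0)) (.leaf (1, 2693))) (.node (.leaf (0, 0)) (.leaf (1, 3717))))) (.node (.node (.node (.leaf (0, 0)) (.leaf (1, 2437))) (.node (.leaf (71, 586)) (.leaf (1, 3461)))) (.node (.node (.leaf (1, 1400)) (.leaf (67, 3479))) (.node (.leaf (77, 3242)) (.leaf (77, 4054))))))) (.node (.node (.node (.node (.node (.leaf (1, 69)) (.leaf (1, 2117))) (.node (.leaf (76, 692)) (.leaf (0, 0)))) (.node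 (.node (.leaf (0, 0)) (.leaf (1, 2629))) (.node (.leaf (1, 1605)) (.leaf (1, 3653))))) (.node (.node (.node (.leaf (0, 0)) (.leaf (77, 3901))) (.node (.leaf (67, 865)) (.leaf (1, 3397)))) (.node (.node (.leaf (77, 2659)) (.leaf (1, 2885))) (.node (.leaf (0, 0)) (.leaf (71, 3481)))))) (.node (.node (.node (.node (.leaf (0, 0)) (.leaf (60, 3642))) (.node (.leaf (1, 1221)) (.leaf (1, 3269)))) (.node (.node (.leaf (1, 709)) (.leaf (0, 0))) (.node (.leaf (0, 0)) (.leaf (1, 3781))))) (.node (.node (.node (.leaf (0, 0)) (.leaf (77, 3134))) (.node (.leaf (0, 0)) (.leaf (77, 2891)))) (.node (.node (.leaf (0, 0)) (.leaf (1, 3013))) (.node (.leaf (1, 1989)) (.leaf (71, 4036))))))))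

def twoVia22 : Janko.Tree (ℕ × ℕ) :=
  (.node (.node (.node (.node (.node (.node (.node (.leaf (0, 0)) (.leaf (22, 1221))) (.leaf (2, 2053))) (.node (.leaf (0, 0)) (.leaf (7, 3645)))) (.node (.node (.leaf (2, 517)) (.leaf (0, 0))) (.node (.leaf (0, 0)) (.leaf (13, 2975))))) (.node (.node (.node (.leaf (77, 3102)) (.leaf (76, 408))) (.node (.leaf (2, 1909)) (.leaf (70, 2648)))) (.node (.node (.leaf (0, 0)) (.leaf (46, 2103))) (.node (.leaf (0, 0)) (.leaf (7, 4061)))))) (.node (.node (.node (.node (.leaf (2, 133)) (.leaf (77, 981))) (.node (.leaf (7, 1736)) (.leaf (2, 3205)))) (.node (.node (.leaf (2, 645)) (.leaf (0, 0))) (.node (.leaf (2, 2359)) (.leaf (70, 3027))))) (.node (.node (.node (.leaf (77, 354)) (.leaf (77, 608))) (.node (.leaf (77, 2768)) (.leaf (77, 772)))) (.node (.node (.leaf (62, 188)) (.leaf (71, 3567))) (.node (.leaf (77, 2292)) (.leaf (6, 3973))))))) (.node (.node (.node (.node (.node (.leaf (55, 67)) (.leaf (0, 0))) (.node (.leaf (0, 0)) (.leaf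 (46, 3768)))) (.node (.node (.leaf (2, 581)) (.leaf (71, 3917))) (.node (.leaf (77, 1607)) (.leaf (0, 0))))) (.node (.node (.node (.leaf (6, 325)) (.leaf (44, 764))) (.node (.leaf (2, 1349)) (.leaf (77, 3669)))) (.node (.node (.leaf (2, 837)) (.leaf (77, 3887))) (.node (.leaf (7, 2577)) (.leaf (2, 3909)))))) (.node (.node (.node (.node (.leaf (0, 0)) (.leaf (7, 2968))) (.node (.leaf (0, 0)) (.leaf (70, 3272)))) (.node (.node (.leaf (77, 147)) (.leaf (2, 2757))) (.node (.leaf (2, 1733)) (.leaf (77, 3935))))) (.node (.node (.node (.leaf (2, 453)) (.leaf (2, 2501))) (.node (.leaf (2, 1477)) (.leaf (0, 0)))) (.node (.node (.leaf (2, 965)) (.leaf (77, 2475))) (.node (.leaf (70, 1617)) (.leaf (6, 4037))))))))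

def twoVia23 : Janko.Tree (ℕ × ℕ) :=
  (.node (.node (.node (.node (.node (.node (.node (.leaf (0, 0)) (.leaf (23, 806))) (.leaf (77, 1219))) (.node (.leaf (0, 0)) (.leaf (3, 3077)))) (.node (.node (.leaf (0, 0)) (.leaf (6, 3266))) (.node (.leaf (59, 2947)) (.leaf (77, 1157))))) (.node (.node (.node (.leaf (0, 0)) (.leaf (3, 2309))) (.node (.leaf (3, 1285)) (.leaf (71, 4014)))) (.node (.node (.leaf (0, 0)) (.leaf (68, 3350))) (.node (.leaf (67, 1129)) (.leaf (3, 3845)))))) (.node (.node (.node (.node (.leaf (0, 0)) (.leaf (3, 2181))) (.node (.leaf (3, 1157)) (.leaf (77, 2488)))) (.node (.node (.leaf (0, 0)) (.leaf (0, 0))) (.node (.leaf (3, 1669)) (.leaf (3, 3717))))) (.node (.node (.node (.leaf (0, 0)) (.leaf (75, 1727))) (.node (.leaf (3, 1413)) (.leaf (75, 3758)))) (.node (.node (.leaf (3, 901)) (.leaf (3, 2949))) (.node (.leaf (3, 1925)) (.leaf (3, 3973))))))) (.node (.node (.node (.node (.node (.leaf (0, 0)) (.leaf (0, 0))) (.node (.leaf (0, 0)) (.leaf (75, 2447))))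 (.node (.node (.leaf (77, 930)) (.leaf (71, 1910))) (.node (.leaf (0, 0)) (.leaf (0, 0))))) (.node (.node (.node (.leaf (3, 325)) (.leaf (0, 0))) (.node (.leaf (3, 1349)) (.leaf (44, 4055)))) (.node (.node (.leaf (3, 837)) (.leaf (0, 0))) (.node (.leaf (3, 1861)) (.leaf (44, 3127)))))) (.node (.node (.node (.node (.leaf (0, 0)) (.leaf (3, 2245))) (.node (.leaf (0, 0)) (.leaf (0, 0)))) (.node (.node (.leaf (69, 1201)) (.leaf (71, 3371))) (.node (.leaf (0, 0)) (.leaf (77, 2142))))) (.node (.node (.node (.leaf (0, 0)) (.leaf (77, 2352))) (.node (.leaf (0, 0)) (.leaf (75, 1593)))) (.node (.node (.leaf (77, 2815)) (.leaf (0, 0))) (.node (.leaf (0, 0)) (.leaf (3, 4037))))))))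

def twoVia24 : Janko.Tree (ℕ × ℕ) :=
  (.node (.node (.node (.node (.node (.node (.node (.leaf (4, 6)) (.leaf (24, 2684))) (.leaf (0, 0))) (.node (.leaf (0, 1030)) (.leaf (75, 1686)))) (.node (.node (.leaf (7, 834)) (.leaf (0, 3266))) (.node (.leaf (0, 2231)) (.leaf (52, 3077))))) (.node (.node (.node (.leaf (77, 121)) (.leaf (0, 0))) (.node (.leaf (0, 1286)) (.leaf (62, 936)))) (.node (.node (.leaf (0, 774)) (.leaf (66, 3570))) (.node (.leaf (0, 2501)) (.leaf (7, 3336)))))) (.node (.node (.node (.node (.leaf (59, 324)) (.leaf (72, 977))) (.node (.leaf (0, 0)) (.leaf (76, 3206)))) (.node (.node (.leaf (7, 1021)) (.leaf (77, 2694))) (.node (.leaf (0, 0)) (.leaf (59, 2392))))) (.node (.node (.node (.leaf (62, 941)) (.leaf (0, 2438))) (.node (.leaf (59, 1428)) (.leaf (61, 3469)))) (.node (.node (.leaf (0, 902)) (.leaf (77, 2950))) (.node (.leaf (5, 3330)) (.leaf (20, 3058))))))) (.node (.node (.node (.node (.node (.leaf (7, 30)) (.leaf (73, 2118))) (.node (.leaf (0,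 1661)) (.leaf (74, 3220)))) (.node (.node (.leaf (75, 2821)) (.leaf (77, 3752))) (.node (.leaf (0, 1606)) (.leaf (0, 3654))))) (.node (.node (.node (.leaf (77, 1112)) (.leaf (0, 3067))) (.node (.leaf (0, 1350)) (.leaf (60, 3510)))) (.node (.node (.leaf (12, 1941)) (.leaf (0, 2886))) (.node (.leaf (0, 0)) (.leaf (73, 3911)))))) (.node (.node (.node (.node (.leaf (0, 354)) (.leaf (77, 1013))) (.node (.leaf (4, 1222)) (.leaf (77, 2230)))) (.node (.node (.leaf (0, 710)) (.leaf (77, 1584))) (.node (.leaf (20, 1734)) (.leaf (0, 3782))))) (.node (.node (.node (.leaf (7, 736)) (.leaf (77, 3061))) (.node (.leaf (7, 2152)) (.leaf (0, 3937)))) (.node (.node (.leaf (0, 0)) (.leaf (77, 3842))) (.node (.leaf (7, 1343)) (.leaf (65, 4038))))))))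

def twoVia25 : Janko.Tree (ℕ × ℕ) :=
  (.node (.node (.node (.node (.node (.node (.node (.leaf (0, 0)) (.leaf (25, 2062))) (.leaf (1, 2054))) (.node (.leaf (0, 0)) (.leaf (1, 3078)))) (.node (.node (.leaf (1, 832)) (.leaf (0, 0))) (.node (.leaf (0, 0)) (.leaf (67, 3644))))) (.node (.node (.node (.leaf (24, 46)) (.leaf (1, 2310))) (.node (.leaf (0, 0)) (.leaf (77, 2583)))) (.node (.node (.leaf (0, 0)) (.leaf (1, 2822))) (.node (.leaf (77, 2443)) (.leaf (66, 4061)))))) (.node (.node (.node (.node (.leaf (0, 0)) (.leaf (1, 2182))) (.node (.leaf (1, 1158)) (.leaf (1, 3206)))) (.node (.node (.leaf (1, 1019)) (.leaf (10, 2694))) (.node (.leaf (1, 1670)) (.leaf (1, 3718))))) (.node (.node (.node (.leaf (1, 636)) (.leaf (0, 0))) (.node (.leaf (1, 1414)) (.leaf (77, 2816)))) (.node (.node (.leaf (0, 0)) (.leaf (1, 2950))) (.node (.leaf (1, 1926)) (.leaf (1, 3974))))))) (.node (.node (.node (.node (.node (.leaf (0, 0)) (.leaf (1, 2118))) (.node (.leaf (0, 0)) (.leaf (1, 3707))))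 (.node (.node (.leaf (67, 903)) (.leaf (0, 0))) (.node (.leaf (0, 0)) (.leaf (0, 0))))) (.node (.node (.node (.leaf (1, 326)) (.leaf (71, 2374))) (.node (.leaf (77, 1864)) (.leaf (1, 3398)))) (.node (.node (.leaf (0, 0)) (.leaf (0, 0))) (.node (.leaf (1, 1862)) (.leaf (10, 3910)))))) (.node (.node (.node (.node (.leaf (0, 0)) (.leaf (1, 2246))) (.node (.leaf (0, 0)) (.leaf (69, 2582)))) (.node (.node (.leaf (0, 0)) (.leaf (1, 2758))) (.node (.leaf (0, 0)) (.leaf (77, 3483))))) (.node (.node (.node (.leaf (67, 733)) (.leaf (0, 0))) (.node (.leaf (67, 962)) (.leaf (77, 3933)))) (.node (.node (.leaf (1, 966)) (.leaf (1, 3540))) (.node (.leaf (77, 1341)) (.leaf (1, 4038))))))))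

def twoVia26 : Janko.Tree (ℕ × ℕ) :=
  (.node (.node (.node (.node (.node (.node (.node (.leaf (2, 6)) (.leaf (26, 3721))) (.leaf (0, 0))) (.node (.leaf (0, 0)) (.leaf (13, 2387)))) (.node (.node (.leaf (7, 837)) (.leaf (2, 2566))) (.node (.leaf (2, 1542)) (.leaf (6, 3590))))) (.node (.node (.node (.leaf (2, 262)) (.leaf (71, 2701))) (.node (.leaf (0, 0)) (.leaf (77, 934)))) (.node (.node (.leaf (0, 0)) (.leaf (71, 2944))) (.node (.leaf (2, 1798)) (.leaf (2, 3846)))))) (.node (.node (.node (.node (.leaf (2, 250)) (.leaf (72, 981))) (.node (.leaf (2, 1732)) (.leaf (77, 3070)))) (.node (.node (.leaf (7, 1024)) (.leaf (71, 3507))) (.node (.leaf (70, 2665)) (.leaf (77, 1206))))) (.node (.node (.node (.leaf (2, 390)) (.leaf (77, 3961))) (.node (.leaf (72, 2439)) (.leaf (2, 3462)))) (.node (.node (.leaf (0, 0)) (.leaf (0, 0))) (.node (.leaf (0, 0)) (.leaf (77, 3077))))))) (.node (.node (.node (.node (.node (.leaf (2, 70)) (.leaf (0, 0))) (.node (.leaf (2, 1094)) (.leaf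 (2, 3142)))) (.node (.node (.leaf (75, 203)) (.leaf (2, 2630))) (.node (.leaf (6, 1606)) (.leaf (72, 2413))))) (.node (.node (.node (.leaf (0, 0)) (.leaf (59, 1201))) (.node (.leaf (24, 1993)) (.leaf (77, 3380)))) (.node (.node (.leaf (2, 838)) (.leaf (6, 2886))) (.node (.leaf (7, 2579)) (.leaf (28, 4005)))))) (.node (.node (.node (.node (.leaf (2, 198)) (.leaf (77, 808))) (.node (.leaf (2, 1222)) (.leaf (6, 3270)))) (.node (.node (.leaf (0, 0)) (.leaf (68, 2150))) (.node (.leaf (2, 2415)) (.leaf (77, 3000))))) (.node (.node (.node (.leaf (7, 739)) (.leaf (6, 2502))) (.node (.leaf (7, 2155)) (.leaf (2, 3526)))) (.node (.node (.leaf (6, 2161)) (.leaf (2, 3014))) (.node (.leaf (2, 1990)) (.leaf (70, 3780))))))))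

def twoVia27 : Janko.Tree (ℕ × ℕ) :=
  (.node (.node (.node (.node (.node (.node (.node (.leaf (0, 0)) (.leaf (12, 0))) (.leaf (0, 0))) (.node (.leaf (73, 1022)) (.leaf (77, 2400)))) (.node (.node (.leaf (3, 518)) (.leaf (0, 0))) (.node (.leaf (0, 0)) (.leaf (3, 3590))))) (.node (.node (.node (.leaf (0, 0)) (.leaf (67, 1983))) (.node (.leaf (0, 0)) (.leaf (3, 3334)))) (.node (.node (.leaf (77, 1585)) (.leaf (67, 1536))) (.node (.leaf (0, 0)) (.leaf (3, 3846)))))) (.node (.node (.node (.node (.leaf (3, 134)) (.leaf (0, 0))) (.node (.leaf (0, 0)) (.leaf (76, 3911)))) (.node (.node (.leaf (3, 646)) (.leaf (3, 2694))) (.node (.leaf (67, 1312)) (.leaf (73, 2504))))) (.node (.node (.node (.leaf (0, 0)) (.leaf (61, 3131))) (.node (.leaf (0, 0)) (.leaf (62, 2614)))) (.node (.node (.leaf (75, 564)) (.leaf (0, 0))) (.node (.leaf (0, 0)) (.leaf (41, 3638))))))) (.node (.node (.node (.node (.node (.leaf (3, 70)) (.leaf (0, 0))) (.node (.leaf (0, 0)) (.leaf (77, 653)))) (.node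 (.node (.leaf (3, 582)) (.leaf (70, 3249))) (.node (.leaf (3, 1606)) (.leaf (77, 263))))) (.node (.node (.node (.leaf (67, 358)) (.leaf (3, 2374))) (.node (.leaf (0, 0)) (.leaf (73, 3577)))) (.node (.node (.leaf (75, 529)) (.leaf (3, 2886))) (.node (.leaf (0, 0)) (.leaf (3, 3910)))))) (.node (.node (.node (.node (.leaf (0, 0)) (.leaf (77, 3758))) (.node (.leaf (0, 0)) (.leaf (3, 3270)))) (.node (.node (.leaf (0, 0)) (.leaf (67, 2674))) (.node (.leaf (3, 1734)) (.leaf (75, 2371))))) (.node (.node (.node (.leaf (3, 454)) (.leaf (3, 2502))) (.node (.leaf (3, 1478)) (.leaf (77, 1493)))) (.node (.node (.leaf (0, 0)) (.leaf (0, 0))) (.node (.leaf (3, 1990)) (.leaf (71, 3956))))))))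

def twoVia28 : Janko.Tree (ℕ × ℕ) :=
  (.node (.node (.node (.node (.node (.node (.node (.leaf (0, 7)) (.leaf (28, 3191))) (.leaf (0, 2055))) (.node (.leaf (0, 1577)) (.leaf (7, 2386)))) (.node (.node (.leaf (72, 521)) (.leaf (20, 2567))) (.node (.leaf (20, 1543)) (.leaf (0, 3591))))) (.node (.node (.node (.leaf (0, 449)) (.leaf (0, 2311))) (.node (.leaf (0, 1912)) (.leaf (77, 1821)))) (.node (.node (.leaf (0, 1215)) (.leaf (5, 2825))) (.node (.leaf (73, 1133)) (.leaf (77, 3847)))))) (.node (.node (.node (.node (.leaf (0, 0)) (.leaf (5, 2183))) (.node (.leaf (7, 732)) (.leaf (62, 3207)))) (.node (.node (.leaf (0, 0)) (.leaf (4, 2695))) (.node (.leaf (0, 1671)) (.leaf (75, 1189))))) (.node (.node (.node (.leaf (0, 641)) (.leaf (75, 456))) (.node (.leaf (50, 452)) (.leaf (73, 3469)))) (.node (.node (.leaf (0, 1405)) (.leaf (7, 1005))) (.node (.leaf (5, 1927)) (.leaf (0, 3975))))))) (.node (.node (.node (.node (.node (.leaf (73, 898)) (.leaf (77, 3158))) (.node (.leaf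 (7, 1661)) (.leaf (52, 3143)))) (.node (.node (.leaf (72, 586)) (.leaf (77, 2814))) (.node (.leaf (0, 1607)) (.leaf (18, 3655))))) (.node (.node (.node (.leaf (0, 327)) (.leaf (0, 0))) (.node (.leaf (0, 1995)) (.leaf (0, 3399)))) (.node (.node (.leaf (0, 0)) (.leaf (0, 2887))) (.node (.leaf (7, 1250)) (.leaf (73, 2799)))))) (.node (.node (.node (.node (.leaf (7, 354)) (.leaf (5, 2247))) (.node (.leaf (0, 1223)) (.leaf (45, 3279)))) (.node (.node (.leaf (0, 1121)) (.leaf (77, 1720))) (.node (.leaf (0, 0)) (.leaf (75, 2771))))) (.node (.node (.node (.leaf (72, 189)) (.leaf (0, 3205))) (.node (.leaf (74, 2633)) (.leaf (75, 3536)))) (.node (.node (.leaf (77, 2112)) (.leaf (77, 3015))) (.node (.leaf (0, 1991)) (.leaf (75, 4039))))))))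

def twoVia29 : Janko.Tree (ℕ × ℕ) :=
  (.node (.node (.node (.node (.node (.node (.node (.leaf (0, 0)) (.leaf (29, 4077))) (.leaf (0, 0))) (.node (.leaf (0, 0)) (.leaf (67, 3963)))) (.node (.node (.leaf (1, 519)) (.leaf (1, 3265))) (.node (.leaf (1, 2230)) (.leaf (74, 2978))))) (.node (.node (.node (.leaf (0, 0)) (.leaf (0, 0))) (.node (.leaf (0, 0)) (.leaf (1, 3335)))) (.node (.node (.leaf (0, 0)) (.leaf (0, 0))) (.node (.leaf (1, 2499)) (.leaf (10, 3847)))))) (.node (.node (.node (.node (.leaf (1, 135)) (.leaf (0, 0))) (.node (.leaf (77, 274)) (.leaf (0, 0)))) (.node (.node (.leaf (1, 647)) (.leaf (77, 1976))) (.node (.leaf (33, 870)) (.leaf (77, 3125))))) (.node (.node (.node (.leaf (0, 0)) (.leaf (1, 2439))) (.node (.leaf (77, 2325)) (.leaf (0, 0)))) (.node (.node (.leaf (0, 0)) (.leaf (0, 0))) (.node (.leaf (77, 2649)) (.leaf (0, 0))))))) (.node (.node (.node (.node (.node (.leaf (0, 0)) (.leaf (0, 0))) (.node (.leaf (67, 694)) (.leaf (77, 2438)))) (.node (.node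 (.leaf (1, 583)) (.leaf (0, 0))) (.node (.leaf (0, 0)) (.leaf (9, 3655))))) (.node (.node (.node (.leaf (0, 0)) (.leaf (1, 2375))) (.node (.leaf (0, 0)) (.leaf (66, 2851)))) (.node (.node (.leaf (1, 839)) (.leaf (0, 0))) (.node (.leaf (67, 1253)) (.leaf (1, 3911)))))) (.node (.node (.node (.node (.leaf (67, 351)) (.leaf (0, 0))) (.node (.leaf (77, 1817)) (.leaf (69, 3271)))) (.node (.node (.leaf (0, 0)) (.leaf (1, 2759))) (.node (.leaf (1, 1735)) (.leaf (1, 3783))))) (.node (.node (.node (.leaf (1, 455)) (.leaf (77, 3137))) (.node (.leaf (1, 1479)) (.leaf (1, 3936)))) (.node (.node (.leaf (0, 0)) (.leaf (1, 3612))) (.node (.leaf (0, 0)) (.leaf (1, 4039))))))))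

def twoVia30 : Janko.Tree (ℕ × ℕ) :=
  (.node (.node (.node (.node (.node (.node (.node (.leaf (7, 18)) (.leaf (30, 2515))) (.leaf (77, 2054))) (.node (.leaf (2, 1031)) (.leaf (2, 3079)))) (.node (.node (.leaf (0, 0)) (.leaf (2, 3268))) (.node (.leaf (2, 2233)) (.leaf (76, 3257))))) (.node (.node (.node (.leaf (2, 450)) (.leaf (77, 1056))) (.node (.leaf (2, 1287)) (.leaf (0, 0)))) (.node (.node (.leaf (2, 775)) (.leaf (2, 2823))) (.node (.leaf (2, 2502)) (.leaf (76, 2120)))))) (.node (.node (.node (.node (.leaf (0, 0)) (.leaf (2, 2183))) (.node (.leaf (2, 1159)) (.leaf (6, 3207)))) (.node (.node (.leaf (6, 1567)) (.leaf (2, 2695))) (.node (.leaf (0, 0)) (.leaf (76, 2003))))) (.node (.node (.node (.leaf (2, 642)) (.leaf (74, 1422))) (.node (.leaf (6, 1415)) (.leaf (77, 3243)))) (.node (.node (.leaf (2, 903)) (.leaf (2, 2951))) (.node (.leaf (2, 2641)) (.leaf (53, 4066))))))) (.node (.node (.node (.node (.node (.leaf (2, 71)) (.leaf (2, 2119))) (.node (.leaf (7, 1664))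 (.leaf (77, 3225)))) (.node (.node (.leaf (0, 0)) (.leaf (2, 2631))) (.node (.leaf (77, 2454)) (.leaf (2, 3655))))) (.node (.node (.node (.leaf (77, 178)) (.leaf (77, 1053))) (.node (.leaf (6, 1351)) (.leaf (2, 3399)))) (.node (.node (.leaf (0, 0)) (.leaf (53, 3885))) (.node (.leaf (2, 1863)) (.leaf (75, 1424)))))) (.node (.node (.node (.node (.leaf (7, 357)) (.leaf (2, 2968))) (.node (.leaf (7, 1823)) (.leaf (24, 1192)))) (.node (.node (.leaf (2, 711)) (.leaf (63, 877))) (.node (.leaf (0, 0)) (.leaf (77, 2525))))) (.node (.node (.node (.leaf (0, 0)) (.leaf (2, 2503))) (.node (.leaf (0, 0)) (.leaf (77, 3609)))) (.node (.node (.leaf (6, 967)) (.leaf (2, 3613))) (.node (.leaf (6, 1991)) (.leaf (67, 3785))))))))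

def twoVia31 : Janko.Tree (ℕ × ℕ) :=
  (.node (.node (.node (.node (.node (.node (.node (.leaf (3, 7)) (.leaf (31, 3142))) (.leaf (77, 1716))) (.node (.leaf (0, 0)) (.leaf (3, 3079)))) (.node (.node (.leaf (77, 1983)) (.leaf (3, 2567))) (.node (.leaf (3, 1543)) (.leaf (59, 3646))))) (.node (.node (.node (.leaf (3, 263)) (.leaf (3, 2311))) (.node (.leaf (0, 0)) (.leaf (0, 0)))) (.node (.node (.leaf (0, 0)) (.leaf (0, 0))) (.node (.leaf (3, 1799)) (.leaf (3, 3847)))))) (.node (.node (.node (.node (.leaf (0, 0)) (.leaf (3, 2183))) (.node (.leaf (3, 1159)) (.leaf (3, 3207)))) (.node (.node (.leaf (0, 0)) (.leaf (7, 1337))) (.node (.leaf (59, 1666)) (.leaf (3, 3719))))) (.node (.node (.node (.leaf (3, 391)) (.leaf (0, 0))) (.node (.leaf (3, 1415)) (.leaf (3, 3463)))) (.node (.node (.leaf (77, 1403)) (.leaf (54, 2231))) (.node (.leaf (3, 1927)) (.leaf (70, 3950))))))) (.node (.node (.node (.node (.node (.leaf (0, 0)) (.leaf (0, 0))) (.node (.leaf (3, 1095)) (.leaf (3, 3143))))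 (.node (.node (.leaf (0, 0)) (.leaf (75, 2158))) (.node (.leaf (0, 0)) (.leaf (67, 1417))))) (.node (.node (.node (.leaf (0, 0)) (.leaf (77, 3943))) (.node (.leaf (3, 1351)) (.leaf (42, 557)))) (.node (.node (.leaf (0, 0)) (.leaf (60, 2566))) (.node (.leaf (3, 1863)) (.leaf (71, 3934)))))) (.node (.node (.node (.node (.leaf (3, 199)) (.leaf (3, 2247))) (.node (.leaf (3, 1223)) (.leaf (3, 3271)))) (.node (.node (.leaf (0, 0)) (.leaf (71, 3353))) (.node (.leaf (0, 0)) (.leaf (75, 902))))) (.node (.node (.node (.leaf (43, 1556)) (.leaf (0, 0))) (.node (.leaf (0, 0)) (.leaf (3, 3527)))) (.node (.node (.leaf (3, 967)) (.leaf (3, 3015))) (.node (.leaf (3, 1991)) (.leaf (68, 3917))))))))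

def twoVia32 : Janko.Tree (ℕ × ℕ) :=
  (.node (.node (.node (.node (.node (.node (.node (.leaf (0, 8)) (.leaf (32, 2517))) (.leaf (77, 3424))) (.node (.leaf (60, 1584)) (.leaf (0, 3080)))) (.node (.node (.leaf (4, 520)) (.leaf (77, 2913))) (.node (.leaf (5, 1544)) (.leaf (33, 3592))))) (.node (.node (.node (.leaf (0, 0)) (.leaf (75, 1762))) (.node (.leaf (7, 1912)) (.leaf (0, 3336)))) (.node (.node (.leaf (77, 761)) (.leaf (61, 2824))) (.node (.leaf (73, 770)) (.leaf (77, 3848)))))) (.node (.node (.node (.node (.leaf (0, 136)) (.leaf (0, 0))) (.node (.leaf (7, 1160)) (.leaf (60, 2497)))) (.node (.node (.leaf (77, 1468)) (.leaf (77, 2696))) (.node (.leaf (0, 2362)) (.leaf (62, 2447))))) (.node (.node (.node (.leaf (0, 0)) (.leaf (25, 2084))) (.node (.leaf (4, 2415)) (.leaf (73, 3464)))) (.node (.node (.leaf (75, 3422)) (.leaf (5, 2952))) (.node (.leaf (0, 0)) (.leaf (77, 3976))))))) (.node (.node (.node (.node (.node (.leaf (72, 345)) (.leaf (75, 1780))) (.node (.leaf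 (4, 1096)) (.leaf (72, 1761)))) (.node (.node (.leaf (4, 584)) (.leaf (0, 2632))) (.node (.leaf (0, 2300)) (.leaf (77, 3656))))) (.node (.node (.node (.leaf (77, 428)) (.leaf (77, 1138))) (.node (.leaf (0, 0)) (.leaf (77, 3492)))) (.node (.node (.leaf (0, 840)) (.leaf (77, 2888))) (.node (.leaf (0, 1864)) (.leaf (73, 2614)))))) (.node (.node (.node (.node (.leaf (73, 50)) (.leaf (0, 0))) (.node (.leaf (0, 0)) (.leaf (0, 0)))) (.node (.node (.leaf (7, 1121)) (.leaf (0, 3087))) (.node (.leaf (0, 1736)) (.leaf (73, 2539))))) (.node (.node (.node (.leaf (4, 456)) (.leaf (73, 2505))) (.node (.leaf (4, 1480)) (.leaf (58, 1482)))) (.node (.node (.leaf (0, 968)) (.leaf (77, 3849))) (.node (.leaf (50, 1992)) (.leaf (77, 4007))))))))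

def twoVia33 : Janko.Tree (ℕ × ℕ) :=
  (.node (.node (.node (.node (.node (.node (.node (.leaf (0, 0)) (.leaf (33, 3639))) (.leaf (0, 0))) (.node (.leaf (67, 1574)) (.leaf (77, 2390)))) (.node (.node (.leaf (0, 0)) (.leaf (0, 0))) (.node (.leaf (0, 0)) (.leaf (10, 3592))))) (.node (.node (.node (.leaf (1, 264)) (.leaf (1, 2312))) (.node (.leaf (67, 824)) (.leaf (77, 3836)))) (.node (.node (.leaf (1, 776)) (.leaf (74, 3289))) (.node (.leaf (1, 1800)) (.leaf (28, 3848)))))) (.node (.node (.node (.node (.leaf (0, 0)) (.leaf (1, 2184))) (.node (.leaf (0, 0)) (.leaf (1, 3208)))) (.node (.node (.leaf (0, 0)) (.leaf (1, 2696))) (.node (.leaf (0, 0)) (.leaf (1, 3720))))) (.node (.node (.node (.leaf (1, 392)) (.leaf (77, 2069))) (.node (.leaf (1, 1416)) (.leaf (1, 3464)))) (.node (.node (.leaf (1, 904)) (.leaf (0, 0))) (.node (.leaf (1, 1928)) (.leaf (9, 3976))))))) (.node (.node (.node (.node (.node (.leaf (0, 0)) (.leaf (1, 2848))) (.node (.leaf (67, 3057)) (.leaf (1, 3144))))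 (.node (.node (.leaf (0, 0)) (.leaf (67, 3213))) (.node (.leaf (71, 1608)) (.leaf (77, 3616))))) (.node (.node (.node (.leaf (1, 543)) (.leaf (0, 0))) (.node (.leaf (1, 1352)) (.leaf (0, 0)))) (.node (.node (.leaf (0, 0)) (.leaf (68, 980))) (.node (.leaf (77, 1253)) (.leaf (1, 3912)))))) (.node (.node (.node (.node (.leaf (1, 200)) (.leaf (1, 2248))) (.node (.leaf (1, 1224)) (.leaf (1, 3272)))) (.node (.node (.leaf (67, 440)) (.leaf (0, 0))) (.node (.leaf (0, 0)) (.leaf (1, 3784))))) (.node (.node (.node (.leaf (0, 0)) (.leaf (0, 0))) (.node (.leaf (0, 0)) (.leaf (71, 3528)))) (.node (.node (.leaf (0, 0)) (.leaf (10, 3016))) (.node (.leaf (1, 1992)) (.leaf (1, 4040))))))))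

def twoVia34 : Janko.Tree (ℕ × ℕ) :=
  (.node (.node (.node (.node (.node (.node (.node (.leaf (0, 0)) (.leaf (34, 2333))) (.leaf (2, 2056))) (.node (.leaf (2, 1579)) (.leaf (77, 3951)))) (.node (.node (.leaf (2, 520)) (.leaf (2, 2568))) (.node (.leaf (62, 386)) (.leaf (77, 4078))))) (.node (.node (.node (.leaf (0, 0)) (.leaf (77, 1249))) (.node (.leaf (7, 1915)) (.leaf (0, 0)))) (.node (.node (.leaf (2, 1217)) (.leaf (2, 3481))) (.node (.leaf (0, 0)) (.leaf (6, 3848)))))) (.node (.node (.node (.node (.leaf (6, 136)) (.leaf (71, 3499))) (.node (.leaf (2, 1160)) (.leaf (0, 0)))) (.node (.node (.leaf (2, 648)) (.leaf (77, 1354))) (.node (.leaf (2, 1672)) (.leaf (77, 2448))))) (.node (.node (.node (.leaf (0, 0)) (.leaf (6, 2440))) (.node (.leaf (0, 0)) (.leaf (0, 0)))) (.node (.node (.leaf (77, 1284)) (.leaf (7, 2226))) (.node (.leaf (77, 3318)) (.leaf (2, 3976))))))) (.node (.node (.node (.node (.node (.leaf (2, 142)) (.leaf (2, 2850))) (.node (.leaf (2, 1096)) (.leaf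 (0, 0)))) (.node (.node (.leaf (2, 584)) (.leaf (77, 1113))) (.node (.leaf (71, 2281)) (.leaf (77, 2411))))) (.node (.node (.node (.leaf (2, 328)) (.leaf (2, 2376))) (.node (.leaf (0, 0)) (.leaf (2, 3400)))) (.node (.node (.leaf (24, 1308)) (.leaf (77, 3649))) (.node (.leaf (24, 2579)) (.leaf (77, 2929)))))) (.node (.node (.node (.node (.leaf (0, 0)) (.leaf (70, 1753))) (.node (.leaf (23, 2537)) (.leaf (71, 2575)))) (.node (.node (.leaf (7, 1124)) (.leaf (2, 2760))) (.node (.leaf (6, 1736)) (.leaf (77, 2890))))) (.node (.node (.node (.leaf (2, 456)) (.leaf (2, 3207))) (.node (.leaf (2, 1480)) (.leaf (77, 2094)))) (.node (.node (.leaf (0, 0)) (.leaf (76, 3201))) (.node (.leaf (0, 0)) (.leaf (70, 4039))))))))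

def twoVia35 : Janko.Tree (ℕ × ℕ) :=
  (.node (.node (.node (.node (.node (.node (.node (.leaf (0, 0)) (.leaf (35, 1735))) (.leaf (77, 564))) (.node (.leaf (3, 1032)) (.leaf (25, 3964)))) (.node (.node (.leaf (75, 305)) (.leaf (0, 0))) (.node (.leaf (3, 1544)) (.leaf (3, 3592))))) (.node (.node (.node (.leaf (0, 0)) (.leaf (77, 2458))) (.node (.leaf (3, 1288)) (.leaf (0, 0)))) (.node (.node (.leaf (3, 776)) (.leaf (3, 2824))) (.node (.leaf (0, 0)) (.leaf (3, 3848)))))) (.node (.node (.node (.node (.leaf (3, 136)) (.leaf (3, 2859))) (.node (.leaf (0, 0)) (.leaf (73, 3198)))) (.node (.node (.leaf (0, 0)) (.leaf (77, 1903))) (.node (.leaf (0, 0)) (.leaf (52, 2995))))) (.node (.node (.node (.leaf (0, 0)) (.leaf (3, 2440))) (.node (.leaf (75, 3092)) (.leaf (44, 3912)))) (.node (.node (.leaf (3, 904)) (.leaf (3, 2952))) (.node (.leaf (77, 2813)) (.leaf (75, 3888))))))) (.node (.node (.node (.node (.node (.leaf (3, 72)) (.leaf (3, 2120))) (.node (.leaf (0, 0)) (.leaf (0,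 0)))) (.node (.node (.leaf (0, 0)) (.leaf (3, 2632))) (.node (.leaf (3, 1608)) (.leaf (3, 3656))))) (.node (.node (.node (.leaf (0, 0)) (.leaf (6, 2725))) (.node (.leaf (0, 0)) (.leaf (0, 0)))) (.node (.node (.leaf (0, 0)) (.leaf (3, 2888))) (.node (.leaf (0, 0)) (.leaf (60, 2812)))))) (.node (.node (.node (.node (.leaf (77, 1115)) (.leaf (67, 1749))) (.node (.leaf (0, 0)) (.leaf (3, 3714)))) (.node (.node (.leaf (3, 712)) (.leaf (77, 1803))) (.node (.leaf (3, 1736)) (.leaf (76, 3359))))) (.node (.node (.node (.leaf (77, 1131)) (.leaf (3, 2504))) (.node (.leaf (0, 0)) (.leaf (3, 3528)))) (.node (.node (.leaf (0, 0)) (.leaf (3, 3016))) (.node (.leaf (59, 1999)) (.leaf (3, 4040))))))))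

def twoVia36 : Janko.Tree (ℕ × ℕ) :=
  (.node (.node (.node (.node (.node (.node (.node (.leaf (0, 21)) (.leaf (36, 2427))) (.leaf (74, 2053))) (.node (.leaf (4, 2268)) (.leaf (59, 2976)))) (.node (.node (.leaf (0, 0)) (.leaf (77, 2569))) (.node (.leaf (0, 0)) (.leaf (77, 3593))))) (.node (.node (.node (.leaf (0, 265)) (.leaf (0, 2313))) (.node (.leaf (72, 511)) (.leaf (0, 3844)))) (.node (.node (.leaf (0, 0)) (.leaf (49, 1438))) (.node (.leaf (62, 1125)) (.leaf (0, 3849)))))) (.node (.node (.node (.node (.leaf (77, 744)) (.leaf (17, 2185))) (.node (.leaf (59, 264)) (.leaf (0, 3746)))) (.node (.node (.leaf (0, 1014)) (.leaf (7, 2697))) (.node (.leaf (20, 1673)) (.leaf (77, 3721))))) (.node (.node (.node (.leaf (77, 440)) (.leaf (0, 0))) (.node (.leaf (54, 1170)) (.leaf (77, 4047)))) (.node (.node (.leaf (11, 2763)) (.leaf (77, 1539))) (.node (.leaf (77, 2096)) (.leaf (77, 3977))))))) (.node (.node (.node (.node (.node (.leaf (0, 0)) (.leaf (77, 935))) (.node (.leaf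 (0, 1097)) (.leaf (0, 3145)))) (.node (.node (.leaf (0, 585)) (.leaf (76, 1484))) (.node (.leaf (77, 1609)) (.leaf (0, 3657))))) (.node (.node (.node (.leaf (0, 548)) (.leaf (5, 2377))) (.node (.leaf (0, 1353)) (.leaf (77, 3647)))) (.node (.node (.leaf (0, 1315)) (.leaf (77, 2889))) (.node (.leaf (0, 2581)) (.leaf (75, 3915)))))) (.node (.node (.node (.node (.leaf (4, 201)) (.leaf (66, 2249))) (.node (.leaf (7, 778)) (.leaf (0, 3273)))) (.node (.node (.leaf (73, 255)) (.leaf (0, 0))) (.node (.leaf (62, 3415)) (.leaf (77, 3920))))) (.node (.node (.node (.leaf (0, 0)) (.leaf (61, 1707))) (.node (.leaf (0, 1481)) (.leaf (11, 2162)))) (.node (.node (.leaf (0, 1490)) (.leaf (4, 3017))) (.node (.leaf (0, 1993)) (.leaf (75, 818))))))))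

def twoVia37 : Janko.Tree (ℕ × ℕ) :=
  (.node (.node (.node (.node (.node (.node (.node (.leaf (0, 0)) (.leaf (37, 3236))) (.leaf (1, 2057))) (.node (.leaf (1, 1033)) (.leaf (1, 3592)))) (.node (.node (.leaf (1, 521)) (.leaf (67, 1854))) (.node (.leaf (1, 1545)) (.leaf (1, 3593))))) (.node (.node (.node (.leaf (0, 0)) (.leaf (0, 0))) (.node (.leaf (1, 1289)) (.leaf (67, 1932)))) (.node (.node (.leaf (1, 777)) (.leaf (0, 0))) (.node (.leaf (0, 0)) (.leaf (77, 2856)))))) (.node (.node (.node (.node (.leaf (1, 137)) (.leaf (0, 0))) (.node (.leaf (0, 0)) (.leaf (0, 0)))) (.node (.node (.leaf (0, 0)) (.leaf (0, 0))) (.node (.leaf (67, 1104)) (.leaf (1, 3721))))) (.node (.node (.node (.leaf (0, 0)) (.leaf (1, 2441))) (.node (.leaf (0, 0)) (.leaf (0, 0)))) (.node (.node (.leaf (1, 905)) (.leaf (1, 2953))) (.node (.leaf (0, 0)) (.leaf (77, 3950))))))) (.node (.node (.node (.node (.node (.leaf (1, 73)) (.leaf (1, 2121))) (.node (.leaf (0, 0)) (.leaf (0, 0)))) (.node (.node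 (.leaf (0, 0)) (.leaf (1, 2633))) (.node (.leaf (1, 1609)) (.leaf (1, 3657))))) (.node (.node (.node (.leaf (0, 0)) (.leaf (0, 0))) (.node (.leaf (73, 1999)) (.leaf (67, 1270)))) (.node (.node (.leaf (0, 0)) (.leaf (1, 2889))) (.node (.leaf (0, 0)) (.leaf (77, 3473)))))) (.node (.node (.node (.node (.leaf (0, 0)) (.leaf (77, 3697))) (.node (.leaf (77, 1804)) (.leaf (75, 2222)))) (.node (.node (.leaf (1, 713)) (.leaf (1, 2761))) (.node (.leaf (1, 1737)) (.leaf (0, 0))))) (.node (.node (.node (.leaf (1, 457)) (.leaf (1, 2505))) (.node (.leaf (67, 2998)) (.leaf (1, 3529)))) (.node (.node (.leaf (0, 0)) (.leaf (1, 3609))) (.node (.leaf (10, 4062)) (.leaf (1, 4041))))))))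

def twoVia38 : Janko.Tree (ℕ × ℕ) :=
  (.node (.node (.node (.node (.node (.node (.node (.leaf (2, 9)) (.leaf (38, 3772))) (.leaf (32, 2058))) (.node (.leaf (0, 0)) (.leaf (71, 3592)))) (.node (.node (.leaf (6, 1309)) (.leaf (2, 3270))) (.node (.leaf (0, 0)) (.leaf (71, 3639))))) (.node (.node (.node (.leaf (0, 0)) (.leaf (77, 537))) (.node (.leaf (0, 0)) (.leaf (2, 3337)))) (.node (.node (.leaf (0, 0)) (.leaf (77, 1436))) (.node (.leaf (77, 1021)) (.leaf (6, 3849)))))) (.node (.node (.node (.node (.leaf (0, 0)) (.leaf (2, 2185))) (.node (.leaf (2, 1741)) (.leaf (2, 3209)))) (.node (.node (.leaf (2, 1028)) (.leaf (6, 2697))) (.node (.leaf (2, 2364)) (.leaf (2, 3721))))) (.node (.node (.node (.leaf (2, 393)) (.leaf (0, 0))) (.node (.leaf (77, 1422)) (.leaf (6, 3465)))) (.node (.node (.leaf (0, 0)) (.leaf (77, 4005))) (.node (.leaf (2, 1929)) (.leaf (77, 3210))))))) (.node (.node (.node (.node (.node (.leaf (0, 0)) (.leaf (6, 3499))) (.node (.leaf (7, 1665)) (.leaf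 (17, 1763)))) (.node (.node (.leaf (7, 937)) (.leaf (77, 964))) (.node (.leaf (77, 1621)) (.leaf (36, 3095))))) (.node (.node (.node (.leaf (2, 549)) (.leaf (7, 1691))) (.node (.leaf (0, 0)) (.leaf (2, 3879)))) (.node (.node (.leaf (6, 841)) (.leaf (36, 3533))) (.node (.leaf (6, 1865)) (.leaf (2, 3913)))))) (.node (.node (.node (.node (.leaf (2, 201)) (.leaf (2, 2249))) (.node (.leaf (2, 1225)) (.leaf (6, 3273)))) (.node (.node (.leaf (0, 0)) (.leaf (0, 0))) (.node (.leaf (0, 0)) (.leaf (2, 3785))))) (.node (.node (.node (.leaf (6, 1166)) (.leaf (0, 0))) (.node (.leaf (7, 2159)) (.leaf (53, 3475)))) (.node (.node (.leaf (2, 969)) (.leaf (2, 3017))) (.node (.leaf (7, 1350)) (.leaf (77, 729))))))))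

def twoVia39 : Janko.Tree (ℕ × ℕ) :=
  (.node (.node (.node (.node (.node (.node (.node (.leaf (0, 0)) (.leaf (39, 3831))) (.leaf (0, 0))) (.node (.leaf (0, 0)) (.leaf (3, 3081)))) (.node (.node (.leaf (0, 0)) (.leaf (3, 2569))) (.node (.leaf (0, 0)) (.leaf (0, 0))))) (.node (.node (.node (.leaf (77, 566)) (.leaf (5, 2716))) (.node (.leaf (0, 0)) (.leaf (0, 0)))) (.node (.node (.leaf (0, 0)) (.leaf (3, 2825))) (.node (.leaf (3, 1801)) (.leaf (3, 3849)))))) (.node (.node (.node (.node (.leaf (67, 434)) (.leaf (77, 207))) (.node (.leaf (3, 1161)) (.leaf (71, 3030)))) (.node (.node (.leaf (3, 649)) (.leaf (3, 2697))) (.node (.leaf (3, 1673)) (.leaf (0, 0))))) (.node (.node (.node (.leaf (67, 1023)) (.leaf (0, 0))) (.node (.leaf (3, 1417)) (.leaf (3, 3465)))) (.node (.node (.leaf (0, 0)) (.leaf (77, 1787))) (.node (.leaf (0, 0)) (.leaf (3, 3977))))))) (.node (.node (.node (.node (.node (.leaf (0, 0)) (.leaf (0, 0))) (.node (.leaf (3, 1097)) (.leaf (0, 0)))) (.node (.node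 (.leaf (3, 585)) (.leaf (0, 0))) (.node (.leaf (0, 0)) (.leaf (77, 2170))))) (.node (.node (.node (.leaf (3, 329)) (.leaf (3, 2377))) (.node (.leaf (59, 2709)) (.leaf (3, 3401)))) (.node (.node (.leaf (3, 841)) (.leaf (77, 2092))) (.node (.leaf (3, 1865)) (.leaf (60, 4009)))))) (.node (.node (.node (.node (.leaf (77, 1894)) (.leaf (68, 2691))) (.node (.leaf (3, 1225)) (.leaf (3, 3273)))) (.node (.node (.leaf (0, 0)) (.leaf (0, 0))) (.node (.leaf (67, 2051)) (.leaf (71, 3317))))) (.node (.node (.node (.leaf (0, 0)) (.leaf (70, 2403))) (.node (.leaf (3, 1481)) (.leaf (0, 0)))) (.node (.node (.leaf (0, 0)) (.leaf (0, 0))) (.node (.leaf (0, 0)) (.leaf (77, 2762))))))))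

def twoVia40 : Janko.Tree (ℕ × ℕ) :=
  (.node (.node (.node (.node (.node (.node (.node (.leaf (7, 21)) (.leaf (40, 3832))) (.leaf (0, 2058))) (.node (.leaf (7, 1563)) (.leaf (77, 1721)))) (.node (.node (.leaf (75, 1310)) (.leaf (77, 1453))) (.node (.leaf (75, 2962)) (.leaf (77, 3199))))) (.node (.node (.node (.leaf (0, 456)) (.leaf (75, 408))) (.node (.leaf (4, 1290)) (.leaf (7, 3844)))) (.node (.node (.leaf (0, 778)) (.leaf (77, 2826))) (.node (.leaf (0, 1802)) (.leaf (0, 3850)))))) (.node (.node (.node (.node (.leaf (0, 138)) (.leaf (5, 2186))) (.node (.leaf (74, 571)) (.leaf (72, 3979)))) (.node (.node (.leaf (0, 0)) (.leaf (4, 2698))) (.node (.leaf (4, 1674)) (.leaf (77, 3722))))) (.node (.node (.node (.leaf (73, 396)) (.leaf (0, 2442))) (.node (.leaf (0, 0)) (.leaf (0, 3466)))) (.node (.node (.leaf (4, 906)) (.leaf (0, 2954))) (.node (.leaf (54, 1952)) (.leaf (72, 3088))))))) (.node (.node (.node (.node (.node (.leaf (0, 74)) (.leaf (0, 2122))) (.node (.leaf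 (0, 0)) (.leaf (77, 1764)))) (.node (.node (.leaf (0, 0)) (.leaf (0, 2634))) (.node (.leaf (7, 1610)) (.leaf (77, 3658))))) (.node (.node (.node (.leaf (0, 0)) (.leaf (73, 2379))) (.node (.leaf (0, 2000)) (.leaf (66, 2838)))) (.node (.node (.leaf (76, 1001)) (.leaf (66, 2890))) (.node (.leaf (0, 0)) (.leaf (77, 2926)))))) (.node (.node (.node (.node (.leaf (0, 0)) (.leaf (20, 2250))) (.node (.leaf (12, 2534)) (.leaf (7, 3274)))) (.node (.node (.leaf (4, 714)) (.leaf (0, 2762))) (.node (.leaf (0, 1738)) (.leaf (77, 3753))))) (.node (.node (.node (.leaf (77, 645)) (.leaf (74, 2885))) (.node (.leaf (0, 0)) (.leaf (5, 3530)))) (.node (.node (.leaf (7, 1490)) (.leaf (0, 3018))) (.node (.leaf (0, 2714)) (.leaf (73, 4050))))))))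

def twoVia41 : Janko.Tree (ℕ × ℕ) :=
  (.node (.node (.node (.node (.node (.node (.node (.leaf (0, 0)) (.leaf (41, 951))) (.leaf (0, 0))) (.node (.leaf (0, 0)) (.leaf (1, 3082)))) (.node (.node (.leaf (0, 0)) (.leaf (1, 2570))) (.node (.leaf (1, 1546)) (.leaf (1, 3594))))) (.node (.node (.node (.leaf (0, 0)) (.leaf (1, 2314))) (.node (.leaf (0, 0)) (.leaf (77, 3691)))) (.node (.node (.leaf (0, 0)) (.leaf (1, 2826))) (.node (.leaf (0, 0)) (.leaf (1, 3850)))))) (.node (.node (.node (.node (.leaf (0, 0)) (.leaf (53, 2914))) (.node (.leaf (1, 1162)) (.leaf (0, 0)))) (.node (.node (.leaf (1, 650)) (.leaf (77, 3132))) (.node (.leaf (75, 385)) (.leaf (1, 3722))))) (.node (.node (.node (.leaf (1, 394)) (.leaf (0, 0))) (.node (.leaf (1, 1418)) (.leaf (74, 1461)))) (.node (.node (.leaf (0, 0)) (.leaf (0, 0))) (.node (.leaf (67, 2526)) (.leaf (1, 3978))))))) (.node (.node (.node (.node (.node (.leaf (0, 0)) (.leaf (73, 3904))) (.node (.leaf (1, 1098)) (.leaf (9, 3146)))) (.node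 (.node (.leaf (1, 586)) (.leaf (0, 0))) (.node (.leaf (0, 0)) (.leaf (1, 3658))))) (.node (.node (.node (.leaf (1, 330)) (.leaf (1, 2378))) (.node (.leaf (0, 0)) (.leaf (1, 3402)))) (.node (.node (.leaf (1, 842)) (.leaf (0, 0))) (.node (.leaf (1, 1866)) (.leaf (1, 3914)))))) (.node (.node (.node (.node (.leaf (1, 202)) (.leaf (0, 0))) (.node (.leaf (0, 0)) (.leaf (1, 3274)))) (.node (.node (.leaf (67, 713)) (.leaf (0, 0))) (.node (.leaf (0, 0)) (.leaf (10, 3786))))) (.node (.node (.node (.leaf (0, 0)) (.leaf (1, 2506))) (.node (.leaf (1, 1482)) (.leaf (0, 0)))) (.node (.node (.leaf (67, 610)) (.leaf (77, 3929))) (.node (.leaf (69, 1994)) (.leaf (1, 4042))))))))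

def twoVia42 : Janko.Tree (ℕ × ℕ) :=
  (.node (.node (.node (.node (.node (.node (.node (.leaf (7, 24)) (.leaf (42, 3676))) (.leaf (23, 906))) (.node (.leaf (2, 1034)) (.leaf (71, 3959)))) (.node (.node (.leaf (6, 522)) (.leaf (2, 2570))) (.node (.leaf (77, 572)) (.leaf (77, 906))))) (.node (.node (.node (.leaf (2, 266)) (.leaf (62, 417))) (.node (.leaf (2, 1290)) (.leaf (7, 3846)))) (.node (.node (.leaf (0, 0)) (.leaf (75, 1320))) (.node (.leaf (0, 0)) (.leaf (77, 3930)))))) (.node (.node (.node (.node (.leaf (24, 247)) (.leaf (77, 3194))) (.node (.leaf (74, 1168)) (.leaf (2, 3210)))) (.node (.node (.leaf (0, 0)) (.leaf (2, 2698))) (.node (.leaf (2, 1674)) (.leaf (6, 3722))))) (.node (.node (.node (.leaf (0, 0)) (.leaf (0, 0))) (.node (.leaf (0, 0)) (.leaf (2, 3466)))) (.node (.node (.leaf (2, 906)) (.leaf (76, 630))) (.node (.leaf (2, 2651)) (.leaf (40, 2407))))))) (.node (.node (.node (.node (.node (.leaf (6, 74)) (.leaf (77, 1503))) (.node (.leaf (7, 1667)) (.leaf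 (2, 3146)))) (.node (.node (.leaf (2, 933)) (.leaf (6, 2634))) (.node (.leaf (6, 1610)) (.leaf (67, 3445))))) (.node (.node (.node (.leaf (0, 0)) (.leaf (77, 3121))) (.node (.leaf (2, 1354)) (.leaf (2, 3878)))) (.node (.node (.leaf (77, 927)) (.leaf (62, 962))) (.node (.leaf (0, 0)) (.leaf (36, 3295)))))) (.node (.node (.node (.node (.leaf (6, 594)) (.leaf (75, 2254))) (.node (.leaf (2, 1226)) (.leaf (0, 0)))) (.node (.node (.leaf (2, 714)) (.leaf (74, 3758))) (.node (.leaf (24, 2413)) (.leaf (71, 3247))))) (.node (.node (.node (.leaf (6, 458)) (.leaf (0, 0))) (.node (.leaf (23, 2896)) (.leaf (76, 965)))) (.node (.node (.leaf (7, 1493)) (.leaf (7, 3614))) (.node (.leaf (7, 2714)) (.leaf (77, 3575))))))))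

def twoVia43 : Janko.Tree (ℕ × ℕ) :=
  (.node (.node (.node (.node (.node (.node (.node (.leaf (3, 10)) (.leaf (43, 3851))) (.leaf (77, 1218))) (.node (.leaf (0, 0)) (.leaf (0, 0)))) (.node (.node (.leaf (3, 522)) (.leaf (0, 0))) (.node (.leaf (77, 910)) (.leaf (77, 1405))))) (.node (.node (.node (.leaf (0, 0)) (.leaf (0, 0))) (.node (.leaf (0, 0)) (.leaf (3, 3338)))) (.node (.node (.leaf (0, 0)) (.leaf (70, 931))) (.node (.leaf (0, 0)) (.leaf (75, 1977)))))) (.node (.node (.node (.node (.leaf (0, 0)) (.leaf (3, 2186))) (.node (.leaf (0, 0)) (.leaf (77, 1399)))) (.node (.node (.leaf (0, 0)) (.leaf (0, 0))) (.node (.leaf (54, 3056)) (.leaf (3, 3722))))) (.node (.node (.node (.leaf (0, 0)) (.leaf (67, 1566))) (.node (.leaf (0, 0)) (.leaf (77, 2796)))) (.node (.node (.leaf (0, 0)) (.leaf (59, 2668))) (.node (.leaf (3, 1930)) (.leaf (75, 3884))))))) (.node (.node (.node (.node (.node (.leaf (3, 74)) (.leaf (0, 0))) (.node (.leaf (0, 0)) (.leaf (77, 1186)))) (.node (.node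 (.leaf (0, 0)) (.leaf (3, 2634))) (.node (.leaf (3, 1610)) (.leaf (3, 3658))))) (.node (.node (.node (.leaf (0, 0)) (.leaf (73, 3289))) (.node (.leaf (0, 0)) (.leaf (66, 3899)))) (.node (.node (.leaf (75, 515)) (.leaf (3, 2890))) (.node (.leaf (0, 0)) (.leaf (3, 4000)))))) (.node (.node (.node (.node (.leaf (0, 0)) (.leaf (3, 2250))) (.node (.leaf (77, 779)) (.leaf (59, 1869)))) (.node (.node (.leaf (0, 0)) (.leaf (70, 2270))) (.node (.leaf (0, 0)) (.leaf (3, 3786))))) (.node (.node (.node (.leaf (3, 458)) (.leaf (0, 0))) (.node (.leaf (0, 0)) (.leaf (3, 3530)))) (.node (.node (.leaf (3, 970)) (.leaf (3, 3018))) (.node (.leaf (3, 1994)) (.leaf (3, 4042))))))))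

def twoVia44 : Janko.Tree (ℕ × ℕ) :=
  (.node (.node (.node (.node (.node (.node (.node (.leaf (0, 0)) (.leaf (44, 3385))) (.leaf (0, 0))) (.node (.leaf (7, 1562)) (.leaf (4, 3083)))) (.node (.node (.leaf (72, 169)) (.leaf (77, 2577))) (.node (.leaf (0, 1547)) (.leaf (77, 3364))))) (.node (.node (.node (.leaf (77, 137)) (.leaf (59, 1646))) (.node (.leaf (0, 1291)) (.leaf (62, 3477)))) (.node (.node (.leaf (0, 1222)) (.leaf (73, 2871))) (.node (.leaf (0, 2507)) (.leaf (0, 3851)))))) (.node (.node (.node (.node (.leaf (0, 258)) (.leaf (75, 2178))) (.node (.leaf (0, 1163)) (.leaf (75, 3415)))) (.node (.node (.leaf (0, 651)) (.leaf (0, 2699))) (.node (.leaf (77, 2522)) (.leaf (77, 1376))))) (.node (.node (.node (.leaf (5, 395)) (.leaf (0, 3135))) (.node (.leaf (77, 607)) (.leaf (77, 3467)))) (.node (.node (.leaf (0, 907)) (.leaf (4, 2955))) (.node (.leaf (59, 1933)) (.leaf (77, 4067))))))) (.node (.node (.node (.node (.node (.leaf (0, 0)) (.leaf (77, 3323))) (.node (.leaf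 (7, 693)) (.leaf (0, 3713)))) (.node (.node (.leaf (7, 350)) (.leaf (0, 2635))) (.node (.leaf (55, 687)) (.leaf (74, 3674))))) (.node (.node (.node (.leaf (77, 814)) (.leaf (0, 2379))) (.node (.leaf (7, 1355)) (.leaf (4, 3403)))) (.node (.node (.leaf (5, 1936)) (.leaf (0, 0))) (.node (.leaf (0, 1867)) (.leaf (76, 3915)))))) (.node (.node (.node (.node (.leaf (77, 552)) (.leaf (73, 1020))) (.node (.leaf (0, 0)) (.leaf (0, 3275)))) (.node (.node (.leaf (0, 715)) (.leaf (0, 0))) (.node (.leaf (0, 2423)) (.leaf (77, 3028))))) (.node (.node (.node (.leaf (72, 2517)) (.leaf (4, 2507))) (.node (.leaf (7, 961)) (.leaf (0, 3531)))) (.node (.node (.leaf (7, 1507)) (.leaf (7, 2304))) (.node (.leaf (5, 1995)) (.leaf (0, 4043))))))))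

def twoVia45 : Janko.Tree (ℕ × ℕ) :=
  (.node (.node (.node (.node (.node (.node (.node (.leaf (1, 11)) (.leaf (45, 3853))) (.leaf (1, 2059))) (.node (.leaf (0, 0)) (.leaf (0, 0)))) (.node (.node (.leaf (1, 523)) (.leaf (67, 1856))) (.node (.leaf (0, 0)) (.leaf (1, 3595))))) (.node (.node (.node (.leaf (1, 267)) (.leaf (73, 3865))) (.node (.leaf (67, 3761)) (.leaf (77, 2830)))) (.node (.node (.leaf (0, 0)) (.leaf (0, 0))) (.node (.leaf (0, 0)) (.leaf (66, 3936)))))) (.node (.node (.node (.node (.leaf (0, 0)) (.leaf (0, 0))) (.node (.leaf (0, 0)) (.leaf (67, 2631)))) (.node (.node (.leaf (0, 0)) (.leaf (0, 0))) (.node (.leaf (1, 1675)) (.leaf (62, 2736))))) (.node (.node (.node (.leaf (0, 0)) (.leaf (77, 3135))) (.node (.leaf (0, 0)) (.leaf (1, 3467)))) (.node (.node (.leaf (0, 0)) (.leaf (77, 2869))) (.node (.leaf (1, 1931)) (.leaf (0, 0))))))) (.node (.node (.node (.node (.node (.leaf (1, 75)) (.leaf (0, 0))) (.node (.leaf (67, 696)) (.leaf (0, 0)))) (.node (.node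 (.leaf (77, 2111)) (.leaf (0, 0))) (.node (.leaf (0, 0)) (.leaf (0, 0))))) (.node (.node (.node (.leaf (0, 0)) (.leaf (0, 0))) (.node (.leaf (1, 1999)) (.leaf (77, 2858)))) (.node (.node (.leaf (0, 0)) (.leaf (1, 2891))) (.node (.leaf (61, 3274)) (.leaf (1, 3915)))))) (.node (.node (.node (.node (.leaf (0, 0)) (.leaf (1, 2251))) (.node (.leaf (1, 1227)) (.leaf (77, 2897)))) (.node (.node (.leaf (0, 0)) (.leaf (1, 2763))) (.node (.leaf (70, 1739)) (.leaf (1, 3787))))) (.node (.node (.node (.leaf (0, 0)) (.leaf (0, 0))) (.node (.leaf (74, 3597)) (.leaf (0, 0)))) (.node (.node (.leaf (1, 971)) (.leaf (67, 2302))) (.node (.leaf (0, 0)) (.leaf (1, 4043))))))))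

def twoVia46 : Janko.Tree (ℕ × ℕ) :=
  (.node (.node (.node (.node (.node (.node (.node (.leaf (0, 0)) (.leaf (46, 3674))) (.leaf (0, 0))) (.node (.leaf (2, 1583)) (.leaf (2, 3083)))) (.node (.node (.leaf (0, 0)) (.leaf (6, 2571))) (.node (.leaf (75, 1545)) (.leaf (6, 3595))))) (.node (.node (.node (.leaf (2, 458)) (.leaf (6, 2315))) (.node (.leaf (7, 1919)) (.leaf (59, 2828)))) (.node (.node (.leaf (2, 779)) (.leaf (77, 1438))) (.node (.leaf (2, 1803)) (.leaf (65, 3858)))))) (.node (.node (.node (.node (.leaf (6, 139)) (.leaf (77, 976))) (.node (.leaf (6, 1163)) (.leaf (70, 3757)))) (.node (.node (.leaf (77, 1526)) (.leaf (7, 3373))) (.node (.leaf (26, 1104)) (.leaf (13, 3721))))) (.node (.node (.node (.leaf (59, 56)) (.leaf (2, 2443))) (.node (.leaf (2, 1419)) (.leaf (44, 1881)))) (.node (.node (.leaf (7, 1410)) (.leaf (2, 2955))) (.node (.leaf (77, 1933)) (.leaf (2, 3979))))))) (.node (.node (.node (.node (.node (.leaf (0, 0)) (.leaf (2, 2123))) (.node (.leaf (2,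 1099)) (.leaf (77, 1765)))) (.node (.node (.leaf (2, 587)) (.leaf (77, 347))) (.node (.leaf (77, 1615)) (.leaf (2, 3659))))) (.node (.node (.node (.leaf (2, 331)) (.leaf (64, 3067))) (.node (.leaf (2, 2002)) (.leaf (2, 3403)))) (.node (.node (.leaf (2, 843)) (.leaf (0, 0))) (.node (.leaf (0, 0)) (.leaf (64, 923)))))) (.node (.node (.node (.node (.leaf (6, 203)) (.leaf (77, 1795))) (.node (.leaf (0, 0)) (.leaf (75, 537)))) (.node (.node (.leaf (7, 1127)) (.leaf (0, 0))) (.node (.leaf (77, 3171)) (.leaf (13, 1833))))) (.node (.node (.node (.leaf (74, 3764)) (.leaf (2, 2507))) (.node (.leaf (2, 1483)) (.leaf (77, 2235)))) (.node (.node (.leaf (0, 0)) (.leaf (2, 3019))) (.node (.leaf (2, 2714)) (.leaf (77, 3567))))))))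

def twoVia47 : Janko.Tree (ℕ × ℕ) :=
  (.node (.node (.node (.node (.node (.node (.node (.leaf (0, 0)) (.leaf (47, 3933))) (.leaf (0, 0))) (.node (.leaf (3, 1035)) (.leaf (6, 3631)))) (.node (.node (.leaf (0, 0)) (.leaf (3, 2571))) (.node (.leaf (0, 0)) (.leaf (68, 2207))))) (.node (.node (.node (.leaf (3, 267)) (.leaf (3, 2315))) (.node (.leaf (3, 1291)) (.leaf (3, 3339)))) (.node (.node (.leaf (0, 0)) (.leaf (3, 2827))) (.node (.leaf (0, 0)) (.leaf (20, 1943)))))) (.node (.node (.node (.node (.leaf (3, 139)) (.leaf (3, 2187))) (.node (.leaf (3, 1163)) (.leaf (3, 3211)))) (.node (.node (.leaf (77, 368)) (.leaf (3, 2699))) (.node (.leaf (77, 2268)) (.leaf (3, 3723))))) (.node (.node (.node (.leaf (3, 395)) (.leaf (0, 0))) (.node (.leaf (67, 2790)) (.leaf (76, 3818)))) (.node (.node (.leaf (3, 907)) (.leaf (7, 1540))) (.node (.leaf (0, 0)) (.leaf (67, 3265))))))) (.node (.node (.node (.node (.node (.leaf (0, 0)) (.leaf (0, 0))) (.node (.leaf (3, 1099)) (.leaf (3, 3147))))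 (.node (.node (.leaf (3, 587)) (.leaf (0, 0))) (.node (.leaf (3, 1611)) (.leaf (71, 3283))))) (.node (.node (.node (.leaf (67, 885)) (.leaf (73, 3196))) (.node (.leaf (3, 1355)) (.leaf (0, 0)))) (.node (.node (.leaf (0, 0)) (.leaf (0, 0))) (.node (.leaf (59, 3274)) (.leaf (70, 4011)))))) (.node (.node (.node (.node (.leaf (3, 203)) (.leaf (3, 2251))) (.node (.leaf (0, 0)) (.leaf (0, 0)))) (.node (.node (.leaf (3, 715)) (.leaf (0, 0))) (.node (.leaf (3, 1739)) (.leaf (70, 1910))))) (.node (.node (.node (.leaf (3, 459)) (.leaf (0, 0))) (.node (.leaf (3, 1483)) (.leaf (3, 3531)))) (.node (.node (.leaf (0, 0)) (.leaf (3, 3019))) (.node (.leaf (3, 1995)) (.leaf (70, 3862))))))))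

def twoVia48 : Janko.Tree (ℕ × ℕ) :=
  (.node (.node (.node (.node (.node (.node (.node (.leaf (7, 1)) (.leaf (48, 3932))) (.leaf (75, 2054))) (.node (.leaf (0, 1036)) (.leaf (75, 1235)))) (.node (.node (.leaf (4, 524)) (.leaf (59, 2927))) (.node (.leaf (75, 3853)) (.leaf (0, 3596))))) (.node (.node (.node (.leaf (73, 79)) (.leaf (77, 3579))) (.node (.leaf (0, 0)) (.leaf (77, 2240)))) (.node (.node (.leaf (7, 1222)) (.leaf (25, 2828))) (.node (.leaf (7, 2507)) (.leaf (36, 3852)))))) (.node (.node (.node (.node (.leaf (0, 0)) (.leaf (77, 844))) (.node (.leaf (75, 1219)) (.leaf (74, 1803)))) (.node (.node (.leaf (7, 2253)) (.leaf (0, 0))) (.node (.leaf (54, 1676)) (.leaf (0, 3724))))) (.node (.node (.node (.leaf (0, 0)) (.leaf (73, 1570))) (.node (.leaf (76, 456)) (.leaf (77, 4008)))) (.node (.node (.leaf (0, 0)) (.leaf (77, 2955))) (.node (.leaf (0, 1932)) (.leaf (75, 1802))))))) (.node (.node (.node (.node (.node (.leaf (0, 76)) (.leaf (0, 2852))) (.node (.leaf (0,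 1100)) (.leaf (0, 3148)))) (.node (.node (.leaf (5, 628)) (.leaf (0, 3322))) (.node (.leaf (0, 0)) (.leaf (45, 2182))))) (.node (.node (.node (.leaf (73, 334)) (.leaf (0, 2380))) (.node (.leaf (23, 430)) (.leaf (0, 3404)))) (.node (.node (.leaf (5, 844)) (.leaf (23, 3529))) (.node (.leaf (0, 2586)) (.leaf (77, 4086)))))) (.node (.node (.node (.node (.leaf (77, 475)) (.leaf (77, 3255))) (.node (.leaf (0, 1228)) (.leaf (0, 3805)))) (.node (.node (.leaf (0, 0)) (.leaf (0, 2764))) (.node (.leaf (77, 1740)) (.leaf (77, 2934))))) (.node (.node (.node (.leaf (0, 0)) (.leaf (0, 2508))) (.node (.leaf (23, 365)) (.leaf (65, 3651)))) (.node (.node (.leaf (4, 972)) (.leaf (12, 1072))) (.node (.leaf (0, 0)) (.leaf (73, 4044))))))))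

def twoVia49 : Janko.Tree (ℕ × ℕ) :=
  (.node (.node (.node (.node (.node (.node (.node (.leaf (0, 0)) (.leaf (49, 1681))) (.leaf (77, 2425))) (.node (.leaf (0, 0)) (.leaf (1, 3084)))) (.node (.node (.leaf (0, 0)) (.leaf (0, 0))) (.node (.leaf (0, 0)) (.leaf (77, 3937))))) (.node (.node (.node (.leaf (1, 268)) (.leaf (1, 2316))) (.node (.leaf (1, 1292)) (.leaf (1, 3340)))) (.node (.node (.leaf (1, 1220)) (.leaf (1, 2828))) (.node (.leaf (67, 1212)) (.leaf (77, 2036)))))) (.node (.node (.node (.node (.leaf (1, 140)) (.leaf (1, 2188))) (.node (.leaf (1, 1164)) (.leaf (1, 3212)))) (.node (.node (.leaf (1, 652)) (.leaf (1, 2700))) (.node (.leaf (0, 0)) (.leaf (74, 3499))))) (.node (.node (.node (.leaf (1, 396)) (.leaf (1, 3133))) (.node (.leaf (1, 1420)) (.leaf (0, 0)))) (.node (.node (.leaf (1, 908)) (.leaf (1, 2956))) (.node (.leaf (0, 0)) (.leaf (70, 3523))))))) (.node (.node (.node (.node (.node (.leaf (0, 0)) (.leaf (67, 1457))) (.node (.leaf (77, 2932)) (.leaf (1,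 3148)))) (.node (.node (.leaf (0, 0)) (.leaf (66, 3322))) (.node (.leaf (1, 1612)) (.leaf (74, 2369))))) (.node (.node (.node (.leaf (1, 332)) (.leaf (77, 2025))) (.node (.leaf (0, 0)) (.leaf (0, 0)))) (.node (.node (.leaf (0, 0)) (.leaf (1, 2892))) (.node (.leaf (0, 0)) (.leaf (0, 0)))))) (.node (.node (.node (.node (.leaf (0, 0)) (.leaf (68, 1167))) (.node (.leaf (0, 0)) (.leaf (66, 3805)))) (.node (.node (.leaf (1, 716)) (.leaf (0, 0))) (.node (.leaf (1, 1740)) (.leaf (0, 0))))) (.node (.node (.node (.leaf (1, 460)) (.leaf (73, 1913))) (.node (.leaf (0, 0)) (.leaf (1, 3532)))) (.node (.node (.leaf (0, 0)) (.leaf (0, 0))) (.node (.leaf (1, 1996)) (.leaf (1, 4044))))))))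

def twoVia50 : Janko.Tree (ℕ × ℕ) :=
  (.node (.node (.node (.node (.node (.node (.node (.leaf (2, 12)) (.leaf (50, 2007))) (.leaf (6, 2060))) (.node (.leaf (0, 0)) (.leaf (77, 3728)))) (.node (.node (.leaf (2, 524)) (.leaf (6, 2572))) (.node (.leaf (2, 1548)) (.leaf (0, 0))))) (.node (.node (.node (.leaf (77, 3223)) (.leaf (0, 0))) (.node (.leaf (55, 2645)) (.leaf (77, 3452)))) (.node (.node (.leaf (7, 1225)) (.leaf (53, 2823))) (.node (.leaf (7, 2510)) (.leaf (2, 3852)))))) (.node (.node (.node (.node (.leaf (77, 1209)) (.leaf (0, 0))) (.node (.leaf (0, 0)) (.leaf (77, 3978)))) (.node (.node (.leaf (0, 0)) (.leaf (70, 1063))) (.node (.leaf (6, 1676)) (.leaf (6, 3724))))) (.node (.node (.node (.leaf (77, 986)) (.leaf (2, 3136))) (.node (.leaf (76, 567)) (.leaf (6, 3468)))) (.node (.node (.leaf (2, 1406)) (.leaf (77, 3245))) (.node (.leaf (6, 1932)) (.leaf (77, 3214))))))) (.node (.node (.node (.node (.node (.leaf (0, 0)) (.leaf (2, 2854))) (.node (.leaf (24, 1667))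 (.leaf (46, 2458)))) (.node (.node (.leaf (2, 588)) (.leaf (71, 1934))) (.node (.leaf (0, 0)) (.leaf (77, 2413))))) (.node (.node (.node (.leaf (0, 0)) (.leaf (6, 2380))) (.node (.leaf (62, 324)) (.leaf (7, 3880)))) (.node (.node (.leaf (2, 1318)) (.leaf (76, 3918))) (.node (.leaf (2, 1868)) (.leaf (2, 3916)))))) (.node (.node (.node (.node (.leaf (2, 204)) (.leaf (71, 2965))) (.node (.leaf (24, 1824)) (.leaf (45, 1995)))) (.node (.node (.leaf (7, 1129)) (.leaf (72, 1405))) (.node (.leaf (74, 1754)) (.leaf (71, 4040))))) (.node (.node (.node (.leaf (0, 0)) (.leaf (7, 3213))) (.node (.leaf (2, 1484)) (.leaf (77, 898)))) (.node (.node (.leaf (2, 972)) (.leaf (59, 1085))) (.node (.leaf (70, 2310)) (.leaf (67, 3795))))))))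

def twoVia51 : Janko.Tree (ℕ × ℕ) :=
  (.node (.node (.node (.node (.node (.node (.node (.leaf (3, 12)) (.leaf (51, 3408))) (.leaf (3, 2060))) (.node (.leaf (0, 0)) (.leaf (77, 786)))) (.node (.node (.leaf (77, 851)) (.leaf (3, 2572))) (.node (.leaf (0, 0)) (.leaf (0, 0))))) (.node (.node (.node (.leaf (0, 0)) (.leaf (0, 0))) (.node (.leaf (0, 0)) (.leaf (0, 0)))) (.node (.node (.leaf (3, 780)) (.leaf (0, 0))) (.node (.leaf (3, 1804)) (.leaf (44, 1959)))))) (.node (.node (.node (.node (.leaf (77, 1646)) (.leaf (0, 0))) (.node (.leaf (75, 3420)) (.leaf (0, 0)))) (.node (.node (.leaf (0, 0)) (.leaf (0, 0))) (.node (.leaf (3, 1676)) (.leaf (3, 3724))))) (.node (.node (.node (.leaf (75, 53)) (.leaf (3, 2444))) (.node (.leaf (0, 0)) (.leaf (3, 3468)))) (.node (.node (.leaf (0, 0)) (.leaf (77, 2058))) (.node (.leaf (3, 1932)) (.leaf (3, 3980))))))) (.node (.node (.node (.node (.node (.leaf (0, 0)) (.leaf (3, 2124))) (.node (.leaf (0, 0)) (.leaf (71, 3023)))) (.node (.node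 (.leaf (0, 0)) (.leaf (3, 2636))) (.node (.leaf (0, 0)) (.leaf (3, 3660))))) (.node (.node (.node (.leaf (0, 0)) (.leaf (3, 2380))) (.node (.leaf (3, 1356)) (.leaf (3, 3404)))) (.node (.node (.leaf (3, 844)) (.leaf (0, 0))) (.node (.leaf (0, 0)) (.leaf (77, 2039)))))) (.node (.node (.node (.node (.leaf (0, 0)) (.leaf (3, 2252))) (.node (.leaf (42, 3235)) (.leaf (3, 3276)))) (.node (.node (.leaf (0, 0)) (.leaf (67, 2542))) (.node (.leaf (0, 0)) (.leaf (3, 3788))))) (.node (.node (.node (.leaf (0, 0)) (.leaf (3, 2508))) (.node (.leaf (77, 962)) (.leaf (75, 2506)))) (.node (.node (.leaf (0, 0)) (.leaf (3, 3020))) (.node (.leaf (67, 1062)) (.leaf (0, 0))))))))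

def twoVia52 : Janko.Tree (ℕ × ℕ) :=
  (.node (.node (.node (.node (.node (.node (.node (.leaf (0, 0)) (.leaf (52, 1199))) (.leaf (73, 1742))) (.node (.leaf (0, 1586)) (.leaf (61, 2358)))) (.node (.node (.leaf (0, 525)) (.leaf (4, 2573))) (.node (.leaf (0, 2239)) (.leaf (0, 3966))))) (.node (.node (.node (.leaf (5, 269)) (.leaf (77, 2317))) (.node (.leaf (7, 823)) (.leaf (77, 3607)))) (.node (.node (.leaf (72, 783)) (.leaf (5, 2829))) (.node (.leaf (74, 2278)) (.leaf (57, 3853)))))) (.node (.node (.node (.node (.leaf (0, 0)) (.leaf (75, 2170))) (.node (.leaf (0, 1165)) (.leaf (0, 3213)))) (.node (.node (.leaf (0, 0)) (.leaf (7, 1978))) (.node (.leaf (0, 0)) (.leaf (7, 3725))))) (.node (.node (.node (.leaf (0, 397)) (.leaf (4, 3701))) (.node (.leaf (5, 1421)) (.leaf (60, 2804)))) (.node (.node (.leaf (7, 563)) (.leaf (7, 2957))) (.node (.leaf (0, 1933)) (.leaf (72, 3090))))))) (.node (.node (.node (.node (.node (.leaf (0, 152)) (.leaf (4, 2125))) (.node (.leaf (0,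 1669)) (.leaf (61, 3149)))) (.node (.node (.leaf (5, 589)) (.leaf (77, 2637))) (.node (.leaf (59, 1613)) (.leaf (77, 1254))))) (.node (.node (.node (.leaf (5, 333)) (.leaf (73, 1126))) (.node (.leaf (0, 0)) (.leaf (75, 355)))) (.node (.node (.leaf (77, 838)) (.leaf (0, 2893))) (.node (.leaf (20, 1869)) (.leaf (77, 3917)))))) (.node (.node (.node (.node (.leaf (72, 2813)) (.leaf (4, 2253))) (.node (.leaf (77, 1578)) (.leaf (75, 1863)))) (.node (.node (.leaf (7, 439)) (.leaf (74, 2771))) (.node (.leaf (15, 340)) (.leaf (75, 503))))) (.node (.node (.node (.leaf (0, 0)) (.leaf (0, 0))) (.node (.leaf (0, 0)) (.leaf (74, 2094)))) (.node (.node (.leaf (0, 973)) (.leaf (0, 0))) (.node (.leaf (0, 1997)) (.leaf (77, 4079))))))))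

def twoVia53 : Janko.Tree (ℕ × ℕ) :=
  (.node (.node (.node (.node (.node (.node (.node (.leaf (1, 13)) (.leaf (53, 3715))) (.leaf (1, 2061))) (.node (.leaf (0, 0)) (.leaf (1, 3085)))) (.node (.node (.leaf (0, 0)) (.leaf (77, 3275))) (.node (.leaf (67, 1011)) (.leaf (67, 2279))))) (.node (.node (.node (.leaf (0, 0)) (.leaf (0, 0))) (.node (.leaf (77, 3324)) (.leaf (1, 3775)))) (.node (.node (.leaf (1, 781)) (.leaf (77, 1755))) (.node (.leaf (1, 1805)) (.leaf (77, 1961)))))) (.node (.node (.node (.node (.leaf (1, 141)) (.leaf (0, 0))) (.node (.leaf (0, 0)) (.leaf (0, 0)))) (.node (.node (.leaf (1, 653)) (.leaf (77, 2037))) (.node (.leaf (1, 1677)) (.leaf (1, 3725))))) (.node (.node (.node (.leaf (0, 0)) (.leaf (1, 2445))) (.node (.leaf (0, 0)) (.leaf (1, 3469)))) (.node (.node (.leaf (77, 2778)) (.leaf (0, 0))) (.node (.leaf (0, 0)) (.leaf (1, 3981))))))) (.node (.node (.node (.node (.node (.leaf (24, 152)) (.leaf (50, 2838))) (.node (.leaf (0, 0)) (.leaf (1, 3149))))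 (.node (.node (.leaf (0, 0)) (.leaf (1, 2637))) (.node (.leaf (1, 1613)) (.leaf (0, 0))))) (.node (.node (.node (.leaf (0, 0)) (.leaf (1, 2381))) (.node (.leaf (1, 1357)) (.leaf (1, 3405)))) (.node (.node (.leaf (1, 845)) (.leaf (0, 0))) (.node (.leaf (1, 2585)) (.leaf (1, 3917)))))) (.node (.node (.node (.node (.leaf (0, 0)) (.leaf (0, 0))) (.node (.leaf (0, 0)) (.leaf (1, 3277)))) (.node (.node (.leaf (77, 1111)) (.leaf (1, 3420))) (.node (.leaf (71, 2428)) (.leaf (1, 3789))))) (.node (.node (.node (.leaf (1, 461)) (.leaf (1, 2509))) (.node (.leaf (1, 1485)) (.leaf (1, 3533)))) (.node (.node (.leaf (77, 1491)) (.leaf (1, 3021))) (.node (.leaf (77, 1352)) (.leaf (0, 0))))))))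

def twoVia54 : Janko.Tree (ℕ × ℕ) :=
  (.node (.node (.node (.node (.node (.node (.node (.leaf (0, 0)) (.leaf (54, 734))) (.leaf (0, 0))) (.node (.leaf (2, 1037)) (.leaf (77, 2321)))) (.node (.node (.leaf (77, 1234)) (.leaf (2, 2573))) (.node (.leaf (2, 2241)) (.leaf (2, 3597))))) (.node (.node (.node (.leaf (62, 151)) (.leaf (2, 2317))) (.node (.leaf (2, 1293)) (.leaf (2, 3341)))) (.node (.node (.leaf (0, 0)) (.leaf (77, 194))) (.node (.leaf (0, 0)) (.leaf (62, 2686)))))) (.node (.node (.node (.node (.leaf (0, 0)) (.leaf (2, 2189))) (.node (.leaf (55, 456)) (.leaf (6, 3213)))) (.node (.node (.leaf (0, 0)) (.leaf (2, 2701))) (.node (.leaf (0, 0)) (.leaf (0, 0))))) (.node (.node (.node (.leaf (77, 989)) (.leaf (0, 0))) (.node (.leaf (59, 921)) (.leaf (0, 0)))) (.node (.node (.leaf (2, 909)) (.leaf (6, 2957))) (.node (.leaf (77, 2099)) (.leaf (17, 3094))))))) (.node (.node (.node (.node (.node (.leaf (2, 77)) (.leaf (2, 2125))) (.node (.leaf (6, 1101)) (.leaf (71, 3271))))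 (.node (.node (.leaf (2, 942)) (.leaf (74, 2647))) (.node (.leaf (76, 420)) (.leaf (77, 2408))))) (.node (.node (.node (.leaf (59, 44)) (.leaf (0, 0))) (.node (.leaf (0, 0)) (.leaf (13, 2742)))) (.node (.node (.leaf (77, 847)) (.leaf (36, 3321))) (.node (.leaf (2, 2588)) (.leaf (67, 4040)))))) (.node (.node (.node (.node (.leaf (2, 364)) (.leaf (6, 2253))) (.node (.leaf (6, 1229)) (.leaf (0, 0)))) (.node (.node (.leaf (2, 717)) (.leaf (2, 2765))) (.node (.leaf (6, 1741)) (.leaf (74, 2426))))) (.node (.node (.node (.leaf (0, 0)) (.leaf (74, 3885))) (.node (.leaf (0, 0)) (.leaf (36, 2889)))) (.node (.node (.leaf (7, 1497)) (.leaf (0, 0))) (.node (.leaf (0, 0)) (.leaf (2, 4045))))))))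

def twoVia55 : Janko.Tree (ℕ × ℕ) :=
  (.node (.node (.node (.node (.node (.node (.node (.leaf (0, 0)) (.leaf (55, 1738))) (.leaf (75, 3651))) (.node (.leaf (0, 0)) (.leaf (65, 1710)))) (.node (.node (.leaf (3, 525)) (.leaf (0, 0))) (.node (.leaf (3, 1549)) (.leaf (77, 668))))) (.node (.node (.node (.leaf (3, 269)) (.leaf (70, 1722))) (.node (.leaf (3, 1293)) (.leaf (0, 0)))) (.node (.node (.leaf (62, 283)) (.leaf (3, 2829))) (.node (.leaf (0, 0)) (.leaf (3, 3853)))))) (.node (.node (.node (.node (.leaf (0, 0)) (.leaf (77, 2904))) (.node (.leaf (0, 0)) (.leaf (3, 3213)))) (.node (.node (.leaf (0, 0)) (.leaf (3, 2701))) (.node (.leaf (0, 0)) (.leaf (7, 3730))))) (.node (.node (.node (.leaf (75, 1506)) (.leaf (0, 0))) (.node (.leaf (3, 1421)) (.leaf (52, 2082)))) (.node (.node (.leaf (3, 909)) (.leaf (3, 2957))) (.node (.leaf (0, 0)) (.leaf (75, 2410))))))) (.node (.node (.node (.node (.node (.leaf (0, 0)) (.leaf (0, 0))) (.node (.leaf (3, 1101)) (.leaf (67, 1862))))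 (.node (.node (.leaf (3, 589)) (.leaf (77, 1044))) (.node (.leaf (0, 0)) (.leaf (3, 3661))))) (.node (.node (.node (.leaf (3, 333)) (.leaf (61, 445))) (.node (.leaf (0, 0)) (.leaf (66, 2841)))) (.node (.node (.leaf (0, 0)) (.leaf (0, 0))) (.node (.leaf (3, 1869)) (.leaf (69, 3786)))))) (.node (.node (.node (.node (.leaf (3, 205)) (.leaf (3, 2253))) (.node (.leaf (3, 1229)) (.leaf (0, 0)))) (.node (.node (.leaf (3, 717)) (.leaf (75, 2056))) (.node (.leaf (3, 1741)) (.leaf (70, 3470))))) (.node (.node (.node (.leaf (0, 0)) (.leaf (0, 0))) (.node (.leaf (0, 0)) (.leaf (71, 3930)))) (.node (.node (.leaf (3, 973)) (.leaf (0, 0))) (.node (.leaf (59, 1992)) (.leaf (68, 1836))))))))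

def twoVia56 : Janko.Tree (ℕ × ℕ) :=
  (.node (.node (.node (.node (.node (.node (.node (.leaf (0, 14)) (.leaf (56, 3827))) (.leaf (0, 2062))) (.node (.leaf (7, 1586)) (.leaf (77, 1394)))) (.node (.node (.leaf (0, 0)) (.leaf (0, 2574))) (.node (.leaf (77, 1550)) (.leaf (7, 3966))))) (.node (.node (.node (.leaf (77, 3146)) (.leaf (77, 3402))) (.node (.leaf (50, 303)) (.leaf (75, 2175)))) (.node (.node (.leaf (4, 782)) (.leaf (75, 2823))) (.node (.leaf (4, 1806)) (.leaf (77, 3854)))))) (.node (.node (.node (.node (.leaf (15, 452)) (.leaf (77, 2190))) (.node (.leaf (0, 1747)) (.leaf (0, 3214)))) (.node (.node (.leaf (0, 654)) (.leaf (0, 2702))) (.node (.leaf (0, 1678)) (.leaf (0, 3726))))) (.node (.node (.node (.leaf (76, 1808)) (.leaf (73, 3704))) (.node (.leaf (0, 1422)) (.leaf (77, 3470)))) (.node (.node (.leaf (5, 1741)) (.leaf (77, 1252))) (.node (.leaf (0, 2655)) (.leaf (53, 3654))))))) (.node (.node (.node (.node (.node (.leaf (7, 152)) (.leaf (0, 2126))) (.node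 (.leaf (0, 0)) (.leaf (5, 3152)))) (.node (.node (.leaf (74, 218)) (.leaf (62, 2638))) (.node (.leaf (5, 1614)) (.leaf (51, 3097))))) (.node (.node (.node (.leaf (0, 0)) (.leaf (45, 1700))) (.node (.leaf (75, 648)) (.leaf (7, 2741)))) (.node (.node (.leaf (73, 846)) (.leaf (77, 2894))) (.node (.leaf (23, 1199)) (.leaf (12, 1484)))))) (.node (.node (.node (.node (.leaf (77, 34)) (.leaf (73, 2254))) (.node (.leaf (76, 2428)) (.leaf (7, 1255)))) (.node (.node (.leaf (0, 718)) (.leaf (77, 2545))) (.node (.leaf (4, 2060)) (.leaf (45, 819))))) (.node (.node (.node (.leaf (0, 462)) (.leaf (7, 1802))) (.node (.leaf (0, 1486)) (.leaf (62, 1735)))) (.node (.node (.leaf (0, 0)) (.leaf (0, 3022))) (.node (.leaf (0, 2717)) (.leaf (77, 3621))))))))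

def twoVia57 : Janko.Tree (ℕ × ℕ) :=
  (.node (.node (.node (.node (.node (.node (.node (.leaf (0, 0)) (.leaf (57, 3873))) (.leaf (0, 0))) (.node (.leaf (67, 655)) (.leaf (1, 3086)))) (.node (.node (.leaf (1, 526)) (.leaf (0, 0))) (.node (.leaf (1, 1550)) (.leaf (35, 2992))))) (.node (.node (.node (.leaf (0, 0)) (.leaf (1, 3027))) (.node (.leaf (0, 0)) (.leaf (1, 3847)))) (.node (.node (.leaf (0, 0)) (.leaf (0, 0))) (.node (.leaf (0, 0)) (.leaf (1, 3854)))))) (.node (.node (.node (.node (.leaf (0, 0)) (.leaf (1, 2190))) (.node (.leaf (77, 3122)) (.leaf (0, 0)))) (.node (.node (.leaf (0, 0)) (.leaf (77, 3845))) (.node (.leaf (0, 0)) (.leaf (1, 3726))))) (.node (.node (.node (.leaf (0, 0)) (.leaf (0, 0))) (.node (.leaf (0, 0)) (.leaf (0, 0)))) (.node (.node (.leaf (0, 0)) (.leaf (1, 2958))) (.node (.leaf (66, 2655)) (.leaf (1, 3982))))))) (.node (.node (.node (.node (.node (.leaf (0, 0)) (.leaf (0, 0))) (.node (.leaf (1, 1102)) (.leaf (0, 0)))) (.node (.node (.leaf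 (1, 590)) (.leaf (0, 0))) (.node (.leaf (77, 2286)) (.leaf (1, 3662))))) (.node (.node (.node (.leaf (1, 334)) (.leaf (77, 2832))) (.node (.leaf (1, 1358)) (.leaf (1, 3879)))) (.node (.node (.leaf (1, 846)) (.leaf (9, 2894))) (.node (.leaf (0, 0)) (.leaf (1, 3918)))))) (.node (.node (.node (.node (.leaf (1, 206)) (.leaf (1, 2254))) (.node (.leaf (1, 1230)) (.leaf (0, 0)))) (.node (.node (.leaf (0, 0)) (.leaf (0, 0))) (.node (.leaf (1, 1742)) (.leaf (0, 0))))) (.node (.node (.node (.leaf (0, 0)) (.leaf (70, 1399))) (.node (.leaf (0, 0)) (.leaf (77, 2136)))) (.node (.node (.leaf (1, 974)) (.leaf (0, 0))) (.node (.leaf (0, 0)) (.leaf (10, 4046))))))))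

def twoVia58 : Janko.Tree (ℕ × ℕ) :=
  (.node (.node (.node (.node (.node (.node (.node (.leaf (0, 0)) (.leaf (58, 4023))) (.leaf (75, 908))) (.node (.leaf (7, 1589)) (.leaf (70, 2402)))) (.node (.node (.leaf (23, 1327)) (.leaf (7, 3273))) (.node (.leaf (77, 546)) (.leaf (77, 2377))))) (.node (.node (.node (.leaf (6, 270)) (.leaf (71, 3027))) (.node (.leaf (2, 1294)) (.leaf (2, 3848)))) (.node (.node (.leaf (2, 782)) (.leaf (6, 2830))) (.node (.leaf (2, 1806)) (.leaf (77, 3893)))))) (.node (.node (.node (.node (.leaf (6, 142)) (.leaf (0, 0))) (.node (.leaf (59, 266)) (.leaf (74, 3418)))) (.node (.node (.leaf (0, 0)) (.leaf (6, 2702))) (.node (.leaf (0, 0)) (.leaf (4, 3167))))) (.node (.node (.node (.leaf (55, 1036)) (.leaf (52, 3698))) (.node (.leaf (77, 1165)) (.leaf (2, 3470)))) (.node (.node (.leaf (2, 910)) (.leaf (67, 3576))) (.node (.leaf (71, 2636)) (.leaf (32, 3098))))))) (.node (.node (.node (.node (.node (.leaf (7, 154)) (.leaf (7, 2855))) (.node (.leaf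 (0, 0)) (.leaf (2, 3150)))) (.node (.node (.leaf (74, 596)) (.leaf (77, 2642))) (.node (.leaf (59, 1064)) (.leaf (70, 1584))))) (.node (.node (.node (.leaf (77, 892)) (.leaf (2, 2382))) (.node (.leaf (76, 1464)) (.leaf (2, 3406)))) (.node (.node (.leaf (77, 959)) (.leaf (2, 2894))) (.node (.leaf (62, 498)) (.leaf (2, 3918)))))) (.node (.node (.node (.node (.leaf (77, 3655)) (.leaf (0, 0))) (.node (.leaf (77, 1744)) (.leaf (2, 3278)))) (.node (.node (.leaf (24, 1129)) (.leaf (77, 2782))) (.node (.leaf (0, 0)) (.leaf (2, 3790))))) (.node (.node (.node (.leaf (0, 0)) (.leaf (2, 2510))) (.node (.leaf (24, 2160)) (.leaf (77, 1733)))) (.node (.node (.leaf (23, 2182)) (.leaf (6, 3867))) (.node (.leaf (2, 1998)) (.leaf (13, 3799))))))))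

def twoVia59 : Janko.Tree (ℕ × ℕ) :=
  (.node (.node (.node (.node (.node (.node (.node (.leaf (0, 0)) (.leaf (59, 1158))) (.leaf (0, 0))) (.node (.leaf (3, 1038)) (.leaf (70, 2308)))) (.node (.node (.leaf (77, 848)) (.leaf (3, 2574))) (.node (.leaf (77, 3321)) (.leaf (3, 3598))))) (.node (.node (.node (.leaf (3, 270)) (.leaf (3, 2318))) (.node (.leaf (77, 824)) (.leaf (3, 3342)))) (.node (.node (.leaf (77, 1240)) (.leaf (3, 2830))) (.node (.leaf (0, 0)) (.leaf (77, 2055)))))) (.node (.node (.node (.node (.leaf (3, 142)) (.leaf (57, 1584))) (.node (.leaf (3, 1166)) (.leaf (71, 4080)))) (.node (.node (.leaf (0, 0)) (.leaf (3, 2702))) (.node (.leaf (41, 2013)) (.leaf (77, 2026))))) (.node (.node (.node (.leaf (3, 398)) (.leaf (3, 2446))) (.node (.leaf (0, 0)) (.leaf (71, 3789)))) (.node (.node (.leaf (0, 0)) (.leaf (69, 2865))) (.node (.leaf (3, 1934)) (.leaf (77, 1156))))))) (.node (.node (.node (.node (.node (.leaf (3, 78)) (.leaf (3, 2126))) (.node (.leaf (0, 0))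 (.leaf (0, 0)))) (.node (.node (.leaf (0, 0)) (.leaf (3, 2638))) (.node (.leaf (3, 1614)) (.leaf (73, 2446))))) (.node (.node (.node (.leaf (70, 497)) (.leaf (43, 2381))) (.node (.leaf (75, 103)) (.leaf (3, 3406)))) (.node (.node (.leaf (60, 2524)) (.leaf (75, 3475))) (.node (.leaf (3, 1870)) (.leaf (70, 4063)))))) (.node (.node (.node (.node (.leaf (0, 0)) (.leaf (59, 396))) (.node (.leaf (77, 3429)) (.leaf (54, 2586)))) (.node (.node (.leaf (0, 0)) (.leaf (3, 2766))) (.node (.leaf (75, 2765)) (.leaf (68, 2562))))) (.node (.node (.node (.leaf (0, 0)) (.leaf (3, 2510))) (.node (.leaf (75, 364)) (.leaf (3, 3534)))) (.node (.node (.leaf (0, 0)) (.leaf (3, 3380))) (.node (.leaf (0, 0)) (.leaf (3, 4046))))))))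

def twoVia60 : Janko.Tree (ℕ × ℕ) :=
  (.node (.node (.node (.node (.node (.node (.node (.leaf (0, 34)) (.leaf (60, 1878))) (.leaf (72, 3429))) (.node (.leaf (4, 1916)) (.leaf (8, 4066)))) (.node (.node (.leaf (25, 2663)) (.leaf (0, 0))) (.node (.leaf (4, 1551)) (.leaf (58, 1588))))) (.node (.node (.node (.leaf (0, 0)) (.leaf (77, 2319))) (.node (.leaf (0, 0)) (.leaf (77, 2120)))) (.node (.node (.leaf (0, 0)) (.leaf (77, 2831))) (.node (.leaf (0, 1807)) (.leaf (77, 3855)))))) (.node (.node (.node (.node (.leaf (0, 0)) (.leaf (73, 2250))) (.node (.leaf (0, 0)) (.leaf (77, 2232)))) (.node (.node (.leaf (0, 1040)) (.leaf (59, 2703))) (.node (.leaf (0, 2370)) (.leaf (77, 3921))))) (.node (.node (.node (.leaf (0, 0)) (.leaf (23, 745))) (.node (.leaf (76, 1162)) (.leaf (0, 3471)))) (.node (.node (.leaf (12, 452)) (.leaf (0, 2959))) (.node (.leaf (77, 1935)) (.leaf (77, 3983))))))) (.node (.node (.node (.node (.node (.leaf (0, 0)) (.leaf (0, 0))) (.node (.leaf (0, 1103))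 (.leaf (54, 3151)))) (.node (.node (.leaf (0, 591)) (.leaf (0, 0))) (.node (.leaf (0, 1615)) (.leaf (58, 1732))))) (.node (.node (.node (.leaf (0, 335)) (.leaf (5, 2383))) (.node (.leaf (0, 1359)) (.leaf (0, 3407)))) (.node (.node (.leaf (0, 847)) (.leaf (0, 3530))) (.node (.leaf (0, 0)) (.leaf (74, 1434)))))) (.node (.node (.node (.node (.leaf (0, 207)) (.leaf (0, 0))) (.node (.leaf (5, 2530)) (.leaf (5, 3279)))) (.node (.node (.leaf (0, 1132)) (.leaf (0, 3422))) (.node (.leaf (77, 812)) (.leaf (59, 1515))))) (.node (.node (.node (.leaf (0, 753)) (.leaf (76, 1176))) (.node (.leaf (77, 1487)) (.leaf (75, 3273)))) (.node (.node (.leaf (7, 609)) (.leaf (0, 3151))) (.node (.leaf (20, 1999)) (.leaf (77, 3272))))))))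

def twoVia61 : Janko.Tree (ℕ × ℕ) :=
  (.node (.node (.node (.node (.node (.node (.node (.leaf (0, 0)) (.leaf (61, 3874))) (.leaf (1, 2772))) (.node (.leaf (1, 1039)) (.leaf (0, 0)))) (.node (.node (.leaf (0, 0)) (.leaf (1, 2575))) (.node (.leaf (77, 1011)) (.leaf (77, 3720))))) (.node (.node (.node (.leaf (1, 271)) (.leaf (1, 2319))) (.node (.leaf (1, 1295)) (.leaf (10, 3343)))) (.node (.node (.leaf (1, 783)) (.leaf (0, 0))) (.node (.leaf (60, 2157)) (.leaf (1, 3855)))))) (.node (.node (.node (.node (.leaf (1, 143)) (.leaf (0, 0))) (.node (.leaf (1, 1167)) (.leaf (71, 1818)))) (.node (.node (.leaf (0, 0)) (.leaf (1, 2703))) (.node (.leaf (77, 2186)) (.leaf (67, 3160))))) (.node (.node (.node (.leaf (1, 399)) (.leaf (0, 0))) (.node (.leaf (9, 1423)) (.leaf (0, 0)))) (.node (.node (.leaf (0, 0)) (.leaf (0, 0))) (.node (.leaf (1, 1935)) (.leaf (1, 3983))))))) (.node (.node (.node (.node (.node (.leaf (1, 79)) (.leaf (1, 2127))) (.node (.leaf (73, 1673)) (.leaf (77,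 3694)))) (.node (.node (.leaf (0, 0)) (.leaf (1, 2639))) (.node (.leaf (0, 0)) (.leaf (0, 0))))) (.node (.node (.node (.leaf (0, 0)) (.leaf (77, 3642))) (.node (.leaf (0, 0)) (.leaf (76, 2745)))) (.node (.node (.leaf (0, 0)) (.leaf (77, 2399))) (.node (.leaf (1, 1871)) (.leaf (1, 3919)))))) (.node (.node (.node (.node (.leaf (0, 0)) (.leaf (1, 2255))) (.node (.leaf (0, 0)) (.leaf (0, 0)))) (.node (.node (.leaf (0, 0)) (.leaf (1, 2767))) (.node (.leaf (0, 0)) (.leaf (67, 1849))))) (.node (.node (.node (.leaf (0, 0)) (.leaf (0, 0))) (.node (.leaf (0, 0)) (.leaf (1, 3535)))) (.node (.node (.leaf (77, 1478)) (.leaf (1, 3023))) (.node (.leaf (67, 1354)) (.leaf (1, 4047))))))))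

def twoVia62 : Janko.Tree (ℕ × ℕ) :=
  (.node (.node (.node (.node (.node (.node (.node (.leaf (2, 15)) (.leaf (62, 3760))) (.leaf (2, 2063))) (.node (.leaf (0, 0)) (.leaf (2, 3087)))) (.node (.node (.leaf (2, 527)) (.leaf (70, 2582))) (.node (.leaf (2, 1551)) (.leaf (77, 1812))))) (.node (.node (.node (.leaf (0, 0)) (.leaf (2, 3028))) (.node (.leaf (0, 0)) (.leaf (77, 3093)))) (.node (.node (.leaf (6, 1825)) (.leaf (2, 2831))) (.node (.leaf (7, 2514)) (.leaf (70, 3856)))))) (.node (.node (.node (.node (.leaf (0, 0)) (.leaf (77, 978))) (.node (.leaf (0, 0)) (.leaf (77, 3414)))) (.node (.node (.leaf (2, 655)) (.leaf (0, 0))) (.node (.leaf (2, 1679)) (.leaf (2, 3727))))) (.node (.node (.node (.leaf (0, 0)) (.leaf (2, 2447))) (.node (.leaf (2, 1423)) (.leaf (72, 2160)))) (.node (.node (.leaf (2, 1415)) (.leaf (0, 0))) (.node (.leaf (77, 1947)) (.leaf (70, 3551))))))) (.node (.node (.node (.node (.node (.leaf (0, 0)) (.leaf (4, 2857))) (.node (.leaf (0, 0)) (.leaf (2,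 3716)))) (.node (.node (.leaf (6, 591)) (.leaf (0, 0))) (.node (.leaf (6, 1628)) (.leaf (77, 2397))))) (.node (.node (.node (.leaf (77, 330)) (.leaf (77, 1070))) (.node (.leaf (0, 0)) (.leaf (77, 3987)))) (.node (.node (.leaf (23, 313)) (.leaf (77, 2631))) (.node (.leaf (0, 0)) (.leaf (46, 2889)))))) (.node (.node (.node (.node (.leaf (6, 207)) (.leaf (0, 0))) (.node (.leaf (2, 1231)) (.leaf (7, 2581)))) (.node (.node (.leaf (6, 719)) (.leaf (0, 0))) (.node (.leaf (77, 1748)) (.leaf (6, 3791))))) (.node (.node (.node (.leaf (2, 463)) (.leaf (2, 2511))) (.node (.leaf (6, 1487)) (.leaf (0, 0)))) (.node (.node (.leaf (2, 975)) (.leaf (77, 1605))) (.node (.leaf (2, 2719)) (.leaf (77, 3297))))))))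

def twoVia63 : Janko.Tree (ℕ × ℕ) :=
  (.node (.node (.node (.node (.node (.node (.node (.leaf (0, 0)) (.leaf (63, 2416))) (.leaf (0, 0))) (.node (.leaf (0, 0)) (.leaf (77, 1477)))) (.node (.node (.leaf (0, 0)) (.leaf (0, 0))) (.node (.leaf (0, 0)) (.leaf (3, 3599))))) (.node (.node (.node (.leaf (0, 0)) (.leaf (0, 0))) (.node (.leaf (0, 0)) (.leaf (3, 3343)))) (.node (.node (.leaf (0, 0)) (.leaf (0, 0))) (.node (.leaf (3, 1807)) (.leaf (71, 2674)))))) (.node (.node (.node (.node (.leaf (0, 0)) (.leaf (3, 2191))) (.node (.leaf (0, 0)) (.leaf (3, 3215)))) (.node (.node (.leaf (0, 0)) (.leaf (59, 2751))) (.node (.leaf (77, 2027)) (.leaf (3, 3727))))) (.node (.node (.node (.leaf (0, 0)) (.leaf (77, 1037))) (.node (.leaf (62, 3458)) (.leaf (77, 205)))) (.node (.node (.leaf (3, 911)) (.leaf (73, 2734))) (.node (.leaf (0, 0)) (.leaf (67, 3552))))))) (.node (.node (.node (.node (.node (.leaf (0, 0)) (.leaf (0, 0))) (.node (.leaf (59, 2354)) (.leaf (3, 3151)))) (.node (.node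 (.leaf (3, 591)) (.leaf (0, 0))) (.node (.leaf (0, 0)) (.leaf (3, 3663))))) (.node (.node (.node (.leaf (71, 3354)) (.leaf (3, 2383))) (.node (.leaf (0, 0)) (.leaf (3, 3881)))) (.node (.node (.leaf (77, 1280)) (.leaf (3, 2895))) (.node (.leaf (0, 0)) (.leaf (77, 965)))))) (.node (.node (.node (.node (.leaf (3, 207)) (.leaf (0, 0))) (.node (.leaf (0, 0)) (.leaf (3, 3279)))) (.node (.node (.leaf (3, 719)) (.leaf (0, 0))) (.node (.leaf (3, 1743)) (.leaf (3, 3791))))) (.node (.node (.node (.leaf (0, 0)) (.leaf (75, 2278))) (.node (.leaf (3, 1487)) (.leaf (0, 0)))) (.node (.node (.leaf (3, 975)) (.leaf (71, 3148))) (.node (.leaf (3, 1999)) (.leaf (35, 3545))))))))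

def twoVia64 : Janko.Tree (ℕ × ℕ) :=
  (.node (.node (.node (.node (.node (.node (.node (.leaf (7, 34)) (.leaf (64, 2760))) (.leaf (0, 2776))) (.node (.leaf (4, 1040)) (.leaf (0, 0)))) (.node (.node (.leaf (20, 528)) (.leaf (7, 1857))) (.node (.leaf (0, 1552)) (.leaf (77, 3600))))) (.node (.node (.node (.leaf (0, 272)) (.leaf (77, 767))) (.node (.leaf (0, 1296)) (.leaf (4, 3344)))) (.node (.node (.leaf (77, 1783)) (.leaf (59, 998))) (.node (.leaf (0, 0)) (.leaf (77, 3856)))))) (.node (.node (.node (.node (.leaf (0, 144)) (.leaf (12, 976))) (.node (.leaf (0, 1168)) (.leaf (77, 3216)))) (.node (.node (.leaf (7, 1040)) (.leaf (0, 2704))) (.node (.leaf (59, 432)) (.leaf (75, 1607))))) (.node (.node (.node (.leaf (0, 400)) (.leaf (0, 0))) (.node (.leaf (0, 2079)) (.leaf (17, 3472)))) (.node (.node (.leaf (77, 912)) (.leaf (0, 3578))) (.node (.leaf (7, 1936)) (.leaf (61, 3129))))))) (.node (.node (.node (.node (.node (.leaf (0, 80)) (.leaf (7, 1456))) (.node (.leaf (0,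 1674)) (.leaf (49, 1764)))) (.node (.node (.leaf (75, 610)) (.leaf (74, 2640))) (.node (.leaf (77, 676)) (.leaf (11, 2414))))) (.node (.node (.node (.leaf (73, 730)) (.leaf (77, 2384))) (.node (.leaf (0, 2008)) (.leaf (59, 3303)))) (.node (.node (.leaf (0, 0)) (.leaf (72, 1485))) (.node (.leaf (75, 3289)) (.leaf (59, 3788)))))) (.node (.node (.node (.node (.leaf (0, 0)) (.leaf (57, 2971))) (.node (.leaf (7, 1820)) (.leaf (77, 1865)))) (.node (.node (.leaf (77, 720)) (.leaf (74, 2768))) (.node (.leaf (0, 0)) (.leaf (76, 3953))))) (.node (.node (.node (.leaf (7, 753)) (.leaf (75, 2518))) (.node (.leaf (76, 2779)) (.leaf (0, 3536)))) (.node (.node (.leaf (12, 2179)) (.leaf (61, 1995))) (.node (.leaf (4, 2000)) (.leaf (0, 4048))))))))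

def twoVia65 : Janko.Tree (ℕ × ℕ) :=
  (.node (.node (.node (.node (.node (.node (.node (.leaf (0, 0)) (.leaf (65, 4061))) (.leaf (66, 3231))) (.node (.leaf (0, 0)) (.leaf (1, 3088)))) (.node (.node (.leaf (0, 0)) (.leaf (69, 3272))) (.node (.leaf (0, 0)) (.leaf (10, 3600))))) (.node (.node (.node (.leaf (0, 0)) (.leaf (0, 0))) (.node (.leaf (0, 0)) (.leaf (1, 3844)))) (.node (.node (.leaf (0, 0)) (.leaf (77, 1122))) (.node (.leaf (1, 1808)) (.leaf (1, 3856)))))) (.node (.node (.node (.node (.leaf (0, 0)) (.leaf (1, 2192))) (.node (.leaf (0, 0)) (.leaf (1, 3216)))) (.node (.node (.leaf (1, 1038)) (.leaf (77, 528))) (.node (.leaf (1, 2368)) (.leaf (0, 0))))) (.node (.node (.node (.leaf (0, 0)) (.leaf (1, 2448))) (.node (.leaf (0, 0)) (.leaf (9, 3472)))) (.node (.node (.leaf (1, 912)) (.leaf (77, 3985))) (.node (.leaf (0, 0)) (.leaf (1, 3984))))))) (.node (.node (.node (.node (.node (.leaf (0, 0)) (.leaf (67, 1459))) (.node (.leaf (0, 0)) (.leaf (0, 0)))) (.node (.node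 (.leaf (1, 592)) (.leaf (1, 2640))) (.node (.leaf (9, 1616)) (.leaf (1, 3664))))) (.node (.node (.node (.leaf (1, 336)) (.leaf (1, 2384))) (.node (.leaf (0, 0)) (.leaf (1, 3827)))) (.node (.node (.leaf (1, 848)) (.leaf (1, 2896))) (.node (.leaf (1, 1872)) (.leaf (1, 3920)))))) (.node (.node (.node (.node (.leaf (1, 208)) (.leaf (0, 0))) (.node (.leaf (0, 0)) (.leaf (1, 3280)))) (.node (.node (.leaf (1, 720)) (.leaf (1, 2768))) (.node (.leaf (1, 1744)) (.leaf (1, 3792))))) (.node (.node (.node (.leaf (1, 464)) (.leaf (41, 1289))) (.node (.leaf (1, 1488)) (.leaf (77, 2903)))) (.node (.node (.leaf (0, 0)) (.leaf (1, 3024))) (.node (.leaf (77, 2565)) (.leaf (1, 4048))))))))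

def twoVia66 : Janko.Tree (ℕ × ℕ) :=
  (.node (.node (.node (.node (.node (.node (.node (.leaf (7, 37)) (.leaf (66, 3336))) (.leaf (2, 2777))) (.node (.leaf (2, 1040)) (.leaf (0, 0)))) (.node (.node (.leaf (2, 849)) (.leaf (2, 2576))) (.node (.leaf (7, 2242)) (.leaf (76, 2376))))) (.node (.node (.node (.leaf (0, 0)) (.leaf (2, 2320))) (.node (.leaf (24, 1920)) (.leaf (2, 3344)))) (.node (.node (.leaf (6, 784)) (.leaf (2, 3487))) (.node (.leaf (23, 3223)) (.leaf (70, 3855)))))) (.node (.node (.node (.node (.leaf (77, 2463)) (.leaf (75, 976))) (.node (.leaf (6, 1417)) (.leaf (36, 3768)))) (.node (.node (.leaf (7, 1043)) (.leaf (7, 1985))) (.node (.leaf (61, 432)) (.leaf (71, 3393))))) (.node (.node (.node (.leaf (0, 0)) (.leaf (0, 0))) (.node (.leaf (75, 1259)) (.leaf (2, 3472)))) (.node (.node (.leaf (77, 915)) (.leaf (2, 2960))) (.node (.leaf (6, 1936)) (.leaf (69, 4007))))))) (.node (.node (.node (.node (.node (.leaf (0, 0)) (.leaf (2, 2128))) (.node (.leaf (2, 1104))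 (.leaf (77, 1762)))) (.node (.node (.leaf (0, 0)) (.leaf (72, 3001))) (.node (.leaf (2, 1616)) (.leaf (53, 3659))))) (.node (.node (.node (.leaf (77, 51)) (.leaf (0, 0))) (.node (.leaf (2, 1360)) (.leaf (77, 4088)))) (.node (.node (.leaf (0, 0)) (.leaf (76, 606))) (.node (.leaf (77, 741)) (.leaf (77, 2648)))))) (.node (.node (.node (.node (.leaf (0, 0)) (.leaf (2, 2256))) (.node (.leaf (2, 1833)) (.leaf (77, 3914)))) (.node (.node (.leaf (77, 242)) (.leaf (36, 3439))) (.node (.leaf (0, 0)) (.leaf (70, 3699))))) (.node (.node (.node (.leaf (7, 756)) (.leaf (77, 2244))) (.node (.leaf (70, 2173)) (.leaf (0, 0)))) (.node (.node (.leaf (2, 976)) (.leaf (77, 799))) (.node (.leaf (2, 2000)) (.leaf (13, 3806))))))))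

def twoVia67 : Janko.Tree (ℕ × ℕ) :=
  (.node (.node (.node (.node (.node (.node (.node (.leaf (3, 16)) (.leaf (67, 3246))) (.leaf (3, 2064))) (.node (.leaf (0, 0)) (.leaf (0, 0)))) (.node (.node (.leaf (3, 528)) (.leaf (3, 2576))) (.node (.leaf (3, 1552)) (.leaf (3, 3600))))) (.node (.node (.node (.leaf (0, 0)) (.leaf (70, 3029))) (.node (.leaf (0, 0)) (.leaf (0, 0)))) (.node (.node (.leaf (3, 784)) (.leaf (3, 2832))) (.node (.leaf (0, 0)) (.leaf (67, 2821)))))) (.node (.node (.node (.node (.leaf (0, 0)) (.leaf (0, 0))) (.node (.leaf (0, 0)) (.leaf (77, 2447)))) (.node (.node (.leaf (3, 656)) (.leaf (0, 0))) (.node (.leaf (3, 1680)) (.leaf (3, 3728))))) (.node (.node (.node (.leaf (77, 1289)) (.leaf (0, 0))) (.node (.leaf (3, 1424)) (.leaf (75, 2898)))) (.node (.node (.leaf (0, 0)) (.leaf (44, 2137))) (.node (.leaf (3, 1936)) (.leaf (73, 3138))))))) (.node (.node (.node (.node (.node (.leaf (0, 0)) (.leaf (3, 2128))) (.node (.leaf (0, 0)) (.leaf (3, 3152)))) (.node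 (.node (.leaf (73, 612)) (.leaf (0, 0))) (.node (.leaf (75, 1085)) (.leaf (0, 0))))) (.node (.node (.node (.leaf (0, 0)) (.leaf (0, 0))) (.node (.leaf (0, 0)) (.leaf (3, 3408)))) (.node (.node (.leaf (0, 0)) (.leaf (0, 0))) (.node (.leaf (38, 3459)) (.leaf (70, 4076)))))) (.node (.node (.node (.node (.leaf (0, 0)) (.leaf (54, 1577))) (.node (.leaf (3, 1232)) (.leaf (77, 1461)))) (.node (.node (.leaf (0, 0)) (.leaf (0, 0))) (.node (.leaf (0, 0)) (.leaf (66, 3699))))) (.node (.node (.node (.leaf (3, 464)) (.leaf (3, 2512))) (.node (.leaf (75, 960)) (.leaf (77, 666)))) (.node (.node (.leaf (77, 610)) (.leaf (75, 799))) (.node (.leaf (54, 3383)) (.leaf (59, 3543))))))))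

def twoVia68 : Janko.Tree (ℕ × ℕ) :=
  (.node (.node (.node (.node (.node (.node (.node (.leaf (0, 0)) (.leaf (68, 1197))) (.leaf (0, 0))) (.node (.leaf (0, 1041)) (.leaf (0, 3089)))) (.node (.node (.leaf (0, 0)) (.leaf (0, 2577))) (.node (.leaf (0, 0)) (.leaf (4, 3601))))) (.node (.node (.node (.leaf (0, 466)) (.leaf (76, 2321))) (.node (.leaf (0, 1927)) (.leaf (0, 3345)))) (.node (.node (.leaf (72, 284)) (.leaf (77, 2833))) (.node (.leaf (7, 1211)) (.leaf (75, 556)))))) (.node (.node (.node (.node (.leaf (77, 206)) (.leaf (77, 3528))) (.node (.leaf (77, 1420)) (.leaf (66, 3217)))) (.node (.node (.leaf (72, 659)) (.leaf (0, 3378))) (.node (.leaf (50, 1681)) (.leaf (77, 3783))))) (.node (.node (.node (.leaf (0, 658)) (.leaf (0, 2449))) (.node (.leaf (72, 572)) (.leaf (77, 1954)))) (.node (.node (.leaf (0, 913)) (.leaf (57, 2961))) (.node (.leaf (55, 856)) (.leaf (77, 3577))))))) (.node (.node (.node (.node (.node (.leaf (0, 160)) (.leaf (0, 2129))) (.node (.leaf (7,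 1105)) (.leaf (77, 3153)))) (.node (.node (.leaf (0, 593)) (.leaf (5, 2641))) (.node (.leaf (0, 2309)) (.leaf (75, 3659))))) (.node (.node (.node (.leaf (5, 337)) (.leaf (55, 445))) (.node (.leaf (7, 2008)) (.leaf (77, 3512)))) (.node (.node (.leaf (76, 1983)) (.leaf (5, 2897))) (.node (.leaf (0, 1873)) (.leaf (77, 3878)))))) (.node (.node (.node (.node (.leaf (0, 0)) (.leaf (5, 2257))) (.node (.leaf (77, 1233)) (.leaf (0, 3281)))) (.node (.node (.leaf (75, 174)) (.leaf (11, 3423))) (.node (.leaf (75, 777)) (.leaf (61, 3953))))) (.node (.node (.node (.leaf (73, 147)) (.leaf (74, 2447))) (.node (.leaf (73, 608)) (.leaf (0, 3943)))) (.node (.node (.leaf (0, 0)) (.leaf (0, 3025))) (.node (.leaf (77, 2001)) (.leaf (66, 4049))))))))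

def twoVia69 : Janko.Tree (ℕ × ℕ) :=
  (.node (.node (.node (.node (.node (.node (.node (.leaf (1, 17)) (.leaf (69, 4054))) (.leaf (1, 2065))) (.node (.leaf (67, 3526)) (.leaf (0, 0)))) (.node (.node (.leaf (1, 529)) (.leaf (0, 0))) (.node (.leaf (1, 1553)) (.leaf (1, 3966))))) (.node (.node (.node (.leaf (0, 0)) (.leaf (1, 2321))) (.node (.leaf (0, 0)) (.leaf (77, 3739)))) (.node (.node (.leaf (1, 785)) (.leaf (1, 2833))) (.node (.leaf (74, 3832)) (.leaf (1, 3857)))))) (.node (.node (.node (.node (.leaf (1, 262)) (.leaf (0, 0))) (.node (.leaf (1, 1749)) (.leaf (0, 0)))) (.node (.node (.leaf (1, 657)) (.leaf (71, 2707))) (.node (.leaf (1, 1681)) (.leaf (1, 3729))))) (.node (.node (.node (.leaf (0, 0)) (.leaf (0, 0))) (.node (.leaf (1, 1425)) (.leaf (77, 3913)))) (.node (.node (.leaf (0, 0)) (.leaf (10, 2961))) (.node (.leaf (0, 0)) (.leaf (70, 3985))))))) (.node (.node (.node (.node (.node (.leaf (0, 0)) (.leaf (77, 1459))) (.node (.leaf (1, 1673)) (.leaf (1, 3153))))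 (.node (.node (.leaf (0, 0)) (.leaf (71, 3154))) (.node (.leaf (0, 0)) (.leaf (0, 0))))) (.node (.node (.node (.leaf (0, 0)) (.leaf (0, 0))) (.node (.leaf (67, 873)) (.leaf (1, 3409)))) (.node (.node (.leaf (0, 0)) (.leaf (0, 0))) (.node (.leaf (0, 0)) (.leaf (28, 3921)))))) (.node (.node (.node (.node (.leaf (1, 209)) (.leaf (0, 0))) (.node (.leaf (1, 1233)) (.leaf (0, 0)))) (.node (.node (.leaf (0, 0)) (.leaf (0, 0))) (.node (.leaf (0, 0)) (.leaf (1, 3793))))) (.node (.node (.node (.leaf (1, 465)) (.leaf (1, 2513))) (.node (.leaf (1, 1489)) (.leaf (77, 3010)))) (.node (.node (.leaf (1, 977)) (.leaf (71, 3929))) (.node (.leaf (1, 2001)) (.leaf (71, 3384))))))))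

def twoVia70 : Janko.Tree (ℕ × ℕ) :=
  (.node (.node (.node (.node (.node (.node (.node (.leaf (0, 0)) (.leaf (70, 4037))) (.leaf (0, 0))) (.node (.leaf (7, 1593)) (.leaf (74, 3214)))) (.node (.node (.leaf (0, 0)) (.leaf (6, 2577))) (.node (.leaf (7, 2244)) (.leaf (2, 3601))))) (.node (.node (.node (.leaf (2, 273)) (.leaf (0, 0))) (.node (.leaf (6, 1297)) (.leaf (7, 3849)))) (.node (.node (.leaf (0, 0)) (.leaf (2, 3486))) (.node (.leaf (2, 1809)) (.leaf (77, 3852)))))) (.node (.node (.node (.node (.leaf (2, 145)) (.leaf (6, 2193))) (.node (.leaf (2, 1169)) (.leaf (77, 3220)))) (.node (.node (.leaf (0, 0)) (.leaf (7, 3378))) (.node (.leaf (77, 3193)) (.leaf (74, 1358))))) (.node (.node (.node (.leaf (2, 401)) (.leaf (76, 774))) (.node (.leaf (49, 573)) (.leaf (77, 2156)))) (.node (.node (.leaf (6, 913)) (.leaf (42, 1463))) (.node (.leaf (77, 1941)) (.leaf (62, 2414))))))) (.node (.node (.node (.node (.node (.leaf (2, 81)) (.leaf (24, 2857))) (.node (.leaf (2, 1676))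 (.leaf (71, 2456)))) (.node (.node (.leaf (55, 201)) (.leaf (59, 1926))) (.node (.leaf (77, 674)) (.leaf (6, 3665))))) (.node (.node (.node (.leaf (75, 905)) (.leaf (2, 2385))) (.node (.leaf (7, 2011)) (.leaf (77, 4019)))) (.node (.node (.leaf (6, 849)) (.leaf (77, 576))) (.node (.leaf (77, 3301)) (.leaf (6, 3921)))))) (.node (.node (.node (.node (.leaf (0, 0)) (.leaf (7, 1569))) (.node (.leaf (24, 484)) (.leaf (76, 799)))) (.node (.node (.leaf (6, 721)) (.leaf (77, 2771))) (.node (.leaf (2, 1745)) (.leaf (77, 2944))))) (.node (.node (.node (.leaf (0, 0)) (.leaf (31, 3709))) (.node (.leaf (0, 0)) (.leaf (2, 3537)))) (.node (.node (.leaf (0, 0)) (.leaf (77, 238))) (.node (.leaf (26, 1354)) (.leaf (6, 4049))))))))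

def twoVia71 : Janko.Tree (ℕ × ℕ) :=
  (.node (.node (.node (.node (.node (.node (.node (.leaf (0, 0)) (.leaf (71, 3772))) (.leaf (0, 0))) (.node (.leaf (3, 1041)) (.leaf (75, 603)))) (.node (.node (.leaf (0, 0)) (.leaf (3, 2577))) (.node (.leaf (0, 0)) (.leaf (77, 1497))))) (.node (.node (.node (.leaf (0, 0)) (.leaf (67, 2402))) (.node (.leaf (3, 1297)) (.leaf (3, 3345)))) (.node (.node (.leaf (0, 0)) (.leaf (0, 0))) (.node (.leaf (3, 1809)) (.leaf (75, 2166)))))) (.node (.node (.node (.node (.leaf (0, 0)) (.leaf (3, 2193))) (.node (.leaf (77, 264)) (.leaf (3, 3217)))) (.node (.node (.leaf (77, 1926)) (.leaf (3, 2705))) (.node (.leaf (75, 2285)) (.leaf (0, 0))))) (.node (.node (.node (.leaf (0, 0)) (.leaf (77, 774))) (.node (.leaf (0, 0)) (.leaf (3, 3473)))) (.node (.node (.leaf (3, 913)) (.leaf (3, 2961))) (.node (.leaf (3, 1937)) (.leaf (3, 3985))))))) (.node (.node (.node (.node (.node (.leaf (0, 0)) (.leaf (77, 585))) (.node (.leaf (3, 1105)) (.leaf (40, 438))))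 (.node (.node (.leaf (0, 0)) (.leaf (3, 2641))) (.node (.leaf (3, 1617)) (.leaf (3, 3665))))) (.node (.node (.node (.leaf (3, 337)) (.leaf (55, 259))) (.node (.leaf (3, 1361)) (.leaf (0, 0)))) (.node (.node (.leaf (3, 849)) (.leaf (3, 2897))) (.node (.leaf (0, 0)) (.leaf (3, 3921)))))) (.node (.node (.node (.node (.leaf (0, 0)) (.leaf (3, 2257))) (.node (.leaf (0, 0)) (.leaf (59, 2313)))) (.node (.node (.leaf (3, 721)) (.leaf (3, 2769))) (.node (.leaf (67, 3117)) (.leaf (0, 0))))) (.node (.node (.node (.leaf (0, 0)) (.leaf (0, 0))) (.node (.leaf (0, 0)) (.leaf (0, 0)))) (.node (.node (.leaf (0, 0)) (.leaf (3, 3025))) (.node (.leaf (77, 210)) (.leaf (3, 4049))))))))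

def twoVia72 : Janko.Tree (ℕ × ℕ) :=
  (.node (.node (.node (.node (.node (.node (.node (.leaf (0, 18)) (.leaf (72, 1158))) (.leaf (77, 370))) (.node (.leaf (0, 0)) (.leaf (0, 0)))) (.node (.node (.leaf (0, 530)) (.leaf (50, 2578))) (.node (.leaf (7, 1010)) (.leaf (0, 3602))))) (.node (.node (.node (.leaf (7, 466)) (.leaf (23, 1615))) (.node (.leaf (75, 2813)) (.leaf (7, 2659)))) (.node (.node (.leaf (4, 786)) (.leaf (0, 2834))) (.node (.leaf (23, 477)) (.leaf (75, 2676)))))) (.node (.node (.node (.node (.leaf (0, 269)) (.leaf (76, 2343))) (.node (.leaf (0, 1752)) (.leaf (0, 0)))) (.node (.node (.leaf (4, 658)) (.leaf (5, 2706))) (.node (.leaf (4, 1682)) (.leaf (4, 3730))))) (.node (.node (.node (.leaf (77, 321)) (.leaf (0, 0))) (.node (.leaf (5, 1426)) (.leaf (0, 3474)))) (.node (.node (.leaf (75, 969)) (.leaf (73, 1545))) (.node (.leaf (0, 0)) (.leaf (62, 3087))))))) (.node (.node (.node (.node (.node (.leaf (7, 160)) (.leaf (77, 3396))) (.node (.leaf (22, 3390))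 (.leaf (73, 3202)))) (.node (.node (.leaf (0, 948)) (.leaf (0, 2642))) (.node (.leaf (72, 670)) (.leaf (59, 1735))))) (.node (.node (.node (.leaf (77, 3420)) (.leaf (0, 2386))) (.node (.leaf (59, 1362)) (.leaf (4, 3410)))) (.node (.node (.leaf (77, 424)) (.leaf (75, 3919))) (.node (.leaf (77, 3458)) (.leaf (7, 3922)))))) (.node (.node (.node (.node (.leaf (0, 210)) (.leaf (17, 2258))) (.node (.leaf (73, 525)) (.leaf (4, 3282)))) (.node (.node (.leaf (0, 0)) (.leaf (72, 2770))) (.node (.leaf (77, 344)) (.leaf (7, 3794))))) (.node (.node (.node (.leaf (4, 466)) (.leaf (0, 2514))) (.node (.leaf (4, 1490)) (.leaf (75, 3525)))) (.node (.node (.leaf (0, 978)) (.leaf (77, 3774))) (.node (.leaf (54, 2002)) (.leaf (45, 4078))))))))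

def twoVia73 : Janko.Tree (ℕ × ℕ) :=
  (.node (.node (.node (.node (.node (.node (.node (.leaf (0, 0)) (.leaf (73, 1871))) (.leaf (0, 0))) (.node (.leaf (1, 1042)) (.leaf (1, 3090)))) (.node (.node (.leaf (0, 0)) (.leaf (1, 2578))) (.node (.leaf (67, 1013)) (.leaf (77, 2999))))) (.node (.node (.node (.leaf (67, 463)) (.leaf (77, 2692))) (.node (.leaf (1, 1298)) (.leaf (1, 3848)))) (.node (.node (.leaf (0, 0)) (.leaf (67, 3227))) (.node (.leaf (0, 0)) (.leaf (77, 3996)))))) (.node (.node (.node (.node (.leaf (0, 0)) (.leaf (1, 2194))) (.node (.leaf (0, 0)) (.leaf (1, 3218)))) (.node (.node (.leaf (0, 0)) (.leaf (0, 0))) (.node (.leaf (77, 3494)) (.leaf (77, 1739))))) (.node (.node (.node (.leaf (1, 402)) (.leaf (1, 2450))) (.node (.leaf (0, 0)) (.leaf (1, 3474)))) (.node (.node (.leaf (1, 914)) (.leaf (1, 2962))) (.node (.leaf (1, 1938)) (.leaf (1, 3986))))))) (.node (.node (.node (.node (.node (.leaf (1, 82)) (.leaf (0, 0))) (.node (.leaf (0, 0)) (.leaf (0, 0))))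 (.node (.node (.leaf (77, 2132)) (.leaf (0, 0))) (.node (.leaf (1, 1618)) (.leaf (1, 3666))))) (.node (.node (.node (.leaf (0, 0)) (.leaf (74, 1701))) (.node (.leaf (1, 1362)) (.leaf (0, 0)))) (.node (.node (.leaf (1, 850)) (.leaf (0, 0))) (.node (.leaf (0, 0)) (.leaf (77, 3602)))))) (.node (.node (.node (.node (.leaf (0, 0)) (.leaf (74, 1582))) (.node (.leaf (1, 1234)) (.leaf (77, 2584)))) (.node (.node (.leaf (1, 722)) (.leaf (1, 2770))) (.node (.leaf (1, 1746)) (.leaf (0, 0))))) (.node (.node (.node (.leaf (0, 0)) (.leaf (0, 0))) (.node (.leaf (0, 0)) (.leaf (70, 1531)))) (.node (.node (.leaf (0, 0)) (.leaf (0, 0))) (.node (.leaf (0, 0)) (.leaf (10, 4050))))))))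

def twoVia74 : Janko.Tree (ℕ × ℕ) :=
  (.node (.node (.node (.node (.node (.node (.node (.leaf (6, 18)) (.leaf (74, 3918))) (.leaf (2, 2066))) (.node (.leaf (55, 2290)) (.leaf (0, 0)))) (.node (.node (.leaf (6, 530)) (.leaf (0, 0))) (.node (.leaf (2, 1554)) (.leaf (71, 3609))))) (.node (.node (.node (.leaf (7, 469)) (.leaf (62, 679))) (.node (.leaf (77, 1644)) (.leaf (2, 3346)))) (.node (.node (.leaf (2, 786)) (.leaf (77, 1440))) (.node (.leaf (2, 1810)) (.leaf (2, 3858)))))) (.node (.node (.node (.node (.leaf (2, 270)) (.leaf (77, 3464))) (.node (.leaf (77, 1428)) (.leaf (0, 0)))) (.node (.node (.leaf (2, 658)) (.leaf (2, 3378))) (.node (.leaf (2, 1682)) (.leaf (2, 3730))))) (.node (.node (.node (.leaf (2, 660)) (.leaf (0, 0))) (.node (.leaf (2, 1743)) (.leaf (67, 2814)))) (.node (.node (.leaf (0, 0)) (.leaf (71, 2601))) (.node (.leaf (0, 0)) (.leaf (77, 3088))))))) (.node (.node (.node (.node (.node (.leaf (7, 163)) (.leaf (6, 2130))) (.node (.leaf (77, 129)) (.leaf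 (2, 3713)))) (.node (.node (.leaf (59, 104)) (.leaf (6, 3000))) (.node (.leaf (72, 674)) (.leaf (77, 2412))))) (.node (.node (.node (.leaf (6, 338)) (.leaf (0, 0))) (.node (.leaf (77, 250)) (.leaf (2, 3410)))) (.node (.node (.leaf (0, 0)) (.leaf (2, 2898))) (.node (.leaf (2, 1874)) (.leaf (2, 3922)))))) (.node (.node (.node (.node (.leaf (0, 0)) (.leaf (2, 2258))) (.node (.leaf (77, 1432)) (.leaf (2, 3282)))) (.node (.node (.leaf (0, 0)) (.leaf (74, 3890))) (.node (.leaf (76, 736)) (.leaf (2, 3794))))) (.node (.node (.node (.leaf (2, 466)) (.leaf (6, 2514))) (.node (.leaf (2, 1490)) (.leaf (2, 3944)))) (.node (.node (.leaf (24, 1498)) (.leaf (2, 3026))) (.node (.leaf (6, 2002)) (.leaf (77, 4042))))))))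

def twoVia75 : Janko.Tree (ℕ × ℕ) :=
  (.node (.node (.node (.node (.node (.node (.node (.leaf (3, 18)) (.leaf (75, 3890))) (.leaf (58, 560))) (.node (.leaf (0, 0)) (.leaf (0, 0)))) (.node (.node (.leaf (3, 530)) (.leaf (59, 2585))) (.node (.leaf (3, 1554)) (.leaf (3, 3602))))) (.node (.node (.node (.leaf (3, 274)) (.leaf (3, 2322))) (.node (.leaf (77, 1001)) (.leaf (3, 3346)))) (.node (.node (.leaf (71, 3427)) (.leaf (3, 2834))) (.node (.leaf (77, 1212)) (.leaf (77, 891)))))) (.node (.node (.node (.node (.leaf (3, 146)) (.leaf (0, 0))) (.node (.leaf (3, 1170)) (.leaf (0, 0)))) (.node (.node (.leaf (77, 1924)) (.leaf (3, 2706))) (.node (.leaf (0, 0)) (.leaf (7, 2472))))) (.node (.node (.node (.leaf (3, 402)) (.leaf (0, 0))) (.node (.leaf (3, 1426)) (.leaf (52, 1927)))) (.node (.node (.leaf (75, 3655)) (.leaf (77, 2158))) (.node (.leaf (0, 0)) (.leaf (67, 3414))))))) (.node (.node (.node (.node (.node (.leaf (3, 82)) (.leaf (3, 2130))) (.node (.leaf (3, 1106)) (.leaf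 (3, 3154)))) (.node (.node (.leaf (3, 594)) (.leaf (0, 0))) (.node (.leaf (0, 0)) (.leaf (3, 3666))))) (.node (.node (.node (.leaf (3, 338)) (.leaf (0, 0))) (.node (.leaf (77, 2285)) (.leaf (6, 3866)))) (.node (.node (.leaf (57, 657)) (.leaf (77, 364))) (.node (.leaf (0, 0)) (.leaf (7, 2844)))))) (.node (.node (.node (.node (.leaf (0, 0)) (.leaf (0, 0))) (.node (.leaf (73, 1404)) (.leaf (7, 1866)))) (.node (.node (.leaf (0, 0)) (.leaf (0, 0))) (.node (.leaf (0, 0)) (.leaf (7, 2565))))) (.node (.node (.node (.leaf (0, 0)) (.leaf (3, 2514))) (.node (.leaf (0, 0)) (.leaf (3, 3538)))) (.node (.node (.leaf (13, 0)) (.leaf (71, 2404))) (.node (.leaf (3, 2002)) (.leaf (3, 4050))))))))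

def twoVia76 : Janko.Tree (ℕ × ℕ) :=
  (.node (.node (.node (.node (.node (.node (.node (.leaf (0, 0)) (.leaf (76, 4009))) (.leaf (0, 2775))) (.node (.leaf (7, 654)) (.leaf (0, 3091)))) (.node (.node (.leaf (75, 655)) (.leaf (0, 2579))) (.node (.leaf (0, 1555)) (.leaf (77, 4041))))) (.node (.node (.node (.leaf (73, 75)) (.leaf (62, 1044))) (.node (.leaf (76, 1440)) (.leaf (12, 1322)))) (.node (.node (.leaf (0, 787)) (.leaf (62, 606))) (.node (.leaf (0, 0)) (.leaf (5, 3859)))))) (.node (.node (.node (.node (.leaf (0, 0)) (.leaf (77, 2195))) (.node (.leaf (73, 1173)) (.leaf (72, 1806)))) (.node (.node (.leaf (0, 0)) (.leaf (0, 0))) (.node (.leaf (0, 1683)) (.leaf (7, 3731))))) (.node (.node (.node (.leaf (0, 0)) (.leaf (0, 2451))) (.node (.leaf (0, 0)) (.leaf (77, 3533)))) (.node (.node (.leaf (0, 915)) (.leaf (4, 2963))) (.node (.leaf (59, 1939)) (.leaf (0, 3987))))))) (.node (.node (.node (.node (.node (.leaf (59, 399)) (.leaf (0, 0))) (.node (.leaf (0, 0)) (.leaf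 (25, 3155)))) (.node (.node (.leaf (0, 0)) (.leaf (75, 1296))) (.node (.leaf (5, 1619)) (.leaf (65, 3415))))) (.node (.node (.node (.leaf (0, 0)) (.leaf (0, 3076))) (.node (.leaf (4, 1363)) (.leaf (75, 985)))) (.node (.node (.leaf (0, 851)) (.leaf (5, 2899))) (.node (.leaf (0, 2594)) (.leaf (77, 3923)))))) (.node (.node (.node (.node (.leaf (0, 375)) (.leaf (59, 1034))) (.node (.leaf (0, 1235)) (.leaf (77, 866)))) (.node (.node (.leaf (0, 723)) (.leaf (0, 2771))) (.node (.leaf (5, 1747)) (.leaf (5, 3795))))) (.node (.node (.node (.leaf (0, 467)) (.leaf (0, 2515))) (.node (.leaf (0, 1491)) (.leaf (77, 3539)))) (.node (.node (.leaf (77, 979)) (.leaf (77, 3027))) (.node (.leaf (0, 0)) (.leaf (77, 4051))))))))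

def twoVia77 : Janko.Tree (ℕ × ℕ) :=
  (.node (.node (.node (.node (.node (.node (.node (.leaf (1, 19)) (.leaf (77, 3981))) (.leaf (1, 2067))) (.node (.leaf (77, 2997)) (.leaf (0, 0)))) (.node (.node (.leaf (1, 531)) (.leaf (10, 4092))) (.node (.leaf (0, 0)) (.leaf (1, 3603))))) (.node (.node (.node (.leaf (1, 275)) (.leaf (1, 2323))) (.node (.leaf (1, 1299)) (.leaf (0, 0)))) (.node (.node (.leaf (0, 0)) (.leaf (1, 2835))) (.node (.leaf (1, 1811)) (.leaf (77, 3367)))))) (.node (.node (.node (.node (.leaf (1, 147)) (.leaf (0, 0))) (.node (.leaf (1, 1171)) (.leaf (1, 3219)))) (.node (.node (.leaf (1, 659)) (.leaf (1, 2707))) (.node (.leaf (0, 0)) (.leaf (0, 0))))) (.node (.node (.node (.leaf (1, 403)) (.leaf (0, 0))) (.node (.leaf (1, 1427)) (.leaf (0, 0)))) (.node (.node (.leaf (0, 0)) (.leaf (0, 0))) (.node (.leaf (1, 1939)) (.leaf (77, 2729))))))) (.node (.node (.node (.node (.node (.leaf (1, 83)) (.leaf (1, 2131))) (.node (.leaf (1, 1107)) (.leaf (1, 3155)))) (.node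 (.node (.leaf (1, 595)) (.leaf (9, 2643))) (.node (.leaf (0, 0)) (.leaf (1, 3667))))) (.node (.node (.node (.leaf (1, 339)) (.leaf (0, 0))) (.node (.leaf (77, 433)) (.leaf (1, 3411)))) (.node (.node (.leaf (0, 0)) (.leaf (71, 2899))) (.node (.leaf (67, 1261)) (.leaf (1, 3923)))))) (.node (.node (.node (.node (.leaf (0, 0)) (.leaf (0, 0))) (.node (.leaf (0, 0)) (.leaf (1, 3283)))) (.node (.node (.leaf (0, 0)) (.leaf (0, 0))) (.node (.leaf (0, 0)) (.leaf (0, 0))))) (.node (.node (.node (.leaf (0, 0)) (.leaf (0, 0))) (.node (.leaf (77, 973)) (.leaf (1, 3539)))) (.node (.node (.leaf (0, 0)) (.leaf (67, 2317))) (.node (.leaf (1, 2003)) (.leaf (1, 4051))))))))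

def twoVia78 : Janko.Tree (ℕ × ℕ) :=
  (.node (.node (.node (.node (.node (.node (.leaf (0, 0)) (.leaf (0, 0))) (.node (.leaf (2, 1043)) (.leaf (72, 1731)))) (.node (.node (.leaf (0, 0)) (.leaf (7, 1864))) (.node (.leaf (24, 2244)) (.leaf (77, 1142))))) (.node (.node (.node (.leaf (0, 0)) (.leaf (77, 1045))) (.node (.leaf (0, 0)) (.leaf (59, 1335)))) (.node (.node (.leaf (77, 45)) (.leaf (77, 604))) (.node (.leaf (0, 0)) (.leaf (7, 3363)))))) (.node (.node (.node (.node (.leaf (0, 0)) (.leaf (2, 2195))) (.node (.leaf (0, 0)) (.leaf (77, 4009)))) (.node (.node (.leaf (6, 1595)) (.leaf (70, 1620))) (.node (.leaf (7, 2371)) (.leaf (6, 3731))))) (.node (.node (.node (.leaf (0, 0)) (.leaf (76, 1182))) (.node (.leaf (71, 2600)) (.leaf (2, 3475)))) (.node (.node (.leaf (55, 344)) (.leaf (2, 2963))) (.node (.leaf (76, 532)) (.leaf (6, 3987))))))) (.node (.node (.node (.node (.node (.leaf (0, 0)) (.leaf (0, 0))) (.node (.leaf (0, 0)) (.leaf (53, 3150)))) (.node (.node (.leaf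 (0, 0)) (.leaf (2, 2643))) (.node (.leaf (2, 1619)) (.leaf (77, 1210))))) (.node (.node (.node (.leaf (0, 0)) (.leaf (2, 2387))) (.node (.leaf (2, 1363)) (.leaf (66, 2193)))) (.node (.node (.leaf (77, 834)) (.leaf (76, 1750))) (.node (.leaf (2, 2596)) (.leaf (77, 3999)))))) (.node (.node (.node (.node (.leaf (2, 211)) (.leaf (2, 2979))) (.node (.leaf (23, 487)) (.leaf (77, 366)))) (.node (.node (.leaf (0, 0)) (.leaf (74, 1405))) (.node (.leaf (59, 1171)) (.leaf (7, 3261))))) (.node (.node (.node (.leaf (7, 760)) (.leaf (23, 1215))) (.node (.leaf (7, 2171)) (.leaf (76, 2591)))) (.node (.node (.leaf (6, 979)) (.leaf (67, 2404))) (.node (.leaf (0, 0)) (.leaf (77, 4069))))))))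

def twoVia79 : Janko.Tree (ℕ × ℕ) :=
  (.node (.node (.node (.node (.node (.node (.leaf (0, 0)) (.leaf (0, 0))) (.node (.leaf (3, 1043)) (.leaf (75, 2408)))) (.node (.node (.leaf (67, 1326)) (.leaf (0, 0))) (.node (.leaf (0, 0)) (.leaf (77, 3076))))) (.node (.node (.node (.leaf (77, 1365)) (.leaf (61, 2643))) (.node (.leaf (0, 0)) (.leaf (3, 3347)))) (.node (.node (.leaf (3, 787)) (.leaf (75, 964))) (.node (.leaf (0, 0)) (.leaf (3, 3859)))))) (.node (.node (.node (.node (.leaf (0, 0)) (.leaf (0, 0))) (.node (.leaf (0, 0)) (.leaf (0, 0)))) (.node (.node (.leaf (0, 0)) (.leaf (5, 3380))) (.node (.leaf (3, 1683)) (.leaf (3, 3731))))) (.node (.node (.node (.leaf (0, 0)) (.leaf (71, 3026))) (.node (.leaf (67, 1273)) (.leaf (77, 510)))) (.node (.node (.leaf (0, 0)) (.leaf (77, 1986))) (.node (.leaf (0, 0)) (.leaf (3, 3987))))))) (.node (.node (.node (.node (.node (.leaf (0, 0)) (.leaf (0, 0))) (.node (.leaf (0, 0)) (.leaf (0, 0)))) (.node (.node (.leaf (0, 0)) (.leaf (75,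 2292))) (.node (.leaf (3, 1619)) (.leaf (75, 2050))))) (.node (.node (.node (.leaf (0, 0)) (.leaf (0, 0))) (.node (.leaf (0, 0)) (.leaf (77, 617)))) (.node (.node (.leaf (0, 0)) (.leaf (3, 2899))) (.node (.leaf (3, 1875)) (.leaf (0, 0)))))) (.node (.node (.node (.node (.leaf (0, 0)) (.leaf (3, 2259))) (.node (.leaf (77, 778)) (.leaf (71, 1904)))) (.node (.node (.leaf (73, 715)) (.leaf (77, 2289))) (.node (.leaf (3, 1747)) (.leaf (3, 3795))))) (.node (.node (.node (.leaf (3, 467)) (.leaf (77, 2231))) (.node (.leaf (3, 1491)) (.leaf (0, 0)))) (.node (.node (.leaf (3, 979)) (.leaf (3, 3027))) (.node (.leaf (0, 0)) (.leaf (71, 3890))))))))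

def twoVia80 : Janko.Tree (ℕ × ℕ) :=
  (.node (.node (.node (.node (.node (.node (.leaf (73, 25)) (.leaf (5, 2068))) (.node (.leaf (50, 228)) (.leaf (74, 3098)))) (.node (.node (.leaf (0, 532)) (.leaf (0, 3279))) (.node (.leaf (0, 2247)) (.leaf (0, 3839))))) (.node (.node (.node (.leaf (4, 276)) (.leaf (76, 3195))) (.node (.leaf (4, 1300)) (.leaf (0, 0)))) (.node (.node (.leaf (0, 0)) (.leaf (4, 2836))) (.node (.leaf (0, 1812)) (.leaf (77, 2685)))))) (.node (.node (.node (.node (.leaf (0, 148)) (.leaf (58, 2196))) (.node (.leaf (5, 1172)) (.leaf (0, 3220)))) (.node (.node (.leaf (77, 1332)) (.leaf (0, 2708))) (.node (.leaf (0, 0)) (.leaf (77, 3840))))) (.node (.node (.node (.leaf (0, 404)) (.leaf (72, 3712))) (.node (.leaf (77, 2439)) (.leaf (0, 3841)))) (.node (.node (.leaf (0, 1421)) (.leaf (73, 2964))) (.node (.leaf (5, 1940)) (.leaf (20, 3107))))))) (.node (.node (.node (.node (.node (.leaf (4, 84)) (.leaf (0, 2132))) (.node (.leaf (75, 817)) (.leaf (5, 3156))))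 (.node (.node (.leaf (0, 596)) (.leaf (0, 3329))) (.node (.leaf (0, 0)) (.leaf (4, 3668))))) (.node (.node (.node (.leaf (0, 340)) (.leaf (7, 3076))) (.node (.leaf (0, 1364)) (.leaf (66, 3853)))) (.node (.node (.leaf (62, 1935)) (.leaf (76, 2900))) (.node (.leaf (77, 1876)) (.leaf (77, 3955)))))) (.node (.node (.node (.node (.leaf (7, 375)) (.leaf (73, 2260))) (.node (.leaf (0, 0)) (.leaf (7, 3284)))) (.node (.node (.leaf (0, 1140)) (.leaf (77, 2772))) (.node (.leaf (0, 1748)) (.leaf (77, 2561))))) (.node (.node (.node (.leaf (0, 0)) (.leaf (77, 1675))) (.node (.leaf (0, 0)) (.leaf (77, 1951)))) (.node (.node (.leaf (77, 2073)) (.leaf (77, 2657))) (.node (.leaf (0, 2004)) (.leaf (0, 4052))))))))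

def twoVia81 : Janko.Tree (ℕ × ℕ) :=
  (.node (.node (.node (.node (.node (.node (.leaf (1, 20)) (.leaf (0, 0))) (.node (.leaf (0, 0)) (.leaf (1, 3655)))) (.node (.node (.leaf (0, 0)) (.leaf (69, 3146))) (.node (.leaf (0, 0)) (.leaf (0, 0))))) (.node (.node (.node (.leaf (0, 0)) (.leaf (67, 1634))) (.node (.leaf (0, 0)) (.leaf (1, 3348)))) (.node (.node (.leaf (1, 788)) (.leaf (17, 2112))) (.node (.leaf (0, 0)) (.leaf (1, 3860)))))) (.node (.node (.node (.node (.leaf (0, 0)) (.leaf (1, 2926))) (.node (.leaf (0, 0)) (.leaf (0, 0)))) (.node (.node (.leaf (0, 0)) (.leaf (77, 4060))) (.node (.leaf (1, 1684)) (.leaf (1, 3732))))) (.node (.node (.node (.leaf (0, 0)) (.leaf (1, 3146))) (.node (.leaf (0, 0)) (.leaf (0, 0)))) (.node (.node (.leaf (77, 2807)) (.leaf (1, 2964))) (.node (.leaf (77, 2641)) (.leaf (1, 3988))))))) (.node (.node (.node (.node (.node (.leaf (0, 0)) (.leaf (61, 3501))) (.node (.leaf (1, 1108)) (.leaf (77, 2805)))) (.node (.node (.leaf (0, 0)) (.leaf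 (77, 3781))) (.node (.leaf (1, 1620)) (.leaf (50, 3117))))) (.node (.node (.node (.leaf (0, 0)) (.leaf (67, 2975))) (.node (.leaf (0, 0)) (.leaf (1, 3412)))) (.node (.node (.leaf (1, 1323)) (.leaf (1, 2900))) (.node (.leaf (1, 1876)) (.leaf (1, 4073)))))) (.node (.node (.node (.node (.leaf (1, 212)) (.leaf (1, 2260))) (.node (.leaf (1, 1236)) (.leaf (0, 0)))) (.node (.node (.leaf (0, 0)) (.leaf (24, 2053))) (.node (.leaf (0, 0)) (.leaf (1, 3796))))) (.node (.node (.node (.leaf (1, 468)) (.leaf (41, 2531))) (.node (.leaf (1, 1492)) (.leaf (67, 3540)))) (.node (.node (.leaf (1, 980)) (.leaf (1, 3028))) (.node (.leaf (0, 0)) (.leaf (77, 3818))))))))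

def twoVia82 : Janko.Tree (ℕ × ℕ) :=
  (.node (.node (.node (.node (.node (.node (.leaf (0, 0)) (.leaf (77, 2090))) (.node (.leaf (2, 1044)) (.leaf (2, 3092)))) (.node (.node (.leaf (24, 847)) (.leaf (7, 3279))) (.node (.leaf (6, 1556)) (.leaf (77, 1040))))) (.node (.node (.node (.leaf (2, 276)) (.leaf (77, 3566))) (.node (.leaf (2, 1300)) (.leaf (0, 0)))) (.node (.node (.leaf (23, 1842)) (.leaf (2, 2836))) (.node (.leaf (24, 2515)) (.leaf (77, 2873)))))) (.node (.node (.node (.node (.leaf (0, 0)) (.leaf (2, 2928))) (.node (.leaf (2, 1747)) (.leaf (32, 2276)))) (.node (.node (.leaf (6, 660)) (.leaf (6, 2708))) (.node (.leaf (46, 2369)) (.leaf (70, 3735))))) (.node (.node (.node (.leaf (0, 0)) (.leaf (2, 2452))) (.node (.leaf (2, 1428)) (.leaf (74, 870)))) (.node (.node (.leaf (59, 191)) (.leaf (0, 0))) (.node (.leaf (59, 1314)) (.leaf (0, 0))))))) (.node (.node (.node (.node (.node (.leaf (2, 84)) (.leaf (0, 0))) (.node (.leaf (77, 1790)) (.leaf (77, 269)))) (.node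 (.node (.leaf (54, 54)) (.leaf (77, 1590))) (.node (.leaf (68, 436)) (.leaf (2, 3668))))) (.node (.node (.node (.leaf (0, 0)) (.leaf (7, 3079))) (.node (.leaf (7, 2012)) (.leaf (77, 2676)))) (.node (.node (.leaf (2, 852)) (.leaf (77, 3097))) (.node (.leaf (77, 434)) (.leaf (65, 586)))))) (.node (.node (.node (.node (.leaf (7, 378)) (.leaf (77, 3910))) (.node (.leaf (0, 0)) (.leaf (6, 3284)))) (.node (.node (.leaf (2, 724)) (.leaf (2, 2772))) (.node (.leaf (77, 456)) (.leaf (77, 4072))))) (.node (.node (.node (.leaf (55, 1202)) (.leaf (2, 2516))) (.node (.leaf (77, 1150)) (.leaf (2, 3540)))) (.node (.node (.leaf (74, 2112)) (.leaf (13, 1068))) (.node (.leaf (0, 0)) (.leaf (77, 1932))))))))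

def twoVia83 : Janko.Tree (ℕ × ℕ) :=
  (.node (.node (.node (.node (.node (.node (.leaf (0, 0)) (.leaf (3, 2068))) (.node (.leaf (77, 655)) (.leaf (65, 1169)))) (.node (.node (.leaf (0, 0)) (.leaf (3, 2580))) (.node (.leaf (3, 1556)) (.leaf (3, 3604))))) (.node (.node (.node (.leaf (77, 502)) (.leaf (3, 2324))) (.node (.leaf (0, 0)) (.leaf (0, 0)))) (.node (.node (.leaf (77, 1236)) (.leaf (0, 0))) (.node (.leaf (77, 1175)) (.leaf (61, 2685)))))) (.node (.node (.node (.node (.leaf (67, 470)) (.leaf (3, 2196))) (.node (.leaf (3, 1172)) (.leaf (0, 0)))) (.node (.node (.leaf (3, 660)) (.leaf (3, 2708))) (.node (.leaf (0, 0)) (.leaf (0, 0))))) (.node (.node (.node (.leaf (0, 0)) (.leaf (77, 403))) (.node (.leaf (0, 0)) (.leaf (3, 3476)))) (.node (.node (.leaf (3, 916)) (.leaf (35, 3930))) (.node (.leaf (3, 1940)) (.leaf (43, 3676))))))) (.node (.node (.node (.node (.node (.leaf (0, 0)) (.leaf (59, 2126))) (.node (.leaf (77, 491)) (.leaf (3, 3156)))) (.node (.node (.leaf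 (0, 0)) (.leaf (3, 2644))) (.node (.leaf (5, 2313)) (.leaf (0, 0))))) (.node (.node (.node (.leaf (0, 0)) (.leaf (3, 2388))) (.node (.leaf (3, 1364)) (.leaf (65, 2036)))) (.node (.node (.leaf (0, 0)) (.leaf (0, 0))) (.node (.leaf (77, 2994)) (.leaf (3, 3924)))))) (.node (.node (.node (.node (.leaf (3, 212)) (.leaf (67, 2258))) (.node (.leaf (0, 0)) (.leaf (3, 3284)))) (.node (.node (.leaf (0, 0)) (.leaf (0, 0))) (.node (.leaf (0, 0)) (.leaf (44, 4008))))) (.node (.node (.node (.leaf (0, 0)) (.leaf (3, 2516))) (.node (.leaf (0, 0)) (.leaf (0, 0)))) (.node (.node (.leaf (75, 608)) (.leaf (71, 3717))) (.node (.leaf (59, 2007)) (.leaf (67, 4023))))))))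

def twoVia84 : Janko.Tree (ℕ × ℕ) :=
  (.node (.node (.node (.node (.node (.node (.leaf (4, 21)) (.leaf (62, 741))) (.node (.leaf (0, 0)) (.leaf (73, 2184)))) (.node (.node (.leaf (0, 857)) (.leaf (5, 2581))) (.node (.leaf (75, 1524)) (.leaf (77, 3200))))) (.node (.node (.node (.leaf (0, 0)) (.leaf (4, 2325))) (.node (.leaf (0, 1301)) (.leaf (0, 3349)))) (.node (.node (.leaf (12, 3238)) (.leaf (0, 2837))) (.node (.leaf (77, 2270)) (.leaf (65, 3861)))))) (.node (.node (.node (.node (.leaf (0, 276)) (.leaf (77, 790))) (.node (.leaf (0, 0)) (.leaf (77, 3221)))) (.node (.node (.leaf (0, 661)) (.leaf (55, 2709))) (.node (.leaf (7, 1109)) (.leaf (77, 2862))))) (.node (.node (.node (.leaf (0, 665)) (.leaf (77, 2453))) (.node (.leaf (0, 2081)) (.leaf (72, 2095)))) (.node (.node (.leaf (0, 0)) (.leaf (77, 3800))) (.node (.leaf (0, 1941)) (.leaf (0, 3989))))))) (.node (.node (.node (.node (.node (.leaf (0, 85)) (.leaf (0, 2863))) (.node (.leaf (0, 1109)) (.leaf (75, 3150))))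 (.node (.node (.leaf (76, 635)) (.leaf (72, 1295))) (.node (.leaf (17, 1621)) (.leaf (0, 3669))))) (.node (.node (.node (.leaf (0, 567)) (.leaf (77, 4017))) (.node (.leaf (0, 0)) (.leaf (76, 3399)))) (.node (.node (.leaf (0, 1328)) (.leaf (75, 2412))) (.node (.leaf (4, 1877)) (.leaf (62, 3734)))))) (.node (.node (.node (.node (.leaf (7, 942)) (.leaf (0, 2261))) (.node (.leaf (75, 1227)) (.leaf (77, 3278)))) (.node (.node (.leaf (60, 1147)) (.leaf (77, 2773))) (.node (.leaf (72, 1751)) (.leaf (77, 3875))))) (.node (.node (.node (.leaf (7, 272)) (.leaf (0, 0))) (.node (.leaf (7, 968)) (.leaf (77, 3116)))) (.node (.node (.leaf (5, 2175)) (.leaf (77, 3822))) (.node (.leaf (0, 2725)) (.leaf (75, 907))))))))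

def twoVia85 : Janko.Tree (ℕ × ℕ) :=
  (.node (.node (.node (.node (.node (.node (.leaf (0, 0)) (.leaf (76, 1709))) (.node (.leaf (1, 1045)) (.leaf (0, 0)))) (.node (.node (.leaf (77, 1975)) (.leaf (0, 0))) (.node (.leaf (1, 1557)) (.leaf (1, 3605))))) (.node (.node (.node (.leaf (1, 277)) (.leaf (77, 1634))) (.node (.leaf (67, 3228)) (.leaf (0, 0)))) (.node (.node (.leaf (0, 0)) (.leaf (0, 0))) (.node (.leaf (0, 0)) (.leaf (1, 3861)))))) (.node (.node (.node (.node (.leaf (0, 0)) (.leaf (1, 2197))) (.node (.leaf (1, 1173)) (.leaf (9, 3221)))) (.node (.node (.leaf (0, 0)) (.leaf (1, 2709))) (.node (.leaf (77, 2006)) (.leaf (70, 2475))))) (.node (.node (.node (.leaf (0, 0)) (.leaf (0, 0))) (.node (.leaf (0, 0)) (.leaf (1, 3477)))) (.node (.node (.leaf (1, 917)) (.leaf (67, 1753))) (.node (.leaf (0, 0)) (.leaf (32, 3670))))))) (.node (.node (.node (.node (.node (.leaf (0, 0)) (.leaf (77, 2863))) (.node (.leaf (0, 0)) (.leaf (0, 0)))) (.node (.node (.leaf (1, 950)) (.leaf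 (1, 2645))) (.node (.leaf (0, 0)) (.leaf (0, 0))))) (.node (.node (.node (.leaf (0, 0)) (.leaf (1, 2389))) (.node (.leaf (1, 1365)) (.leaf (1, 3413)))) (.node (.node (.leaf (0, 0)) (.leaf (0, 0))) (.node (.leaf (77, 1362)) (.leaf (1, 3925)))))) (.node (.node (.node (.node (.leaf (1, 213)) (.leaf (0, 0))) (.node (.leaf (0, 0)) (.leaf (1, 3285)))) (.node (.node (.leaf (67, 1137)) (.leaf (77, 3203))) (.node (.leaf (9, 1749)) (.leaf (1, 3797))))) (.node (.node (.node (.leaf (74, 3165)) (.leaf (1, 2517))) (.node (.leaf (77, 2993)) (.leaf (1, 3945)))) (.node (.node (.leaf (0, 0)) (.leaf (0, 0))) (.node (.leaf (77, 2867)) (.leaf (1, 4053))))))))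

def twoVia86 : Janko.Tree (ℕ × ℕ) :=
  (.node (.node (.node (.node (.node (.node (.leaf (2, 21)) (.leaf (77, 740))) (.node (.leaf (0, 0)) (.leaf (77, 3109)))) (.node (.node (.leaf (77, 1317)) (.leaf (2, 3279))) (.node (.leaf (68, 1014)) (.leaf (77, 3154))))) (.node (.node (.node (.leaf (6, 763)) (.leaf (2, 2325))) (.node (.leaf (7, 1932)) (.leaf (6, 3632)))) (.node (.node (.leaf (2, 789)) (.leaf (7, 3489))) (.node (.leaf (6, 1813)) (.leaf (71, 3385)))))) (.node (.node (.node (.node (.leaf (2, 149)) (.leaf (2, 2927))) (.node (.leaf (77, 1190)) (.leaf (2, 3221)))) (.node (.node (.leaf (0, 0)) (.leaf (0, 0))) (.node (.leaf (2, 1685)) (.leaf (6, 3733))))) (.node (.node (.node (.leaf (2, 405)) (.leaf (77, 2470))) (.node (.leaf (2, 2085)) (.leaf (22, 2103)))) (.node (.node (.leaf (0, 0)) (.leaf (71, 2252))) (.node (.leaf (6, 1954)) (.leaf (4, 3672))))))) (.node (.node (.node (.node (.node (.leaf (7, 167)) (.leaf (2, 2133))) (.node (.leaf (0, 0)) (.leaf (6, 3157)))) (.node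 (.node (.leaf (2, 597)) (.leaf (72, 1590))) (.node (.leaf (2, 1621)) (.leaf (7, 3987))))) (.node (.node (.node (.leaf (2, 341)) (.leaf (2, 3078))) (.node (.leaf (7, 2014)) (.leaf (70, 2757)))) (.node (.node (.leaf (2, 1329)) (.leaf (6, 2901))) (.node (.leaf (2, 1877)) (.leaf (77, 3066)))))) (.node (.node (.node (.node (.leaf (0, 0)) (.leaf (77, 1556))) (.node (.leaf (6, 1237)) (.leaf (67, 3811)))) (.node (.node (.leaf (2, 1142)) (.leaf (2, 3430))) (.node (.leaf (2, 1749)) (.leaf (0, 0))))) (.node (.node (.node (.leaf (2, 469)) (.leaf (0, 0))) (.node (.leaf (2, 1493)) (.leaf (2, 3946)))) (.node (.node (.leaf (2, 981)) (.leaf (71, 3621))) (.node (.leaf (2, 2005)) (.leaf (13, 3820))))))))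

def twoVia87 : Janko.Tree (ℕ × ℕ) :=
  (.node (.node (.node (.node (.node (.node (.leaf (0, 0)) (.leaf (3, 2069))) (.node (.leaf (0, 0)) (.leaf (3, 3093)))) (.node (.node (.leaf (3, 533)) (.leaf (3, 2581))) (.node (.leaf (69, 2118)) (.leaf (41, 3753))))) (.node (.node (.node (.leaf (0, 0)) (.leaf (0, 0))) (.node (.leaf (3, 1301)) (.leaf (5, 3053)))) (.node (.node (.leaf (0, 0)) (.leaf (3, 2837))) (.node (.leaf (3, 1813)) (.leaf (3, 3861)))))) (.node (.node (.node (.node (.leaf (0, 0)) (.leaf (0, 0))) (.node (.leaf (77, 3095)) (.leaf (75, 3710)))) (.node (.node (.leaf (0, 0)) (.leaf (59, 1355))) (.node (.leaf (3, 1685)) (.leaf (3, 3733))))) (.node (.node (.node (.leaf (0, 0)) (.leaf (3, 2453))) (.node (.leaf (3, 1429)) (.leaf (77, 1708)))) (.node (.node (.leaf (0, 0)) (.leaf (3, 2965))) (.node (.leaf (0, 0)) (.leaf (77, 2747))))))) (.node (.node (.node (.node (.node (.leaf (3, 85)) (.leaf (0, 0))) (.node (.leaf (0, 0)) (.leaf (3, 3157)))) (.node (.node (.leaf (77,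 102)) (.leaf (0, 0))) (.node (.leaf (0, 0)) (.leaf (3, 3669))))) (.node (.node (.node (.leaf (0, 0)) (.leaf (69, 3589))) (.node (.leaf (0, 0)) (.leaf (66, 1369)))) (.node (.node (.leaf (3, 853)) (.leaf (3, 2901))) (.node (.leaf (0, 0)) (.leaf (77, 1899)))))) (.node (.node (.node (.node (.leaf (0, 0)) (.leaf (61, 2438))) (.node (.leaf (3, 1237)) (.leaf (69, 3192)))) (.node (.node (.leaf (3, 725)) (.leaf (3, 2773))) (.node (.leaf (71, 1546)) (.leaf (0, 0))))) (.node (.node (.node (.leaf (3, 469)) (.leaf (0, 0))) (.node (.leaf (3, 1493)) (.leaf (3, 3541)))) (.node (.node (.leaf (0, 0)) (.leaf (3, 3029))) (.node (.leaf (77, 1701)) (.leaf (77, 568))))))))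

def twoVia88 : Janko.Tree (ℕ × ℕ) :=
  (.node (.node (.node (.node (.node (.node (.leaf (0, 22)) (.leaf (75, 1735))) (.node (.leaf (0, 1046)) (.leaf (72, 1729)))) (.node (.node (.leaf (77, 534)) (.leaf (0, 0))) (.node (.leaf (73, 641)) (.leaf (0, 3711))))) (.node (.node (.node (.leaf (77, 771)) (.leaf (0, 2326))) (.node (.leaf (0, 0)) (.leaf (54, 3481)))) (.node (.node (.leaf (73, 1770)) (.leaf (0, 0))) (.node (.leaf (75, 3414)) (.leaf (0, 3862)))))) (.node (.node (.node (.node (.leaf (77, 1568)) (.leaf (0, 2198))) (.node (.leaf (0, 1174)) (.leaf (0, 3765)))) (.node (.node (.leaf (0, 1050)) (.leaf (0, 2710))) (.node (.leaf (0, 1686)) (.leaf (54, 2832))))) (.node (.node (.node (.leaf (7, 665)) (.leaf (72, 1180))) (.node (.leaf (0, 0)) (.leaf (5, 3478)))) (.node (.node (.leaf (0, 918)) (.leaf (0, 0))) (.node (.leaf (77, 845)) (.leaf (77, 3990))))))) (.node (.node (.node (.node (.node (.leaf (7, 39)) (.leaf (59, 2124))) (.node (.leaf (0, 1682)) (.leaf (77, 3486)))) (.node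 (.node (.leaf (0, 953)) (.leaf (5, 2646))) (.node (.leaf (5, 1622)) (.leaf (0, 0))))) (.node (.node (.node (.leaf (7, 567)) (.leaf (0, 0))) (.node (.leaf (7, 872)) (.leaf (0, 0)))) (.node (.node (.leaf (0, 0)) (.leaf (62, 2422))) (.node (.leaf (0, 1878)) (.leaf (77, 2726)))))) (.node (.node (.node (.node (.leaf (4, 214)) (.leaf (75, 3577))) (.node (.leaf (54, 2462)) (.leaf (0, 3286)))) (.node (.node (.leaf (4, 1716)) (.leaf (75, 2761))) (.node (.leaf (0, 2434)) (.leaf (77, 3798))))) (.node (.node (.node (.leaf (73, 1259)) (.leaf (0, 2518))) (.node (.leaf (7, 1494)) (.leaf (77, 3386)))) (.node (.node (.leaf (5, 982)) (.leaf (77, 254))) (.node (.leaf (59, 544)) (.leaf (77, 3408))))))))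

def twoVia89 : Janko.Tree (ℕ × ℕ) :=
  (.node (.node (.node (.node (.node (.node (.leaf (0, 0)) (.leaf (77, 2415))) (.node (.leaf (0, 0)) (.leaf (1, 3094)))) (.node (.node (.leaf (1, 534)) (.leaf (1, 2582))) (.node (.leaf (1, 1558)) (.leaf (1, 3606))))) (.node (.node (.node (.leaf (0, 0)) (.leaf (0, 0))) (.node (.leaf (1, 1302)) (.leaf (1, 3350)))) (.node (.node (.leaf (0, 0)) (.leaf (1, 2838))) (.node (.leaf (1, 1814)) (.leaf (1, 3862)))))) (.node (.node (.node (.node (.leaf (67, 266)) (.leaf (43, 377))) (.node (.leaf (0, 0)) (.leaf (77, 1386)))) (.node (.node (.leaf (0, 0)) (.leaf (77, 1989))) (.node (.leaf (0, 0)) (.leaf (71, 3734))))) (.node (.node (.node (.leaf (1, 663)) (.leaf (1, 2454))) (.node (.leaf (1, 1430)) (.leaf (77, 3782)))) (.node (.node (.leaf (0, 0)) (.leaf (1, 2966))) (.node (.leaf (9, 1942)) (.leaf (77, 3859))))))) (.node (.node (.node (.node (.node (.leaf (0, 0)) (.leaf (1, 2862))) (.node (.leaf (0, 0)) (.leaf (0, 0)))) (.node (.node (.leaf (0,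 0)) (.leaf (0, 0))) (.node (.leaf (77, 3940)) (.leaf (1, 3670))))) (.node (.node (.node (.leaf (67, 564)) (.leaf (1, 2390))) (.node (.leaf (62, 2028)) (.leaf (1, 3414)))) (.node (.node (.leaf (1, 854)) (.leaf (77, 3521))) (.node (.leaf (0, 0)) (.leaf (29, 2181)))))) (.node (.node (.node (.node (.leaf (0, 0)) (.leaf (1, 2262))) (.node (.leaf (1, 1238)) (.leaf (0, 0)))) (.node (.node (.leaf (1, 726)) (.leaf (77, 2349))) (.node (.leaf (0, 0)) (.leaf (77, 3980))))) (.node (.node (.node (.leaf (0, 0)) (.leaf (0, 0))) (.node (.leaf (0, 0)) (.leaf (10, 3542)))) (.node (.node (.leaf (0, 0)) (.leaf (1, 3030))) (.node (.leaf (1, 2723)) (.leaf (70, 4054))))))))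

def twoVia90 : Janko.Tree (ℕ × ℕ) :=
  (.node (.node (.node (.node (.node (.node (.leaf (7, 49)) (.leaf (2, 2070))) (.node (.leaf (24, 1594)) (.leaf (0, 0)))) (.node (.node (.leaf (75, 133)) (.leaf (70, 3714))) (.node (.leaf (0, 0)) (.leaf (77, 3550))))) (.node (.node (.node (.leaf (6, 278)) (.leaf (7, 3032))) (.node (.leaf (77, 578)) (.leaf (77, 1931)))) (.node (.node (.leaf (2, 1237)) (.leaf (4, 3491))) (.node (.leaf (77, 3167)) (.leaf (77, 2974)))))) (.node (.node (.node (.node (.leaf (2, 278)) (.leaf (54, 2174))) (.node (.leaf (77, 2417)) (.leaf (77, 2276)))) (.node (.node (.leaf (2, 662)) (.leaf (54, 2716))) (.node (.leaf (6, 1686)) (.leaf (24, 797))))) (.node (.node (.node (.leaf (7, 668)) (.leaf (0, 0))) (.node (.leaf (0, 0)) (.leaf (76, 929)))) (.node (.node (.leaf (77, 571)) (.leaf (77, 1967))) (.node (.leaf (2, 1942)) (.leaf (6, 3990))))))) (.node (.node (.node (.node (.node (.leaf (2, 86)) (.leaf (2, 2864))) (.node (.leaf (2, 1110)) (.leaf (2, 3158))))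 (.node (.node (.leaf (68, 880)) (.leaf (76, 1294))) (.node (.leaf (2, 2315)) (.leaf (4, 3989))))) (.node (.node (.node (.leaf (7, 570)) (.leaf (68, 1703))) (.node (.leaf (2, 1366)) (.leaf (0, 0)))) (.node (.node (.leaf (0, 0)) (.leaf (77, 3654))) (.node (.leaf (7, 2597)) (.leaf (2, 3926)))))) (.node (.node (.node (.node (.leaf (2, 214)) (.leaf (0, 0))) (.node (.leaf (0, 0)) (.leaf (0, 0)))) (.node (.node (.leaf (0, 0)) (.leaf (2, 2774))) (.node (.leaf (77, 4002)) (.leaf (2, 3798))))) (.node (.node (.node (.leaf (2, 470)) (.leaf (77, 1216))) (.node (.leaf (2, 1494)) (.leaf (77, 2702)))) (.node (.node (.leaf (2, 1507)) (.leaf (75, 2456))) (.node (.leaf (62, 544)) (.leaf (6, 4054))))))))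

def twoVia91 : Janko.Tree (ℕ × ℕ) :=
  (.node (.node (.node (.node (.node (.node (.leaf (3, 22)) (.leaf (77, 2422))) (.node (.leaf (0, 0)) (.leaf (0, 0)))) (.node (.node (.leaf (0, 0)) (.leaf (3, 3149))) (.node (.leaf (0, 0)) (.leaf (61, 3709))))) (.node (.node (.node (.leaf (3, 278)) (.leaf (3, 2326))) (.node (.leaf (0, 0)) (.leaf (71, 2671)))) (.node (.node (.leaf (3, 790)) (.leaf (0, 0))) (.node (.leaf (77, 4080)) (.leaf (56, 2697)))))) (.node (.node (.node (.node (.leaf (3, 150)) (.leaf (3, 2198))) (.node (.leaf (77, 1727)) (.leaf (3, 3222)))) (.node (.node (.leaf (0, 0)) (.leaf (0, 0))) (.node (.leaf (3, 1686)) (.leaf (3, 3734))))) (.node (.node (.node (.leaf (3, 406)) (.leaf (0, 0))) (.node (.leaf (0, 0)) (.leaf (3, 3478)))) (.node (.node (.leaf (0, 0)) (.leaf (75, 1967))) (.node (.leaf (62, 3851)) (.leaf (3, 3990))))))) (.node (.node (.node (.node (.node (.leaf (3, 86)) (.leaf (3, 2134))) (.node (.leaf (0, 0)) (.leaf (0, 0)))) (.node (.node (.leaf (3, 598))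 (.leaf (3, 2646))) (.node (.leaf (3, 1622)) (.leaf (0, 0))))) (.node (.node (.node (.leaf (3, 342)) (.leaf (0, 0))) (.node (.leaf (3, 1366)) (.leaf (0, 0)))) (.node (.node (.leaf (0, 0)) (.leaf (3, 2902))) (.node (.leaf (3, 1878)) (.leaf (3, 3926)))))) (.node (.node (.node (.node (.leaf (0, 0)) (.leaf (0, 0))) (.node (.leaf (61, 1759)) (.leaf (61, 764)))) (.node (.node (.leaf (0, 0)) (.leaf (77, 3418))) (.node (.leaf (3, 1750)) (.leaf (70, 3314))))) (.node (.node (.node (.leaf (77, 2246)) (.leaf (0, 0))) (.node (.leaf (0, 0)) (.leaf (3, 3542)))) (.node (.node (.leaf (3, 982)) (.leaf (66, 1693))) (.node (.leaf (3, 2006)) (.leaf (3, 4054))))))))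

def twoVia92 : Janko.Tree (ℕ × ℕ) :=
  (.node (.node (.node (.node (.node (.node (.leaf (0, 0)) (.leaf (0, 0))) (.node (.leaf (0, 1601)) (.leaf (74, 3095)))) (.node (.node (.leaf (7, 535)) (.leaf (0, 2583))) (.node (.leaf (5, 1559)) (.leaf (77, 4032))))) (.node (.node (.node (.leaf (17, 279)) (.leaf (0, 0))) (.node (.leaf (7, 830)) (.leaf (59, 3351)))) (.node (.node (.leaf (0, 0)) (.leaf (7, 2111))) (.node (.leaf (77, 1815)) (.leaf (62, 2275)))))) (.node (.node (.node (.node (.leaf (12, 745)) (.leaf (75, 2156))) (.node (.leaf (0, 1175)) (.leaf (12, 3223)))) (.node (.node (.leaf (7, 1050)) (.leaf (0, 3382))) (.node (.leaf (73, 1683)) (.leaf (77, 3735))))) (.node (.node (.node (.leaf (72, 409)) (.leaf (74, 2458))) (.node (.leaf (0, 1431)) (.leaf (77, 3250)))) (.node (.node (.leaf (77, 1746)) (.leaf (43, 949))) (.node (.leaf (0, 2664)) (.leaf (75, 2172))))))) (.node (.node (.node (.node (.node (.leaf (0, 0)) (.leaf (23, 635))) (.node (.leaf (7, 1682)) (.leaf (59, 2119))))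 (.node (.node (.leaf (73, 601)) (.leaf (17, 2647))) (.node (.leaf (0, 1623)) (.leaf (7, 3105))))) (.node (.node (.node (.leaf (72, 264)) (.leaf (0, 2391))) (.node (.leaf (0, 1367)) (.leaf (0, 3415)))) (.node (.node (.leaf (75, 399)) (.leaf (0, 0))) (.node (.leaf (0, 0)) (.leaf (7, 4019)))))) (.node (.node (.node (.node (.leaf (0, 215)) (.leaf (77, 3147))) (.node (.leaf (0, 1239)) (.leaf (0, 3813)))) (.node (.node (.leaf (7, 1126)) (.leaf (14, 1409))) (.node (.leaf (72, 741)) (.leaf (77, 4087))))) (.node (.node (.node (.leaf (0, 0)) (.leaf (74, 1585))) (.node (.leaf (7, 1495)) (.leaf (4, 3543)))) (.node (.node (.leaf (77, 983)) (.leaf (43, 1120))) (.node (.leaf (15, 2007)) (.leaf (25, 4055))))))))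

def twoVia93 : Janko.Tree (ℕ × ℕ) :=
  (.node (.node (.node (.node (.node (.node (.leaf (1, 23)) (.leaf (1, 2071))) (.node (.leaf (0, 0)) (.leaf (1, 3095)))) (.node (.node (.leaf (0, 0)) (.leaf (76, 1866))) (.node (.leaf (0, 0)) (.leaf (67, 2296))))) (.node (.node (.node (.leaf (0, 0)) (.leaf (1, 2327))) (.node (.leaf (77, 3336)) (.leaf (1, 3351)))) (.node (.node (.leaf (1, 791)) (.leaf (67, 2114))) (.node (.leaf (1, 1815)) (.leaf (1, 3863)))))) (.node (.node (.node (.node (.leaf (1, 151)) (.leaf (1, 2199))) (.node (.leaf (0, 0)) (.leaf (1, 3223)))) (.node (.node (.leaf (67, 405)) (.leaf (68, 1060))) (.node (.leaf (1, 1687)) (.leaf (1, 3735))))) (.node (.node (.node (.leaf (1, 407)) (.leaf (1, 2455))) (.node (.leaf (0, 0)) (.leaf (1, 3479)))) (.node (.node (.leaf (1, 1423)) (.leaf (0, 0))) (.node (.leaf (0, 0)) (.leaf (0, 0))))))) (.node (.node (.node (.node (.node (.leaf (1, 87)) (.leaf (0, 0))) (.node (.leaf (67, 704)) (.leaf (71, 3166)))) (.node (.node (.leaf (1,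 599)) (.leaf (0, 0))) (.node (.leaf (77, 1065)) (.leaf (77, 3378))))) (.node (.node (.node (.leaf (1, 343)) (.leaf (0, 0))) (.node (.leaf (0, 0)) (.leaf (0, 0)))) (.node (.node (.leaf (0, 0)) (.leaf (1, 2903))) (.node (.leaf (1, 1879)) (.leaf (77, 3504)))))) (.node (.node (.node (.node (.leaf (0, 0)) (.leaf (0, 0))) (.node (.leaf (0, 0)) (.leaf (77, 4063)))) (.node (.node (.leaf (0, 0)) (.leaf (1, 2775))) (.node (.leaf (1, 1751)) (.leaf (1, 4046))))) (.node (.node (.node (.leaf (1, 471)) (.leaf (1, 3221))) (.node (.leaf (67, 3014)) (.leaf (1, 3943)))) (.node (.node (.leaf (1, 983)) (.leaf (0, 0))) (.node (.leaf (1, 2007)) (.leaf (1, 4055))))))))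

def twoVia94 : Janko.Tree (ℕ × ℕ) :=
  (.node (.node (.node (.node (.node (.node (.leaf (0, 0)) (.leaf (0, 0))) (.node (.leaf (6, 1047)) (.leaf (36, 3674)))) (.node (.node (.leaf (6, 535)) (.leaf (0, 0))) (.node (.leaf (77, 1565)) (.leaf (2, 3607))))) (.node (.node (.node (.leaf (2, 279)) (.leaf (7, 3034))) (.node (.leaf (2, 1303)) (.leaf (77, 630)))) (.node (.node (.leaf (0, 0)) (.leaf (2, 2839))) (.node (.leaf (0, 0)) (.leaf (77, 2254)))))) (.node (.node (.node (.node (.leaf (0, 0)) (.leaf (52, 2176))) (.node (.leaf (0, 0)) (.leaf (13, 2518)))) (.node (.node (.leaf (7, 1053)) (.leaf (71, 3376))) (.node (.leaf (0, 0)) (.leaf (70, 2539))))) (.node (.node (.node (.leaf (0, 0)) (.leaf (31, 1762))) (.node (.leaf (77, 1430)) (.leaf (71, 2943)))) (.node (.node (.leaf (2, 919)) (.leaf (2, 2967))) (.node (.leaf (77, 843)) (.leaf (77, 1728))))))) (.node (.node (.node (.node (.node (.leaf (0, 0)) (.leaf (59, 648))) (.node (.leaf (7, 1685)) (.leaf (2, 3722)))) (.node (.node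 (.leaf (0, 0)) (.leaf (2, 2647))) (.node (.leaf (77, 462)) (.leaf (2, 3671))))) (.node (.node (.node (.leaf (0, 0)) (.leaf (6, 2391))) (.node (.leaf (24, 2014)) (.leaf (77, 2052)))) (.node (.node (.leaf (2, 855)) (.leaf (0, 0))) (.node (.leaf (7, 2599)) (.leaf (2, 3927)))))) (.node (.node (.node (.node (.leaf (7, 382)) (.leaf (2, 2263))) (.node (.leaf (77, 789)) (.leaf (2, 3287)))) (.node (.node (.leaf (2, 727)) (.leaf (77, 2523))) (.node (.leaf (72, 910)) (.leaf (71, 2564))))) (.node (.node (.node (.leaf (0, 0)) (.leaf (2, 2519))) (.node (.leaf (2, 2175)) (.leaf (2, 3543)))) (.node (.node (.leaf (24, 372)) (.leaf (2, 3031))) (.node (.leaf (67, 3729)) (.leaf (77, 3404))))))))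

def twoVia95 : Janko.Tree (ℕ × ℕ) :=
  (.node (.node (.node (.node (.node (.node (.leaf (0, 0)) (.leaf (0, 0))) (.node (.leaf (3, 1047)) (.leaf (0, 0)))) (.node (.node (.leaf (3, 535)) (.leaf (59, 2578))) (.node (.leaf (3, 1559)) (.leaf (0, 0))))) (.node (.node (.node (.leaf (0, 0)) (.leaf (0, 0))) (.node (.leaf (3, 1303)) (.leaf (65, 2954)))) (.node (.node (.leaf (0, 0)) (.leaf (3, 2839))) (.node (.leaf (0, 0)) (.leaf (0, 0)))))) (.node (.node (.node (.node (.leaf (0, 0)) (.leaf (75, 1433))) (.node (.leaf (75, 1037)) (.leaf (0, 0)))) (.node (.node (.leaf (3, 663)) (.leaf (3, 2711))) (.node (.leaf (73, 2724)) (.leaf (3, 3735))))) (.node (.node (.node (.leaf (75, 683)) (.leaf (0, 0))) (.node (.leaf (77, 899)) (.leaf (67, 2215)))) (.node (.node (.leaf (77, 2539)) (.leaf (77, 1102))) (.node (.leaf (3, 1943)) (.leaf (3, 3991))))))) (.node (.node (.node (.node (.node (.leaf (0, 0)) (.leaf (3, 2135))) (.node (.leaf (3, 1111)) (.leaf (3, 3159)))) (.node (.node (.leaf (0,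 0)) (.leaf (75, 1040))) (.node (.leaf (75, 3155)) (.leaf (3, 3671))))) (.node (.node (.node (.leaf (77, 1171)) (.leaf (3, 2391))) (.node (.leaf (0, 0)) (.leaf (65, 2519)))) (.node (.node (.leaf (75, 1596)) (.leaf (0, 0))) (.node (.leaf (0, 0)) (.leaf (0, 0)))))) (.node (.node (.node (.node (.leaf (3, 215)) (.leaf (71, 2262))) (.node (.leaf (0, 0)) (.leaf (3, 3751)))) (.node (.node (.leaf (0, 0)) (.leaf (0, 0))) (.node (.leaf (0, 0)) (.leaf (3, 3799))))) (.node (.node (.node (.leaf (0, 0)) (.leaf (75, 2276))) (.node (.leaf (3, 1495)) (.leaf (77, 1593)))) (.node (.node (.leaf (0, 0)) (.leaf (68, 1646))) (.node (.leaf (75, 2866)) (.leaf (52, 3826))))))))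

def twoVia96 : Janko.Tree (ℕ × ℕ) :=
  (.node (.node (.node (.node (.node (.node (.leaf (7, 8)) (.leaf (0, 2072))) (.node (.leaf (75, 3140)) (.leaf (73, 4003)))) (.node (.node (.leaf (77, 536)) (.leaf (0, 3282))) (.node (.leaf (77, 1560)) (.leaf (77, 1097))))) (.node (.node (.node (.leaf (72, 3140)) (.leaf (7, 1633))) (.node (.leaf (7, 1304)) (.leaf (0, 3352)))) (.node (.node (.leaf (0, 792)) (.leaf (0, 2840))) (.node (.leaf (4, 1816)) (.leaf (77, 3938)))))) (.node (.node (.node (.node (.leaf (4, 152)) (.leaf (77, 2202))) (.node (.leaf (0, 1760)) (.leaf (5, 3224)))) (.node (.node (.leaf (7, 1068)) (.leaf (0, 0))) (.node (.leaf (0, 1688)) (.leaf (23, 3736))))) (.node (.node (.node (.leaf (4, 408)) (.leaf (73, 3747))) (.node (.leaf (77, 575)) (.leaf (53, 3480)))) (.node (.node (.leaf (0, 1426)) (.leaf (5, 2968))) (.node (.leaf (72, 839)) (.leaf (77, 3992))))))) (.node (.node (.node (.node (.node (.leaf (0, 88)) (.leaf (0, 0))) (.node (.leaf (12, 433)) (.leaf (77, 1841))))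 (.node (.node (.leaf (5, 600)) (.leaf (5, 2648))) (.node (.leaf (62, 670)) (.leaf (0, 3672))))) (.node (.node (.node (.leaf (4, 344)) (.leaf (73, 2392))) (.node (.leaf (0, 2017)) (.leaf (74, 3416)))) (.node (.node (.leaf (5, 1963)) (.leaf (72, 1492))) (.node (.leaf (7, 1260)) (.leaf (7, 4018)))))) (.node (.node (.node (.node (.leaf (0, 0)) (.leaf (77, 2264))) (.node (.leaf (77, 2534)) (.leaf (73, 2378)))) (.node (.node (.leaf (7, 1125)) (.leaf (5, 2776))) (.node (.leaf (5, 1752)) (.leaf (73, 3934))))) (.node (.node (.node (.leaf (0, 472)) (.leaf (0, 3224))) (.node (.leaf (74, 620)) (.leaf (75, 4075)))) (.node (.node (.leaf (73, 413)) (.leaf (0, 3032))) (.node (.leaf (4, 2008)) (.leaf (77, 3385))))))))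

def twoVia97 : Janko.Tree (ℕ × ℕ) :=
  (.node (.node (.node (.node (.node (.node (.leaf (0, 0)) (.leaf (77, 3898))) (.node (.leaf (1, 1048)) (.leaf (0, 0)))) (.node (.node (.leaf (1, 536)) (.leaf (0, 0))) (.node (.leaf (1, 1560)) (.leaf (77, 3057))))) (.node (.node (.node (.leaf (0, 0)) (.leaf (62, 3618))) (.node (.leaf (0, 0)) (.leaf (77, 2495)))) (.node (.node (.leaf (0, 0)) (.leaf (77, 2114))) (.node (.leaf (0, 0)) (.leaf (0, 0)))))) (.node (.node (.node (.node (.leaf (0, 0)) (.leaf (67, 1521))) (.node (.leaf (0, 0)) (.leaf (0, 0)))) (.node (.node (.leaf (1, 664)) (.leaf (1, 2712))) (.node (.leaf (76, 2246)) (.leaf (1, 3736))))) (.node (.node (.node (.leaf (0, 0)) (.leaf (0, 0))) (.node (.leaf (1, 1432)) (.leaf (1, 3480)))) (.node (.node (.leaf (0, 0)) (.leaf (0, 0))) (.node (.leaf (1, 1944)) (.leaf (1, 3992))))))) (.node (.node (.node (.node (.node (.leaf (0, 0)) (.leaf (1, 2136))) (.node (.leaf (1, 1112)) (.leaf (1, 3160)))) (.node (.node (.leaf (0, 0)) (.leaf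 (0, 0))) (.node (.leaf (0, 0)) (.leaf (77, 3184))))) (.node (.node (.node (.leaf (0, 0)) (.leaf (1, 2392))) (.node (.leaf (0, 0)) (.leaf (1, 3885)))) (.node (.node (.leaf (1, 856)) (.leaf (1, 2904))) (.node (.leaf (77, 3744)) (.leaf (77, 3963)))))) (.node (.node (.node (.node (.leaf (1, 216)) (.leaf (1, 2983))) (.node (.leaf (1, 1838)) (.leaf (10, 3288)))) (.node (.node (.leaf (0, 0)) (.leaf (62, 2165))) (.node (.leaf (0, 0)) (.leaf (1, 3800))))) (.node (.node (.node (.leaf (0, 0)) (.leaf (77, 3417))) (.node (.leaf (1, 1496)) (.leaf (67, 2906)))) (.node (.node (.leaf (1, 984)) (.leaf (77, 2331))) (.node (.leaf (77, 1360)) (.leaf (67, 1381))))))))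

def twoVia98 : Janko.Tree (ℕ × ℕ) :=
  (.node (.node (.node (.node (.node (.node (.leaf (2, 24)) (.leaf (0, 0))) (.node (.leaf (77, 1242)) (.leaf (75, 2190)))) (.node (.node (.leaf (0, 0)) (.leaf (2, 2584))) (.node (.leaf (70, 1750)) (.leaf (2, 3969))))) (.node (.node (.node (.leaf (2, 476)) (.leaf (2, 2328))) (.node (.leaf (2, 1304)) (.leaf (77, 313)))) (.node (.node (.leaf (6, 792)) (.leaf (24, 3491))) (.node (.leaf (2, 1816)) (.leaf (2, 3864)))))) (.node (.node (.node (.node (.leaf (2, 152)) (.leaf (77, 3308))) (.node (.leaf (2, 1176)) (.leaf (76, 1810)))) (.node (.node (.leaf (0, 0)) (.leaf (0, 0))) (.node (.leaf (7, 1117)) (.leaf (77, 2593))))) (.node (.node (.node (.leaf (2, 408)) (.leaf (77, 1204))) (.node (.leaf (75, 509)) (.leaf (75, 584)))) (.node (.node (.leaf (77, 1754)) (.leaf (7, 2247))) (.node (.leaf (72, 843)) (.leaf (77, 3476))))))) (.node (.node (.node (.node (.node (.leaf (0, 0)) (.leaf (0, 0))) (.node (.leaf (69, 2159)) (.leaf (6, 4012)))) (.node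 (.node (.leaf (2, 948)) (.leaf (77, 1594))) (.node (.leaf (50, 1061)) (.leaf (24, 3989))))) (.node (.node (.node (.leaf (2, 344)) (.leaf (77, 3111))) (.node (.leaf (6, 1368)) (.leaf (2, 3416)))) (.node (.node (.leaf (0, 0)) (.leaf (76, 1490))) (.node (.leaf (2, 1880)) (.leaf (2, 4074)))))) (.node (.node (.node (.node (.leaf (55, 640)) (.leaf (54, 2223))) (.node (.leaf (2, 1240)) (.leaf (74, 2390)))) (.node (.node (.leaf (2, 1146)) (.leaf (77, 561))) (.node (.leaf (76, 740)) (.leaf (77, 2473))))) (.node (.node (.node (.leaf (24, 762)) (.leaf (77, 3710))) (.node (.leaf (74, 1501)) (.leaf (6, 3544)))) (.node (.node (.leaf (77, 1758)) (.leaf (6, 3032))) (.node (.leaf (2, 2008)) (.leaf (77, 4003))))))))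

def twoVia99 : Janko.Tree (ℕ × ℕ) :=
  (.node (.node (.node (.node (.node (.node (.leaf (3, 24)) (.leaf (0, 0))) (.node (.leaf (75, 653)) (.leaf (3, 3096)))) (.node (.node (.leaf (77, 405)) (.leaf (0, 0))) (.node (.leaf (0, 0)) (.leaf (3, 3608))))) (.node (.node (.node (.leaf (3, 280)) (.leaf (3, 2328))) (.node (.leaf (0, 0)) (.leaf (3, 3352)))) (.node (.node (.leaf (3, 792)) (.leaf (61, 2042))) (.node (.leaf (0, 0)) (.leaf (68, 1321)))))) (.node (.node (.node (.node (.leaf (0, 0)) (.leaf (3, 2200))) (.node (.leaf (77, 1808)) (.leaf (3, 3224)))) (.node (.node (.leaf (0, 0)) (.leaf (0, 0))) (.node (.leaf (0, 0)) (.leaf (3, 3736))))) (.node (.node (.node (.leaf (77, 683)) (.leaf (3, 2456))) (.node (.leaf (0, 0)) (.leaf (52, 4073)))) (.node (.node (.leaf (3, 920)) (.leaf (3, 2968))) (.node (.leaf (0, 0)) (.leaf (0, 0))))))) (.node (.node (.node (.node (.node (.leaf (0, 0)) (.leaf (0, 0))) (.node (.leaf (63, 1590)) (.leaf (0, 0)))) (.node (.node (.leaf (3, 600)) (.leaf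 (3, 2648))) (.node (.leaf (3, 1624)) (.leaf (75, 2253))))) (.node (.node (.node (.leaf (77, 1169)) (.leaf (56, 1797))) (.node (.leaf (3, 1368)) (.leaf (75, 2883)))) (.node (.node (.leaf (0, 0)) (.leaf (77, 1738))) (.node (.leaf (3, 1880)) (.leaf (3, 3928)))))) (.node (.node (.node (.node (.leaf (0, 0)) (.leaf (3, 2264))) (.node (.leaf (0, 0)) (.leaf (3, 3288)))) (.node (.node (.leaf (3, 728)) (.leaf (3, 2776))) (.node (.leaf (3, 1752)) (.leaf (75, 2225))))) (.node (.node (.node (.leaf (0, 0)) (.leaf (3, 2520))) (.node (.leaf (0, 0)) (.leaf (3, 3544)))) (.node (.node (.leaf (73, 1730)) (.leaf (3, 3032))) (.node (.leaf (0, 0)) (.leaf (3, 4056))))))))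

def twoVia100 : Janko.Tree (ℕ × ℕ) :=
  (.node (.node (.node (.node (.node (.node (.leaf (0, 0)) (.leaf (0, 2788))) (.node (.leaf (76, 1766)) (.leaf (72, 3097)))) (.node (.node (.leaf (55, 257)) (.leaf (55, 1252))) (.node (.leaf (77, 1561)) (.leaf (4, 3609))))) (.node (.node (.node (.leaf (72, 84)) (.leaf (0, 2329))) (.node (.leaf (7, 1305)) (.leaf (77, 3353)))) (.node (.node (.leaf (77, 793)) (.leaf (54, 2841))) (.node (.leaf (0, 1817)) (.leaf (77, 3865)))))) (.node (.node (.node (.node (.leaf (0, 153)) (.leaf (4, 2201))) (.node (.leaf (58, 280)) (.leaf (75, 4010)))) (.node (.node (.leaf (4, 665)) (.leaf (0, 2713))) (.node (.leaf (0, 2377)) (.leaf (77, 3737))))) (.node (.node (.node (.leaf (0, 0)) (.leaf (72, 2457))) (.node (.leaf (22, 1433)) (.leaf (75, 932)))) (.node (.node (.leaf (73, 923)) (.leaf (73, 2970))) (.node (.leaf (5, 1945)) (.leaf (4, 3993))))))) (.node (.node (.node (.node (.node (.leaf (0, 174)) (.leaf (0, 2137))) (.node (.leaf (4, 1113)) (.leaf (0,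 3161)))) (.node (.node (.leaf (0, 0)) (.leaf (0, 2649))) (.node (.leaf (61, 1625)) (.leaf (77, 2882))))) (.node (.node (.node (.leaf (0, 0)) (.leaf (73, 1132))) (.node (.leaf (73, 1394)) (.leaf (66, 3417)))) (.node (.node (.leaf (5, 857)) (.leaf (48, 2178))) (.node (.leaf (0, 1881)) (.leaf (77, 2489)))))) (.node (.node (.node (.node (.leaf (7, 111)) (.leaf (73, 2265))) (.node (.leaf (0, 1843)) (.leaf (11, 3289)))) (.node (.node (.leaf (59, 141)) (.leaf (59, 2775))) (.node (.leaf (0, 0)) (.leaf (0, 3801))))) (.node (.node (.node (.leaf (0, 769)) (.leaf (5, 3766))) (.node (.leaf (0, 1497)) (.leaf (12, 1511)))) (.node (.node (.leaf (0, 985)) (.leaf (0, 3618))) (.node (.leaf (0, 2009)) (.leaf (4, 4057))))))))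

def twoVia101 : Janko.Tree (ℕ × ℕ) :=
  (.node (.node (.node (.node (.node (.node (.leaf (1, 25)) (.leaf (0, 0))) (.node (.leaf (1, 1049)) (.leaf (1, 3097)))) (.node (.node (.leaf (0, 0)) (.leaf (67, 1868))) (.node (.leaf (69, 2248)) (.leaf (17, 3010))))) (.node (.node (.node (.leaf (1, 281)) (.leaf (77, 1655))) (.node (.leaf (73, 1930)) (.leaf (0, 0)))) (.node (.node (.leaf (1, 793)) (.leaf (77, 3643))) (.node (.leaf (77, 1223)) (.leaf (10, 3865)))))) (.node (.node (.node (.node (.leaf (0, 0)) (.leaf (17, 1521))) (.node (.leaf (10, 1177)) (.leaf (0, 0)))) (.node (.node (.leaf (0, 0)) (.leaf (0, 0))) (.node (.leaf (36, 2377)) (.leaf (67, 3175))))) (.node (.node (.node (.leaf (1, 409)) (.leaf (1, 2457))) (.node (.leaf (1, 1433)) (.leaf (77, 2431)))) (.node (.node (.leaf (1, 921)) (.leaf (1, 2969))) (.node (.leaf (0, 0)) (.leaf (77, 1756))))))) (.node (.node (.node (.node (.node (.leaf (0, 0)) (.leaf (0, 0))) (.node (.leaf (77, 388)) (.leaf (67, 2900)))) (.node (.node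 (.leaf (1, 601)) (.leaf (77, 1757))) (.node (.leaf (1, 1625)) (.leaf (70, 3673))))) (.node (.node (.node (.leaf (1, 345)) (.leaf (1, 2393))) (.node (.leaf (1, 1369)) (.leaf (77, 3767)))) (.node (.node (.leaf (0, 0)) (.leaf (0, 0))) (.node (.leaf (0, 0)) (.leaf (1, 3929)))))) (.node (.node (.node (.node (.leaf (77, 1000)) (.leaf (1, 2265))) (.node (.leaf (0, 0)) (.leaf (1, 3289)))) (.node (.node (.leaf (0, 0)) (.leaf (0, 0))) (.node (.leaf (1, 1753)) (.leaf (77, 3269))))) (.node (.node (.node (.leaf (0, 0)) (.leaf (1, 2521))) (.node (.leaf (0, 0)) (.leaf (0, 0)))) (.node (.node (.leaf (0, 0)) (.leaf (1, 3033))) (.node (.leaf (0, 0)) (.leaf (47, 3832))))))))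

def twoVia102 : Janko.Tree (ℕ × ℕ) :=
  (.node (.node (.node (.node (.node (.node (.leaf (0, 0)) (.leaf (2, 2073))) (.node (.leaf (0, 0)) (.leaf (37, 3654)))) (.node (.node (.leaf (77, 542)) (.leaf (2, 3284))) (.node (.leaf (6, 1561)) (.leaf (2, 3609))))) (.node (.node (.node (.leaf (77, 84)) (.leaf (24, 3034))) (.node (.leaf (2, 1936)) (.leaf (2, 3353)))) (.node (.node (.leaf (0, 0)) (.leaf (6, 2841))) (.node (.leaf (7, 2526)) (.leaf (54, 2736)))))) (.node (.node (.node (.node (.leaf (7, 282)) (.leaf (2, 2201))) (.node (.leaf (77, 3764)) (.leaf (2, 3225)))) (.node (.node (.leaf (2, 665)) (.leaf (2, 2713))) (.node (.leaf (7, 2377)) (.leaf (71, 4017))))) (.node (.node (.node (.leaf (6, 1059)) (.leaf (75, 3712))) (.node (.leaf (0, 0)) (.leaf (6, 3481)))) (.node (.node (.leaf (0, 0)) (.leaf (66, 3461))) (.node (.leaf (2, 1945)) (.leaf (2, 3993))))))) (.node (.node (.node (.node (.node (.leaf (2, 89)) (.leaf (54, 3394))) (.node (.leaf (2, 1113)) (.leaf (77, 1766)))) (.node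 (.node (.leaf (77, 1442)) (.leaf (77, 605))) (.node (.leaf (0, 0)) (.leaf (26, 3670))))) (.node (.node (.node (.leaf (6, 916)) (.leaf (77, 2351))) (.node (.leaf (77, 529)) (.leaf (77, 3979)))) (.node (.node (.leaf (77, 306)) (.leaf (54, 1516))) (.node (.leaf (24, 2599)) (.leaf (6, 3929)))))) (.node (.node (.node (.node (.leaf (2, 217)) (.leaf (0, 0))) (.node (.leaf (2, 1844)) (.leaf (71, 2590)))) (.node (.node (.leaf (77, 2050)) (.leaf (6, 2777))) (.node (.leaf (71, 2245)) (.leaf (71, 2938))))) (.node (.node (.node (.leaf (6, 473)) (.leaf (0, 0))) (.node (.leaf (6, 1497)) (.leaf (77, 972)))) (.node (.node (.leaf (23, 375)) (.leaf (0, 0))) (.node (.leaf (7, 2726)) (.leaf (2, 4057))))))))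

def twoVia103 : Janko.Tree (ℕ × ℕ) :=
  (.node (.node (.node (.node (.node (.node (.leaf (0, 0)) (.leaf (0, 0))) (.node (.leaf (0, 0)) (.leaf (0, 0)))) (.node (.node (.leaf (3, 537)) (.leaf (3, 2585))) (.node (.leaf (3, 1561)) (.leaf (0, 0))))) (.node (.node (.node (.leaf (0, 0)) (.leaf (0, 0))) (.node (.leaf (3, 1305)) (.leaf (71, 2825)))) (.node (.node (.leaf (41, 465)) (.leaf (3, 2841))) (.node (.leaf (3, 1817)) (.leaf (3, 3865)))))) (.node (.node (.node (.node (.leaf (3, 153)) (.leaf (0, 0))) (.node (.leaf (3, 1177)) (.leaf (75, 1586)))) (.node (.node (.leaf (0, 0)) (.leaf (54, 3869))) (.node (.leaf (3, 1689)) (.leaf (3, 3737))))) (.node (.node (.node (.leaf (0, 0)) (.leaf (0, 0))) (.node (.leaf (62, 576)) (.leaf (3, 3481)))) (.node (.node (.leaf (0, 0)) (.leaf (3, 3458))) (.node (.leaf (3, 1945)) (.leaf (7, 3988))))))) (.node (.node (.node (.node (.node (.leaf (0, 0)) (.leaf (61, 2959))) (.node (.leaf (0, 0)) (.leaf (3, 3161)))) (.node (.node (.leaf (77, 2100))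 (.leaf (55, 1912))) (.node (.leaf (0, 0)) (.leaf (3, 3673))))) (.node (.node (.node (.leaf (0, 0)) (.leaf (61, 1133))) (.node (.leaf (75, 306)) (.leaf (3, 3417)))) (.node (.node (.leaf (3, 857)) (.leaf (3, 2905))) (.node (.leaf (0, 0)) (.leaf (54, 2856)))))) (.node (.node (.node (.node (.leaf (3, 217)) (.leaf (61, 2971))) (.node (.leaf (3, 1241)) (.leaf (77, 2513)))) (.node (.node (.leaf (3, 729)) (.leaf (3, 2777))) (.node (.leaf (61, 647)) (.leaf (77, 2118))))) (.node (.node (.node (.leaf (3, 473)) (.leaf (0, 0))) (.node (.leaf (3, 1497)) (.leaf (3, 3545)))) (.node (.node (.leaf (77, 609)) (.leaf (20, 3616))) (.node (.leaf (3, 2009)) (.leaf (77, 2526))))))))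

def twoVia104 : Janko.Tree (ℕ × ℕ) :=
  (.node (.node (.node (.node (.node (.node (.leaf (0, 26)) (.leaf (7, 2788))) (.node (.leaf (4, 1050)) (.leaf (0, 3098)))) (.node (.node (.leaf (0, 0)) (.leaf (4, 2586))) (.node (.leaf (5, 1583)) (.leaf (0, 3610))))) (.node (.node (.node (.leaf (0, 282)) (.leaf (0, 3036))) (.node (.leaf (74, 527)) (.leaf (77, 3354)))) (.node (.node (.leaf (0, 794)) (.leaf (74, 1438))) (.node (.leaf (0, 0)) (.leaf (77, 1355)))))) (.node (.node (.node (.node (.leaf (7, 76)) (.leaf (0, 2202))) (.node (.leaf (4, 1184)) (.leaf (23, 2518)))) (.node (.node (.leaf (0, 666)) (.leaf (5, 2714))) (.node (.leaf (77, 706)) (.leaf (77, 3738))))) (.node (.node (.node (.leaf (77, 863)) (.leaf (0, 2458))) (.node (.leaf (4, 1434)) (.leaf (77, 3482)))) (.node (.node (.leaf (5, 922)) (.leaf (0, 2970))) (.node (.leaf (0, 0)) (.leaf (7, 3676))))))) (.node (.node (.node (.node (.node (.leaf (7, 174)) (.leaf (73, 2149))) (.node (.leaf (0, 1114)) (.leaf (62, 2419))))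 (.node (.node (.leaf (0, 602)) (.leaf (37, 2650))) (.node (.leaf (75, 1605)) (.leaf (74, 2410))))) (.node (.node (.node (.leaf (77, 924)) (.leaf (0, 2394))) (.node (.leaf (43, 1370)) (.leaf (72, 2052)))) (.node (.node (.leaf (62, 135)) (.leaf (77, 1604))) (.node (.leaf (0, 2602)) (.leaf (73, 2865)))))) (.node (.node (.node (.node (.leaf (12, 635)) (.leaf (77, 2191))) (.node (.leaf (0, 0)) (.leaf (4, 3290)))) (.node (.node (.leaf (0, 0)) (.leaf (0, 2778))) (.node (.leaf (17, 1754)) (.leaf (62, 3802))))) (.node (.node (.node (.leaf (0, 0)) (.leaf (77, 1718))) (.node (.leaf (0, 1498)) (.leaf (77, 2181)))) (.node (.node (.leaf (0, 0)) (.leaf (0, 3034))) (.node (.leaf (0, 0)) (.leaf (0, 4058))))))))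

def twoVia105 : Janko.Tree (ℕ × ℕ) :=
  (.node (.node (.node (.node (.node (.node (.leaf (0, 0)) (.leaf (1, 2787))) (.node (.leaf (0, 0)) (.leaf (0, 0)))) (.node (.node (.leaf (1, 538)) (.leaf (75, 323))) (.node (.leaf (77, 2258)) (.leaf (77, 3906))))) (.node (.node (.node (.leaf (0, 0)) (.leaf (0, 0))) (.node (.leaf (1, 1306)) (.leaf (67, 2672)))) (.node (.node (.leaf (0, 0)) (.leaf (1, 2842))) (.node (.leaf (1, 1818)) (.leaf (77, 3998)))))) (.node (.node (.node (.node (.leaf (0, 0)) (.leaf (0, 0))) (.node (.leaf (1, 1178)) (.leaf (77, 3350)))) (.node (.node (.leaf (67, 2909)) (.leaf (0, 0))) (.node (.leaf (1, 1690)) (.leaf (1, 3738))))) (.node (.node (.node (.leaf (0, 0)) (.leaf (0, 0))) (.node (.leaf (0, 0)) (.leaf (1, 3482)))) (.node (.node (.leaf (0, 0)) (.leaf (0, 0))) (.node (.leaf (1, 1946)) (.leaf (77, 3868))))))) (.node (.node (.node (.node (.node (.leaf (67, 171)) (.leaf (1, 2138))) (.node (.leaf (0, 0)) (.leaf (1, 3162)))) (.node (.node (.leaf (0, 0))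 (.leaf (1, 2650))) (.node (.leaf (0, 0)) (.leaf (1, 3674))))) (.node (.node (.node (.leaf (0, 0)) (.leaf (77, 3797))) (.node (.leaf (1, 1370)) (.leaf (1, 3418)))) (.node (.node (.leaf (0, 0)) (.leaf (1, 2906))) (.node (.leaf (0, 0)) (.leaf (1, 3930)))))) (.node (.node (.node (.node (.leaf (0, 0)) (.leaf (1, 2266))) (.node (.leaf (1, 1242)) (.leaf (0, 0)))) (.node (.node (.leaf (1, 730)) (.leaf (77, 3449))) (.node (.leaf (0, 0)) (.leaf (71, 3802))))) (.node (.node (.node (.leaf (1, 474)) (.leaf (1, 2522))) (.node (.leaf (0, 0)) (.leaf (1, 3546)))) (.node (.node (.leaf (1, 986)) (.leaf (1, 3034))) (.node (.leaf (1, 2010)) (.leaf (77, 3398))))))))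

def twoVia106 : Janko.Tree (ℕ × ℕ) :=
  (.node (.node (.node (.node (.node (.node (.leaf (0, 0)) (.leaf (7, 2791))) (.node (.leaf (2, 1050)) (.leaf (58, 2904)))) (.node (.node (.leaf (0, 0)) (.leaf (2, 2586))) (.node (.leaf (2, 1562)) (.leaf (7, 3970))))) (.node (.node (.node (.leaf (6, 282)) (.leaf (6, 2330))) (.node (.leaf (74, 1311)) (.leaf (70, 3353)))) (.node (.node (.leaf (24, 1235)) (.leaf (75, 929))) (.node (.leaf (77, 900)) (.leaf (2, 3866)))))) (.node (.node (.node (.node (.leaf (2, 154)) (.leaf (7, 2930))) (.node (.leaf (0, 0)) (.leaf (77, 2280)))) (.node (.node (.leaf (7, 1057)) (.leaf (7, 1995))) (.node (.leaf (77, 2884)) (.leaf (0, 0))))) (.node (.node (.node (.leaf (6, 410)) (.leaf (48, 2299))) (.node (.leaf (2, 1434)) (.leaf (67, 2671)))) (.node (.node (.leaf (2, 1421)) (.leaf (77, 2860))) (.node (.leaf (77, 2098)) (.leaf (6, 3994))))))) (.node (.node (.node (.node (.node (.leaf (7, 177)) (.leaf (77, 936))) (.node (.leaf (7, 1686)) (.leaf (77, 773))))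 (.node (.node (.leaf (77, 1445)) (.leaf (77, 2102))) (.node (.leaf (2, 1626)) (.leaf (67, 3981))))) (.node (.node (.node (.leaf (6, 346)) (.leaf (0, 0))) (.node (.leaf (0, 0)) (.leaf (0, 0)))) (.node (.node (.leaf (76, 428)) (.leaf (0, 0))) (.node (.leaf (6, 1882)) (.leaf (77, 1434)))))) (.node (.node (.node (.node (.leaf (2, 218)) (.leaf (13, 1574))) (.node (.leaf (0, 0)) (.leaf (2, 3290)))) (.node (.node (.leaf (0, 0)) (.leaf (0, 0))) (.node (.leaf (2, 1754)) (.leaf (71, 3276))))) (.node (.node (.node (.leaf (77, 447)) (.leaf (77, 3755))) (.node (.leaf (23, 613)) (.leaf (77, 3558)))) (.node (.node (.leaf (0, 0)) (.leaf (7, 2329))) (.node (.leaf (46, 2724)) (.leaf (77, 3407))))))))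

def twoVia107 : Janko.Tree (ℕ × ℕ) :=
  (.node (.node (.node (.node (.node (.node (.leaf (0, 0)) (.leaf (3, 2074))) (.node (.leaf (0, 0)) (.leaf (75, 1156)))) (.node (.node (.leaf (0, 0)) (.leaf (54, 1867))) (.node (.leaf (0, 0)) (.leaf (3, 3610))))) (.node (.node (.node (.leaf (3, 282)) (.leaf (3, 2330))) (.node (.leaf (0, 0)) (.leaf (3, 3354)))) (.node (.node (.leaf (0, 0)) (.leaf (0, 0))) (.node (.leaf (0, 0)) (.leaf (3, 3866)))))) (.node (.node (.node (.node (.leaf (3, 154)) (.leaf (3, 2202))) (.node (.leaf (62, 460)) (.leaf (3, 3226)))) (.node (.node (.leaf (3, 666)) (.leaf (3, 2714))) (.node (.leaf (77, 3219)) (.leaf (0, 0))))) (.node (.node (.node (.leaf (3, 410)) (.leaf (0, 0))) (.node (.leaf (77, 2164)) (.leaf (3, 3856)))) (.node (.node (.leaf (3, 922)) (.leaf (73, 3696))) (.node (.leaf (5, 2668)) (.leaf (3, 3994))))))) (.node (.node (.node (.node (.node (.leaf (3, 90)) (.leaf (69, 2098))) (.node (.leaf (3, 1114)) (.leaf (67, 1811)))) (.node (.node (.leaf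 (77, 928)) (.leaf (0, 0))) (.node (.leaf (77, 2299)) (.leaf (0, 0))))) (.node (.node (.node (.leaf (3, 346)) (.leaf (6, 3083))) (.node (.leaf (0, 0)) (.leaf (0, 0)))) (.node (.node (.leaf (3, 858)) (.leaf (0, 0))) (.node (.leaf (3, 1882)) (.leaf (75, 2160)))))) (.node (.node (.node (.node (.leaf (0, 0)) (.leaf (71, 2232))) (.node (.leaf (0, 0)) (.leaf (77, 1660)))) (.node (.node (.leaf (0, 0)) (.leaf (0, 0))) (.node (.leaf (0, 0)) (.leaf (3, 3802))))) (.node (.node (.node (.leaf (77, 3169)) (.leaf (68, 2510))) (.node (.leaf (77, 3266)) (.leaf (76, 2580)))) (.node (.node (.leaf (0, 0)) (.leaf (0, 0))) (.node (.leaf (0, 0)) (.leaf (3, 4058))))))))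

def twoVia108 : Janko.Tree (ℕ × ℕ) :=
  (.node (.node (.node (.node (.node (.node (.leaf (0, 59)) (.leaf (0, 0))) (.node (.leaf (0, 1051)) (.leaf (77, 3099)))) (.node (.node (.leaf (75, 230)) (.leaf (77, 2587))) (.node (.leaf (5, 1563)) (.leaf (7, 3009))))) (.node (.node (.node (.leaf (0, 0)) (.leaf (0, 2331))) (.node (.leaf (0, 1307)) (.leaf (77, 3355)))) (.node (.node (.leaf (0, 1245)) (.leaf (59, 1445))) (.node (.leaf (7, 1218)) (.leaf (5, 3867)))))) (.node (.node (.node (.node (.leaf (0, 0)) (.leaf (0, 0))) (.node (.leaf (4, 1179)) (.leaf (76, 3419)))) (.node (.node (.leaf (0, 0)) (.leaf (77, 2961))) (.node (.leaf (5, 1691)) (.leaf (7, 3739))))) (.node (.node (.node (.leaf (72, 124)) (.leaf (77, 2459))) (.node (.leaf (0, 0)) (.leaf (61, 2139)))) (.node (.node (.leaf (0, 0)) (.leaf (73, 1563))) (.node (.leaf (17, 1947)) (.leaf (55, 3995))))))) (.node (.node (.node (.node (.node (.leaf (73, 19)) (.leaf (58, 1371))) (.node (.leaf (0, 0)) (.leaf (4, 3163)))) (.node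 (.node (.leaf (76, 2509)) (.leaf (75, 1440))) (.node (.leaf (77, 1627)) (.leaf (59, 2417))))) (.node (.node (.node (.leaf (72, 2162)) (.leaf (0, 3083))) (.node (.leaf (4, 1371)) (.leaf (0, 3419)))) (.node (.node (.leaf (0, 0)) (.leaf (77, 2907))) (.node (.leaf (73, 1907)) (.leaf (77, 3860)))))) (.node (.node (.node (.node (.leaf (77, 2601)) (.leaf (77, 3580))) (.node (.leaf (76, 1251)) (.leaf (73, 3291)))) (.node (.node (.leaf (0, 0)) (.leaf (0, 3433))) (.node (.leaf (0, 2436)) (.leaf (0, 3803))))) (.node (.node (.node (.leaf (77, 226)) (.leaf (77, 2764))) (.node (.leaf (75, 2917)) (.leaf (0, 3547)))) (.node (.node (.leaf (75, 977)) (.leaf (0, 3624))) (.node (.leaf (7, 1359)) (.leaf (60, 2988))))))))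

def twoVia109 : Janko.Tree (ℕ × ℕ) :=
  (.node (.node (.node (.node (.node (.node (.leaf (1, 52)) (.leaf (1, 2075))) (.node (.leaf (67, 2901)) (.leaf (24, 2408)))) (.node (.node (.leaf (0, 0)) (.leaf (1, 2587))) (.node (.leaf (0, 0)) (.leaf (63, 3970))))) (.node (.node (.node (.leaf (1, 283)) (.leaf (0, 0))) (.node (.leaf (0, 0)) (.leaf (1, 3355)))) (.node (.node (.leaf (71, 315)) (.leaf (0, 0))) (.node (.leaf (77, 1213)) (.leaf (77, 3382)))))) (.node (.node (.node (.node (.leaf (1, 155)) (.leaf (1, 2203))) (.node (.leaf (0, 0)) (.leaf (1, 3227)))) (.node (.node (.leaf (1, 667)) (.leaf (1, 2715))) (.node (.leaf (0, 0)) (.leaf (77, 3498))))) (.node (.node (.node (.leaf (1, 411)) (.leaf (24, 1762))) (.node (.leaf (1, 1435)) (.leaf (1, 3483)))) (.node (.node (.leaf (1, 923)) (.leaf (1, 2971))) (.node (.leaf (0, 0)) (.leaf (1, 3995))))))) (.node (.node (.node (.node (.node (.leaf (1, 91)) (.leaf (1, 2139))) (.node (.leaf (1, 1115)) (.leaf (17, 2467)))) (.node (.node (.leaf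 (0, 0)) (.leaf (0, 0))) (.node (.leaf (1, 1627)) (.leaf (0, 0))))) (.node (.node (.node (.leaf (0, 0)) (.leaf (0, 0))) (.node (.leaf (77, 880)) (.leaf (0, 0)))) (.node (.node (.leaf (1, 859)) (.leaf (1, 2907))) (.node (.leaf (1, 1883)) (.leaf (1, 3931)))))) (.node (.node (.node (.node (.leaf (0, 0)) (.leaf (0, 0))) (.node (.leaf (0, 0)) (.leaf (1, 3291)))) (.node (.node (.leaf (1, 731)) (.leaf (0, 0))) (.node (.leaf (0, 0)) (.leaf (0, 0))))) (.node (.node (.node (.leaf (1, 475)) (.leaf (0, 0))) (.node (.leaf (68, 1499)) (.leaf (77, 3718)))) (.node (.node (.leaf (0, 0)) (.leaf (1, 3035))) (.node (.leaf (77, 1680)) (.leaf (1, 4059))))))))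

def twoVia110 : Janko.Tree (ℕ × ℕ) :=
  (.node (.node (.node (.node (.node (.node (.leaf (2, 27)) (.leaf (6, 3450))) (.node (.leaf (7, 1606)) (.leaf (2, 3099)))) (.node (.node (.leaf (2, 539)) (.leaf (26, 1868))) (.node (.leaf (2, 2253)) (.leaf (2, 3611))))) (.node (.node (.node (.leaf (0, 0)) (.leaf (6, 2331))) (.node (.leaf (6, 1307)) (.leaf (13, 1318)))) (.node (.node (.leaf (77, 1832)) (.leaf (6, 2843))) (.node (.leaf (2, 1819)) (.leaf (7, 3380)))))) (.node (.node (.node (.node (.leaf (0, 0)) (.leaf (7, 2932))) (.node (.leaf (2, 1179)) (.leaf (77, 2770)))) (.node (.node (.leaf (55, 1618)) (.leaf (77, 3516))) (.node (.leaf (2, 2377)) (.leaf (2, 3739))))) (.node (.node (.node (.leaf (0, 0)) (.leaf (2, 2459))) (.node (.leaf (76, 3318)) (.leaf (77, 2271)))) (.node (.node (.leaf (77, 2059)) (.leaf (66, 3364))) (.node (.leaf (2, 1947)) (.leaf (77, 3461))))))) (.node (.node (.node (.node (.node (.leaf (0, 0)) (.leaf (0, 0))) (.node (.leaf (7, 1688)) (.leaf (2, 3163))))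 (.node (.node (.leaf (75, 2407)) (.leaf (6, 2651))) (.node (.leaf (0, 0)) (.leaf (6, 3675))))) (.node (.node (.node (.leaf (74, 3529)) (.leaf (2, 2395))) (.node (.leaf (2, 1371)) (.leaf (72, 2058)))) (.node (.node (.leaf (0, 0)) (.leaf (75, 1829))) (.node (.leaf (77, 791)) (.leaf (67, 3517)))))) (.node (.node (.node (.node (.leaf (2, 387)) (.leaf (6, 2267))) (.node (.leaf (2, 1243)) (.leaf (0, 0)))) (.node (.node (.leaf (0, 0)) (.leaf (2, 2779))) (.node (.leaf (2, 2440)) (.leaf (76, 3558))))) (.node (.node (.node (.leaf (75, 152)) (.leaf (2, 2523))) (.node (.leaf (2, 1499)) (.leaf (77, 3546)))) (.node (.node (.leaf (6, 987)) (.leaf (7, 3624))) (.node (.leaf (2, 2011)) (.leaf (77, 3947))))))))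

def twoVia111 : Janko.Tree (ℕ × ℕ) :=
  (.node (.node (.node (.node (.node (.node (.leaf (0, 0)) (.leaf (0, 0))) (.node (.leaf (3, 1051)) (.leaf (0, 0)))) (.node (.node (.leaf (75, 1060)) (.leaf (66, 3100))) (.node (.leaf (3, 1563)) (.leaf (3, 3611))))) (.node (.node (.node (.leaf (0, 0)) (.leaf (3, 2331))) (.node (.leaf (3, 1307)) (.leaf (71, 3482)))) (.node (.node (.leaf (3, 795)) (.leaf (3, 2843))) (.node (.leaf (3, 1819)) (.leaf (3, 3867)))))) (.node (.node (.node (.node (.leaf (0, 0)) (.leaf (0, 0))) (.node (.leaf (67, 2452)) (.leaf (0, 0)))) (.node (.node (.leaf (0, 0)) (.leaf (77, 2018))) (.node (.leaf (3, 1691)) (.leaf (7, 2489))))) (.node (.node (.node (.leaf (0, 0)) (.leaf (0, 0))) (.node (.leaf (71, 1928)) (.leaf (67, 3518)))) (.node (.node (.leaf (56, 3893)) (.leaf (61, 650))) (.node (.leaf (0, 0)) (.leaf (59, 3114))))))) (.node (.node (.node (.node (.node (.leaf (0, 0)) (.leaf (0, 0))) (.node (.leaf (0, 0)) (.leaf (0, 0)))) (.node (.node (.leaf (3, 603))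 (.leaf (3, 2651))) (.node (.leaf (71, 1147)) (.leaf (3, 3675))))) (.node (.node (.node (.leaf (3, 347)) (.leaf (3, 3062))) (.node (.leaf (0, 0)) (.leaf (75, 3765)))) (.node (.node (.leaf (0, 0)) (.leaf (0, 0))) (.node (.leaf (77, 1231)) (.leaf (77, 3640)))))) (.node (.node (.node (.node (.leaf (3, 219)) (.leaf (3, 2267))) (.node (.leaf (77, 1805)) (.leaf (51, 3742)))) (.node (.node (.leaf (0, 0)) (.leaf (0, 0))) (.node (.leaf (3, 1755)) (.leaf (70, 3562))))) (.node (.node (.node (.leaf (0, 0)) (.leaf (0, 0))) (.node (.leaf (3, 1499)) (.leaf (3, 3876)))) (.node (.node (.leaf (3, 987)) (.leaf (3, 3035))) (.node (.leaf (3, 2011)) (.leaf (70, 3931))))))))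

def twoVia112 : Janko.Tree (ℕ × ℕ) :=
  (.node (.node (.node (.node (.node (.node (.leaf (7, 59)) (.leaf (75, 265))) (.node (.leaf (0, 0)) (.leaf (77, 818)))) (.node (.node (.leaf (77, 67)) (.leaf (0, 3278))) (.node (.leaf (0, 1564)) (.leaf (77, 4018))))) (.node (.node (.node (.leaf (0, 0)) (.leaf (7, 2332))) (.node (.leaf (0, 1308)) (.leaf (76, 3356)))) (.node (.node (.leaf (72, 817)) (.leaf (0, 2844))) (.node (.leaf (5, 1833)) (.leaf (77, 2707)))))) (.node (.node (.node (.node (.leaf (0, 156)) (.leaf (7, 1520))) (.node (.leaf (0, 0)) (.leaf (75, 2057)))) (.node (.node (.leaf (7, 404)) (.leaf (0, 2716))) (.node (.leaf (0, 0)) (.leaf (77, 3740))))) (.node (.node (.node (.leaf (4, 412)) (.leaf (0, 3156))) (.node (.leaf (4, 1436)) (.leaf (75, 4038)))) (.node (.node (.leaf (0, 924)) (.leaf (77, 2972))) (.node (.leaf (5, 1948)) (.leaf (77, 2242))))))) (.node (.node (.node (.node (.node (.leaf (4, 92)) (.leaf (0, 2140))) (.node (.leaf (7, 703)) (.leaf (0, 3164)))) (.node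 (.node (.leaf (0, 0)) (.leaf (5, 2652))) (.node (.leaf (73, 1694)) (.leaf (0, 3676))))) (.node (.node (.node (.leaf (0, 0)) (.leaf (20, 2396))) (.node (.leaf (0, 1372)) (.leaf (17, 3420)))) (.node (.node (.leaf (77, 2327)) (.leaf (0, 2908))) (.node (.leaf (61, 1884)) (.leaf (0, 3932)))))) (.node (.node (.node (.node (.leaf (0, 0)) (.leaf (0, 2268))) (.node (.leaf (5, 2553)) (.leaf (77, 2200)))) (.node (.node (.leaf (0, 732)) (.leaf (7, 3433))) (.node (.leaf (0, 0)) (.leaf (7, 3804))))) (.node (.node (.node (.leaf (77, 3707)) (.leaf (20, 2524))) (.node (.leaf (0, 0)) (.leaf (75, 3098)))) (.node (.node (.leaf (54, 2107)) (.leaf (5, 3036))) (.node (.leaf (0, 2012)) (.leaf (77, 4061))))))))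

def twoVia113 : Janko.Tree (ℕ × ℕ) :=
  (.node (.node (.node (.node (.node (.node (.leaf (0, 0)) (.leaf (0, 0))) (.node (.leaf (1, 1052)) (.leaf (77, 2875)))) (.node (.node (.leaf (1, 540)) (.leaf (0, 0))) (.node (.leaf (0, 0)) (.leaf (10, 3612))))) (.node (.node (.node (.leaf (1, 284)) (.leaf (1, 2332))) (.node (.leaf (0, 0)) (.leaf (0, 0)))) (.node (.node (.leaf (1, 796)) (.leaf (73, 2117))) (.node (.leaf (0, 0)) (.leaf (1, 3868)))))) (.node (.node (.node (.node (.leaf (0, 0)) (.leaf (1, 2928))) (.node (.leaf (1, 1180)) (.leaf (0, 0)))) (.node (.node (.leaf (77, 2304)) (.leaf (0, 0))) (.node (.leaf (1, 1692)) (.leaf (0, 0))))) (.node (.node (.node (.leaf (0, 0)) (.leaf (77, 2038))) (.node (.leaf (0, 0)) (.leaf (70, 1755)))) (.node (.node (.leaf (0, 0)) (.leaf (1, 2972))) (.node (.leaf (77, 2824)) (.leaf (75, 3858))))))) (.node (.node (.node (.node (.node (.leaf (0, 0)) (.leaf (0, 0))) (.node (.leaf (77, 2723)) (.leaf (0, 0)))) (.node (.node (.leaf (1, 604)) (.leaf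 (77, 2110))) (.node (.leaf (0, 0)) (.leaf (73, 3111))))) (.node (.node (.node (.leaf (1, 348)) (.leaf (67, 1710))) (.node (.leaf (0, 0)) (.leaf (9, 3420)))) (.node (.node (.leaf (0, 0)) (.leaf (77, 3525))) (.node (.leaf (1, 1884)) (.leaf (77, 3522)))))) (.node (.node (.node (.node (.leaf (1, 220)) (.leaf (1, 2268))) (.node (.leaf (1, 1244)) (.leaf (71, 3292)))) (.node (.node (.leaf (0, 0)) (.leaf (77, 3434))) (.node (.leaf (1, 1756)) (.leaf (77, 4035))))) (.node (.node (.node (.leaf (0, 0)) (.leaf (57, 562))) (.node (.leaf (1, 1500)) (.leaf (1, 3548)))) (.node (.node (.leaf (1, 988)) (.leaf (0, 0))) (.node (.leaf (0, 0)) (.leaf (67, 3770))))))))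

def twoVia114 : Janko.Tree (ℕ × ℕ) :=
  (.node (.node (.node (.node (.node (.node (.leaf (7, 61)) (.leaf (77, 742))) (.node (.leaf (77, 747)) (.leaf (2, 3665)))) (.node (.node (.leaf (75, 555)) (.leaf (6, 2588))) (.node (.leaf (6, 1564)) (.leaf (77, 3505))))) (.node (.node (.node (.leaf (0, 0)) (.leaf (0, 0))) (.node (.leaf (55, 520)) (.leaf (71, 3856)))) (.node (.node (.leaf (72, 1794)) (.leaf (0, 0))) (.node (.leaf (2, 1820)) (.leaf (70, 3109)))))) (.node (.node (.node (.node (.leaf (0, 0)) (.leaf (2, 2204))) (.node (.leaf (62, 1052)) (.leaf (6, 3228)))) (.node (.node (.leaf (2, 668)) (.leaf (76, 537))) (.node (.leaf (75, 2592)) (.leaf (6, 3740))))) (.node (.node (.node (.leaf (2, 412)) (.leaf (2, 3157))) (.node (.leaf (2, 1436)) (.leaf (77, 932)))) (.node (.node (.leaf (77, 2062)) (.leaf (0, 0))) (.node (.leaf (2, 2670)) (.leaf (2, 3996))))))) (.node (.node (.node (.node (.node (.leaf (2, 92)) (.leaf (77, 115))) (.node (.leaf (2, 1116)) (.leaf (7, 3724)))) (.node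 (.node (.leaf (0, 0)) (.leaf (76, 583))) (.node (.leaf (77, 671)) (.leaf (0, 0))))) (.node (.node (.node (.leaf (0, 0)) (.leaf (61, 1384))) (.node (.leaf (7, 2021)) (.leaf (2, 3420)))) (.node (.node (.leaf (2, 860)) (.leaf (0, 0))) (.node (.leaf (0, 0)) (.leaf (0, 0)))))) (.node (.node (.node (.node (.leaf (0, 0)) (.leaf (2, 2268))) (.node (.leaf (0, 0)) (.leaf (44, 3999)))) (.node (.node (.leaf (0, 0)) (.leaf (7, 3436))) (.node (.leaf (0, 0)) (.leaf (2, 3804))))) (.node (.node (.node (.leaf (6, 476)) (.leaf (2, 3228))) (.node (.leaf (0, 0)) (.leaf (71, 3554)))) (.node (.node (.leaf (0, 0)) (.leaf (2, 3624))) (.node (.leaf (6, 2012)) (.leaf (6, 4060))))))))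

def twoVia115 : Janko.Tree (ℕ × ℕ) :=
  (.node (.node (.node (.node (.node (.node (.leaf (3, 28)) (.leaf (3, 2076))) (.node (.leaf (0, 0)) (.leaf (3, 3100)))) (.node (.node (.leaf (0, 0)) (.leaf (3, 2588))) (.node (.leaf (3, 1564)) (.leaf (3, 3612))))) (.node (.node (.node (.leaf (0, 0)) (.leaf (7, 2340))) (.node (.leaf (0, 0)) (.leaf (3, 3356)))) (.node (.node (.leaf (0, 0)) (.leaf (6, 3495))) (.node (.leaf (0, 0)) (.leaf (75, 4076)))))) (.node (.node (.node (.node (.leaf (0, 0)) (.leaf (3, 2204))) (.node (.leaf (77, 2295)) (.leaf (3, 3228)))) (.node (.node (.leaf (3, 668)) (.leaf (3, 2716))) (.node (.leaf (67, 1200)) (.leaf (3, 3740))))) (.node (.node (.node (.leaf (77, 682)) (.leaf (3, 2460))) (.node (.leaf (77, 831)) (.leaf (3, 3484)))) (.node (.node (.leaf (77, 1401)) (.leaf (0, 0))) (.node (.leaf (3, 1948)) (.leaf (3, 3996))))))) (.node (.node (.node (.node (.node (.leaf (0, 0)) (.leaf (3, 2140))) (.node (.leaf (3, 1116)) (.leaf (3, 3164)))) (.node (.node (.leaf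 (0, 0)) (.leaf (3, 2652))) (.node (.leaf (3, 1628)) (.leaf (7, 4082))))) (.node (.node (.node (.leaf (0, 0)) (.leaf (3, 2396))) (.node (.leaf (3, 1372)) (.leaf (75, 2782)))) (.node (.node (.leaf (77, 1657)) (.leaf (66, 3871))) (.node (.leaf (0, 0)) (.leaf (75, 2279)))))) (.node (.node (.node (.node (.leaf (0, 0)) (.leaf (3, 2973))) (.node (.leaf (0, 0)) (.leaf (3, 3292)))) (.node (.node (.leaf (0, 0)) (.leaf (3, 2780))) (.node (.leaf (0, 0)) (.leaf (7, 2585))))) (.node (.node (.node (.leaf (3, 476)) (.leaf (3, 2524))) (.node (.leaf (0, 0)) (.leaf (75, 1152)))) (.node (.node (.leaf (61, 1433)) (.leaf (3, 3036))) (.node (.leaf (3, 2012)) (.leaf (3, 4060))))))))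

def twoVia116 : Janko.Tree (ℕ × ℕ) :=
  (.node (.node (.node (.node (.node (.node (.leaf (0, 0)) (.leaf (0, 0))) (.node (.leaf (7, 661)) (.leaf (75, 3088)))) (.node (.node (.leaf (5, 541)) (.leaf (0, 0))) (.node (.leaf (54, 1579)) (.leaf (77, 3343))))) (.node (.node (.node (.leaf (0, 285)) (.leaf (0, 2333))) (.node (.leaf (0, 1940)) (.leaf (76, 329)))) (.node (.node (.leaf (7, 797)) (.leaf (0, 3495))) (.node (.leaf (7, 1821)) (.leaf (4, 3869)))))) (.node (.node (.node (.node (.leaf (0, 289)) (.leaf (0, 2205))) (.node (.leaf (77, 461)) (.leaf (59, 906)))) (.node (.node (.leaf (12, 1615)) (.leaf (4, 2717))) (.node (.leaf (77, 2456)) (.leaf (77, 1458))))) (.node (.node (.node (.leaf (0, 413)) (.leaf (77, 1248))) (.node (.leaf (0, 0)) (.leaf (43, 3339)))) (.node (.node (.leaf (0, 925)) (.leaf (55, 650))) (.node (.leaf (0, 1949)) (.leaf (7, 3997))))))) (.node (.node (.node (.node (.node (.leaf (0, 93)) (.leaf (62, 3504))) (.node (.leaf (0, 1117)) (.leaf (0, 0)))) (.node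 (.node (.leaf (0, 605)) (.leaf (0, 0))) (.node (.leaf (25, 1629)) (.leaf (0, 3993))))) (.node (.node (.node (.leaf (0, 0)) (.leaf (4, 2397))) (.node (.leaf (0, 0)) (.leaf (77, 2193)))) (.node (.node (.leaf (0, 0)) (.leaf (0, 3543))) (.node (.leaf (5, 1885)) (.leaf (0, 4075)))))) (.node (.node (.node (.node (.leaf (0, 221)) (.leaf (77, 1019))) (.node (.leaf (5, 1245)) (.leaf (0, 0)))) (.node (.node (.leaf (0, 1156)) (.leaf (0, 0))) (.node (.leaf (0, 1757)) (.leaf (5, 3805))))) (.node (.node (.node (.leaf (0, 0)) (.leaf (72, 2527))) (.node (.leaf (0, 1501)) (.leaf (77, 2184)))) (.node (.node (.leaf (0, 989)) (.leaf (77, 3820))) (.node (.leaf (73, 2009)) (.leaf (0, 4061))))))))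

def twoVia117 : Janko.Tree (ℕ × ℕ) :=
  (.node (.node (.node (.node (.node (.node (.leaf (1, 29)) (.leaf (1, 2077))) (.node (.leaf (70, 747)) (.leaf (77, 2774)))) (.node (.node (.leaf (0, 0)) (.leaf (1, 2589))) (.node (.leaf (1, 1565)) (.leaf (1, 3613))))) (.node (.node (.node (.leaf (0, 0)) (.leaf (59, 1667))) (.node (.leaf (68, 1309)) (.leaf (1, 3357)))) (.node (.node (.leaf (0, 0)) (.leaf (77, 3495))) (.node (.leaf (67, 3341)) (.leaf (77, 3997)))))) (.node (.node (.node (.node (.leaf (0, 0)) (.leaf (77, 1667))) (.node (.leaf (1, 1181)) (.leaf (77, 3756)))) (.node (.node (.leaf (0, 0)) (.leaf (77, 3431))) (.node (.leaf (77, 3197)) (.leaf (1, 3741))))) (.node (.node (.node (.leaf (0, 0)) (.leaf (1, 2461))) (.node (.leaf (1, 1437)) (.leaf (1, 3485)))) (.node (.node (.leaf (0, 0)) (.leaf (0, 0))) (.node (.leaf (77, 3205)) (.leaf (70, 3116))))))) (.node (.node (.node (.node (.node (.leaf (0, 0)) (.leaf (1, 2141))) (.node (.leaf (0, 0)) (.leaf (1, 3165)))) (.node (.node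 (.leaf (0, 0)) (.leaf (1, 2653))) (.node (.leaf (1, 1629)) (.leaf (77, 3993))))) (.node (.node (.node (.leaf (1, 349)) (.leaf (0, 0))) (.node (.leaf (1, 1373)) (.leaf (77, 3851)))) (.node (.node (.leaf (1, 861)) (.leaf (77, 3537))) (.node (.leaf (0, 0)) (.leaf (67, 2886)))))) (.node (.node (.node (.node (.leaf (0, 0)) (.leaf (1, 2269))) (.node (.leaf (0, 0)) (.leaf (1, 3293)))) (.node (.node (.leaf (0, 0)) (.leaf (1, 2781))) (.node (.leaf (0, 0)) (.leaf (77, 3295))))) (.node (.node (.node (.leaf (1, 477)) (.leaf (1, 2525))) (.node (.leaf (0, 0)) (.leaf (1, 3549)))) (.node (.node (.leaf (0, 0)) (.leaf (1, 3037))) (.node (.leaf (1, 2013)) (.leaf (77, 3946))))))))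

def twoVia118 : Janko.Tree (ℕ × ℕ) :=
  (.node (.node (.node (.node (.node (.node (.leaf (0, 0)) (.leaf (0, 0))) (.node (.leaf (2, 1053)) (.leaf (2, 3101)))) (.node (.node (.leaf (59, 332)) (.leaf (0, 0))) (.node (.leaf (0, 0)) (.leaf (6, 3613))))) (.node (.node (.node (.leaf (0, 0)) (.leaf (7, 1644))) (.node (.leaf (59, 307)) (.leaf (74, 999)))) (.node (.node (.leaf (6, 797)) (.leaf (2, 2845))) (.node (.leaf (2, 2530)) (.leaf (2, 3869)))))) (.node (.node (.node (.node (.leaf (2, 157)) (.leaf (24, 2932))) (.node (.leaf (0, 0)) (.leaf (77, 3419)))) (.node (.node (.leaf (2, 669)) (.leaf (2, 2717))) (.node (.leaf (2, 1693)) (.leaf (67, 4020))))) (.node (.node (.node (.leaf (77, 984)) (.leaf (0, 0))) (.node (.leaf (0, 0)) (.leaf (77, 2093)))) (.node (.node (.leaf (0, 0)) (.leaf (2, 2973))) (.node (.leaf (77, 350)) (.leaf (2, 3997))))))) (.node (.node (.node (.node (.node (.leaf (7, 181)) (.leaf (0, 0))) (.node (.leaf (24, 1688)) (.leaf (4, 3726)))) (.node (.node (.leaf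 (0, 0)) (.leaf (0, 0))) (.node (.leaf (75, 669)) (.leaf (2, 3677))))) (.node (.node (.node (.leaf (0, 0)) (.leaf (2, 2397))) (.node (.leaf (70, 951)) (.leaf (77, 2056)))) (.node (.node (.leaf (0, 0)) (.leaf (2, 2909))) (.node (.leaf (75, 1891)) (.leaf (2, 3933)))))) (.node (.node (.node (.node (.leaf (6, 221)) (.leaf (77, 3509))) (.node (.leaf (70, 3264)) (.leaf (74, 1901)))) (.node (.node (.leaf (2, 733)) (.leaf (6, 3899))) (.node (.leaf (74, 3111)) (.leaf (7, 3281))))) (.node (.node (.node (.leaf (0, 0)) (.leaf (77, 905))) (.node (.leaf (6, 1509)) (.leaf (77, 3217)))) (.node (.node (.leaf (77, 620)) (.leaf (77, 3314))) (.node (.leaf (0, 0)) (.leaf (6, 4061))))))))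

def twoVia119 : Janko.Tree (ℕ × ℕ) :=
  (.node (.node (.node (.node (.node (.node (.leaf (0, 0)) (.leaf (0, 0))) (.node (.leaf (3, 1053)) (.leaf (3, 3101)))) (.node (.node (.leaf (3, 541)) (.leaf (0, 0))) (.node (.leaf (73, 1576)) (.leaf (3, 3613))))) (.node (.node (.node (.leaf (0, 0)) (.leaf (0, 0))) (.node (.leaf (3, 1309)) (.leaf (66, 2019)))) (.node (.node (.leaf (3, 797)) (.leaf (0, 0))) (.node (.leaf (3, 1821)) (.leaf (0, 0)))))) (.node (.node (.node (.node (.leaf (0, 0)) (.leaf (0, 0))) (.node (.leaf (75, 1771)) (.leaf (3, 3229)))) (.node (.node (.leaf (67, 1616)) (.leaf (7, 1352))) (.node (.leaf (0, 0)) (.leaf (3, 3741))))) (.node (.node (.node (.leaf (3, 413)) (.leaf (0, 0))) (.node (.leaf (0, 0)) (.leaf (75, 605)))) (.node (.node (.leaf (75, 1287)) (.leaf (55, 396))) (.node (.leaf (77, 580)) (.leaf (7, 3122))))))) (.node (.node (.node (.node (.node (.leaf (3, 93)) (.leaf (0, 0))) (.node (.leaf (0, 0)) (.leaf (0, 0)))) (.node (.node (.leaf (77, 1911)) (.leaf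 (0, 0))) (.node (.leaf (0, 0)) (.leaf (0, 0))))) (.node (.node (.node (.leaf (0, 0)) (.leaf (54, 1709))) (.node (.leaf (0, 0)) (.leaf (3, 3421)))) (.node (.node (.leaf (0, 0)) (.leaf (0, 0))) (.node (.leaf (3, 1885)) (.leaf (75, 3575)))))) (.node (.node (.node (.node (.leaf (3, 221)) (.leaf (76, 2966))) (.node (.leaf (3, 1245)) (.leaf (77, 3844)))) (.node (.node (.leaf (0, 0)) (.leaf (0, 0))) (.node (.leaf (67, 1738)) (.leaf (3, 3805))))) (.node (.node (.node (.leaf (0, 0)) (.leaf (0, 0))) (.node (.leaf (0, 0)) (.leaf (70, 1364)))) (.node (.node (.leaf (0, 0)) (.leaf (77, 3478))) (.node (.leaf (73, 2369)) (.leaf (3, 4061))))))))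

def twoVia120 : Janko.Tree (ℕ × ℕ) :=
  (.node (.node (.node (.node (.node (.node (.leaf (0, 30)) (.leaf (12, 3692))) (.node (.leaf (7, 1054)) (.leaf (25, 3102)))) (.node (.node (.leaf (0, 542)) (.leaf (0, 2590))) (.node (.leaf (0, 1566)) (.leaf (0, 3614))))) (.node (.node (.node (.leaf (0, 487)) (.leaf (0, 3040))) (.node (.leaf (0, 0)) (.leaf (55, 2026)))) (.node (.node (.leaf (54, 1769)) (.leaf (20, 2846))) (.node (.leaf (74, 789)) (.leaf (0, 3870)))))) (.node (.node (.node (.node (.leaf (7, 289)) (.leaf (0, 2934))) (.node (.leaf (4, 1182)) (.leaf (0, 0)))) (.node (.node (.leaf (0, 0)) (.leaf (75, 1254))) (.node (.leaf (20, 1694)) (.leaf (0, 3742))))) (.node (.node (.node (.leaf (0, 0)) (.leaf (75, 2448))) (.node (.leaf (0, 1438)) (.leaf (77, 3176)))) (.node (.node (.leaf (0, 1434)) (.leaf (0, 2974))) (.node (.leaf (62, 839)) (.leaf (77, 3544))))))) (.node (.node (.node (.node (.node (.leaf (0, 0)) (.leaf (0, 2142))) (.node (.leaf (0, 1691)) (.leaf (7, 2466))))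 (.node (.node (.leaf (0, 965)) (.leaf (77, 1302))) (.node (.leaf (5, 1630)) (.leaf (42, 3678))))) (.node (.node (.node (.leaf (0, 350)) (.leaf (77, 4004))) (.node (.leaf (7, 879)) (.leaf (72, 2054)))) (.node (.node (.leaf (0, 862)) (.leaf (34, 2910))) (.node (.leaf (77, 1080)) (.leaf (75, 2908)))))) (.node (.node (.node (.node (.leaf (74, 57)) (.leaf (77, 1825))) (.node (.leaf (62, 471)) (.leaf (77, 1901)))) (.node (.node (.leaf (7, 1156)) (.leaf (77, 3891))) (.node (.leaf (77, 1129)) (.leaf (77, 2943))))) (.node (.node (.node (.leaf (62, 564)) (.leaf (0, 2526))) (.node (.leaf (72, 2911)) (.leaf (77, 4011)))) (.node (.node (.leaf (77, 2179)) (.leaf (77, 1643))) (.node (.leaf (0, 2014)) (.leaf (72, 3385))))))))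

def twoVia121 : Janko.Tree (ℕ × ℕ) :=
  (.node (.node (.node (.node (.node (.node (.leaf (0, 0)) (.leaf (1, 2078))) (.node (.leaf (0, 0)) (.leaf (1, 3102)))) (.node (.node (.leaf (0, 0)) (.leaf (0, 0))) (.node (.leaf (75, 1129)) (.leaf (77, 3927))))) (.node (.node (.node (.leaf (0, 0)) (.leaf (67, 1636))) (.node (.leaf (1, 1310)) (.leaf (0, 0)))) (.node (.node (.leaf (1, 798)) (.leaf (77, 3490))) (.node (.leaf (1, 1822)) (.leaf (0, 0)))))) (.node (.node (.node (.node (.leaf (67, 286)) (.leaf (0, 0))) (.node (.leaf (0, 0)) (.leaf (1, 3230)))) (.node (.node (.leaf (1, 670)) (.leaf (1, 2718))) (.node (.leaf (0, 0)) (.leaf (0, 0))))) (.node (.node (.node (.leaf (1, 414)) (.leaf (0, 0))) (.node (.leaf (0, 0)) (.leaf (1, 3486)))) (.node (.node (.leaf (0, 0)) (.leaf (76, 2255))) (.node (.leaf (0, 0)) (.leaf (77, 3945))))))) (.node (.node (.node (.node (.node (.leaf (1, 94)) (.leaf (0, 0))) (.node (.leaf (0, 0)) (.leaf (67, 2469)))) (.node (.node (.leaf (0, 0)) (.leaf (1,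 2654))) (.node (.leaf (77, 3603)) (.leaf (70, 3674))))) (.node (.node (.node (.leaf (0, 0)) (.leaf (1, 2398))) (.node (.leaf (68, 1360)) (.leaf (1, 3422)))) (.node (.node (.leaf (77, 2688)) (.leaf (1, 3542))) (.node (.leaf (1, 1886)) (.leaf (77, 4043)))))) (.node (.node (.node (.node (.leaf (1, 222)) (.leaf (1, 2270))) (.node (.leaf (0, 0)) (.leaf (0, 0)))) (.node (.node (.leaf (1, 734)) (.leaf (0, 0))) (.node (.leaf (1, 1758)) (.leaf (0, 0))))) (.node (.node (.node (.leaf (0, 0)) (.leaf (0, 0))) (.node (.leaf (1, 2180)) (.leaf (0, 0)))) (.node (.node (.leaf (1, 1512)) (.leaf (1, 3038))) (.node (.leaf (76, 1365)) (.leaf (1, 4062))))))))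

def twoVia122 : Janko.Tree (ℕ × ℕ) :=
  (.node (.node (.node (.node (.node (.node (.leaf (0, 0)) (.leaf (75, 740))) (.node (.leaf (2, 1054)) (.leaf (75, 2168)))) (.node (.node (.leaf (77, 92)) (.leaf (0, 0))) (.node (.leaf (7, 1025)) (.leaf (6, 3614))))) (.node (.node (.node (.leaf (2, 286)) (.leaf (7, 3040))) (.node (.leaf (0, 0)) (.leaf (2, 3358)))) (.node (.node (.leaf (0, 0)) (.leaf (2, 3496))) (.node (.leaf (74, 1827)) (.leaf (7, 4064)))))) (.node (.node (.node (.node (.leaf (7, 292)) (.leaf (6, 2206))) (.node (.leaf (2, 1182)) (.leaf (0, 0)))) (.node (.node (.leaf (0, 0)) (.leaf (77, 1679))) (.node (.leaf (2, 2380)) (.leaf (75, 3042))))) (.node (.node (.node (.leaf (23, 1077)) (.leaf (2, 2462))) (.node (.leaf (77, 1437)) (.leaf (6, 3488)))) (.node (.node (.leaf (2, 926)) (.leaf (77, 2256))) (.node (.leaf (50, 1311)) (.leaf (6, 3998))))))) (.node (.node (.node (.node (.node (.leaf (55, 92)) (.leaf (0, 0))) (.node (.leaf (6, 1118)) (.leaf (2, 3166)))) (.node (.node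 (.leaf (2, 606)) (.leaf (75, 1300))) (.node (.leaf (62, 2308)) (.leaf (2, 3994))))) (.node (.node (.node (.leaf (0, 0)) (.leaf (24, 2397))) (.node (.leaf (2, 1374)) (.leaf (2, 3422)))) (.node (.node (.leaf (0, 0)) (.leaf (2, 3544))) (.node (.leaf (54, 1743)) (.leaf (77, 2968)))))) (.node (.node (.node (.node (.leaf (0, 0)) (.leaf (77, 2211))) (.node (.leaf (50, 765)) (.leaf (2, 3294)))) (.node (.node (.leaf (7, 1159)) (.leaf (2, 2782))) (.node (.leaf (77, 393)) (.leaf (2, 3806))))) (.node (.node (.node (.leaf (77, 908)) (.leaf (6, 2526))) (.node (.leaf (2, 1502)) (.leaf (2, 3550)))) (.node (.node (.leaf (2, 990)) (.leaf (77, 3816))) (.node (.leaf (7, 1367)) (.leaf (77, 3519))))))))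

def twoVia123 : Janko.Tree (ℕ × ℕ) :=
  (.node (.node (.node (.node (.node (.node (.leaf (0, 0)) (.leaf (0, 0))) (.node (.leaf (0, 0)) (.leaf (0, 0)))) (.node (.node (.leaf (0, 0)) (.leaf (73, 1691))) (.node (.leaf (0, 0)) (.leaf (3, 3614))))) (.node (.node (.node (.leaf (0, 0)) (.leaf (3, 2334))) (.node (.leaf (0, 0)) (.leaf (68, 1972)))) (.node (.node (.leaf (75, 2452)) (.leaf (3, 2846))) (.node (.leaf (0, 0)) (.leaf (3, 3870)))))) (.node (.node (.node (.node (.leaf (3, 158)) (.leaf (3, 2206))) (.node (.leaf (77, 1771)) (.leaf (0, 0)))) (.node (.node (.leaf (0, 0)) (.leaf (77, 985))) (.node (.leaf (3, 1694)) (.leaf (20, 1870))))) (.node (.node (.node (.leaf (77, 679)) (.leaf (3, 2462))) (.node (.leaf (61, 1949)) (.leaf (0, 0)))) (.node (.node (.leaf (77, 1482)) (.leaf (0, 0))) (.node (.leaf (3, 1950)) (.leaf (3, 3998))))))) (.node (.node (.node (.node (.node (.leaf (0, 0)) (.leaf (61, 359))) (.node (.leaf (3, 1118)) (.leaf (3, 3166)))) (.node (.node (.leaf (0, 0))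 (.leaf (0, 0))) (.node (.leaf (3, 1630)) (.leaf (3, 3678))))) (.node (.node (.node (.leaf (0, 0)) (.leaf (61, 1808))) (.node (.leaf (3, 1374)) (.leaf (71, 3783)))) (.node (.node (.leaf (0, 0)) (.leaf (3, 2910))) (.node (.leaf (0, 0)) (.leaf (3, 3934)))))) (.node (.node (.node (.node (.leaf (73, 455)) (.leaf (77, 1674))) (.node (.leaf (3, 1246)) (.leaf (77, 1269)))) (.node (.node (.leaf (3, 734)) (.leaf (0, 0))) (.node (.leaf (0, 0)) (.leaf (0, 0))))) (.node (.node (.node (.leaf (3, 478)) (.leaf (3, 2526))) (.node (.leaf (75, 981)) (.leaf (71, 2990)))) (.node (.node (.leaf (0, 0)) (.leaf (0, 0))) (.node (.leaf (0, 0)) (.leaf (3, 4062))))))))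

def twoVia124 : Janko.Tree (ℕ × ℕ) :=
  (.node (.node (.node (.node (.node (.node (.leaf (0, 67)) (.leaf (5, 2079))) (.node (.leaf (7, 1055)) (.leaf (5, 3103)))) (.node (.node (.leaf (62, 332)) (.leaf (0, 3290))) (.node (.leaf (0, 2257)) (.leaf (75, 1905))))) (.node (.node (.node (.leaf (7, 487)) (.leaf (5, 2335))) (.node (.leaf (0, 1311)) (.leaf (0, 3359)))) (.node (.node (.leaf (77, 438)) (.leaf (77, 3714))) (.node (.leaf (0, 1823)) (.leaf (75, 666)))))) (.node (.node (.node (.node (.leaf (23, 804)) (.leaf (74, 2207))) (.node (.leaf (0, 0)) (.leaf (77, 1818)))) (.node (.node (.leaf (0, 671)) (.leaf (7, 2719))) (.node (.leaf (0, 1695)) (.leaf (73, 3960))))) (.node (.node (.node (.leaf (25, 2308)) (.leaf (14, 1186))) (.node (.leaf (77, 2823)) (.leaf (62, 4017)))) (.node (.node (.leaf (58, 205)) (.leaf (77, 2687))) (.node (.leaf (75, 1936)) (.leaf (0, 3999))))))) (.node (.node (.node (.node (.node (.leaf (7, 43)) (.leaf (0, 2876))) (.node (.leaf (73, 1144)) (.leaf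 (0, 3167)))) (.node (.node (.leaf (77, 592)) (.leaf (5, 2655))) (.node (.leaf (59, 1629)) (.leaf (5, 3679))))) (.node (.node (.node (.leaf (0, 584)) (.leaf (0, 3031))) (.node (.leaf (5, 1396)) (.leaf (73, 3242)))) (.node (.node (.leaf (0, 1346)) (.leaf (72, 1500))) (.node (.leaf (77, 2339)) (.leaf (58, 2154)))))) (.node (.node (.node (.node (.leaf (0, 223)) (.leaf (54, 2271))) (.node (.leaf (77, 1238)) (.leaf (5, 3295)))) (.node (.node (.leaf (73, 264)) (.leaf (55, 2062))) (.node (.leaf (72, 1811)) (.leaf (75, 2951))))) (.node (.node (.node (.leaf (0, 0)) (.leaf (0, 2527))) (.node (.leaf (0, 2183)) (.leaf (77, 3551)))) (.node (.node (.leaf (0, 1517)) (.leaf (7, 3039))) (.node (.leaf (0, 2732)) (.leaf (75, 2094))))))))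

def twoVia125 : Janko.Tree (ℕ × ℕ) :=
  (.node (.node (.node (.node (.node (.node (.leaf (0, 0)) (.leaf (0, 0))) (.node (.leaf (73, 1604)) (.leaf (61, 2419)))) (.node (.node (.leaf (24, 133)) (.leaf (77, 1948))) (.node (.leaf (75, 3133)) (.leaf (1, 3615))))) (.node (.node (.node (.leaf (1, 287)) (.leaf (0, 0))) (.node (.leaf (0, 0)) (.leaf (77, 3685)))) (.node (.node (.leaf (0, 0)) (.leaf (0, 0))) (.node (.leaf (0, 0)) (.leaf (1, 3871)))))) (.node (.node (.node (.node (.leaf (1, 159)) (.leaf (1, 2207))) (.node (.leaf (1, 1183)) (.leaf (1, 3231)))) (.node (.node (.leaf (0, 0)) (.leaf (0, 0))) (.node (.leaf (77, 3487)) (.leaf (71, 3664))))) (.node (.node (.node (.leaf (0, 0)) (.leaf (1, 2463))) (.node (.leaf (0, 0)) (.leaf (1, 3487)))) (.node (.node (.leaf (10, 927)) (.leaf (0, 0))) (.node (.leaf (1, 1951)) (.leaf (0, 0))))))) (.node (.node (.node (.node (.node (.leaf (0, 0)) (.leaf (77, 2827))) (.node (.leaf (1, 1119)) (.leaf (77, 3684)))) (.node (.node (.leaf (1,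 607)) (.leaf (77, 1747))) (.node (.leaf (0, 0)) (.leaf (0, 0))))) (.node (.node (.node (.leaf (0, 0)) (.leaf (77, 3708))) (.node (.leaf (77, 2030)) (.leaf (1, 3423)))) (.node (.node (.leaf (0, 0)) (.leaf (1, 2911))) (.node (.leaf (70, 1882)) (.leaf (73, 3986)))))) (.node (.node (.node (.node (.leaf (0, 0)) (.leaf (0, 0))) (.node (.leaf (1, 1247)) (.leaf (0, 0)))) (.node (.node (.leaf (1, 735)) (.leaf (60, 2373))) (.node (.leaf (1, 1759)) (.leaf (67, 1861))))) (.node (.node (.node (.leaf (1, 479)) (.leaf (0, 0))) (.node (.leaf (0, 0)) (.leaf (67, 2919)))) (.node (.node (.leaf (0, 0)) (.leaf (0, 0))) (.node (.leaf (38, 2732)) (.leaf (1, 4063))))))))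

def twoVia126 : Janko.Tree (ℕ × ℕ) :=
  (.node (.node (.node (.node (.node (.node (.leaf (2, 31)) (.leaf (76, 344))) (.node (.leaf (2, 1610)) (.leaf (50, 1490)))) (.node (.node (.leaf (2, 543)) (.leaf (2, 2591))) (.node (.leaf (7, 2257)) (.leaf (77, 4021))))) (.node (.node (.node (.leaf (7, 490)) (.leaf (2, 3040))) (.node (.leaf (24, 169)) (.leaf (6, 3359)))) (.node (.node (.leaf (77, 804)) (.leaf (2, 2847))) (.node (.leaf (6, 1823)) (.leaf (13, 3384)))))) (.node (.node (.node (.node (.leaf (0, 0)) (.leaf (74, 981))) (.node (.leaf (23, 2463)) (.leaf (74, 2058)))) (.node (.node (.leaf (24, 1058)) (.leaf (6, 2719))) (.node (.leaf (6, 1695)) (.leaf (2, 3743))))) (.node (.node (.node (.leaf (2, 415)) (.leaf (77, 1603))) (.node (.leaf (2, 1439)) (.leaf (6, 3487)))) (.node (.node (.leaf (77, 3529)) (.leaf (2, 2975))) (.node (.leaf (0, 0)) (.leaf (77, 3083))))))) (.node (.node (.node (.node (.node (.leaf (2, 95)) (.leaf (2, 2143))) (.node (.leaf (77, 417)) (.leaf (24, 3726))))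 (.node (.node (.leaf (2, 967)) (.leaf (59, 831))) (.node (.leaf (6, 1631)) (.leaf (77, 2802))))) (.node (.node (.node (.leaf (2, 351)) (.leaf (2, 2399))) (.node (.leaf (2, 1375)) (.leaf (67, 3680)))) (.node (.node (.leaf (2, 863)) (.leaf (75, 620))) (.node (.leaf (6, 1887)) (.leaf (71, 3653)))))) (.node (.node (.node (.node (.leaf (24, 384)) (.leaf (6, 2271))) (.node (.leaf (0, 0)) (.leaf (7, 2602)))) (.node (.node (.leaf (0, 0)) (.leaf (2, 3440))) (.node (.leaf (0, 0)) (.leaf (2, 4049))))) (.node (.node (.node (.leaf (0, 0)) (.leaf (77, 2767))) (.node (.leaf (77, 1524)) (.leaf (70, 3550)))) (.node (.node (.leaf (2, 1518)) (.leaf (2, 3039))) (.node (.leaf (7, 2732)) (.leaf (77, 1912))))))))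

def twoVia127 : Janko.Tree (ℕ × ℕ) :=
  (.node (.node (.node (.node (.node (.node (.leaf (0, 0)) (.leaf (3, 2079))) (.node (.leaf (3, 1055)) (.leaf (3, 3103)))) (.node (.node (.leaf (0, 0)) (.leaf (77, 2080))) (.node (.leaf (3, 1567)) (.leaf (77, 2793))))) (.node (.node (.node (.leaf (3, 287)) (.leaf (3, 2335))) (.node (.leaf (0, 0)) (.leaf (3, 3359)))) (.node (.node (.leaf (3, 799)) (.leaf (0, 0))) (.node (.leaf (3, 1823)) (.leaf (77, 1051)))))) (.node (.node (.node (.node (.leaf (0, 0)) (.leaf (0, 0))) (.node (.leaf (62, 3171)) (.leaf (77, 1412)))) (.node (.node (.leaf (0, 0)) (.leaf (3, 2719))) (.node (.leaf (3, 1695)) (.leaf (45, 498))))) (.node (.node (.node (.leaf (0, 0)) (.leaf (0, 0))) (.node (.leaf (77, 351)) (.leaf (3, 3487)))) (.node (.node (.leaf (3, 927)) (.leaf (0, 0))) (.node (.leaf (0, 0)) (.leaf (61, 2800))))))) (.node (.node (.node (.node (.node (.leaf (3, 95)) (.leaf (0, 0))) (.node (.leaf (75, 231)) (.leaf (77, 3086)))) (.node (.node (.leaf (3,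 607)) (.leaf (3, 2655))) (.node (.leaf (3, 1631)) (.leaf (3, 3679))))) (.node (.node (.node (.leaf (0, 0)) (.leaf (45, 1128))) (.node (.leaf (0, 0)) (.leaf (3, 3686)))) (.node (.node (.leaf (0, 0)) (.leaf (0, 0))) (.node (.leaf (3, 1887)) (.leaf (3, 3935)))))) (.node (.node (.node (.node (.leaf (0, 0)) (.leaf (3, 2271))) (.node (.leaf (0, 0)) (.leaf (3, 3295)))) (.node (.node (.leaf (0, 0)) (.leaf (3, 2783))) (.node (.leaf (62, 745)) (.leaf (3, 3807))))) (.node (.node (.node (.leaf (0, 0)) (.leaf (77, 2340))) (.node (.leaf (3, 1503)) (.leaf (3, 3551)))) (.node (.node (.leaf (3, 991)) (.leaf (7, 1649))) (.node (.leaf (3, 2015)) (.leaf (75, 1486))))))))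

def twoVia128 : Janko.Tree (ℕ × ℕ) :=
  (.node (.node (.node (.node (.node (.node (.leaf (7, 67)) (.leaf (0, 0))) (.node (.leaf (74, 415)) (.leaf (0, 3104)))) (.node (.node (.leaf (0, 869)) (.leaf (60, 3289))) (.node (.leaf (76, 714)) (.leaf (0, 3616))))) (.node (.node (.node (.leaf (72, 79)) (.leaf (77, 4053))) (.node (.leaf (76, 1322)) (.leaf (5, 3360)))) (.node (.node (.leaf (0, 0)) (.leaf (77, 2848))) (.node (.leaf (0, 1824)) (.leaf (7, 3383)))))) (.node (.node (.node (.node (.leaf (4, 160)) (.leaf (0, 2905))) (.node (.leaf (25, 3712)) (.leaf (48, 2533)))) (.node (.node (.leaf (0, 1065)) (.leaf (77, 1345))) (.node (.leaf (73, 713)) (.leaf (56, 3744))))) (.node (.node (.node (.leaf (73, 850)) (.leaf (5, 2464))) (.node (.leaf (38, 1440)) (.leaf (77, 2020)))) (.node (.node (.leaf (4, 934)) (.leaf (0, 3588))) (.node (.leaf (75, 1931)) (.leaf (77, 4000))))))) (.node (.node (.node (.node (.node (.leaf (0, 0)) (.leaf (73, 2145))) (.node (.leaf (75, 438)) (.leaf (76,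 2026)))) (.node (.node (.leaf (0, 0)) (.leaf (59, 532))) (.node (.leaf (77, 3732)) (.leaf (77, 3680))))) (.node (.node (.node (.leaf (7, 584)) (.leaf (77, 441))) (.node (.leaf (5, 1376)) (.leaf (74, 3439)))) (.node (.node (.leaf (7, 1346)) (.leaf (5, 2912))) (.node (.leaf (5, 1909)) (.leaf (77, 3936)))))) (.node (.node (.node (.node (.leaf (0, 395)) (.leaf (73, 2272))) (.node (.leaf (75, 1186)) (.leaf (73, 3297)))) (.node (.node (.leaf (4, 736)) (.leaf (0, 0))) (.node (.leaf (4, 1760)) (.leaf (75, 1606))))) (.node (.node (.node (.leaf (0, 480)) (.leaf (77, 2940))) (.node (.leaf (5, 2914)) (.leaf (77, 3552)))) (.node (.node (.leaf (0, 0)) (.leaf (5, 3040))) (.node (.leaf (73, 875)) (.leaf (5, 4064))))))))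

def twoVia129 : Janko.Tree (ℕ × ℕ) :=
  (.node (.node (.node (.node (.node (.node (.leaf (67, 56)) (.leaf (1, 2080))) (.node (.leaf (1, 1056)) (.leaf (0, 0)))) (.node (.node (.leaf (0, 0)) (.leaf (1, 3288))) (.node (.leaf (1, 1568)) (.leaf (77, 3530))))) (.node (.node (.node (.leaf (1, 288)) (.leaf (1, 2336))) (.node (.leaf (1, 1942)) (.leaf (1, 3360)))) (.node (.node (.leaf (1, 800)) (.leaf (67, 2119))) (.node (.leaf (0, 0)) (.leaf (1, 4049)))))) (.node (.node (.node (.node (.leaf (0, 0)) (.leaf (0, 0))) (.node (.leaf (0, 0)) (.leaf (0, 0)))) (.node (.node (.leaf (0, 0)) (.leaf (1, 2720))) (.node (.leaf (1, 1696)) (.leaf (10, 3744))))) (.node (.node (.node (.leaf (0, 0)) (.leaf (67, 2295))) (.node (.leaf (1, 1440)) (.leaf (77, 3073)))) (.node (.node (.leaf (1, 928)) (.leaf (1, 2976))) (.node (.leaf (0, 0)) (.leaf (77, 3719))))))) (.node (.node (.node (.node (.node (.leaf (1, 96)) (.leaf (10, 2144))) (.node (.leaf (1, 1120)) (.leaf (71, 3168)))) (.node (.node (.leaf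 (1, 608)) (.leaf (0, 0))) (.node (.leaf (1, 1632)) (.leaf (1, 3680))))) (.node (.node (.node (.leaf (1, 352)) (.leaf (1, 2400))) (.node (.leaf (0, 0)) (.leaf (0, 0)))) (.node (.node (.leaf (1, 1345)) (.leaf (0, 0))) (.node (.leaf (77, 2613)) (.leaf (10, 3936)))))) (.node (.node (.node (.node (.leaf (0, 0)) (.leaf (1, 2272))) (.node (.leaf (0, 0)) (.leaf (1, 3296)))) (.node (.node (.leaf (0, 0)) (.leaf (1, 2784))) (.node (.leaf (0, 0)) (.leaf (1, 3808))))) (.node (.node (.node (.leaf (0, 0)) (.leaf (71, 2528))) (.node (.leaf (1, 1504)) (.leaf (1, 3552)))) (.node (.node (.leaf (1, 992)) (.leaf (0, 0))) (.node (.leaf (1, 2016)) (.leaf (77, 3880))))))))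

def twoVia130 : Janko.Tree (ℕ × ℕ) :=
  (.node (.node (.node (.node (.node (.node (.leaf (7, 70)) (.leaf (71, 2596))) (.node (.leaf (74, 1061)) (.leaf (6, 3104)))) (.node (.node (.leaf (2, 870)) (.leaf (75, 2499))) (.node (.leaf (0, 0)) (.leaf (61, 3039))))) (.node (.node (.node (.leaf (0, 0)) (.leaf (77, 2629))) (.node (.leaf (2, 1312)) (.leaf (0, 0)))) (.node (.node (.leaf (0, 0)) (.leaf (2, 3498))) (.node (.leaf (23, 782)) (.leaf (2, 3872)))))) (.node (.node (.node (.node (.leaf (2, 160)) (.leaf (6, 2208))) (.node (.leaf (2, 1184)) (.leaf (54, 1842)))) (.node (.node (.leaf (6, 672)) (.leaf (54, 3866))) (.node (.leaf (0, 0)) (.leaf (42, 1257))))) (.node (.node (.node (.leaf (2, 680)) (.leaf (76, 1184))) (.node (.leaf (77, 1441)) (.leaf (26, 3486)))) (.node (.node (.leaf (0, 0)) (.leaf (2, 3590))) (.node (.leaf (2, 1952)) (.leaf (2, 4000))))))) (.node (.node (.node (.node (.node (.leaf (0, 0)) (.leaf (2, 2877))) (.node (.leaf (0, 0)) (.leaf (6, 3168)))) (.node (.node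 (.leaf (0, 0)) (.leaf (77, 527))) (.node (.leaf (77, 2876)) (.leaf (67, 3113))))) (.node (.node (.node (.leaf (7, 587)) (.leaf (59, 1356))) (.node (.leaf (2, 2025)) (.leaf (2, 3424)))) (.node (.node (.leaf (7, 1349)) (.leaf (76, 613))) (.node (.leaf (2, 1888)) (.leaf (76, 2967)))))) (.node (.node (.node (.node (.leaf (6, 224)) (.leaf (0, 0))) (.node (.leaf (2, 1248)) (.leaf (77, 2131)))) (.node (.node (.leaf (2, 736)) (.leaf (0, 0))) (.node (.leaf (2, 1760)) (.leaf (2, 4048))))) (.node (.node (.node (.leaf (0, 0)) (.leaf (71, 3215))) (.node (.leaf (0, 0)) (.leaf (13, 1507)))) (.node (.node (.leaf (0, 0)) (.leaf (7, 2335))) (.node (.leaf (77, 926)) (.leaf (6, 4064))))))))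

def twoVia131 : Janko.Tree (ℕ × ℕ) :=
  (.node (.node (.node (.node (.node (.node (.leaf (3, 32)) (.leaf (60, 2601))) (.node (.leaf (0, 0)) (.leaf (3, 3104)))) (.node (.node (.leaf (3, 544)) (.leaf (3, 2592))) (.node (.leaf (0, 0)) (.leaf (5, 3033))))) (.node (.node (.node (.leaf (0, 0)) (.leaf (77, 3784))) (.node (.leaf (77, 954)) (.leaf (44, 3851)))) (.node (.node (.leaf (0, 0)) (.leaf (3, 2848))) (.node (.leaf (77, 2939)) (.leaf (3, 3872)))))) (.node (.node (.node (.node (.leaf (0, 0)) (.leaf (3, 2208))) (.node (.leaf (0, 0)) (.leaf (3, 3232)))) (.node (.node (.leaf (3, 672)) (.leaf (69, 2036))) (.node (.leaf (61, 2381)) (.leaf (3, 3744))))) (.node (.node (.node (.leaf (3, 416)) (.leaf (3, 2464))) (.node (.leaf (0, 0)) (.leaf (3, 3488)))) (.node (.node (.leaf (62, 348)) (.leaf (3, 2976))) (.node (.leaf (77, 2654)) (.leaf (44, 2800))))))) (.node (.node (.node (.node (.node (.leaf (0, 0)) (.leaf (3, 2144))) (.node (.leaf (0, 0)) (.leaf (3, 3168)))) (.node (.node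 (.leaf (0, 0)) (.leaf (3, 2656))) (.node (.leaf (0, 0)) (.leaf (0, 0))))) (.node (.node (.node (.leaf (3, 352)) (.leaf (54, 1128))) (.node (.leaf (3, 1376)) (.leaf (42, 3784)))) (.node (.node (.leaf (3, 864)) (.leaf (3, 2912))) (.node (.leaf (0, 0)) (.leaf (3, 3936)))))) (.node (.node (.node (.node (.leaf (3, 224)) (.leaf (68, 3955))) (.node (.leaf (77, 1776)) (.leaf (73, 4002)))) (.node (.node (.leaf (0, 0)) (.leaf (0, 0))) (.node (.leaf (77, 2519)) (.leaf (77, 2279))))) (.node (.node (.node (.leaf (77, 785)) (.leaf (3, 2528))) (.node (.leaf (0, 0)) (.leaf (71, 3983)))) (.node (.node (.leaf (0, 0)) (.leaf (3, 3040))) (.node (.leaf (77, 2892)) (.leaf (3, 4064))))))))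

def twoVia132 : Janko.Tree (ℕ × ℕ) :=
  (.node (.node (.node (.node (.node (.node (.leaf (73, 38)) (.leaf (5, 2081))) (.node (.leaf (0, 1057)) (.leaf (0, 3105)))) (.node (.node (.leaf (0, 0)) (.leaf (23, 2593))) (.node (.leaf (5, 1569)) (.leaf (61, 3617))))) (.node (.node (.node (.leaf (4, 289)) (.leaf (62, 1060))) (.node (.leaf (0, 1945)) (.leaf (0, 3361)))) (.node (.node (.leaf (74, 1847)) (.leaf (77, 2849))) (.node (.leaf (77, 2341)) (.leaf (0, 3873)))))) (.node (.node (.node (.node (.leaf (0, 161)) (.leaf (77, 3481))) (.node (.leaf (20, 1185)) (.leaf (77, 3233)))) (.node (.node (.leaf (75, 2450)) (.leaf (0, 2721))) (.node (.leaf (0, 1697)) (.leaf (73, 2491))))) (.node (.node (.node (.leaf (0, 0)) (.leaf (59, 2463))) (.node (.leaf (0, 1441)) (.leaf (0, 3489)))) (.node (.node (.leaf (4, 929)) (.leaf (77, 2977))) (.node (.leaf (77, 1953)) (.leaf (73, 3461))))))) (.node (.node (.node (.node (.node (.leaf (11, 340)) (.leaf (73, 957))) (.node (.leaf (4, 1121)) (.leaf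 (40, 2454)))) (.node (.node (.leaf (0, 609)) (.leaf (75, 3016))) (.node (.leaf (0, 1633)) (.leaf (77, 3681))))) (.node (.node (.node (.leaf (73, 102)) (.leaf (73, 2385))) (.node (.leaf (0, 1377)) (.leaf (57, 1403)))) (.node (.node (.leaf (0, 0)) (.leaf (0, 0))) (.node (.leaf (5, 1889)) (.leaf (4, 3937)))))) (.node (.node (.node (.node (.leaf (0, 0)) (.leaf (5, 2273))) (.node (.leaf (0, 0)) (.leaf (0, 3297)))) (.node (.node (.leaf (0, 737)) (.leaf (0, 2785))) (.node (.leaf (0, 0)) (.leaf (77, 2580))))) (.node (.node (.node (.leaf (0, 782)) (.leaf (77, 2529))) (.node (.leaf (77, 1505)) (.leaf (77, 3261)))) (.node (.node (.leaf (77, 2205)) (.leaf (75, 2472))) (.node (.leaf (5, 2017)) (.leaf (60, 4065))))))))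

def twoVia133 : Janko.Tree (ℕ × ℕ) :=
  (.node (.node (.node (.node (.node (.node (.leaf (1, 33)) (.leaf (0, 0))) (.node (.leaf (0, 0)) (.leaf (70, 3190)))) (.node (.node (.leaf (1, 545)) (.leaf (1, 2593))) (.node (.leaf (0, 0)) (.leaf (77, 3022))))) (.node (.node (.node (.leaf (0, 0)) (.leaf (0, 0))) (.node (.leaf (0, 0)) (.leaf (77, 318)))) (.node (.node (.leaf (0, 0)) (.leaf (1, 2849))) (.node (.leaf (71, 1831)) (.leaf (77, 3988)))))) (.node (.node (.node (.node (.leaf (0, 0)) (.leaf (1, 2209))) (.node (.leaf (0, 0)) (.leaf (1, 3233)))) (.node (.node (.leaf (1, 673)) (.leaf (0, 0))) (.node (.leaf (77, 1792)) (.leaf (1, 3745))))) (.node (.node (.node (.leaf (1, 417)) (.leaf (0, 0))) (.node (.leaf (0, 0)) (.leaf (77, 3068)))) (.node (.node (.leaf (0, 0)) (.leaf (1, 2977))) (.node (.leaf (1, 1953)) (.leaf (10, 4001))))))) (.node (.node (.node (.node (.node (.leaf (0, 0)) (.leaf (1, 2145))) (.node (.leaf (77, 1857)) (.leaf (1, 3169)))) (.node (.node (.leaf (0, 0))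 (.leaf (1, 2657))) (.node (.leaf (77, 2070)) (.leaf (77, 3377))))) (.node (.node (.node (.leaf (1, 353)) (.leaf (1, 2401))) (.node (.leaf (0, 0)) (.leaf (77, 3675)))) (.node (.node (.leaf (1, 865)) (.leaf (1, 2913))) (.node (.leaf (0, 0)) (.leaf (58, 3932)))))) (.node (.node (.node (.node (.leaf (1, 225)) (.leaf (0, 0))) (.node (.leaf (1, 1249)) (.leaf (0, 0)))) (.node (.node (.leaf (0, 0)) (.leaf (73, 3501))) (.node (.leaf (1, 1761)) (.leaf (1, 3809))))) (.node (.node (.node (.leaf (0, 0)) (.leaf (1, 2529))) (.node (.leaf (1, 1505)) (.leaf (0, 0)))) (.node (.node (.leaf (0, 0)) (.leaf (1, 3041))) (.node (.leaf (0, 0)) (.leaf (1, 4065))))))))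

def twoVia134 : Janko.Tree (ℕ × ℕ) :=
  (.node (.node (.node (.node (.node (.node (.leaf (0, 0)) (.leaf (59, 1160))) (.node (.leaf (6, 1057)) (.leaf (0, 0)))) (.node (.node (.leaf (0, 0)) (.leaf (77, 476))) (.node (.leaf (2, 2257)) (.leaf (2, 3617))))) (.node (.node (.node (.leaf (2, 289)) (.leaf (76, 1058))) (.node (.leaf (68, 1094)) (.leaf (7, 2684)))) (.node (.node (.leaf (2, 801)) (.leaf (2, 2849))) (.node (.leaf (2, 1825)) (.leaf (77, 3877)))))) (.node (.node (.node (.node (.leaf (7, 296)) (.leaf (77, 1086))) (.node (.leaf (2, 1769)) (.leaf (0, 0)))) (.node (.node (.leaf (77, 1177)) (.leaf (0, 0))) (.node (.leaf (75, 1070)) (.leaf (77, 3003))))) (.node (.node (.node (.leaf (0, 0)) (.leaf (6, 2465))) (.node (.leaf (23, 584)) (.leaf (6, 3489)))) (.node (.node (.leaf (2, 929)) (.leaf (2, 3589))) (.node (.leaf (0, 0)) (.leaf (42, 2079))))))) (.node (.node (.node (.node (.node (.leaf (6, 97)) (.leaf (0, 0))) (.node (.leaf (2, 1121)) (.leaf (75, 1179)))) (.node (.node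 (.leaf (0, 0)) (.leaf (0, 0))) (.node (.leaf (0, 0)) (.leaf (6, 3681))))) (.node (.node (.node (.leaf (0, 0)) (.leaf (69, 2338))) (.node (.leaf (6, 1377)) (.leaf (77, 3785)))) (.node (.node (.leaf (6, 1994)) (.leaf (71, 3498))) (.node (.leaf (2, 2608)) (.leaf (2, 3937)))))) (.node (.node (.node (.node (.leaf (77, 644)) (.leaf (62, 1562))) (.node (.leaf (0, 0)) (.leaf (77, 3296)))) (.node (.node (.leaf (7, 1163)) (.leaf (66, 3454))) (.node (.leaf (76, 2991)) (.leaf (77, 3559))))) (.node (.node (.node (.leaf (2, 481)) (.leaf (77, 2540))) (.node (.leaf (77, 2900)) (.leaf (71, 3949)))) (.node (.node (.leaf (2, 993)) (.leaf (77, 1705))) (.node (.leaf (2, 2732)) (.leaf (77, 4092))))))))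

def twoVia135 : Janko.Tree (ℕ × ℕ) :=
  (.node (.node (.node (.node (.node (.node (.leaf (0, 0)) (.leaf (3, 2081))) (.node (.leaf (3, 1057)) (.leaf (0, 0)))) (.node (.node (.leaf (0, 0)) (.leaf (75, 3219))) (.node (.leaf (3, 1569)) (.leaf (52, 1710))))) (.node (.node (.node (.leaf (0, 0)) (.leaf (3, 2337))) (.node (.leaf (3, 1313)) (.leaf (0, 0)))) (.node (.node (.leaf (77, 1181)) (.leaf (0, 0))) (.node (.leaf (3, 1825)) (.leaf (20, 1994)))))) (.node (.node (.node (.node (.leaf (3, 161)) (.leaf (0, 0))) (.node (.leaf (3, 1185)) (.leaf (0, 0)))) (.node (.node (.leaf (77, 1847)) (.leaf (60, 3063))) (.node (.leaf (0, 0)) (.leaf (57, 3216))))) (.node (.node (.node (.leaf (0, 0)) (.leaf (3, 2465))) (.node (.leaf (75, 101)) (.leaf (3, 3489)))) (.node (.node (.leaf (67, 2097)) (.leaf (71, 3962))) (.node (.leaf (68, 2047)) (.leaf (3, 4001))))))) (.node (.node (.node (.node (.node (.leaf (3, 97)) (.leaf (60, 957))) (.node (.leaf (0, 0)) (.leaf (0, 0)))) (.node (.node (.leaf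 (0, 0)) (.leaf (0, 0))) (.node (.leaf (0, 0)) (.leaf (3, 3681))))) (.node (.node (.node (.leaf (0, 0)) (.leaf (54, 2381))) (.node (.leaf (3, 1377)) (.leaf (3, 3425)))) (.node (.node (.leaf (0, 0)) (.leaf (67, 2849))) (.node (.leaf (3, 1889)) (.leaf (77, 1057)))))) (.node (.node (.node (.node (.leaf (77, 2207)) (.leaf (3, 2273))) (.node (.leaf (0, 0)) (.leaf (3, 3297)))) (.node (.node (.leaf (3, 737)) (.leaf (0, 0))) (.node (.leaf (77, 2991)) (.leaf (0, 0))))) (.node (.node (.node (.leaf (0, 0)) (.leaf (0, 0))) (.node (.leaf (77, 3090)) (.leaf (3, 3553)))) (.node (.node (.leaf (77, 1479)) (.leaf (71, 3628))) (.node (.leaf (3, 2017)) (.leaf (61, 3873))))))))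

def twoVia136 : Janko.Tree (ℕ × ℕ) :=
  (.node (.node (.node (.node (.node (.node (.leaf (4, 34)) (.leaf (65, 2764))) (.node (.leaf (0, 1058)) (.leaf (0, 3668)))) (.node (.node (.leaf (77, 1553)) (.leaf (5, 2594))) (.node (.leaf (0, 0)) (.leaf (5, 3618))))) (.node (.node (.node (.leaf (0, 290)) (.leaf (77, 2338))) (.node (.leaf (5, 2666)) (.leaf (0, 3859)))) (.node (.node (.leaf (77, 802)) (.leaf (75, 2862))) (.node (.leaf (0, 0)) (.leaf (19, 3874)))))) (.node (.node (.node (.node (.leaf (0, 0)) (.leaf (0, 2210))) (.node (.leaf (0, 0)) (.leaf (77, 3234)))) (.node (.node (.leaf (5, 1610)) (.leaf (0, 3391))) (.node (.leaf (0, 2383)) (.leaf (61, 1204))))) (.node (.node (.node (.leaf (0, 418)) (.leaf (0, 2466))) (.node (.leaf (0, 0)) (.leaf (7, 3490)))) (.node (.node (.leaf (0, 0)) (.leaf (0, 0))) (.node (.leaf (73, 2020)) (.leaf (8, 4002))))))) (.node (.node (.node (.node (.node (.leaf (0, 0)) (.leaf (4, 2146))) (.node (.leaf (0, 1122)) (.leaf (59, 1771)))) (.node (.node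 (.leaf (0, 972)) (.leaf (77, 2658))) (.node (.leaf (0, 2325)) (.leaf (0, 3682))))) (.node (.node (.node (.leaf (4, 354)) (.leaf (43, 1696))) (.node (.leaf (54, 1392)) (.leaf (77, 1004)))) (.node (.node (.leaf (62, 868)) (.leaf (0, 2914))) (.node (.leaf (0, 1890)) (.leaf (0, 4063)))))) (.node (.node (.node (.node (.leaf (12, 773)) (.leaf (77, 2253))) (.node (.leaf (0, 1250)) (.leaf (73, 1889)))) (.node (.node (.leaf (0, 0)) (.leaf (77, 3759))) (.node (.leaf (4, 1762)) (.leaf (77, 3810))))) (.node (.node (.node (.leaf (77, 1188)) (.leaf (7, 2530))) (.node (.leaf (77, 1494)) (.leaf (39, 2249)))) (.node (.node (.leaf (5, 2198)) (.leaf (77, 3960))) (.node (.leaf (0, 0)) (.leaf (72, 3414))))))))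

def twoVia137 : Janko.Tree (ℕ × ℕ) :=
  (.node (.node (.node (.node (.node (.node (.leaf (0, 0)) (.leaf (1, 2082))) (.node (.leaf (0, 0)) (.leaf (0, 0)))) (.node (.node (.leaf (0, 0)) (.leaf (0, 0))) (.node (.leaf (1, 1570)) (.leaf (77, 3762))))) (.node (.node (.node (.leaf (0, 0)) (.leaf (1, 2338))) (.node (.leaf (1, 1314)) (.leaf (1, 3362)))) (.node (.node (.leaf (1, 802)) (.leaf (67, 2121))) (.node (.leaf (1, 1826)) (.leaf (10, 3874)))))) (.node (.node (.node (.node (.leaf (1, 162)) (.leaf (77, 1143))) (.node (.leaf (1, 1186)) (.leaf (1, 3234)))) (.node (.node (.leaf (0, 0)) (.leaf (71, 2363))) (.node (.leaf (71, 1684)) (.leaf (77, 3209))))) (.node (.node (.node (.leaf (0, 0)) (.leaf (77, 2421))) (.node (.leaf (1, 1442)) (.leaf (1, 3490)))) (.node (.node (.leaf (1, 930)) (.leaf (1, 2978))) (.node (.leaf (0, 0)) (.leaf (1, 4002))))))) (.node (.node (.node (.node (.node (.leaf (1, 98)) (.leaf (67, 3466))) (.node (.leaf (0, 0)) (.leaf (0, 0)))) (.node (.node (.leaf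 (0, 0)) (.leaf (1, 2658))) (.node (.leaf (0, 0)) (.leaf (74, 3383))))) (.node (.node (.node (.leaf (0, 0)) (.leaf (0, 0))) (.node (.leaf (1, 1378)) (.leaf (0, 0)))) (.node (.node (.leaf (0, 0)) (.leaf (0, 0))) (.node (.leaf (0, 0)) (.leaf (0, 0)))))) (.node (.node (.node (.node (.leaf (1, 226)) (.leaf (1, 2274))) (.node (.leaf (77, 3259)) (.leaf (1, 3298)))) (.node (.node (.leaf (1, 738)) (.leaf (0, 0))) (.node (.leaf (0, 0)) (.leaf (1, 3810))))) (.node (.node (.node (.leaf (67, 775)) (.leaf (0, 0))) (.node (.leaf (1, 1506)) (.leaf (1, 3554)))) (.node (.node (.leaf (1, 994)) (.leaf (1, 3042))) (.node (.leaf (1, 2018)) (.leaf (1, 4066))))))))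

def twoVia138 : Janko.Tree (ℕ × ℕ) :=
  (.node (.node (.node (.node (.node (.node (.leaf (2, 34)) (.leaf (77, 777))) (.node (.leaf (55, 408)) (.leaf (2, 3106)))) (.node (.node (.leaf (2, 546)) (.leaf (77, 3687))) (.node (.leaf (68, 1026)) (.leaf (65, 3617))))) (.node (.node (.node (.leaf (7, 494)) (.leaf (0, 0))) (.node (.leaf (0, 0)) (.leaf (7, 3859)))) (.node (.node (.leaf (6, 1789)) (.leaf (6, 2850))) (.node (.leaf (0, 0)) (.leaf (77, 3861)))))) (.node (.node (.node (.node (.leaf (55, 160)) (.leaf (0, 0))) (.node (.leaf (0, 0)) (.leaf (77, 2437)))) (.node (.node (.leaf (2, 674)) (.leaf (2, 2722))) (.node (.leaf (55, 2499)) (.leaf (6, 3746))))) (.node (.node (.node (.leaf (6, 418)) (.leaf (0, 0))) (.node (.leaf (0, 0)) (.leaf (0, 0)))) (.node (.node (.leaf (62, 1302)) (.leaf (77, 2952))) (.node (.leaf (77, 840)) (.leaf (76, 1336))))))) (.node (.node (.node (.node (.node (.leaf (0, 0)) (.leaf (2, 2146))) (.node (.leaf (7, 1695)) (.leaf (6, 3170)))) (.node (.node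 (.leaf (2, 610)) (.leaf (77, 2785))) (.node (.leaf (2, 1634)) (.leaf (6, 3682))))) (.node (.node (.node (.leaf (2, 354)) (.leaf (2, 2402))) (.node (.leaf (0, 0)) (.leaf (77, 2053)))) (.node (.node (.leaf (77, 138)) (.leaf (77, 1496))) (.node (.leaf (6, 1890)) (.leaf (45, 1545)))))) (.node (.node (.node (.node (.leaf (77, 281)) (.leaf (71, 4008))) (.node (.leaf (0, 0)) (.leaf (77, 3799)))) (.node (.node (.leaf (55, 1751)) (.leaf (2, 2786))) (.node (.leaf (2, 1762)) (.leaf (77, 3465))))) (.node (.node (.node (.leaf (2, 784)) (.leaf (6, 2530))) (.node (.leaf (72, 2917)) (.leaf (71, 3548)))) (.node (.node (.leaf (0, 0)) (.leaf (0, 0))) (.node (.leaf (61, 1463)) (.leaf (74, 3087))))))))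

def twoVia139 : Janko.Tree (ℕ × ℕ) :=
  (.node (.node (.node (.node (.node (.node (.leaf (0, 0)) (.leaf (73, 3427))) (.node (.leaf (0, 0)) (.leaf (0, 0)))) (.node (.node (.leaf (75, 359)) (.leaf (3, 2594))) (.node (.leaf (67, 1169)) (.leaf (3, 3618))))) (.node (.node (.node (.leaf (3, 290)) (.leaf (0, 0))) (.node (.leaf (0, 0)) (.leaf (3, 3362)))) (.node (.node (.leaf (0, 0)) (.leaf (3, 2850))) (.node (.leaf (0, 0)) (.leaf (3, 3874)))))) (.node (.node (.node (.node (.leaf (0, 0)) (.leaf (6, 2939))) (.node (.leaf (0, 0)) (.leaf (0, 0)))) (.node (.node (.leaf (0, 0)) (.leaf (3, 2722))) (.node (.leaf (3, 1698)) (.leaf (3, 3746))))) (.node (.node (.node (.leaf (3, 418)) (.leaf (0, 0))) (.node (.leaf (0, 0)) (.leaf (7, 3495)))) (.node (.node (.leaf (71, 1316)) (.leaf (0, 0))) (.node (.leaf (3, 1954)) (.leaf (75, 2507))))))) (.node (.node (.node (.node (.node (.leaf (0, 0)) (.leaf (77, 2845))) (.node (.leaf (3, 1122)) (.leaf (3, 3170)))) (.node (.node (.leaf (0, 0)) (.leaf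 (0, 0))) (.node (.leaf (0, 0)) (.leaf (3, 3682))))) (.node (.node (.node (.leaf (0, 0)) (.leaf (55, 1700))) (.node (.leaf (73, 1389)) (.leaf (3, 3426)))) (.node (.node (.leaf (3, 866)) (.leaf (3, 2914))) (.node (.leaf (3, 1890)) (.leaf (3, 3938)))))) (.node (.node (.node (.node (.leaf (0, 0)) (.leaf (71, 1584))) (.node (.leaf (0, 0)) (.leaf (61, 819)))) (.node (.node (.leaf (0, 0)) (.leaf (0, 0))) (.node (.leaf (77, 662)) (.leaf (77, 1896))))) (.node (.node (.node (.leaf (3, 482)) (.leaf (3, 2530))) (.node (.leaf (0, 0)) (.leaf (71, 3705)))) (.node (.node (.leaf (0, 0)) (.leaf (0, 0))) (.node (.leaf (73, 3398)) (.leaf (3, 4093))))))))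

def twoVia140 : Janko.Tree (ℕ × ℕ) :=
  (.node (.node (.node (.node (.node (.node (.leaf (0, 35)) (.leaf (0, 2083))) (.node (.leaf (0, 1614)) (.leaf (7, 3668)))) (.node (.node (.leaf (72, 180)) (.leaf (77, 2937))) (.node (.leaf (62, 595)) (.leaf (77, 3619))))) (.node (.node (.node (.leaf (0, 0)) (.leaf (77, 4027))) (.node (.leaf (5, 1315)) (.leaf (5, 3363)))) (.node (.node (.leaf (5, 803)) (.leaf (77, 3876))) (.node (.leaf (0, 1827)) (.leaf (77, 2722)))))) (.node (.node (.node (.node (.leaf (7, 80)) (.leaf (0, 2939))) (.node (.leaf (0, 1187)) (.leaf (0, 3235)))) (.node (.node (.leaf (5, 675)) (.leaf (20, 2723))) (.node (.leaf (4, 1699)) (.leaf (73, 1705))))) (.node (.node (.node (.leaf (77, 419)) (.leaf (0, 3163))) (.node (.leaf (75, 1437)) (.leaf (0, 3491)))) (.node (.node (.leaf (77, 349)) (.leaf (0, 2979))) (.node (.leaf (25, 1955)) (.leaf (57, 2441))))))) (.node (.node (.node (.node (.node (.leaf (0, 99)) (.leaf (76, 3388))) (.node (.leaf (0, 0)) (.leaf (0, 3171))))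 (.node (.node (.leaf (7, 972)) (.leaf (0, 2659))) (.node (.leaf (7, 2325)) (.leaf (59, 3683))))) (.node (.node (.node (.leaf (0, 355)) (.leaf (66, 2543))) (.node (.leaf (0, 1379)) (.leaf (61, 3464)))) (.node (.node (.leaf (0, 0)) (.leaf (77, 643))) (.node (.leaf (54, 1905)) (.leaf (42, 3140)))))) (.node (.node (.node (.node (.leaf (59, 1289)) (.leaf (65, 1558))) (.node (.leaf (0, 1860)) (.leaf (77, 3298)))) (.node (.node (.leaf (7, 452)) (.leaf (0, 3444))) (.node (.leaf (0, 0)) (.leaf (77, 3811))))) (.node (.node (.node (.leaf (0, 483)) (.leaf (62, 1244))) (.node (.leaf (4, 1507)) (.leaf (0, 3555)))) (.node (.node (.leaf (5, 995)) (.leaf (77, 3043))) (.node (.leaf (77, 2101)) (.leaf (74, 3089))))))))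

def twoVia141 : Janko.Tree (ℕ × ℕ) :=
  (.node (.node (.node (.node (.node (.node (.leaf (0, 0)) (.leaf (0, 0))) (.node (.leaf (61, 3000)) (.leaf (70, 3107)))) (.node (.node (.leaf (1, 547)) (.leaf (1, 2595))) (.node (.leaf (0, 0)) (.leaf (1, 3619))))) (.node (.node (.node (.leaf (1, 291)) (.leaf (10, 2339))) (.node (.leaf (74, 3993)) (.leaf (0, 0)))) (.node (.node (.leaf (0, 0)) (.leaf (0, 0))) (.node (.leaf (0, 0)) (.leaf (1, 3875)))))) (.node (.node (.node (.node (.leaf (0, 0)) (.leaf (0, 0))) (.node (.leaf (0, 0)) (.leaf (77, 3760)))) (.node (.node (.leaf (0, 0)) (.leaf (10, 2723))) (.node (.leaf (0, 0)) (.leaf (1, 3747))))) (.node (.node (.node (.leaf (1, 419)) (.leaf (0, 0))) (.node (.leaf (0, 0)) (.leaf (1, 3491)))) (.node (.node (.leaf (1, 931)) (.leaf (0, 0))) (.node (.leaf (1, 1955)) (.leaf (1, 4003))))))) (.node (.node (.node (.node (.node (.leaf (0, 0)) (.leaf (0, 0))) (.node (.leaf (1, 1123)) (.leaf (77, 3676)))) (.node (.node (.leaf (1, 970)) (.leaf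 (77, 4057))) (.node (.leaf (1, 2324)) (.leaf (1, 3683))))) (.node (.node (.node (.leaf (0, 0)) (.leaf (1, 2403))) (.node (.leaf (72, 885)) (.leaf (1, 3427)))) (.node (.node (.leaf (1, 867)) (.leaf (1, 2915))) (.node (.leaf (1, 1891)) (.leaf (1, 3939)))))) (.node (.node (.node (.node (.leaf (0, 0)) (.leaf (0, 0))) (.node (.leaf (0, 0)) (.leaf (1, 3299)))) (.node (.node (.leaf (77, 2427)) (.leaf (67, 2073))) (.node (.leaf (1, 1763)) (.leaf (1, 3811))))) (.node (.node (.node (.leaf (0, 0)) (.leaf (0, 0))) (.node (.leaf (0, 0)) (.leaf (0, 0)))) (.node (.node (.leaf (0, 0)) (.leaf (77, 3814))) (.node (.leaf (77, 2870)) (.leaf (1, 4067))))))))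

def twoVia142 : Janko.Tree (ℕ × ℕ) :=
  (.node (.node (.node (.node (.node (.node (.leaf (7, 74)) (.leaf (66, 2806))) (.node (.leaf (59, 232)) (.leaf (7, 3671)))) (.node (.node (.leaf (72, 242)) (.leaf (71, 1276))) (.node (.leaf (76, 593)) (.leaf (77, 3984))))) (.node (.node (.node (.leaf (55, 809)) (.leaf (76, 1282))) (.node (.leaf (2, 1940)) (.leaf (54, 3361)))) (.node (.node (.leaf (59, 506)) (.leaf (6, 2851))) (.node (.leaf (6, 1835)) (.leaf (71, 3840)))))) (.node (.node (.node (.node (.leaf (2, 163)) (.leaf (2, 2211))) (.node (.leaf (6, 1187)) (.leaf (0, 0)))) (.node (.node (.leaf (2, 1068)) (.leaf (61, 1106))) (.node (.leaf (6, 1699)) (.leaf (76, 3838))))) (.node (.node (.node (.leaf (0, 0)) (.leaf (2, 2467))) (.node (.leaf (6, 1443)) (.leaf (4, 2840)))) (.node (.node (.leaf (0, 0)) (.leaf (6, 2979))) (.node (.leaf (75, 838)) (.leaf (62, 2441))))))) (.node (.node (.node (.node (.node (.leaf (77, 2108)) (.leaf (6, 2147))) (.node (.leaf (71, 1118)) (.leaf (0,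 0)))) (.node (.node (.leaf (7, 975)) (.leaf (0, 0))) (.node (.leaf (7, 2328)) (.leaf (0, 0))))) (.node (.node (.node (.leaf (7, 591)) (.leaf (69, 3148))) (.node (.leaf (7, 887)) (.leaf (67, 2769)))) (.node (.node (.leaf (0, 0)) (.leaf (70, 2183))) (.node (.leaf (0, 0)) (.leaf (71, 3960)))))) (.node (.node (.node (.node (.leaf (6, 227)) (.leaf (2, 2275))) (.node (.leaf (2, 1251)) (.leaf (0, 0)))) (.node (.node (.leaf (2, 739)) (.leaf (2, 3446))) (.node (.leaf (0, 0)) (.leaf (54, 3804))))) (.node (.node (.node (.leaf (0, 0)) (.leaf (59, 1842))) (.node (.leaf (6, 1507)) (.leaf (2, 3555)))) (.node (.node (.leaf (77, 1033)) (.leaf (2, 3043))) (.node (.leaf (2, 2019)) (.leaf (74, 3975))))))))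

def twoVia143 : Janko.Tree (ℕ × ℕ) :=
  (.node (.node (.node (.node (.node (.node (.leaf (3, 35)) (.leaf (61, 2804))) (.node (.leaf (3, 1059)) (.leaf (3, 3107)))) (.node (.node (.leaf (0, 0)) (.leaf (0, 0))) (.node (.leaf (3, 1571)) (.leaf (77, 2548))))) (.node (.node (.node (.leaf (0, 0)) (.leaf (3, 2339))) (.node (.leaf (3, 1315)) (.leaf (3, 3363)))) (.node (.node (.leaf (3, 803)) (.leaf (3, 2851))) (.node (.leaf (0, 0)) (.leaf (75, 3130)))))) (.node (.node (.node (.node (.leaf (3, 163)) (.leaf (0, 0))) (.node (.leaf (3, 1187)) (.leaf (77, 3062)))) (.node (.node (.leaf (3, 675)) (.leaf (3, 2723))) (.node (.leaf (3, 1699)) (.leaf (60, 2505))))) (.node (.node (.node (.leaf (77, 1598)) (.leaf (0, 0))) (.node (.leaf (3, 1443)) (.leaf (77, 1410)))) (.node (.node (.leaf (75, 1445)) (.leaf (3, 2979))) (.node (.leaf (0, 0)) (.leaf (60, 3139))))))) (.node (.node (.node (.node (.node (.leaf (0, 0)) (.leaf (3, 2147))) (.node (.leaf (0, 0)) (.leaf (6, 3730)))) (.node (.node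 (.leaf (3, 611)) (.leaf (0, 0))) (.node (.leaf (3, 1635)) (.leaf (59, 3689))))) (.node (.node (.node (.leaf (3, 355)) (.leaf (71, 2505))) (.node (.leaf (0, 0)) (.leaf (71, 4039)))) (.node (.node (.leaf (0, 0)) (.leaf (77, 3098))) (.node (.leaf (73, 1902)) (.leaf (70, 3475)))))) (.node (.node (.node (.node (.leaf (3, 227)) (.leaf (71, 2920))) (.node (.leaf (0, 0)) (.leaf (0, 0)))) (.node (.node (.leaf (3, 739)) (.leaf (3, 2787))) (.node (.leaf (0, 0)) (.leaf (66, 1108))))) (.node (.node (.node (.leaf (0, 0)) (.leaf (3, 2531))) (.node (.leaf (3, 1507)) (.leaf (70, 2988)))) (.node (.node (.leaf (3, 995)) (.leaf (3, 3043))) (.node (.leaf (0, 0)) (.leaf (61, 3126))))))))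

def twoVia144 : Janko.Tree (ℕ × ℕ) :=
  (.node (.node (.node (.node (.node (.node (.leaf (0, 0)) (.leaf (77, 2084))) (.node (.leaf (0, 0)) (.leaf (0, 0)))) (.node (.node (.leaf (5, 548)) (.leaf (77, 1639))) (.node (.leaf (75, 2923)) (.leaf (77, 3370))))) (.node (.node (.node (.leaf (7, 156)) (.leaf (4, 2340))) (.node (.leaf (0, 0)) (.leaf (77, 3585)))) (.node (.node (.leaf (0, 804)) (.leaf (5, 2852))) (.node (.leaf (72, 3238)) (.leaf (77, 1364)))))) (.node (.node (.node (.node (.leaf (23, 399)) (.leaf (20, 2212))) (.node (.leaf (75, 1212)) (.leaf (0, 3778)))) (.node (.node (.leaf (77, 669)) (.leaf (22, 2724))) (.node (.leaf (73, 1700)) (.leaf (22, 2140))))) (.node (.node (.node (.leaf (0, 420)) (.leaf (7, 3163))) (.node (.leaf (60, 1444)) (.leaf (75, 3449)))) (.node (.node (.leaf (4, 932)) (.leaf (35, 2980))) (.node (.leaf (5, 1956)) (.leaf (62, 4004))))))) (.node (.node (.node (.node (.node (.leaf (77, 261)) (.leaf (4, 2148))) (.node (.leaf (7, 710)) (.leaf (0, 3730))))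 (.node (.node (.leaf (72, 614)) (.leaf (0, 3344))) (.node (.leaf (0, 0)) (.leaf (0, 3684))))) (.node (.node (.node (.leaf (0, 0)) (.leaf (77, 1144))) (.node (.leaf (0, 2029)) (.leaf (58, 1406)))) (.node (.node (.leaf (15, 324)) (.leaf (0, 2916))) (.node (.leaf (0, 1892)) (.leaf (0, 3980)))))) (.node (.node (.node (.node (.leaf (0, 0)) (.leaf (77, 3141))) (.node (.leaf (7, 1860)) (.leaf (55, 819)))) (.node (.node (.leaf (73, 3126)) (.leaf (4, 2788))) (.node (.leaf (0, 1764)) (.leaf (73, 2589))))) (.node (.node (.node (.leaf (0, 786)) (.leaf (0, 0))) (.node (.leaf (4, 2901)) (.leaf (59, 1841)))) (.node (.node (.leaf (62, 359)) (.leaf (77, 3723))) (.node (.leaf (20, 2020)) (.leaf (7, 4068))))))))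

def twoVia145 : Janko.Tree (ℕ × ℕ) :=
  (.node (.node (.node (.node (.node (.node (.leaf (1, 36)) (.leaf (1, 2084))) (.node (.leaf (1, 1060)) (.leaf (1, 3108)))) (.node (.node (.leaf (0, 0)) (.leaf (75, 815))) (.node (.leaf (1, 1572)) (.leaf (1, 3620))))) (.node (.node (.node (.leaf (77, 1250)) (.leaf (77, 1541))) (.node (.leaf (1, 1316)) (.leaf (1, 3364)))) (.node (.node (.leaf (0, 0)) (.leaf (0, 0))) (.node (.leaf (1, 2535)) (.leaf (1, 3876)))))) (.node (.node (.node (.node (.leaf (0, 0)) (.leaf (1, 2938))) (.node (.leaf (1, 1188)) (.leaf (77, 3772)))) (.node (.node (.leaf (1, 676)) (.leaf (1, 2724))) (.node (.leaf (1, 1700)) (.leaf (74, 2262))))) (.node (.node (.node (.leaf (0, 0)) (.leaf (60, 3678))) (.node (.leaf (1, 1444)) (.leaf (67, 2833)))) (.node (.node (.leaf (0, 0)) (.leaf (1, 2980))) (.node (.leaf (77, 1574)) (.leaf (71, 4004))))))) (.node (.node (.node (.node (.node (.leaf (1, 187)) (.leaf (77, 2878))) (.node (.leaf (68, 1110)) (.leaf (77, 3730)))) (.node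 (.node (.leaf (1, 612)) (.leaf (67, 2660))) (.node (.leaf (1, 1636)) (.leaf (53, 3989))))) (.node (.node (.node (.leaf (1, 356)) (.leaf (1, 2404))) (.node (.leaf (71, 1383)) (.leaf (0, 0)))) (.node (.node (.leaf (1, 868)) (.leaf (0, 0))) (.node (.leaf (75, 1379)) (.leaf (1, 3940)))))) (.node (.node (.node (.node (.leaf (1, 228)) (.leaf (0, 0))) (.node (.leaf (1, 1859)) (.leaf (0, 0)))) (.node (.node (.leaf (0, 0)) (.leaf (50, 3435))) (.node (.leaf (0, 0)) (.leaf (1, 3812))))) (.node (.node (.node (.leaf (0, 0)) (.leaf (1, 2532))) (.node (.leaf (1, 1508)) (.leaf (67, 1523)))) (.node (.node (.leaf (0, 0)) (.leaf (1, 3630))) (.node (.leaf (0, 0)) (.leaf (77, 3903))))))))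

def twoVia146 : Janko.Tree (ℕ × ℕ) :=
  (.node (.node (.node (.node (.node (.node (.leaf (0, 0)) (.leaf (74, 910))) (.node (.leaf (0, 0)) (.leaf (2, 3670)))) (.node (.node (.leaf (76, 178)) (.leaf (6, 2596))) (.node (.leaf (0, 0)) (.leaf (70, 3621))))) (.node (.node (.node (.leaf (2, 292)) (.leaf (2, 2340))) (.node (.leaf (77, 2650)) (.leaf (76, 3546)))) (.node (.node (.leaf (77, 762)) (.leaf (77, 1558))) (.node (.leaf (2, 1828)) (.leaf (77, 2130)))))) (.node (.node (.node (.node (.leaf (2, 164)) (.leaf (2, 2941))) (.node (.leaf (0, 0)) (.leaf (2, 3236)))) (.node (.node (.leaf (77, 678)) (.leaf (76, 3110))) (.node (.leaf (0, 0)) (.leaf (2, 3748))))) (.node (.node (.node (.leaf (24, 678)) (.leaf (7, 3166))) (.node (.leaf (0, 0)) (.leaf (2, 3492)))) (.node (.node (.leaf (2, 932)) (.leaf (77, 3698))) (.node (.leaf (62, 2663)) (.leaf (2, 4004))))))) (.node (.node (.node (.node (.node (.leaf (2, 100)) (.leaf (2, 2148))) (.node (.leaf (2, 1124)) (.leaf (2, 3172)))) (.node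 (.node (.leaf (0, 0)) (.leaf (2, 2660))) (.node (.leaf (6, 3035)) (.leaf (4, 3119))))) (.node (.node (.node (.leaf (55, 952)) (.leaf (71, 3152))) (.node (.leaf (7, 2029)) (.leaf (77, 3349)))) (.node (.node (.leaf (77, 443)) (.leaf (77, 2638))) (.node (.leaf (7, 1275)) (.leaf (77, 1851)))))) (.node (.node (.node (.node (.leaf (0, 0)) (.leaf (2, 2276))) (.node (.leaf (7, 1863)) (.leaf (2, 3300)))) (.node (.node (.leaf (2, 740)) (.leaf (2, 2788))) (.node (.leaf (77, 1763)) (.leaf (77, 4090))))) (.node (.node (.node (.leaf (2, 484)) (.leaf (0, 0))) (.node (.leaf (0, 0)) (.leaf (6, 3556)))) (.node (.node (.leaf (50, 596)) (.leaf (71, 1648))) (.node (.leaf (2, 2735)) (.leaf (2, 4068))))))))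

def twoVia147 : Janko.Tree (ℕ × ℕ) :=
  (.node (.node (.node (.node (.node (.node (.leaf (0, 0)) (.leaf (0, 0))) (.node (.leaf (0, 0)) (.leaf (0, 0)))) (.node (.node (.leaf (3, 548)) (.leaf (3, 2596))) (.node (.leaf (0, 0)) (.leaf (71, 2319))))) (.node (.node (.node (.leaf (3, 292)) (.leaf (7, 1087))) (.node (.leaf (77, 2095)) (.leaf (77, 3713)))) (.node (.node (.leaf (0, 0)) (.leaf (3, 2852))) (.node (.leaf (77, 479)) (.leaf (75, 2130)))))) (.node (.node (.node (.node (.leaf (0, 0)) (.leaf (3, 2212))) (.node (.leaf (67, 2462)) (.leaf (0, 0)))) (.node (.node (.leaf (0, 0)) (.leaf (77, 3110))) (.node (.leaf (59, 259)) (.leaf (69, 4020))))) (.node (.node (.node (.leaf (0, 0)) (.leaf (3, 2468))) (.node (.leaf (57, 348)) (.leaf (3, 3492)))) (.node (.node (.leaf (70, 2675)) (.leaf (59, 1173))) (.node (.leaf (3, 1956)) (.leaf (71, 3792))))))) (.node (.node (.node (.node (.node (.leaf (0, 0)) (.leaf (0, 0))) (.node (.leaf (3, 1124)) (.leaf (0, 0)))) (.node (.node (.leaf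 (62, 208)) (.leaf (0, 0))) (.node (.leaf (0, 0)) (.leaf (77, 3366))))) (.node (.node (.node (.leaf (0, 0)) (.leaf (66, 2380))) (.node (.leaf (3, 1380)) (.leaf (3, 3428)))) (.node (.node (.leaf (0, 0)) (.leaf (70, 1878))) (.node (.leaf (0, 0)) (.leaf (67, 3755)))))) (.node (.node (.node (.node (.leaf (0, 0)) (.leaf (77, 1176))) (.node (.leaf (3, 1252)) (.leaf (55, 508)))) (.node (.node (.leaf (77, 453)) (.leaf (0, 0))) (.node (.leaf (75, 229)) (.leaf (68, 4010))))) (.node (.node (.node (.leaf (77, 816)) (.leaf (0, 0))) (.node (.leaf (75, 3091)) (.leaf (3, 3556)))) (.node (.node (.leaf (3, 996)) (.leaf (3, 3044))) (.node (.leaf (3, 2020)) (.leaf (7, 3441))))))))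

def twoVia148 : Janko.Tree (ℕ × ℕ) :=
  (.node (.node (.node (.node (.node (.node (.leaf (7, 14)) (.leaf (59, 2439))) (.node (.leaf (0, 1061)) (.leaf (77, 3982)))) (.node (.node (.leaf (59, 547)) (.leaf (0, 2597))) (.node (.leaf (0, 1573)) (.leaf (77, 3299))))) (.node (.node (.node (.leaf (25, 1788)) (.leaf (73, 1104))) (.node (.leaf (72, 1335)) (.leaf (77, 1969)))) (.node (.node (.leaf (76, 759)) (.leaf (77, 2853))) (.node (.leaf (0, 2538)) (.leaf (0, 3877)))))) (.node (.node (.node (.node (.leaf (72, 1596)) (.leaf (77, 3240))) (.node (.leaf (0, 1189)) (.leaf (77, 3446)))) (.node (.node (.leaf (73, 677)) (.leaf (4, 2725))) (.node (.leaf (0, 0)) (.leaf (77, 3749))))) (.node (.node (.node (.leaf (0, 688)) (.leaf (0, 0))) (.node (.leaf (0, 1445)) (.leaf (77, 3493)))) (.node (.node (.leaf (0, 0)) (.leaf (73, 1569))) (.node (.leaf (59, 1955)) (.leaf (77, 3268))))))) (.node (.node (.node (.node (.node (.leaf (0, 194)) (.leaf (73, 2150))) (.node (.leaf (5, 1146)) (.leaf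 (20, 3173)))) (.node (.node (.leaf (4, 613)) (.leaf (7, 3344))) (.node (.leaf (0, 1637)) (.leaf (77, 1564))))) (.node (.node (.node (.leaf (7, 197)) (.leaf (73, 1148))) (.node (.leaf (76, 1271)) (.leaf (11, 2059)))) (.node (.node (.leaf (5, 869)) (.leaf (75, 613))) (.node (.leaf (0, 2612)) (.leaf (77, 3775)))))) (.node (.node (.node (.node (.leaf (77, 229)) (.leaf (5, 2277))) (.node (.leaf (0, 0)) (.leaf (0, 3301)))) (.node (.node (.leaf (0, 0)) (.leaf (0, 2789))) (.node (.leaf (77, 3150)) (.leaf (4, 3813))))) (.node (.node (.node (.leaf (7, 786)) (.leaf (77, 2533))) (.node (.leaf (77, 1455)) (.leaf (77, 4044)))) (.node (.node (.leaf (14, 0)) (.leaf (66, 3616))) (.node (.leaf (0, 2021)) (.leaf (77, 3578))))))))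

def twoVia149 : Janko.Tree (ℕ × ℕ) :=
  (.node (.node (.node (.node (.node (.node (.leaf (0, 0)) (.leaf (77, 3012))) (.node (.leaf (0, 0)) (.leaf (0, 0)))) (.node (.node (.leaf (0, 0)) (.leaf (0, 0))) (.node (.leaf (0, 0)) (.leaf (1, 3621))))) (.node (.node (.node (.leaf (0, 0)) (.leaf (1, 2341))) (.node (.leaf (1, 1317)) (.leaf (1, 3365)))) (.node (.node (.leaf (24, 470)) (.leaf (1, 2853))) (.node (.leaf (0, 0)) (.leaf (77, 3397)))))) (.node (.node (.node (.node (.leaf (0, 0)) (.leaf (0, 0))) (.node (.leaf (0, 0)) (.leaf (1, 3777)))) (.node (.node (.leaf (1, 677)) (.leaf (0, 0))) (.node (.leaf (1, 1701)) (.leaf (10, 3749))))) (.node (.node (.node (.leaf (77, 1649)) (.leaf (1, 2469))) (.node (.leaf (0, 0)) (.leaf (0, 0)))) (.node (.node (.leaf (1, 933)) (.leaf (1, 2981))) (.node (.leaf (0, 0)) (.leaf (1, 4005))))))) (.node (.node (.node (.node (.node (.leaf (0, 0)) (.leaf (0, 0))) (.node (.leaf (77, 1704)) (.leaf (77, 3725)))) (.node (.node (.leaf (0, 0)) (.leaf (1,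 3343))) (.node (.leaf (67, 2174)) (.leaf (77, 1559))))) (.node (.node (.node (.leaf (77, 1456)) (.leaf (1, 2405))) (.node (.leaf (1, 1381)) (.leaf (1, 3429)))) (.node (.node (.leaf (0, 0)) (.leaf (1, 2917))) (.node (.leaf (71, 1896)) (.leaf (1, 3941)))))) (.node (.node (.node (.node (.leaf (0, 0)) (.leaf (67, 2883))) (.node (.leaf (1, 1253)) (.leaf (76, 2610)))) (.node (.node (.leaf (1, 741)) (.leaf (0, 0))) (.node (.leaf (0, 0)) (.leaf (0, 0))))) (.node (.node (.node (.leaf (1, 485)) (.leaf (1, 2533))) (.node (.leaf (0, 0)) (.leaf (1, 3557)))) (.node (.node (.leaf (1, 997)) (.leaf (1, 3045))) (.node (.leaf (77, 2468)) (.leaf (1, 4069))))))))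

def twoVia150 : Janko.Tree (ℕ × ℕ) :=
  (.node (.node (.node (.node (.node (.node (.leaf (2, 37)) (.leaf (6, 2085))) (.node (.leaf (24, 124)) (.leaf (2, 3109)))) (.node (.node (.leaf (6, 549)) (.leaf (6, 2597))) (.node (.leaf (70, 2265)) (.leaf (70, 3620))))) (.node (.node (.node (.leaf (2, 293)) (.leaf (77, 1104))) (.node (.leaf (72, 2669)) (.leaf (77, 3581)))) (.node (.node (.leaf (2, 805)) (.leaf (70, 2859))) (.node (.leaf (75, 1781)) (.leaf (58, 4089)))))) (.node (.node (.node (.node (.leaf (2, 302)) (.leaf (2, 2213))) (.node (.leaf (24, 1767)) (.leaf (2, 3779)))) (.node (.node (.leaf (77, 1178)) (.leaf (2, 2725))) (.node (.leaf (0, 0)) (.leaf (29, 4020))))) (.node (.node (.node (.leaf (77, 1067)) (.leaf (6, 3727))) (.node (.leaf (77, 586)) (.leaf (77, 2798)))) (.node (.node (.leaf (23, 2108)) (.leaf (65, 3984))) (.node (.leaf (6, 1957)) (.leaf (36, 2968))))))) (.node (.node (.node (.node (.node (.leaf (2, 195)) (.leaf (2, 2880))) (.node (.leaf (2, 1125)) (.leaf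 (2, 3731)))) (.node (.node (.leaf (2, 613)) (.leaf (7, 3346))) (.node (.leaf (59, 1054)) (.leaf (2, 3685))))) (.node (.node (.node (.leaf (2, 357)) (.leaf (0, 0))) (.node (.leaf (0, 0)) (.leaf (53, 3424)))) (.node (.node (.leaf (62, 699)) (.leaf (40, 977))) (.node (.leaf (7, 2612)) (.leaf (2, 3941)))))) (.node (.node (.node (.node (.leaf (77, 460)) (.leaf (77, 1363))) (.node (.leaf (6, 2580)) (.leaf (77, 3645)))) (.node (.node (.leaf (0, 0)) (.leaf (7, 3447))) (.node (.leaf (2, 1765)) (.leaf (2, 3813))))) (.node (.node (.node (.leaf (76, 163)) (.leaf (76, 1222))) (.node (.leaf (77, 1511)) (.leaf (77, 3915)))) (.node (.node (.leaf (0, 0)) (.leaf (66, 3618))) (.node (.leaf (6, 2021)) (.leaf (77, 3309))))))))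

def twoVia151 : Janko.Tree (ℕ × ℕ) :=
  (.node (.node (.node (.node (.node (.node (.leaf (3, 37)) (.leaf (3, 2085))) (.node (.leaf (0, 0)) (.leaf (0, 0)))) (.node (.node (.leaf (3, 549)) (.leaf (3, 2597))) (.node (.leaf (59, 1565)) (.leaf (67, 3148))))) (.node (.node (.node (.leaf (0, 0)) (.leaf (71, 3291))) (.node (.leaf (0, 0)) (.leaf (0, 0)))) (.node (.node (.leaf (0, 0)) (.leaf (0, 0))) (.node (.leaf (3, 1829)) (.leaf (77, 1807)))))) (.node (.node (.node (.node (.leaf (3, 165)) (.leaf (0, 0))) (.node (.leaf (0, 0)) (.leaf (3, 3237)))) (.node (.node (.leaf (60, 2169)) (.leaf (3, 2725))) (.node (.leaf (0, 0)) (.leaf (3, 3749))))) (.node (.node (.node (.leaf (3, 421)) (.leaf (0, 0))) (.node (.leaf (0, 0)) (.leaf (3, 3493)))) (.node (.node (.leaf (75, 2842)) (.leaf (57, 1570))) (.node (.leaf (3, 1957)) (.leaf (3, 4005))))))) (.node (.node (.node (.node (.node (.leaf (3, 101)) (.leaf (3, 2149))) (.node (.leaf (0, 0)) (.leaf (3, 3173)))) (.node (.node (.leaf (77, 990))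 (.leaf (3, 2661))) (.node (.leaf (3, 1637)) (.leaf (3, 3685))))) (.node (.node (.node (.leaf (3, 357)) (.leaf (62, 1148))) (.node (.leaf (0, 0)) (.leaf (0, 0)))) (.node (.node (.leaf (3, 869)) (.leaf (77, 375))) (.node (.leaf (3, 1893)) (.leaf (0, 0)))))) (.node (.node (.node (.node (.leaf (3, 229)) (.leaf (3, 2277))) (.node (.leaf (0, 0)) (.leaf (0, 0)))) (.node (.node (.leaf (0, 0)) (.leaf (3, 2789))) (.node (.leaf (77, 463)) (.leaf (68, 2994))))) (.node (.node (.node (.leaf (3, 485)) (.leaf (70, 429))) (.node (.leaf (3, 1509)) (.leaf (77, 2664)))) (.node (.node (.leaf (0, 0)) (.leaf (75, 2321))) (.node (.leaf (3, 2021)) (.leaf (0, 0))))))))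

def twoVia152 : Janko.Tree (ℕ × ℕ) :=
  (.node (.node (.node (.node (.node (.node (.leaf (0, 0)) (.leaf (0, 0))) (.node (.leaf (76, 1072)) (.leaf (23, 2417)))) (.node (.node (.leaf (0, 0)) (.leaf (73, 2594))) (.node (.leaf (77, 2678)) (.leaf (77, 3622))))) (.node (.node (.node (.leaf (20, 294)) (.leaf (7, 2342))) (.node (.leaf (4, 1318)) (.leaf (7, 3366)))) (.node (.node (.leaf (0, 1257)) (.leaf (77, 2874))) (.node (.leaf (5, 3241)) (.leaf (75, 585)))))) (.node (.node (.node (.node (.leaf (73, 562)) (.leaf (77, 3277))) (.node (.leaf (0, 1777)) (.leaf (72, 1826)))) (.node (.node (.leaf (0, 678)) (.leaf (0, 2726))) (.node (.leaf (57, 2381)) (.leaf (77, 3838))))) (.node (.node (.node (.leaf (74, 430)) (.leaf (77, 3715))) (.node (.leaf (77, 2818)) (.leaf (77, 3334)))) (.node (.node (.leaf (25, 3477)) (.leaf (52, 2982))) (.node (.leaf (77, 3497)) (.leaf (77, 4006))))))) (.node (.node (.node (.node (.node (.leaf (0, 0)) (.leaf (73, 2031))) (.node (.leaf (5, 1126)) (.leaf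 (77, 3479)))) (.node (.node (.leaf (0, 0)) (.leaf (0, 2662))) (.node (.leaf (62, 513)) (.leaf (77, 3686))))) (.node (.node (.node (.leaf (25, 1006)) (.leaf (4, 2406))) (.node (.leaf (5, 1382)) (.leaf (77, 4026)))) (.node (.node (.leaf (59, 868)) (.leaf (77, 2718))) (.node (.leaf (76, 1894)) (.leaf (77, 3942)))))) (.node (.node (.node (.node (.leaf (0, 0)) (.leaf (72, 2280))) (.node (.leaf (75, 148)) (.leaf (77, 3302)))) (.node (.node (.leaf (0, 742)) (.leaf (0, 0))) (.node (.leaf (38, 1766)) (.leaf (77, 1259))))) (.node (.node (.node (.leaf (23, 1837)) (.leaf (0, 2534))) (.node (.leaf (77, 1510)) (.leaf (61, 4044)))) (.node (.node (.leaf (75, 936)) (.leaf (0, 3046))) (.node (.leaf (73, 882)) (.leaf (77, 4095))))))))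

def twoVia153 : Janko.Tree (ℕ × ℕ) :=
  (.node (.node (.node (.node (.node (.node (.leaf (1, 38)) (.leaf (1, 2086))) (.node (.leaf (1, 1616)) (.leaf (77, 3666)))) (.node (.node (.leaf (1, 550)) (.leaf (1, 2598))) (.node (.leaf (0, 0)) (.leaf (1, 3622))))) (.node (.node (.node (.leaf (0, 0)) (.leaf (0, 0))) (.node (.leaf (0, 0)) (.leaf (0, 0)))) (.node (.node (.leaf (0, 0)) (.leaf (71, 2847))) (.node (.leaf (1, 1830)) (.leaf (1, 3878)))))) (.node (.node (.node (.node (.leaf (1, 166)) (.leaf (67, 1528))) (.node (.leaf (71, 1158)) (.leaf (1, 3238)))) (.node (.node (.leaf (0, 0)) (.leaf (77, 2011))) (.node (.leaf (0, 0)) (.leaf (77, 3430))))) (.node (.node (.node (.leaf (1, 422)) (.leaf (0, 0))) (.node (.leaf (1, 2104)) (.leaf (1, 3494)))) (.node (.node (.leaf (0, 0)) (.leaf (0, 0))) (.node (.leaf (1, 1958)) (.leaf (1, 4006))))))) (.node (.node (.node (.node (.node (.leaf (1, 102)) (.leaf (1, 2150))) (.node (.leaf (0, 0)) (.leaf (0, 0)))) (.node (.node (.leaf (1, 614))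 (.leaf (77, 1957))) (.node (.leaf (1, 1638)) (.leaf (1, 3686))))) (.node (.node (.node (.leaf (0, 0)) (.leaf (0, 0))) (.node (.leaf (0, 0)) (.leaf (0, 0)))) (.node (.node (.leaf (0, 0)) (.leaf (1, 2918))) (.node (.leaf (1, 1894)) (.leaf (74, 2264)))))) (.node (.node (.node (.node (.leaf (1, 230)) (.leaf (1, 2278))) (.node (.leaf (0, 0)) (.leaf (0, 0)))) (.node (.node (.leaf (0, 0)) (.leaf (1, 2790))) (.node (.leaf (1, 1766)) (.leaf (1, 3814))))) (.node (.node (.node (.leaf (1, 486)) (.leaf (0, 0))) (.node (.leaf (1, 1510)) (.leaf (1, 3558)))) (.node (.node (.leaf (0, 0)) (.leaf (77, 3454))) (.node (.leaf (1, 2022)) (.leaf (1, 4094))))))))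

def twoVia154 : Janko.Tree (ℕ × ℕ) :=
  (.node (.node (.node (.node (.node (.node (.leaf (0, 0)) (.leaf (0, 0))) (.node (.leaf (2, 1062)) (.leaf (2, 3675)))) (.node (.node (.leaf (0, 0)) (.leaf (0, 0))) (.node (.leaf (2, 1574)) (.leaf (77, 3617))))) (.node (.node (.node (.leaf (2, 499)) (.leaf (6, 2342))) (.node (.leaf (6, 1318)) (.leaf (2, 3366)))) (.node (.node (.leaf (2, 1258)) (.leaf (6, 2854))) (.node (.leaf (0, 0)) (.leaf (13, 3400)))))) (.node (.node (.node (.node (.leaf (67, 301)) (.leaf (2, 2943))) (.node (.leaf (77, 2455)) (.leaf (75, 789)))) (.node (.node (.leaf (23, 238)) (.leaf (6, 2726))) (.node (.leaf (2, 1702)) (.leaf (2, 3750))))) (.node (.node (.node (.leaf (72, 889)) (.leaf (2, 2470))) (.node (.leaf (2, 1446)) (.leaf (77, 3409)))) (.node (.node (.leaf (2, 934)) (.leaf (2, 2982))) (.node (.leaf (71, 2971)) (.leaf (63, 1173))))))) (.node (.node (.node (.node (.node (.leaf (0, 0)) (.leaf (0, 0))) (.node (.leaf (2, 1699)) (.leaf (2, 3174)))) (.node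 (.node (.leaf (6, 1499)) (.leaf (54, 1944))) (.node (.leaf (77, 511)) (.leaf (6, 3686))))) (.node (.node (.node (.leaf (2, 358)) (.leaf (2, 2406))) (.node (.leaf (2, 2029)) (.leaf (6, 3430)))) (.node (.node (.leaf (6, 870)) (.leaf (0, 0))) (.node (.leaf (0, 0)) (.leaf (2, 4077)))))) (.node (.node (.node (.node (.leaf (0, 0)) (.leaf (75, 3706))) (.node (.leaf (77, 472)) (.leaf (2, 3302)))) (.node (.node (.leaf (24, 1165)) (.leaf (4, 3449))) (.node (.leaf (72, 3148)) (.leaf (77, 3911))))) (.node (.node (.node (.leaf (0, 0)) (.leaf (77, 782))) (.node (.leaf (76, 978)) (.leaf (77, 4052)))) (.node (.node (.leaf (2, 998)) (.leaf (6, 3046))) (.node (.leaf (0, 0)) (.leaf (67, 3916))))))))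

def twoVia155 : Janko.Tree (ℕ × ℕ) :=
  (.node (.node (.node (.node (.node (.node (.leaf (0, 0)) (.leaf (0, 0))) (.node (.leaf (75, 674)) (.leaf (3, 3110)))) (.node (.node (.leaf (0, 0)) (.leaf (73, 3745))) (.node (.leaf (0, 0)) (.leaf (71, 2341))))) (.node (.node (.node (.leaf (3, 294)) (.leaf (3, 2342))) (.node (.leaf (3, 1318)) (.leaf (7, 1975)))) (.node (.node (.leaf (3, 806)) (.leaf (3, 2854))) (.node (.leaf (0, 0)) (.leaf (77, 355)))))) (.node (.node (.node (.node (.leaf (0, 0)) (.leaf (3, 2214))) (.node (.leaf (3, 1190)) (.leaf (0, 0)))) (.node (.node (.leaf (77, 404)) (.leaf (3, 2726))) (.node (.leaf (54, 3076)) (.leaf (65, 3625))))) (.node (.node (.node (.leaf (0, 0)) (.leaf (0, 0))) (.node (.leaf (0, 0)) (.leaf (0, 0)))) (.node (.node (.leaf (0, 0)) (.leaf (6, 3576))) (.node (.leaf (0, 0)) (.leaf (3, 4006))))))) (.node (.node (.node (.node (.node (.leaf (0, 0)) (.leaf (70, 2758))) (.node (.leaf (3, 1126)) (.leaf (0, 0)))) (.node (.node (.leaf (0, 0)) (.leaf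 (3, 2662))) (.node (.leaf (75, 826)) (.leaf (67, 2765))))) (.node (.node (.node (.leaf (77, 198)) (.leaf (77, 3416))) (.node (.leaf (3, 1382)) (.leaf (3, 3430)))) (.node (.node (.leaf (3, 870)) (.leaf (0, 0))) (.node (.leaf (0, 0)) (.leaf (3, 3942)))))) (.node (.node (.node (.node (.leaf (0, 0)) (.leaf (0, 0))) (.node (.leaf (3, 1254)) (.leaf (0, 0)))) (.node (.node (.leaf (0, 0)) (.leaf (0, 0))) (.node (.leaf (0, 0)) (.leaf (70, 3575))))) (.node (.node (.node (.leaf (0, 0)) (.leaf (0, 0))) (.node (.leaf (0, 0)) (.leaf (0, 0)))) (.node (.node (.leaf (77, 1450)) (.leaf (3, 3046))) (.node (.leaf (61, 2736)) (.leaf (3, 4070))))))))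

def twoVia156 : Janko.Tree (ℕ × ℕ) :=
  (.node (.node (.node (.node (.node (.node (.leaf (0, 39)) (.leaf (0, 2087))) (.node (.leaf (0, 1619)) (.leaf (0, 0)))) (.node (.node (.leaf (0, 551)) (.leaf (0, 2599))) (.node (.leaf (20, 1575)) (.leaf (62, 3623))))) (.node (.node (.node (.leaf (0, 0)) (.leaf (4, 2343))) (.node (.leaf (56, 1319)) (.leaf (5, 3367)))) (.node (.node (.leaf (0, 0)) (.leaf (0, 2855))) (.node (.leaf (77, 1141)) (.leaf (77, 3879)))))) (.node (.node (.node (.node (.leaf (0, 167)) (.leaf (77, 2215))) (.node (.leaf (77, 1191)) (.leaf (5, 3239)))) (.node (.node (.leaf (0, 0)) (.leaf (73, 1364))) (.node (.leaf (5, 1703)) (.leaf (77, 3751))))) (.node (.node (.node (.leaf (4, 423)) (.leaf (5, 2471))) (.node (.leaf (0, 2109)) (.leaf (4, 3495)))) (.node (.node (.leaf (20, 935)) (.leaf (77, 2983))) (.node (.leaf (0, 1959)) (.leaf (77, 3260))))))) (.node (.node (.node (.node (.node (.leaf (0, 103)) (.leaf (74, 960))) (.node (.leaf (0, 1127)) (.leaf (77, 3175))))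 (.node (.node (.leaf (77, 1457)) (.leaf (72, 1310))) (.node (.leaf (77, 3824)) (.leaf (0, 3687))))) (.node (.node (.node (.leaf (0, 0)) (.leaf (0, 0))) (.node (.leaf (0, 0)) (.leaf (5, 3431)))) (.node (.node (.leaf (0, 0)) (.leaf (77, 3787))) (.node (.leaf (5, 1895)) (.leaf (4, 3943)))))) (.node (.node (.node (.node (.leaf (0, 231)) (.leaf (0, 2279))) (.node (.leaf (0, 0)) (.leaf (0, 3823)))) (.node (.node (.leaf (0, 1172)) (.leaf (7, 2072))) (.node (.leaf (0, 1767)) (.leaf (59, 2490))))) (.node (.node (.node (.leaf (4, 487)) (.leaf (72, 2537))) (.node (.leaf (0, 1511)) (.leaf (7, 3559)))) (.node (.node (.leaf (0, 0)) (.leaf (59, 3047))) (.node (.leaf (0, 2023)) (.leaf (73, 3457))))))))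

def twoVia157 : Janko.Tree (ℕ × ℕ) :=
  (.node (.node (.node (.node (.node (.node (.leaf (0, 0)) (.leaf (0, 0))) (.node (.leaf (0, 0)) (.leaf (1, 3111)))) (.node (.node (.leaf (0, 0)) (.leaf (77, 1879))) (.node (.leaf (1, 1575)) (.leaf (77, 3039))))) (.node (.node (.node (.leaf (1, 295)) (.leaf (65, 3728))) (.node (.leaf (1, 1319)) (.leaf (0, 0)))) (.node (.node (.leaf (1, 807)) (.leaf (0, 0))) (.node (.leaf (1, 1831)) (.leaf (28, 3879)))))) (.node (.node (.node (.node (.leaf (0, 0)) (.leaf (1, 2215))) (.node (.leaf (1, 1191)) (.leaf (0, 0)))) (.node (.node (.leaf (1, 679)) (.leaf (1, 2727))) (.node (.leaf (0, 0)) (.leaf (1, 3751))))) (.node (.node (.node (.leaf (0, 0)) (.leaf (77, 3161))) (.node (.leaf (77, 2109)) (.leaf (77, 957)))) (.node (.node (.leaf (0, 0)) (.leaf (67, 2263))) (.node (.leaf (77, 2704)) (.leaf (0, 0))))))) (.node (.node (.node (.node (.node (.leaf (0, 0)) (.leaf (1, 2151))) (.node (.leaf (0, 0)) (.leaf (67, 2474)))) (.node (.node (.leaf (0, 0))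 (.leaf (1, 2663))) (.node (.leaf (67, 1082)) (.leaf (73, 3121))))) (.node (.node (.node (.leaf (1, 359)) (.leaf (1, 2407))) (.node (.leaf (1, 1383)) (.leaf (1, 3431)))) (.node (.node (.leaf (1, 871)) (.leaf (0, 0))) (.node (.leaf (0, 0)) (.leaf (17, 3537)))))) (.node (.node (.node (.node (.leaf (0, 0)) (.leaf (0, 0))) (.node (.leaf (1, 1255)) (.leaf (1, 3303)))) (.node (.node (.leaf (0, 0)) (.leaf (77, 3447))) (.node (.leaf (0, 0)) (.leaf (77, 3618))))) (.node (.node (.node (.leaf (0, 0)) (.leaf (9, 2535))) (.node (.leaf (0, 0)) (.leaf (0, 0)))) (.node (.node (.leaf (1, 999)) (.leaf (1, 3047))) (.node (.leaf (77, 3667)) (.leaf (1, 4071))))))))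

def twoVia158 : Janko.Tree (ℕ × ℕ) :=
  (.node (.node (.node (.node (.node (.node (.leaf (0, 0)) (.leaf (0, 0))) (.node (.leaf (68, 1344)) (.leaf (0, 0)))) (.node (.node (.leaf (0, 0)) (.leaf (7, 1881))) (.node (.leaf (2, 2267)) (.leaf (2, 3623))))) (.node (.node (.node (.leaf (0, 0)) (.leaf (2, 2343))) (.node (.leaf (0, 0)) (.leaf (7, 2690)))) (.node (.node (.leaf (0, 0)) (.leaf (6, 2855))) (.node (.leaf (71, 1814)) (.leaf (6, 3879)))))) (.node (.node (.node (.node (.leaf (6, 167)) (.leaf (2, 2215))) (.node (.leaf (77, 1205)) (.leaf (76, 782)))) (.node (.node (.leaf (0, 0)) (.leaf (0, 0))) (.node (.leaf (7, 1132)) (.leaf (44, 2492))))) (.node (.node (.node (.leaf (6, 423)) (.leaf (2, 3170))) (.node (.leaf (2, 2110)) (.leaf (2, 3495)))) (.node (.node (.leaf (2, 1443)) (.leaf (54, 2947))) (.node (.leaf (0, 0)) (.leaf (2, 4007))))))) (.node (.node (.node (.node (.node (.leaf (0, 0)) (.leaf (0, 0))) (.node (.leaf (6, 1127)) (.leaf (2, 3733)))) (.node (.node (.leaf (6,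 615)) (.leaf (75, 527))) (.node (.leaf (77, 2769)) (.leaf (77, 3459))))) (.node (.node (.node (.leaf (0, 0)) (.leaf (77, 3650))) (.node (.leaf (70, 1464)) (.leaf (77, 2057)))) (.node (.node (.leaf (0, 0)) (.leaf (2, 2919))) (.node (.leaf (2, 2612)) (.leaf (2, 3943)))))) (.node (.node (.node (.node (.leaf (0, 0)) (.leaf (6, 2279))) (.node (.leaf (0, 0)) (.leaf (2, 3825)))) (.node (.node (.leaf (6, 743)) (.leaf (2, 2791))) (.node (.leaf (23, 753)) (.leaf (2, 3815))))) (.node (.node (.node (.leaf (2, 487)) (.leaf (2, 2535))) (.node (.leaf (77, 1498)) (.leaf (2, 3559)))) (.node (.node (.leaf (0, 0)) (.leaf (0, 0))) (.node (.leaf (76, 1320)) (.leaf (70, 3798))))))))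

def twoVia159 : Janko.Tree (ℕ × ℕ) :=
  (.node (.node (.node (.node (.node (.node (.leaf (0, 0)) (.leaf (67, 1892))) (.node (.leaf (3, 1063)) (.leaf (0, 0)))) (.node (.node (.leaf (0, 0)) (.leaf (0, 0))) (.node (.leaf (3, 1575)) (.leaf (77, 722))))) (.node (.node (.node (.leaf (0, 0)) (.leaf (0, 0))) (.node (.leaf (59, 580)) (.leaf (3, 3367)))) (.node (.node (.leaf (0, 0)) (.leaf (3, 2855))) (.node (.leaf (77, 2763)) (.leaf (3, 3879)))))) (.node (.node (.node (.node (.leaf (3, 167)) (.leaf (0, 0))) (.node (.leaf (0, 0)) (.leaf (3, 3239)))) (.node (.node (.leaf (0, 0)) (.leaf (73, 3063))) (.node (.leaf (3, 1703)) (.leaf (42, 1789))))) (.node (.node (.node (.leaf (3, 423)) (.leaf (3, 2471))) (.node (.leaf (3, 1447)) (.leaf (7, 2117)))) (.node (.node (.leaf (3, 935)) (.leaf (3, 2983))) (.node (.leaf (0, 0)) (.leaf (77, 3953))))))) (.node (.node (.node (.node (.node (.leaf (77, 213)) (.leaf (0, 0))) (.node (.leaf (3, 1127)) (.leaf (3, 3175)))) (.node (.node (.leaf (3,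 615)) (.leaf (0, 0))) (.node (.leaf (3, 1639)) (.leaf (3, 3995))))) (.node (.node (.node (.leaf (0, 0)) (.leaf (71, 2167))) (.node (.leaf (67, 597)) (.leaf (3, 3431)))) (.node (.node (.leaf (0, 0)) (.leaf (71, 2918))) (.node (.leaf (3, 1895)) (.leaf (66, 2909)))))) (.node (.node (.node (.node (.leaf (77, 411)) (.leaf (3, 2279))) (.node (.leaf (0, 0)) (.leaf (3, 3303)))) (.node (.node (.leaf (3, 743)) (.leaf (3, 2791))) (.node (.leaf (77, 661)) (.leaf (75, 3629))))) (.node (.node (.node (.leaf (0, 0)) (.leaf (73, 1264))) (.node (.leaf (77, 108)) (.leaf (7, 2210)))) (.node (.node (.leaf (0, 0)) (.leaf (59, 1711))) (.node (.leaf (0, 0)) (.leaf (61, 4081))))))))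

def twoVia160 : Janko.Tree (ℕ × ℕ) :=
  (.node (.node (.node (.node (.node (.node (.leaf (0, 84)) (.leaf (0, 2808))) (.node (.leaf (5, 2311)) (.leaf (0, 3112)))) (.node (.node (.leaf (0, 883)) (.leaf (0, 3295))) (.node (.leaf (73, 650)) (.leaf (5, 3624))))) (.node (.node (.node (.leaf (0, 296)) (.leaf (0, 2344))) (.node (.leaf (75, 519)) (.leaf (77, 3368)))) (.node (.node (.leaf (43, 222)) (.leaf (7, 2856))) (.node (.leaf (77, 1820)) (.leaf (0, 3880)))))) (.node (.node (.node (.node (.leaf (0, 0)) (.leaf (77, 1859))) (.node (.leaf (4, 1192)) (.leaf (0, 0)))) (.node (.node (.leaf (77, 1340)) (.leaf (0, 2728))) (.node (.leaf (17, 1704)) (.leaf (75, 3041))))) (.node (.node (.node (.leaf (75, 852)) (.leaf (0, 0))) (.node (.leaf (0, 0)) (.leaf (7, 3496)))) (.node (.node (.leaf (0, 0)) (.leaf (77, 3750))) (.node (.leaf (0, 2680)) (.leaf (77, 3469))))))) (.node (.node (.node (.node (.node (.leaf (0, 201)) (.leaf (4, 2152))) (.node (.leaf (54, 1142)) (.leaf (77, 997)))) (.node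 (.node (.leaf (72, 209)) (.leaf (5, 2664))) (.node (.leaf (4, 1640)) (.leaf (77, 2825))))) (.node (.node (.node (.leaf (0, 360)) (.leaf (8, 3664))) (.node (.leaf (62, 249)) (.leaf (65, 3650)))) (.node (.node (.leaf (0, 872)) (.leaf (77, 3924))) (.node (.leaf (0, 0)) (.leaf (54, 3944)))))) (.node (.node (.node (.node (.leaf (0, 408)) (.leaf (0, 2280))) (.node (.leaf (12, 3192)) (.leaf (73, 3294)))) (.node (.node (.leaf (0, 0)) (.leaf (0, 2792))) (.node (.leaf (0, 0)) (.leaf (0, 3816))))) (.node (.node (.node (.leaf (0, 488)) (.leaf (0, 3239))) (.node (.leaf (76, 1496)) (.leaf (5, 3560)))) (.node (.node (.leaf (0, 1000)) (.leaf (0, 3048))) (.node (.leaf (0, 2738)) (.leaf (77, 3557))))))))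

def twoVia161 : Janko.Tree (ℕ × ℕ) :=
  (.node (.node (.node (.node (.node (.node (.leaf (1, 77)) (.leaf (77, 2808))) (.node (.leaf (1, 1064)) (.leaf (77, 2426)))) (.node (.node (.leaf (0, 0)) (.leaf (38, 3295))) (.node (.leaf (1, 1576)) (.leaf (77, 3035))))) (.node (.node (.node (.leaf (0, 0)) (.leaf (0, 0))) (.node (.leaf (0, 0)) (.leaf (1, 3368)))) (.node (.node (.leaf (0, 0)) (.leaf (1, 2856))) (.node (.leaf (1, 1832)) (.leaf (70, 3725)))))) (.node (.node (.node (.node (.leaf (1, 168)) (.leaf (67, 1530))) (.node (.leaf (0, 0)) (.leaf (1, 3240)))) (.node (.node (.leaf (0, 0)) (.leaf (74, 3110))) (.node (.leaf (74, 397)) (.leaf (1, 3752))))) (.node (.node (.node (.leaf (1, 424)) (.leaf (1, 2472))) (.node (.leaf (1, 1448)) (.leaf (0, 0)))) (.node (.node (.leaf (1, 936)) (.leaf (1, 2984))) (.node (.leaf (0, 0)) (.leaf (1, 4008))))))) (.node (.node (.node (.node (.node (.leaf (0, 0)) (.leaf (0, 0))) (.node (.leaf (1, 1128)) (.leaf (1, 3176)))) (.node (.node (.leaf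 (1, 616)) (.leaf (0, 0))) (.node (.leaf (17, 1082)) (.leaf (77, 1786))))) (.node (.node (.node (.leaf (0, 0)) (.leaf (0, 0))) (.node (.leaf (0, 0)) (.leaf (1, 3432)))) (.node (.node (.leaf (0, 0)) (.leaf (1, 3551))) (.node (.leaf (1, 1896)) (.leaf (67, 3535)))))) (.node (.node (.node (.node (.leaf (0, 0)) (.leaf (0, 0))) (.node (.leaf (1, 1256)) (.leaf (1, 3304)))) (.node (.node (.leaf (1, 744)) (.leaf (77, 2129))) (.node (.leaf (1, 1768)) (.leaf (76, 3293))))) (.node (.node (.node (.leaf (0, 0)) (.leaf (0, 0))) (.node (.leaf (24, 976)) (.leaf (0, 0)))) (.node (.node (.leaf (77, 427)) (.leaf (77, 2345))) (.node (.leaf (65, 2738)) (.leaf (1, 4072))))))))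

def twoVia162 : Janko.Tree (ℕ × ℕ) :=
  (.node (.node (.node (.node (.node (.node (.leaf (2, 40)) (.leaf (2, 2088))) (.node (.leaf (0, 0)) (.leaf (77, 2766)))) (.node (.node (.leaf (2, 552)) (.leaf (7, 3295))) (.node (.leaf (0, 0)) (.leaf (7, 3036))))) (.node (.node (.node (.leaf (6, 296)) (.leaf (7, 3046))) (.node (.leaf (77, 1322)) (.leaf (77, 3931)))) (.node (.node (.leaf (2, 808)) (.leaf (0, 0))) (.node (.leaf (72, 3244)) (.leaf (6, 3880)))))) (.node (.node (.node (.node (.leaf (0, 0)) (.leaf (6, 2216))) (.node (.leaf (6, 1192)) (.leaf (54, 3239)))) (.node (.node (.leaf (6, 680)) (.leaf (2, 2728))) (.node (.leaf (2, 1704)) (.leaf (67, 4022))))) (.node (.node (.node (.leaf (0, 0)) (.leaf (0, 0))) (.node (.leaf (0, 0)) (.leaf (6, 3496)))) (.node (.node (.leaf (0, 0)) (.leaf (2, 2984))) (.node (.leaf (2, 1960)) (.leaf (70, 3552))))))) (.node (.node (.node (.node (.node (.leaf (2, 104)) (.leaf (2, 2152))) (.node (.leaf (0, 0)) (.leaf (2, 3176)))) (.node (.node (.leaf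 (0, 0)) (.leaf (76, 520))) (.node (.leaf (2, 1640)) (.leaf (2, 3688))))) (.node (.node (.node (.leaf (24, 593)) (.leaf (2, 2408))) (.node (.leaf (59, 443)) (.leaf (77, 960)))) (.node (.node (.leaf (0, 0)) (.leaf (68, 3551))) (.node (.leaf (71, 2595)) (.leaf (6, 3944)))))) (.node (.node (.node (.node (.leaf (2, 232)) (.leaf (77, 459))) (.node (.leaf (75, 470)) (.leaf (2, 3824)))) (.node (.node (.leaf (77, 652)) (.leaf (24, 3449))) (.node (.leaf (0, 0)) (.leaf (77, 3294))))) (.node (.node (.node (.leaf (7, 792)) (.leaf (70, 3240))) (.node (.leaf (2, 1512)) (.leaf (7, 2934)))) (.node (.node (.leaf (0, 0)) (.leaf (54, 3053))) (.node (.leaf (62, 1371)) (.leaf (2, 4094))))))))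

def twoVia163 : Janko.Tree (ℕ × ℕ) :=
  (.node (.node (.node (.node (.node (.node (.leaf (0, 0)) (.leaf (0, 0))) (.node (.leaf (0, 0)) (.leaf (0, 0)))) (.node (.node (.leaf (0, 0)) (.leaf (3, 2600))) (.node (.leaf (67, 2973)) (.leaf (3, 3624))))) (.node (.node (.node (.leaf (3, 296)) (.leaf (3, 2344))) (.node (.leaf (3, 1320)) (.leaf (77, 2784)))) (.node (.node (.leaf (75, 572)) (.leaf (59, 2862))) (.node (.leaf (0, 0)) (.leaf (3, 3880)))))) (.node (.node (.node (.node (.leaf (0, 0)) (.leaf (3, 2216))) (.node (.leaf (3, 1192)) (.leaf (67, 3176)))) (.node (.node (.leaf (3, 680)) (.leaf (0, 0))) (.node (.leaf (0, 0)) (.leaf (66, 3041))))) (.node (.node (.node (.leaf (77, 517)) (.leaf (0, 0))) (.node (.leaf (0, 0)) (.leaf (3, 3496)))) (.node (.node (.leaf (0, 0)) (.leaf (69, 1578))) (.node (.leaf (0, 0)) (.leaf (70, 1509))))))) (.node (.node (.node (.node (.node (.leaf (0, 0)) (.leaf (0, 0))) (.node (.leaf (73, 1139)) (.leaf (0, 0)))) (.node (.node (.leaf (0, 0)) (.leaf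 (3, 2664))) (.node (.leaf (0, 0)) (.leaf (0, 0))))) (.node (.node (.node (.leaf (0, 0)) (.leaf (77, 969))) (.node (.leaf (3, 1384)) (.leaf (75, 2405)))) (.node (.node (.leaf (0, 0)) (.leaf (3, 2920))) (.node (.leaf (61, 572)) (.leaf (3, 3944)))))) (.node (.node (.node (.node (.leaf (0, 0)) (.leaf (0, 0))) (.node (.leaf (0, 0)) (.leaf (66, 2858)))) (.node (.node (.leaf (77, 3674)) (.leaf (62, 1459))) (.node (.leaf (0, 0)) (.leaf (62, 2610))))) (.node (.node (.node (.leaf (3, 488)) (.leaf (3, 2536))) (.node (.leaf (0, 0)) (.leaf (3, 3560)))) (.node (.node (.leaf (0, 0)) (.leaf (0, 0))) (.node (.leaf (3, 2024)) (.leaf (70, 3890))))))))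

def twoVia164 : Janko.Tree (ℕ × ℕ) :=
  (.node (.node (.node (.node (.node (.node (.leaf (7, 84)) (.leaf (73, 1896))) (.node (.leaf (5, 1065)) (.leaf (77, 3524)))) (.node (.node (.leaf (7, 883)) (.leaf (73, 1263))) (.node (.leaf (4, 1577)) (.leaf (66, 3718))))) (.node (.node (.node (.leaf (77, 362)) (.leaf (0, 0))) (.node (.leaf (77, 1321)) (.leaf (77, 3615)))) (.node (.node (.leaf (72, 295)) (.leaf (0, 2857))) (.node (.leaf (4, 1833)) (.leaf (59, 3881)))))) (.node (.node (.node (.node (.leaf (0, 0)) (.leaf (62, 1848))) (.node (.leaf (54, 1237)) (.leaf (0, 3241)))) (.node (.node (.leaf (77, 681)) (.leaf (0, 3394))) (.node (.leaf (59, 727)) (.leaf (65, 3202))))) (.node (.node (.node (.leaf (0, 549)) (.leaf (76, 2473))) (.node (.leaf (75, 604)) (.leaf (77, 1853)))) (.node (.node (.leaf (0, 937)) (.leaf (43, 1033))) (.node (.leaf (7, 2680)) (.leaf (12, 1810))))))) (.node (.node (.node (.node (.node (.leaf (77, 297)) (.leaf (0, 2153))) (.node (.leaf (0, 1129)) (.leaf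 (77, 3189)))) (.node (.node (.leaf (4, 617)) (.leaf (0, 0))) (.node (.leaf (0, 1641)) (.leaf (34, 3689))))) (.node (.node (.node (.leaf (0, 600)) (.leaf (0, 0))) (.node (.leaf (0, 0)) (.leaf (4, 3433)))) (.node (.node (.leaf (0, 1363)) (.leaf (77, 1232))) (.node (.leaf (62, 764)) (.leaf (77, 3869)))))) (.node (.node (.node (.node (.leaf (77, 531)) (.leaf (0, 2995))) (.node (.leaf (5, 1257)) (.leaf (0, 0)))) (.node (.node (.leaf (0, 0)) (.leaf (73, 2916))) (.node (.leaf (75, 1763)) (.leaf (77, 3817))))) (.node (.node (.node (.leaf (0, 0)) (.leaf (72, 1227))) (.node (.leaf (77, 556)) (.leaf (75, 3111)))) (.node (.node (.leaf (0, 1534)) (.leaf (0, 3632))) (.node (.leaf (4, 2025)) (.leaf (77, 1971))))))))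

def twoVia165 : Janko.Tree (ℕ × ℕ) :=
  (.node (.node (.node (.node (.node (.node (.leaf (0, 0)) (.leaf (1, 2806))) (.node (.leaf (16, 0)) (.leaf (0, 0)))) (.node (.node (.leaf (1, 881)) (.leaf (1, 2601))) (.node (.leaf (77, 1031)) (.leaf (1, 3625))))) (.node (.node (.node (.leaf (1, 297)) (.leaf (1, 2345))) (.node (.leaf (1, 1321)) (.leaf (1, 3369)))) (.node (.node (.leaf (1, 809)) (.leaf (50, 2127))) (.node (.leaf (0, 0)) (.leaf (1, 3881)))))) (.node (.node (.node (.node (.leaf (1, 169)) (.leaf (0, 0))) (.node (.leaf (1, 1193)) (.leaf (0, 0)))) (.node (.node (.leaf (1, 681)) (.leaf (71, 1373))) (.node (.leaf (0, 0)) (.leaf (0, 0))))) (.node (.node (.node (.leaf (0, 0)) (.leaf (1, 2473))) (.node (.leaf (0, 0)) (.leaf (1, 3497)))) (.node (.node (.leaf (0, 0)) (.leaf (74, 3154))) (.node (.leaf (1, 2679)) (.leaf (1, 4009))))))) (.node (.node (.node (.node (.node (.leaf (67, 191)) (.leaf (73, 1587))) (.node (.leaf (72, 716)) (.leaf (68, 3177)))) (.node (.node (.leaf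 (0, 0)) (.leaf (1, 2665))) (.node (.leaf (0, 0)) (.leaf (10, 3689))))) (.node (.node (.node (.leaf (0, 0)) (.leaf (1, 2409))) (.node (.leaf (1, 1385)) (.leaf (17, 2779)))) (.node (.node (.leaf (0, 0)) (.leaf (1, 2921))) (.node (.leaf (0, 0)) (.leaf (10, 3945)))))) (.node (.node (.node (.node (.leaf (67, 401)) (.leaf (65, 1764))) (.node (.leaf (0, 0)) (.leaf (1, 3305)))) (.node (.node (.leaf (1, 745)) (.leaf (0, 0))) (.node (.leaf (0, 0)) (.leaf (1, 3817))))) (.node (.node (.node (.leaf (1, 489)) (.leaf (1, 2537))) (.node (.leaf (0, 0)) (.leaf (1, 3561)))) (.node (.node (.leaf (0, 0)) (.leaf (71, 3049))) (.node (.leaf (0, 0)) (.leaf (10, 4073))))))))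

def twoVia166 : Janko.Tree (ℕ × ℕ) :=
  (.node (.node (.node (.node (.node (.node (.leaf (7, 86)) (.leaf (2, 2809))) (.node (.leaf (2, 1614)) (.leaf (2, 3113)))) (.node (.node (.leaf (7, 886)) (.leaf (77, 639))) (.node (.leaf (2, 1577)) (.leaf (77, 3198))))) (.node (.node (.node (.leaf (0, 0)) (.leaf (71, 1653))) (.node (.leaf (6, 2664)) (.leaf (0, 0)))) (.node (.node (.leaf (77, 757)) (.leaf (4, 2129))) (.node (.leaf (6, 1833)) (.leaf (77, 4056)))))) (.node (.node (.node (.node (.leaf (0, 0)) (.leaf (6, 2217))) (.node (.leaf (0, 0)) (.leaf (77, 1822)))) (.node (.node (.leaf (0, 0)) (.leaf (71, 2024))) (.node (.leaf (2, 2391)) (.leaf (2, 3753))))) (.node (.node (.node (.leaf (77, 430)) (.leaf (0, 0))) (.node (.leaf (2, 1449)) (.leaf (70, 3500)))) (.node (.node (.leaf (6, 937)) (.leaf (2, 2985))) (.node (.leaf (7, 2683)) (.leaf (17, 3144))))))) (.node (.node (.node (.node (.node (.leaf (2, 203)) (.leaf (7, 2886))) (.node (.leaf (7, 718)) (.leaf (6, 3177)))) (.node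 (.node (.leaf (2, 617)) (.leaf (71, 2346))) (.node (.leaf (7, 2331)) (.leaf (2, 3998))))) (.node (.node (.node (.leaf (6, 361)) (.leaf (0, 0))) (.node (.leaf (0, 0)) (.leaf (2, 3433)))) (.node (.node (.leaf (2, 873)) (.leaf (2, 3552))) (.node (.leaf (76, 762)) (.leaf (77, 3679)))))) (.node (.node (.node (.node (.leaf (2, 410)) (.leaf (77, 3140))) (.node (.leaf (62, 1788)) (.leaf (68, 2612)))) (.node (.node (.leaf (0, 0)) (.leaf (6, 2793))) (.node (.leaf (6, 1769)) (.leaf (71, 3294))))) (.node (.node (.node (.leaf (2, 788)) (.leaf (72, 1231))) (.node (.leaf (2, 2193)) (.leaf (77, 2259)))) (.node (.node (.leaf (2, 1001)) (.leaf (71, 2356))) (.node (.leaf (6, 2025)) (.leaf (27, 3931))))))))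

def twoVia167 : Janko.Tree (ℕ × ℕ) :=
  (.node (.node (.node (.node (.node (.node (.leaf (3, 41)) (.leaf (3, 2089))) (.node (.leaf (3, 1065)) (.leaf (0, 0)))) (.node (.node (.leaf (3, 553)) (.leaf (77, 3523))) (.node (.leaf (45, 2971)) (.leaf (66, 3202))))) (.node (.node (.node (.leaf (67, 808)) (.leaf (0, 0))) (.node (.leaf (0, 0)) (.leaf (0, 0)))) (.node (.node (.leaf (0, 0)) (.leaf (77, 913))) (.node (.leaf (3, 1833)) (.leaf (20, 3407)))))) (.node (.node (.node (.node (.leaf (0, 0)) (.leaf (3, 2217))) (.node (.leaf (73, 1238)) (.leaf (3, 3241)))) (.node (.node (.leaf (61, 826)) (.leaf (3, 2729))) (.node (.leaf (3, 1705)) (.leaf (68, 3605))))) (.node (.node (.node (.leaf (3, 425)) (.leaf (0, 0))) (.node (.leaf (75, 2162)) (.leaf (0, 0)))) (.node (.node (.leaf (3, 937)) (.leaf (68, 3364))) (.node (.leaf (3, 1961)) (.leaf (77, 3850))))))) (.node (.node (.node (.node (.node (.leaf (3, 105)) (.leaf (3, 2153))) (.node (.leaf (0, 0)) (.leaf (3, 3177)))) (.node (.node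 (.leaf (77, 439)) (.leaf (5, 3349))) (.node (.leaf (3, 1641)) (.leaf (3, 3689))))) (.node (.node (.node (.leaf (3, 361)) (.leaf (0, 0))) (.node (.leaf (0, 0)) (.leaf (0, 0)))) (.node (.node (.leaf (0, 0)) (.leaf (0, 0))) (.node (.leaf (3, 1897)) (.leaf (3, 3945)))))) (.node (.node (.node (.node (.leaf (3, 233)) (.leaf (3, 2281))) (.node (.leaf (3, 1257)) (.leaf (0, 0)))) (.node (.node (.leaf (0, 0)) (.leaf (3, 2793))) (.node (.leaf (3, 1769)) (.leaf (61, 1459))))) (.node (.node (.node (.leaf (0, 0)) (.leaf (0, 0))) (.node (.leaf (3, 1513)) (.leaf (77, 2472)))) (.node (.node (.leaf (0, 0)) (.leaf (3, 3049))) (.node (.leaf (3, 2025)) (.leaf (3, 4073))))))))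

def twoVia168 : Janko.Tree (ℕ × ℕ) :=
  (.node (.node (.node (.node (.node (.node (.leaf (0, 0)) (.leaf (4, 3466))) (.node (.leaf (0, 0)) (.leaf (0, 3679)))) (.node (.node (.leaf (0, 0)) (.leaf (5, 2602))) (.node (.leaf (77, 2516)) (.leaf (77, 3635))))) (.node (.node (.node (.leaf (0, 298)) (.leaf (7, 1652))) (.node (.leaf (0, 1322)) (.leaf (77, 3531)))) (.node (.node (.leaf (5, 810)) (.leaf (77, 2755))) (.node (.leaf (4, 3228)) (.leaf (77, 3965)))))) (.node (.node (.node (.node (.leaf (0, 170)) (.leaf (4, 2218))) (.node (.leaf (55, 506)) (.leaf (58, 2767)))) (.node (.node (.leaf (0, 682)) (.leaf (0, 0))) (.node (.leaf (59, 1707)) (.leaf (77, 2504))))) (.node (.node (.node (.leaf (0, 0)) (.leaf (66, 2474))) (.node (.leaf (5, 2834)) (.leaf (77, 2134)))) (.node (.node (.leaf (75, 962)) (.leaf (61, 1544))) (.node (.leaf (0, 0)) (.leaf (74, 1760))))))) (.node (.node (.node (.node (.node (.leaf (72, 23)) (.leaf (0, 0))) (.node (.leaf (0, 1703)) (.leaf (62, 2113)))) (.node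 (.node (.leaf (0, 618)) (.leaf (0, 2666))) (.node (.leaf (0, 0)) (.leaf (4, 3690))))) (.node (.node (.node (.leaf (0, 0)) (.leaf (0, 2410))) (.node (.leaf (0, 1386)) (.leaf (0, 3434)))) (.node (.node (.leaf (7, 1363)) (.leaf (75, 1170))) (.node (.leaf (77, 2138)) (.leaf (77, 2720)))))) (.node (.node (.node (.node (.leaf (0, 234)) (.leaf (72, 1916))) (.node (.leaf (59, 1256)) (.leaf (0, 3306)))) (.node (.node (.leaf (0, 746)) (.leaf (0, 0))) (.node (.leaf (60, 1770)) (.leaf (0, 0))))) (.node (.node (.node (.leaf (7, 285)) (.leaf (5, 2538))) (.node (.leaf (77, 629)) (.leaf (77, 3411)))) (.node (.node (.leaf (7, 1534)) (.leaf (77, 1673))) (.node (.leaf (73, 2026)) (.leaf (61, 2128))))))))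

def twoVia169 : Janko.Tree (ℕ × ℕ) :=
  (.node (.node (.node (.node (.node (.node (.leaf (1, 42)) (.leaf (1, 2090))) (.node (.leaf (1, 1066)) (.leaf (67, 2428)))) (.node (.node (.leaf (1, 554)) (.leaf (0, 0))) (.node (.leaf (1, 1578)) (.leaf (1, 3626))))) (.node (.node (.node (.leaf (0, 0)) (.leaf (77, 1711))) (.node (.leaf (0, 0)) (.leaf (77, 2899)))) (.node (.node (.leaf (0, 0)) (.leaf (69, 2858))) (.node (.leaf (1, 1834)) (.leaf (1, 4056)))))) (.node (.node (.node (.node (.leaf (0, 0)) (.leaf (71, 3666))) (.node (.leaf (0, 0)) (.leaf (1, 3242)))) (.node (.node (.leaf (0, 0)) (.leaf (1, 2730))) (.node (.leaf (1, 1706)) (.leaf (1, 3754))))) (.node (.node (.node (.leaf (1, 426)) (.leaf (0, 0))) (.node (.leaf (1, 1450)) (.leaf (69, 2859)))) (.node (.node (.leaf (1, 938)) (.leaf (1, 2986))) (.node (.leaf (1, 1962)) (.leaf (1, 4010))))))) (.node (.node (.node (.node (.node (.leaf (1, 106)) (.leaf (1, 2154))) (.node (.leaf (71, 1133)) (.leaf (0, 0)))) (.node (.node (.leaf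 (0, 0)) (.leaf (0, 0))) (.node (.leaf (1, 1642)) (.leaf (77, 2445))))) (.node (.node (.node (.leaf (1, 362)) (.leaf (0, 0))) (.node (.leaf (0, 0)) (.leaf (0, 0)))) (.node (.node (.leaf (1, 1361)) (.leaf (0, 0))) (.node (.leaf (1, 1898)) (.leaf (28, 3946)))))) (.node (.node (.node (.node (.leaf (0, 0)) (.leaf (1, 2282))) (.node (.leaf (0, 0)) (.leaf (0, 0)))) (.node (.node (.leaf (0, 0)) (.leaf (1, 2794))) (.node (.leaf (1, 1770)) (.leaf (1, 3818))))) (.node (.node (.node (.leaf (77, 1846)) (.leaf (0, 0))) (.node (.leaf (1, 1514)) (.leaf (1, 3562)))) (.node (.node (.leaf (1, 1533)) (.leaf (77, 3776))) (.node (.leaf (1, 2026)) (.leaf (77, 3973))))))))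

def twoVia170 : Janko.Tree (ℕ × ℕ) :=
  (.node (.node (.node (.node (.node (.node (.leaf (0, 0)) (.leaf (0, 0))) (.node (.leaf (71, 1048)) (.leaf (2, 3681)))) (.node (.node (.leaf (6, 1380)) (.leaf (2, 3295))) (.node (.leaf (26, 1031)) (.leaf (77, 4055))))) (.node (.node (.node (.leaf (24, 496)) (.leaf (2, 2346))) (.node (.leaf (77, 1308)) (.leaf (2, 3370)))) (.node (.node (.leaf (62, 506)) (.leaf (2, 2858))) (.node (.leaf (0, 0)) (.leaf (77, 2971)))))) (.node (.node (.node (.node (.leaf (0, 0)) (.leaf (2, 2218))) (.node (.leaf (77, 1199)) (.leaf (77, 339)))) (.node (.node (.leaf (77, 665)) (.leaf (77, 3835))) (.node (.leaf (77, 3288)) (.leaf (71, 3209))))) (.node (.node (.node (.leaf (0, 0)) (.leaf (2, 2474))) (.node (.leaf (0, 0)) (.leaf (6, 3498)))) (.node (.node (.leaf (0, 0)) (.leaf (59, 2135))) (.node (.leaf (6, 3362)) (.leaf (46, 3216))))))) (.node (.node (.node (.node (.node (.leaf (0, 0)) (.leaf (74, 2052))) (.node (.leaf (7, 1703)) (.leaf (6, 3178)))) (.node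 (.node (.leaf (77, 32)) (.leaf (77, 1306))) (.node (.leaf (7, 2333)) (.leaf (2, 3690))))) (.node (.node (.node (.leaf (77, 559)) (.leaf (77, 2409))) (.node (.leaf (0, 0)) (.leaf (7, 3896)))) (.node (.node (.leaf (7, 1366)) (.leaf (2, 2922))) (.node (.leaf (0, 0)) (.leaf (6, 3946)))))) (.node (.node (.node (.node (.leaf (0, 0)) (.leaf (72, 3332))) (.node (.leaf (6, 1258)) (.leaf (6, 3306)))) (.node (.node (.leaf (0, 0)) (.leaf (0, 0))) (.node (.leaf (0, 0)) (.leaf (77, 1225))))) (.node (.node (.node (.leaf (2, 490)) (.leaf (2, 2538))) (.node (.leaf (0, 0)) (.leaf (0, 0)))) (.node (.node (.leaf (7, 1537)) (.leaf (2, 3050))) (.node (.leaf (0, 0)) (.leaf (6, 4074))))))))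

def twoVia171 : Janko.Tree (ℕ × ℕ) :=
  (.node (.node (.node (.node (.node (.node (.leaf (0, 0)) (.leaf (0, 0))) (.node (.leaf (77, 2450)) (.leaf (3, 3114)))) (.node (.node (.leaf (0, 0)) (.leaf (3, 2602))) (.node (.leaf (75, 3429)) (.leaf (3, 3626))))) (.node (.node (.node (.leaf (0, 0)) (.leaf (3, 2346))) (.node (.leaf (0, 0)) (.leaf (3, 3370)))) (.node (.node (.leaf (3, 810)) (.leaf (3, 2858))) (.node (.leaf (75, 2764)) (.leaf (3, 3882)))))) (.node (.node (.node (.node (.leaf (0, 0)) (.leaf (0, 0))) (.node (.leaf (3, 1194)) (.leaf (13, 2769)))) (.node (.node (.leaf (0, 0)) (.leaf (77, 4034))) (.node (.leaf (73, 2500)) (.leaf (71, 2455))))) (.node (.node (.node (.leaf (0, 0)) (.leaf (0, 0))) (.node (.leaf (0, 0)) (.leaf (3, 3498)))) (.node (.node (.leaf (67, 2107)) (.leaf (3, 3508))) (.node (.leaf (0, 0)) (.leaf (75, 2515))))))) (.node (.node (.node (.node (.node (.leaf (0, 0)) (.leaf (0, 0))) (.node (.leaf (3, 1130)) (.leaf (3, 3178)))) (.node (.node (.leaf (3,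 618)) (.leaf (3, 2666))) (.node (.leaf (0, 0)) (.leaf (7, 3683))))) (.node (.node (.node (.leaf (77, 2842)) (.leaf (77, 2042))) (.node (.leaf (59, 1378)) (.leaf (3, 3434)))) (.node (.node (.leaf (3, 874)) (.leaf (71, 2989))) (.node (.leaf (0, 0)) (.leaf (3, 3946)))))) (.node (.node (.node (.node (.leaf (0, 0)) (.leaf (77, 1294))) (.node (.leaf (3, 1258)) (.leaf (3, 3306)))) (.node (.node (.leaf (75, 662)) (.leaf (0, 0))) (.node (.leaf (57, 460)) (.leaf (61, 2600))))) (.node (.node (.node (.leaf (3, 490)) (.leaf (3, 2538))) (.node (.leaf (0, 0)) (.leaf (0, 0)))) (.node (.node (.leaf (3, 1002)) (.leaf (3, 3050))) (.node (.leaf (59, 334)) (.leaf (3, 4074))))))))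

def twoVia172 : Janko.Tree (ℕ × ℕ) :=
  (.node (.node (.node (.node (.node (.node (.leaf (0, 43)) (.leaf (62, 1888))) (.node (.leaf (72, 1085)) (.leaf (4, 3115)))) (.node (.node (.leaf (17, 555)) (.leaf (0, 0))) (.node (.leaf (43, 2254)) (.leaf (77, 2342))))) (.node (.node (.node (.leaf (0, 507)) (.leaf (0, 2347))) (.node (.leaf (76, 1306)) (.leaf (77, 3371)))) (.node (.node (.leaf (59, 809)) (.leaf (77, 2744))) (.node (.leaf (73, 3298)) (.leaf (77, 3839)))))) (.node (.node (.node (.node (.leaf (0, 313)) (.leaf (0, 2219))) (.node (.leaf (0, 0)) (.leaf (0, 3243)))) (.node (.node (.leaf (62, 1609)) (.leaf (77, 1388))) (.node (.leaf (0, 1707)) (.leaf (72, 2883))))) (.node (.node (.node (.leaf (77, 1082)) (.leaf (75, 1454))) (.node (.leaf (5, 1451)) (.leaf (77, 3405)))) (.node (.node (.leaf (0, 939)) (.leaf (40, 2987))) (.node (.leaf (0, 1963)) (.leaf (77, 1789))))))) (.node (.node (.node (.node (.node (.leaf (4, 107)) (.leaf (7, 1476))) (.node (.leaf (76, 1131)) (.leaf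 (5, 3179)))) (.node (.node (.leaf (0, 0)) (.leaf (77, 1313))) (.node (.leaf (7, 1081)) (.leaf (0, 3997))))) (.node (.node (.node (.leaf (77, 363)) (.leaf (77, 3659))) (.node (.leaf (0, 2039)) (.leaf (0, 0)))) (.node (.node (.leaf (0, 0)) (.leaf (42, 1557))) (.node (.leaf (0, 1899)) (.leaf (76, 3083)))))) (.node (.node (.node (.node (.leaf (0, 412)) (.leaf (62, 2283))) (.node (.leaf (0, 0)) (.leaf (73, 3307)))) (.node (.node (.leaf (0, 1179)) (.leaf (0, 2795))) (.node (.leaf (0, 1771)) (.leaf (73, 2603))))) (.node (.node (.node (.leaf (5, 1192)) (.leaf (0, 0))) (.node (.leaf (75, 1485)) (.leaf (77, 4031)))) (.node (.node (.leaf (0, 0)) (.leaf (5, 3051))) (.node (.leaf (0, 0)) (.leaf (4, 4075))))))))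

def twoVia173 : Janko.Tree (ℕ × ℕ) :=
  (.node (.node (.node (.node (.node (.node (.leaf (0, 0)) (.leaf (0, 0))) (.node (.leaf (1, 1067)) (.leaf (50, 3670)))) (.node (.node (.leaf (0, 0)) (.leaf (1, 2603))) (.node (.leaf (0, 0)) (.leaf (1, 3627))))) (.node (.node (.node (.leaf (0, 0)) (.leaf (77, 3610))) (.node (.leaf (24, 838)) (.leaf (1, 3865)))) (.node (.node (.leaf (0, 0)) (.leaf (1, 2859))) (.node (.leaf (0, 0)) (.leaf (1, 3883)))))) (.node (.node (.node (.node (.leaf (0, 0)) (.leaf (0, 0))) (.node (.leaf (1, 1195)) (.leaf (0, 0)))) (.node (.node (.leaf (1, 1073)) (.leaf (0, 0))) (.node (.leaf (0, 0)) (.leaf (1, 3755))))) (.node (.node (.node (.leaf (0, 0)) (.leaf (1, 3175))) (.node (.leaf (0, 0)) (.leaf (69, 3499)))) (.node (.node (.leaf (0, 0)) (.leaf (1, 2987))) (.node (.leaf (1, 2553)) (.leaf (1, 4011))))))) (.node (.node (.node (.node (.node (.leaf (0, 0)) (.leaf (74, 3010))) (.node (.leaf (1, 1131)) (.leaf (0, 0)))) (.node (.node (.leaf (1, 619)) (.leaf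 (1, 2667))) (.node (.leaf (67, 1084)) (.leaf (71, 2698))))) (.node (.node (.node (.leaf (1, 363)) (.leaf (0, 0))) (.node (.leaf (0, 0)) (.leaf (1, 3435)))) (.node (.node (.leaf (1, 875)) (.leaf (1, 2923))) (.node (.leaf (0, 0)) (.leaf (1, 3947)))))) (.node (.node (.node (.node (.leaf (0, 0)) (.leaf (0, 0))) (.node (.leaf (1, 1259)) (.leaf (1, 3307)))) (.node (.node (.leaf (0, 0)) (.leaf (74, 2077))) (.node (.leaf (0, 0)) (.leaf (1, 3819))))) (.node (.node (.node (.leaf (0, 0)) (.leaf (1, 2539))) (.node (.leaf (0, 0)) (.leaf (77, 3889)))) (.node (.node (.leaf (1, 1003)) (.leaf (77, 3967))) (.node (.leaf (1, 2027)) (.leaf (48, 3933))))))))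

def twoVia174 : Janko.Tree (ℕ × ℕ) :=
  (.node (.node (.node (.node (.node (.node (.leaf (0, 0)) (.leaf (77, 883))) (.node (.leaf (72, 2314)) (.leaf (2, 3115)))) (.node (.node (.leaf (2, 555)) (.leaf (71, 1886))) (.node (.leaf (6, 1579)) (.leaf (77, 2598))))) (.node (.node (.node (.leaf (6, 299)) (.leaf (6, 2347))) (.node (.leaf (2, 1323)) (.leaf (67, 2757)))) (.node (.node (.leaf (6, 811)) (.leaf (71, 3497))) (.node (.leaf (77, 1837)) (.leaf (77, 2936)))))) (.node (.node (.node (.node (.leaf (2, 171)) (.leaf (7, 2946))) (.node (.leaf (0, 0)) (.leaf (77, 2283)))) (.node (.node (.leaf (2, 683)) (.leaf (2, 2731))) (.node (.leaf (76, 254)) (.leaf (53, 3650))))) (.node (.node (.node (.leaf (2, 427)) (.leaf (2, 3177))) (.node (.leaf (74, 2784)) (.leaf (24, 628)))) (.node (.node (.leaf (24, 1441)) (.leaf (67, 3595))) (.node (.leaf (59, 1304)) (.leaf (77, 3138))))))) (.node (.node (.node (.node (.node (.leaf (2, 107)) (.leaf (2, 2155))) (.node (.leaf (0, 0)) (.leaf (66,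 2426)))) (.node (.node (.leaf (23, 1516)) (.leaf (77, 196))) (.node (.leaf (2, 1643)) (.leaf (6, 3691))))) (.node (.node (.node (.leaf (77, 152)) (.leaf (2, 2411))) (.node (.leaf (2, 1387)) (.leaf (4, 3898)))) (.node (.node (.leaf (6, 2015)) (.leaf (0, 0))) (.node (.leaf (77, 3451)) (.leaf (77, 4085)))))) (.node (.node (.node (.node (.leaf (2, 235)) (.leaf (2, 2646))) (.node (.leaf (0, 0)) (.leaf (77, 4094)))) (.node (.node (.leaf (2, 747)) (.leaf (0, 0))) (.node (.leaf (77, 755)) (.leaf (77, 2602))))) (.node (.node (.node (.leaf (2, 491)) (.leaf (74, 1427))) (.node (.leaf (2, 1515)) (.leaf (2, 3563)))) (.node (.node (.leaf (6, 2225)) (.leaf (7, 2351))) (.node (.leaf (0, 0)) (.leaf (2, 4075))))))))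

def twoVia175 : Janko.Tree (ℕ × ℕ) :=
  (.node (.node (.node (.node (.node (.node (.leaf (0, 0)) (.leaf (3, 2091))) (.node (.leaf (0, 0)) (.leaf (0, 0)))) (.node (.node (.leaf (0, 0)) (.leaf (60, 2602))) (.node (.leaf (3, 1579)) (.leaf (70, 1641))))) (.node (.node (.node (.leaf (3, 299)) (.leaf (3, 2347))) (.node (.leaf (0, 0)) (.leaf (3, 3371)))) (.node (.node (.leaf (3, 811)) (.leaf (67, 1502))) (.node (.leaf (3, 1835)) (.leaf (77, 4045)))))) (.node (.node (.node (.node (.leaf (0, 0)) (.leaf (3, 2219))) (.node (.leaf (0, 0)) (.leaf (76, 1194)))) (.node (.node (.leaf (0, 0)) (.leaf (6, 2370))) (.node (.leaf (59, 2499)) (.leaf (77, 3087))))) (.node (.node (.node (.leaf (77, 523)) (.leaf (3, 2475))) (.node (.leaf (3, 1451)) (.leaf (3, 3499)))) (.node (.node (.leaf (0, 0)) (.leaf (71, 2272))) (.node (.leaf (3, 1963)) (.leaf (77, 2717))))))) (.node (.node (.node (.node (.node (.leaf (0, 0)) (.leaf (3, 2155))) (.node (.leaf (0, 0)) (.leaf (3, 3179)))) (.node (.node (.leaf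 (65, 396)) (.leaf (75, 931))) (.node (.leaf (3, 1643)) (.leaf (3, 3691))))) (.node (.node (.node (.leaf (0, 0)) (.leaf (77, 733))) (.node (.leaf (0, 0)) (.leaf (0, 0)))) (.node (.node (.leaf (0, 0)) (.leaf (73, 1581))) (.node (.leaf (59, 1891)) (.leaf (71, 4047)))))) (.node (.node (.node (.node (.leaf (70, 372)) (.leaf (3, 2283))) (.node (.leaf (0, 0)) (.leaf (56, 2087)))) (.node (.node (.leaf (77, 1183)) (.leaf (59, 2789))) (.node (.leaf (0, 0)) (.leaf (57, 2603))))) (.node (.node (.node (.leaf (0, 0)) (.leaf (3, 3186))) (.node (.leaf (77, 2166)) (.leaf (26, 2988)))) (.node (.node (.leaf (0, 0)) (.leaf (3, 3051))) (.node (.leaf (0, 0)) (.leaf (76, 2969))))))))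

def twoVia176 : Janko.Tree (ℕ × ℕ) :=
  (.node (.node (.node (.node (.node (.node (.leaf (0, 92)) (.leaf (4, 2092))) (.node (.leaf (4, 1068)) (.leaf (0, 3116)))) (.node (.node (.leaf (0, 876)) (.leaf (39, 2604))) (.node (.leaf (4, 1580)) (.leaf (77, 3317))))) (.node (.node (.node (.leaf (0, 0)) (.leaf (59, 2348))) (.node (.leaf (0, 1956)) (.leaf (66, 3851)))) (.node (.node (.leaf (0, 0)) (.leaf (0, 2860))) (.node (.leaf (77, 1836)) (.leaf (0, 3884)))))) (.node (.node (.node (.node (.leaf (7, 313)) (.leaf (0, 0))) (.node (.leaf (75, 479)) (.leaf (75, 782)))) (.node (.node (.leaf (0, 1078)) (.leaf (5, 2732))) (.node (.leaf (0, 0)) (.leaf (58, 1803))))) (.node (.node (.node (.leaf (59, 129)) (.leaf (77, 1185))) (.node (.leaf (59, 223)) (.leaf (77, 3500)))) (.node (.node (.leaf (0, 1451)) (.leaf (77, 2689))) (.node (.leaf (62, 3217)) (.leaf (61, 3487))))))) (.node (.node (.node (.node (.node (.leaf (0, 108)) (.leaf (76, 926))) (.node (.leaf (5, 1132)) (.leaf (77, 3331))))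 (.node (.node (.leaf (12, 2911)) (.leaf (0, 2668))) (.node (.leaf (0, 1644)) (.leaf (0, 0))))) (.node (.node (.node (.leaf (77, 3472)) (.leaf (74, 2408))) (.node (.leaf (20, 1388)) (.leaf (7, 2778)))) (.node (.node (.leaf (5, 876)) (.leaf (23, 2179))) (.node (.leaf (77, 2323)) (.leaf (77, 2492)))))) (.node (.node (.node (.node (.leaf (7, 412)) (.leaf (0, 0))) (.node (.leaf (0, 1260)) (.leaf (73, 1895)))) (.node (.node (.leaf (60, 1193)) (.leaf (0, 3455))) (.node (.leaf (77, 3145)) (.leaf (77, 3899))))) (.node (.node (.node (.leaf (7, 757)) (.leaf (17, 2540))) (.node (.leaf (72, 622)) (.leaf (73, 3551)))) (.node (.node (.leaf (77, 871)) (.leaf (77, 2592))) (.node (.leaf (57, 2736)) (.leaf (0, 4090))))))))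

def twoVia177 : Janko.Tree (ℕ × ℕ) :=
  (.node (.node (.node (.node (.node (.node (.leaf (0, 0)) (.leaf (0, 0))) (.node (.leaf (0, 0)) (.leaf (0, 0)))) (.node (.node (.leaf (0, 0)) (.leaf (77, 810))) (.node (.leaf (0, 0)) (.leaf (1, 3628))))) (.node (.node (.node (.leaf (1, 300)) (.leaf (1, 2348))) (.node (.leaf (0, 0)) (.leaf (1, 3372)))) (.node (.node (.leaf (1, 812)) (.leaf (60, 2131))) (.node (.leaf (1, 1836)) (.leaf (0, 0)))))) (.node (.node (.node (.node (.leaf (1, 172)) (.leaf (1, 2220))) (.node (.leaf (0, 0)) (.leaf (1, 3244)))) (.node (.node (.leaf (0, 0)) (.leaf (0, 0))) (.node (.leaf (1, 1708)) (.leaf (77, 3432))))) (.node (.node (.node (.leaf (1, 428)) (.leaf (1, 2476))) (.node (.leaf (0, 0)) (.leaf (1, 3500)))) (.node (.node (.leaf (71, 940)) (.leaf (0, 0))) (.node (.leaf (1, 1964)) (.leaf (28, 4012))))))) (.node (.node (.node (.node (.node (.leaf (0, 0)) (.leaf (0, 0))) (.node (.leaf (0, 0)) (.leaf (1, 3180)))) (.node (.node (.leaf (0, 0)) (.leaf (0,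 0))) (.node (.leaf (77, 2224)) (.leaf (1, 3692))))) (.node (.node (.node (.leaf (0, 0)) (.leaf (1, 2412))) (.node (.leaf (1, 1388)) (.leaf (77, 3051)))) (.node (.node (.leaf (0, 0)) (.leaf (54, 3545))) (.node (.leaf (0, 0)) (.leaf (1, 3948)))))) (.node (.node (.node (.node (.leaf (67, 372)) (.leaf (1, 2284))) (.node (.leaf (0, 0)) (.leaf (1, 3308)))) (.node (.node (.leaf (1, 1177)) (.leaf (77, 3455))) (.node (.leaf (1, 2459)) (.leaf (0, 0))))) (.node (.node (.node (.leaf (0, 0)) (.leaf (0, 0))) (.node (.leaf (1, 1516)) (.leaf (1, 3955)))) (.node (.node (.leaf (0, 0)) (.leaf (1, 3052))) (.node (.leaf (0, 0)) (.leaf (1, 4076))))))))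

def twoVia178 : Janko.Tree (ℕ × ℕ) :=
  (.node (.node (.node (.node (.node (.node (.leaf (2, 44)) (.leaf (2, 2092))) (.node (.leaf (6, 1068)) (.leaf (7, 3682)))) (.node (.node (.leaf (2, 890)) (.leaf (2, 2604))) (.node (.leaf (2, 1580)) (.leaf (70, 3647))))) (.node (.node (.node (.leaf (77, 813)) (.leaf (0, 0))) (.node (.leaf (2, 1957)) (.leaf (52, 3366)))) (.node (.node (.leaf (0, 0)) (.leaf (75, 2553))) (.node (.leaf (76, 1228)) (.leaf (74, 2887)))))) (.node (.node (.node (.node (.leaf (7, 316)) (.leaf (70, 2227))) (.node (.leaf (2, 1196)) (.leaf (40, 1227)))) (.node (.node (.leaf (2, 1079)) (.leaf (7, 2017))) (.node (.leaf (0, 0)) (.leaf (77, 3884))))) (.node (.node (.node (.leaf (76, 129)) (.leaf (6, 3734))) (.node (.leaf (77, 218)) (.leaf (70, 2184)))) (.node (.node (.leaf (77, 3441)) (.leaf (2, 2988))) (.node (.leaf (77, 399)) (.leaf (26, 3160))))))) (.node (.node (.node (.node (.node (.leaf (7, 207)) (.leaf (2, 2156))) (.node (.leaf (2, 1703)) (.leaf (70, 3186))))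 (.node (.node (.leaf (2, 620)) (.leaf (77, 425))) (.node (.leaf (24, 2333)) (.leaf (0, 0))))) (.node (.node (.node (.leaf (6, 364)) (.leaf (30, 3657))) (.node (.leaf (2, 2041)) (.leaf (2, 3436)))) (.node (.node (.leaf (59, 242)) (.leaf (71, 2367))) (.node (.leaf (2, 1900)) (.leaf (70, 3949)))))) (.node (.node (.node (.node (.leaf (76, 70)) (.leaf (0, 0))) (.node (.leaf (0, 0)) (.leaf (77, 2196)))) (.node (.node (.leaf (77, 3155)) (.leaf (2, 2796))) (.node (.leaf (2, 1772)) (.leaf (2, 3820))))) (.node (.node (.node (.leaf (2, 797)) (.leaf (2, 2540))) (.node (.leaf (76, 983)) (.leaf (65, 377)))) (.node (.node (.leaf (77, 360)) (.leaf (77, 3206))) (.node (.leaf (2, 2028)) (.leaf (62, 3192))))))))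

def twoVia179 : Janko.Tree (ℕ × ℕ) :=
  (.node (.node (.node (.node (.node (.node (.leaf (0, 0)) (.leaf (77, 1287))) (.node (.leaf (3, 1068)) (.leaf (3, 3116)))) (.node (.node (.leaf (3, 556)) (.leaf (77, 2391))) (.node (.leaf (0, 0)) (.leaf (0, 0))))) (.node (.node (.node (.leaf (77, 2562)) (.leaf (59, 2396))) (.node (.leaf (3, 1324)) (.leaf (66, 533)))) (.node (.node (.leaf (0, 0)) (.leaf (59, 2856))) (.node (.leaf (0, 0)) (.leaf (70, 4041)))))) (.node (.node (.node (.node (.leaf (3, 172)) (.leaf (0, 0))) (.node (.leaf (75, 1826)) (.leaf (77, 3692)))) (.node (.node (.leaf (3, 684)) (.leaf (3, 2732))) (.node (.leaf (0, 0)) (.leaf (3, 3756))))) (.node (.node (.node (.leaf (0, 0)) (.leaf (0, 0))) (.node (.leaf (3, 1452)) (.leaf (3, 3500)))) (.node (.node (.leaf (3, 940)) (.leaf (44, 2251))) (.node (.leaf (67, 1045)) (.leaf (3, 4012))))))) (.node (.node (.node (.node (.node (.leaf (3, 108)) (.leaf (77, 606))) (.node (.leaf (3, 1132)) (.leaf (0, 0)))) (.node (.node (.leaf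 (0, 0)) (.leaf (5, 2361))) (.node (.leaf (0, 0)) (.leaf (0, 0))))) (.node (.node (.node (.leaf (3, 364)) (.leaf (0, 0))) (.node (.leaf (3, 1388)) (.leaf (3, 3436)))) (.node (.node (.leaf (3, 876)) (.leaf (3, 2924))) (.node (.leaf (0, 0)) (.leaf (70, 2187)))))) (.node (.node (.node (.node (.leaf (3, 236)) (.leaf (0, 0))) (.node (.leaf (0, 0)) (.leaf (57, 1896)))) (.node (.node (.leaf (3, 748)) (.leaf (0, 0))) (.node (.leaf (0, 0)) (.leaf (0, 0))))) (.node (.node (.node (.leaf (3, 492)) (.leaf (77, 3534))) (.node (.leaf (0, 0)) (.leaf (3, 3564)))) (.node (.node (.leaf (3, 1004)) (.leaf (77, 1118))) (.node (.leaf (54, 3403)) (.leaf (77, 2490))))))))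

def twoVia180 : Janko.Tree (ℕ × ℕ) :=
  (.node (.node (.node (.node (.node (.node (.leaf (7, 92)) (.leaf (0, 0))) (.node (.leaf (56, 1069)) (.leaf (0, 0)))) (.node (.node (.leaf (0, 0)) (.leaf (20, 2605))) (.node (.leaf (73, 1584)) (.leaf (77, 3629))))) (.node (.node (.node (.leaf (77, 301)) (.leaf (0, 2349))) (.node (.leaf (0, 0)) (.leaf (0, 3373)))) (.node (.node (.leaf (0, 813)) (.leaf (75, 2661))) (.node (.leaf (0, 1837)) (.leaf (77, 3885)))))) (.node (.node (.node (.node (.leaf (72, 42)) (.leaf (7, 1531))) (.node (.leaf (59, 1197)) (.leaf (76, 3245)))) (.node (.node (.leaf (0, 0)) (.leaf (61, 635))) (.node (.leaf (0, 1709)) (.leaf (0, 0))))) (.node (.node (.node (.leaf (5, 429)) (.leaf (0, 2477))) (.node (.leaf (75, 2479)) (.leaf (23, 3501)))) (.node (.node (.leaf (77, 941)) (.leaf (77, 3704))) (.node (.leaf (77, 1965)) (.leaf (7, 4013))))))) (.node (.node (.node (.node (.node (.leaf (7, 51)) (.leaf (5, 2157))) (.node (.leaf (0, 0)) (.leaf (77, 3613)))) (.node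 (.node (.leaf (73, 1444)) (.leaf (75, 520))) (.node (.leaf (0, 2335)) (.leaf (0, 3693))))) (.node (.node (.node (.leaf (0, 0)) (.leaf (0, 2413))) (.node (.leaf (73, 557)) (.leaf (0, 3437)))) (.node (.node (.leaf (73, 2022)) (.leaf (62, 1484))) (.node (.leaf (20, 1901)) (.leaf (77, 3916)))))) (.node (.node (.node (.node (.leaf (23, 1072)) (.leaf (74, 2285))) (.node (.leaf (0, 1877)) (.leaf (22, 2495)))) (.node (.node (.leaf (0, 749)) (.leaf (20, 2797))) (.node (.leaf (0, 2464)) (.leaf (77, 3959))))) (.node (.node (.node (.leaf (77, 470)) (.leaf (5, 2541))) (.node (.leaf (5, 1517)) (.leaf (62, 2181)))) (.node (.node (.leaf (0, 0)) (.leaf (0, 3053))) (.node (.leaf (5, 2029)) (.leaf (73, 3571))))))))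

def twoVia181 : Janko.Tree (ℕ × ℕ) :=
  (.node (.node (.node (.node (.node (.node (.leaf (67, 81)) (.leaf (1, 2093))) (.node (.leaf (1, 1069)) (.leaf (1, 3117)))) (.node (.node (.leaf (1, 557)) (.leaf (0, 0))) (.node (.leaf (0, 0)) (.leaf (0, 0))))) (.node (.node (.node (.leaf (1, 301)) (.leaf (76, 1657))) (.node (.leaf (1, 1325)) (.leaf (77, 3689)))) (.node (.node (.leaf (0, 0)) (.leaf (77, 2236))) (.node (.leaf (0, 0)) (.leaf (9, 3885)))))) (.node (.node (.node (.node (.leaf (1, 173)) (.leaf (71, 2213))) (.node (.leaf (1, 1197)) (.leaf (1, 3245)))) (.node (.node (.leaf (1, 685)) (.leaf (1, 2733))) (.node (.leaf (77, 2829)) (.leaf (1, 3757))))) (.node (.node (.node (.leaf (0, 0)) (.leaf (77, 1781))) (.node (.leaf (1, 1453)) (.leaf (1, 3501)))) (.node (.node (.leaf (1, 941)) (.leaf (1, 2989))) (.node (.leaf (67, 1332)) (.leaf (77, 3731))))))) (.node (.node (.node (.node (.node (.leaf (0, 0)) (.leaf (73, 2884))) (.node (.leaf (1, 1133)) (.leaf (68, 810)))) (.node (.node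 (.leaf (0, 0)) (.leaf (1, 2669))) (.node (.leaf (0, 0)) (.leaf (0, 0))))) (.node (.node (.node (.leaf (1, 365)) (.leaf (0, 0))) (.node (.leaf (1, 1389)) (.leaf (77, 2840)))) (.node (.node (.leaf (1, 877)) (.leaf (1, 2925))) (.node (.leaf (1, 1901)) (.leaf (1, 3949)))))) (.node (.node (.node (.node (.leaf (1, 237)) (.leaf (1, 2285))) (.node (.leaf (0, 0)) (.leaf (0, 0)))) (.node (.node (.leaf (0, 0)) (.leaf (1, 3454))) (.node (.leaf (77, 2419)) (.leaf (67, 3400))))) (.node (.node (.node (.leaf (1, 493)) (.leaf (77, 3170))) (.node (.leaf (62, 1925)) (.leaf (1, 3565)))) (.node (.node (.leaf (1, 1005)) (.leaf (0, 0))) (.node (.leaf (0, 0)) (.leaf (67, 3008))))))))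

def twoVia182 : Janko.Tree (ℕ × ℕ) :=
  (.node (.node (.node (.node (.node (.node (.leaf (7, 95)) (.leaf (0, 0))) (.node (.leaf (0, 0)) (.leaf (4, 3684)))) (.node (.node (.leaf (0, 0)) (.leaf (75, 1645))) (.node (.leaf (2, 2271)) (.leaf (2, 3629))))) (.node (.node (.node (.leaf (62, 96)) (.leaf (7, 1659))) (.node (.leaf (0, 0)) (.leaf (6, 3373)))) (.node (.node (.leaf (0, 0)) (.leaf (2, 2861))) (.node (.leaf (77, 1824)) (.leaf (2, 3885)))))) (.node (.node (.node (.node (.leaf (0, 0)) (.leaf (2, 2221))) (.node (.leaf (76, 298)) (.leaf (0, 0)))) (.node (.node (.leaf (0, 0)) (.leaf (77, 2734))) (.node (.leaf (0, 0)) (.leaf (0, 0))))) (.node (.node (.node (.leaf (59, 257)) (.leaf (76, 2475))) (.node (.leaf (0, 0)) (.leaf (77, 2238)))) (.node (.node (.leaf (77, 955)) (.leaf (69, 3657))) (.node (.leaf (77, 3096)) (.leaf (2, 4013))))))) (.node (.node (.node (.node (.node (.leaf (2, 109)) (.leaf (77, 1010))) (.node (.leaf (61, 1203)) (.leaf (6, 3181)))) (.node (.node (.leaf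 (2, 987)) (.leaf (62, 529))) (.node (.leaf (6, 1645)) (.leaf (77, 2435))))) (.node (.node (.node (.leaf (0, 0)) (.leaf (23, 1156))) (.node (.leaf (0, 0)) (.leaf (24, 3898)))) (.node (.node (.leaf (49, 2098)) (.leaf (77, 1485))) (.node (.leaf (2, 2622)) (.leaf (70, 3553)))))) (.node (.node (.node (.node (.leaf (0, 0)) (.leaf (74, 1920))) (.node (.leaf (2, 1261)) (.leaf (2, 3309)))) (.node (.node (.leaf (0, 0)) (.leaf (2, 3456))) (.node (.leaf (2, 2465)) (.leaf (2, 4054))))) (.node (.node (.node (.leaf (77, 496)) (.leaf (77, 1235))) (.node (.leaf (50, 972)) (.leaf (70, 3546)))) (.node (.node (.leaf (0, 0)) (.leaf (6, 3053))) (.node (.leaf (7, 1382)) (.leaf (6, 4077))))))))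

def twoVia183 : Janko.Tree (ℕ × ℕ) :=
  (.node (.node (.node (.node (.node (.node (.leaf (3, 45)) (.leaf (0, 0))) (.node (.leaf (59, 749)) (.leaf (0, 0)))) (.node (.node (.leaf (0, 0)) (.leaf (3, 2605))) (.node (.leaf (3, 1581)) (.leaf (68, 1071))))) (.node (.node (.node (.leaf (0, 0)) (.leaf (0, 0))) (.node (.leaf (0, 0)) (.leaf (3, 3373)))) (.node (.node (.leaf (0, 0)) (.leaf (0, 0))) (.node (.leaf (77, 2895)) (.leaf (75, 3979)))))) (.node (.node (.node (.node (.leaf (0, 0)) (.leaf (3, 2221))) (.node (.leaf (0, 0)) (.leaf (0, 0)))) (.node (.node (.leaf (0, 0)) (.leaf (73, 2962))) (.node (.leaf (54, 2397)) (.leaf (0, 0))))) (.node (.node (.node (.leaf (3, 429)) (.leaf (0, 0))) (.node (.leaf (0, 0)) (.leaf (3, 3501)))) (.node (.node (.leaf (0, 0)) (.leaf (70, 3139))) (.node (.leaf (3, 1965)) (.leaf (7, 3171))))))) (.node (.node (.node (.node (.node (.leaf (3, 109)) (.leaf (3, 2157))) (.node (.leaf (61, 471)) (.leaf (3, 3181)))) (.node (.node (.leaf (3, 621)) (.leaf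 (0, 0))) (.node (.leaf (3, 1645)) (.leaf (73, 2602))))) (.node (.node (.node (.leaf (0, 0)) (.leaf (75, 263))) (.node (.leaf (67, 2740)) (.leaf (62, 2114)))) (.node (.node (.leaf (77, 1335)) (.leaf (67, 2813))) (.node (.leaf (3, 1901)) (.leaf (3, 3983)))))) (.node (.node (.node (.node (.leaf (0, 0)) (.leaf (0, 0))) (.node (.leaf (0, 0)) (.leaf (6, 3811)))) (.node (.node (.leaf (75, 463)) (.leaf (3, 2797))) (.node (.leaf (3, 1773)) (.leaf (3, 3821))))) (.node (.node (.node (.leaf (0, 0)) (.leaf (3, 2541))) (.node (.leaf (3, 1517)) (.leaf (75, 2580)))) (.node (.node (.leaf (0, 0)) (.leaf (3, 3349))) (.node (.leaf (3, 2029)) (.leaf (3, 4077))))))))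

def twoVia184 : Janko.Tree (ℕ × ℕ) :=
  (.node (.node (.node (.node (.node (.node (.leaf (25, 340)) (.leaf (0, 2094))) (.node (.leaf (75, 407)) (.leaf (7, 2427)))) (.node (.node (.leaf (0, 558)) (.leaf (73, 1270))) (.node (.leaf (5, 2979)) (.leaf (77, 3630))))) (.node (.node (.node (.leaf (59, 1039)) (.leaf (0, 3051))) (.node (.leaf (75, 1295)) (.leaf (59, 3374)))) (.node (.node (.leaf (0, 1271)) (.leaf (20, 2862))) (.node (.leaf (76, 1822)) (.leaf (75, 3653)))))) (.node (.node (.node (.node (.leaf (4, 174)) (.leaf (0, 2222))) (.node (.leaf (5, 1198)) (.leaf (77, 3535)))) (.node (.node (.leaf (77, 694)) (.leaf (0, 2734))) (.node (.leaf (0, 2397)) (.leaf (75, 2509))))) (.node (.node (.node (.leaf (0, 430)) (.leaf (77, 2996))) (.node (.leaf (75, 622)) (.leaf (66, 3502)))) (.node (.node (.leaf (4, 942)) (.leaf (75, 1682))) (.node (.leaf (4, 1966)) (.leaf (77, 4038))))))) (.node (.node (.node (.node (.node (.leaf (0, 0)) (.leaf (74, 2092))) (.node (.leaf (75, 322)) (.leaf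 (0, 3182)))) (.node (.node (.leaf (0, 0)) (.leaf (59, 1972))) (.node (.leaf (74, 1646)) (.leaf (77, 2962))))) (.node (.node (.node (.leaf (76, 968)) (.leaf (0, 0))) (.node (.leaf (4, 1390)) (.leaf (66, 3438)))) (.node (.node (.leaf (75, 425)) (.leaf (77, 3809))) (.node (.leaf (73, 819)) (.leaf (75, 649)))))) (.node (.node (.node (.node (.leaf (4, 238)) (.leaf (5, 2286))) (.node (.leaf (7, 1877)) (.leaf (77, 2214)))) (.node (.node (.leaf (0, 1182)) (.leaf (23, 1748))) (.node (.leaf (0, 0)) (.leaf (0, 3822))))) (.node (.node (.node (.leaf (0, 494)) (.leaf (77, 3729))) (.node (.leaf (75, 1494)) (.leaf (0, 3566)))) (.node (.node (.leaf (12, 2865)) (.leaf (7, 3054))) (.node (.leaf (17, 2030)) (.leaf (35, 3279))))))))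

def twoVia185 : Janko.Tree (ℕ × ℕ) :=
  (.node (.node (.node (.node (.node (.node (.leaf (0, 0)) (.leaf (0, 0))) (.node (.leaf (0, 0)) (.leaf (77, 3682)))) (.node (.node (.leaf (0, 0)) (.leaf (1, 2606))) (.node (.leaf (1, 1582)) (.leaf (10, 3630))))) (.node (.node (.node (.leaf (0, 0)) (.leaf (71, 2352))) (.node (.leaf (0, 0)) (.leaf (1, 3374)))) (.node (.node (.leaf (0, 0)) (.leaf (10, 2862))) (.node (.leaf (24, 1226)) (.leaf (76, 2142)))))) (.node (.node (.node (.node (.leaf (0, 0)) (.leaf (0, 0))) (.node (.leaf (0, 0)) (.leaf (0, 0)))) (.node (.node (.leaf (0, 0)) (.leaf (0, 0))) (.node (.leaf (0, 0)) (.leaf (1, 3758))))) (.node (.node (.node (.leaf (0, 0)) (.leaf (0, 0))) (.node (.leaf (0, 0)) (.leaf (71, 3502)))) (.node (.node (.leaf (0, 0)) (.leaf (1, 2990))) (.node (.leaf (17, 1332)) (.leaf (1, 4014))))))) (.node (.node (.node (.node (.node (.leaf (1, 110)) (.leaf (1, 2158))) (.node (.leaf (0, 0)) (.leaf (0, 0)))) (.node (.node (.leaf (1, 622)) (.leaf (71,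 2670))) (.node (.leaf (1, 1646)) (.leaf (77, 3453))))) (.node (.node (.node (.leaf (0, 0)) (.leaf (1, 2414))) (.node (.leaf (77, 1255)) (.leaf (77, 3747)))) (.node (.node (.leaf (1, 878)) (.leaf (67, 2195))) (.node (.leaf (1, 1902)) (.leaf (1, 3950)))))) (.node (.node (.node (.node (.leaf (0, 0)) (.leaf (77, 2810))) (.node (.leaf (1, 1875)) (.leaf (67, 2618)))) (.node (.node (.leaf (0, 0)) (.leaf (0, 0))) (.node (.leaf (1, 1774)) (.leaf (1, 3822))))) (.node (.node (.node (.leaf (0, 0)) (.leaf (0, 0))) (.node (.leaf (0, 0)) (.leaf (77, 2942)))) (.node (.node (.leaf (1, 1006)) (.leaf (77, 3611))) (.node (.leaf (74, 509)) (.leaf (1, 4078))))))))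

def twoVia186 : Janko.Tree (ℕ × ℕ) :=
  (.node (.node (.node (.node (.node (.node (.leaf (2, 46)) (.leaf (76, 605))) (.node (.leaf (77, 1072)) (.leaf (2, 3118)))) (.node (.node (.leaf (77, 516)) (.leaf (61, 3100))) (.node (.leaf (77, 1174)) (.leaf (71, 3044))))) (.node (.node (.node (.leaf (6, 302)) (.leaf (7, 3051))) (.node (.leaf (2, 1326)) (.leaf (0, 0)))) (.node (.node (.leaf (2, 814)) (.leaf (2, 3505))) (.node (.leaf (2, 1838)) (.leaf (77, 2883)))))) (.node (.node (.node (.node (.leaf (2, 174)) (.leaf (6, 2222))) (.node (.leaf (59, 768)) (.leaf (2, 3246)))) (.node (.node (.leaf (2, 686)) (.leaf (44, 595))) (.node (.leaf (2, 1710)) (.leaf (72, 4080))))) (.node (.node (.node (.leaf (77, 322)) (.leaf (2, 2478))) (.node (.leaf (2, 1454)) (.leaf (71, 3926)))) (.node (.node (.leaf (6, 942)) (.leaf (71, 3661))) (.node (.leaf (2, 1966)) (.leaf (70, 4022))))))) (.node (.node (.node (.node (.node (.leaf (0, 0)) (.leaf (30, 2893))) (.node (.leaf (59, 542)) (.leaf (6, 3182))))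 (.node (.node (.leaf (0, 0)) (.leaf (6, 2670))) (.node (.leaf (74, 674)) (.leaf (2, 3694))))) (.node (.node (.node (.leaf (77, 76)) (.leaf (0, 0))) (.node (.leaf (2, 1390)) (.leaf (6, 3438)))) (.node (.node (.leaf (77, 2822)) (.leaf (77, 3803))) (.node (.leaf (0, 0)) (.leaf (77, 560)))))) (.node (.node (.node (.node (.leaf (2, 238)) (.leaf (59, 1600))) (.node (.leaf (7, 1880)) (.leaf (54, 3274)))) (.node (.node (.leaf (2, 750)) (.leaf (77, 567))) (.node (.leaf (0, 0)) (.leaf (9, 4053))))) (.node (.node (.node (.leaf (6, 494)) (.leaf (77, 1226))) (.node (.leaf (6, 1518)) (.leaf (77, 1465)))) (.node (.node (.leaf (75, 358)) (.leaf (2, 3054))) (.node (.leaf (2, 2030)) (.leaf (47, 3705))))))))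

def twoVia187 : Janko.Tree (ℕ × ℕ) :=
  (.node (.node (.node (.node (.node (.node (.leaf (0, 0)) (.leaf (75, 510))) (.node (.leaf (3, 1070)) (.leaf (3, 3118)))) (.node (.node (.leaf (77, 1867)) (.leaf (3, 2606))) (.node (.leaf (0, 0)) (.leaf (3, 3630))))) (.node (.node (.node (.leaf (3, 302)) (.leaf (3, 2350))) (.node (.leaf (3, 1326)) (.leaf (59, 2037)))) (.node (.node (.leaf (0, 0)) (.leaf (3, 2862))) (.node (.leaf (0, 0)) (.leaf (3, 3886)))))) (.node (.node (.node (.node (.leaf (0, 0)) (.leaf (3, 2222))) (.node (.leaf (3, 1198)) (.leaf (71, 3245)))) (.node (.node (.leaf (77, 1039)) (.leaf (61, 2137))) (.node (.leaf (61, 1104)) (.leaf (0, 0))))) (.node (.node (.node (.leaf (0, 0)) (.leaf (0, 0))) (.node (.leaf (77, 994)) (.leaf (3, 3502)))) (.node (.node (.leaf (3, 942)) (.leaf (71, 3550))) (.node (.leaf (0, 0)) (.leaf (0, 0))))))) (.node (.node (.node (.node (.node (.leaf (0, 0)) (.leaf (0, 0))) (.node (.leaf (3, 1134)) (.leaf (3, 3182)))) (.node (.node (.leaf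 (0, 0)) (.leaf (3, 2670))) (.node (.leaf (0, 0)) (.leaf (77, 3305))))) (.node (.node (.node (.leaf (3, 366)) (.leaf (0, 0))) (.node (.leaf (45, 2736)) (.leaf (3, 3438)))) (.node (.node (.leaf (77, 648)) (.leaf (3, 2926))) (.node (.leaf (67, 3300)) (.leaf (77, 3089)))))) (.node (.node (.node (.node (.leaf (0, 0)) (.leaf (3, 2286))) (.node (.leaf (3, 1262)) (.leaf (3, 3310)))) (.node (.node (.leaf (77, 1180)) (.leaf (3, 2798))) (.node (.leaf (0, 0)) (.leaf (66, 3492))))) (.node (.node (.node (.leaf (3, 494)) (.leaf (3, 2542))) (.node (.leaf (3, 1518)) (.leaf (77, 3793)))) (.node (.node (.leaf (0, 0)) (.leaf (3, 3054))) (.node (.leaf (0, 0)) (.leaf (3, 4078))))))))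

def twoVia188 : Janko.Tree (ℕ × ℕ) :=
  (.node (.node (.node (.node (.node (.node (.leaf (72, 1167)) (.leaf (0, 0))) (.node (.leaf (77, 1071)) (.leaf (0, 3119)))) (.node (.node (.leaf (7, 2025)) (.leaf (76, 3695))) (.node (.leaf (7, 1583)) (.leaf (77, 1105))))) (.node (.node (.node (.leaf (0, 0)) (.leaf (5, 2351))) (.node (.leaf (72, 529)) (.leaf (0, 3375)))) (.node (.node (.leaf (7, 1271)) (.leaf (4, 2863))) (.node (.leaf (77, 3128)) (.leaf (0, 3887)))))) (.node (.node (.node (.node (.leaf (0, 175)) (.leaf (50, 2223))) (.node (.leaf (0, 1199)) (.leaf (77, 4015)))) (.node (.node (.leaf (5, 1637)) (.leaf (0, 2735))) (.node (.leaf (15, 3047)) (.leaf (77, 2922))))) (.node (.node (.node (.leaf (77, 319)) (.leaf (0, 3179))) (.node (.leaf (0, 0)) (.leaf (77, 3503)))) (.node (.node (.leaf (54, 987)) (.leaf (77, 3706))) (.node (.leaf (0, 1967)) (.leaf (77, 4046))))))) (.node (.node (.node (.node (.node (.leaf (0, 111)) (.leaf (0, 2159))) (.node (.leaf (0, 0)) (.leaf (7, 3183))))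 (.node (.node (.leaf (0, 623)) (.leaf (77, 2670))) (.node (.leaf (59, 2314)) (.leaf (73, 4085))))) (.node (.node (.node (.leaf (0, 0)) (.leaf (75, 2409))) (.node (.leaf (77, 1391)) (.leaf (74, 2055)))) (.node (.node (.leaf (0, 879)) (.leaf (77, 2570))) (.node (.leaf (4, 1903)) (.leaf (61, 1863)))))) (.node (.node (.node (.node (.leaf (0, 239)) (.leaf (0, 2287))) (.node (.leaf (0, 0)) (.leaf (52, 3311)))) (.node (.node (.leaf (75, 3148)) (.leaf (0, 0))) (.node (.leaf (75, 773)) (.leaf (5, 3823))))) (.node (.node (.node (.leaf (77, 495)) (.leaf (77, 675))) (.node (.leaf (77, 1517)) (.leaf (73, 4043)))) (.node (.node (.leaf (5, 1007)) (.leaf (5, 3055))) (.node (.leaf (59, 896)) (.leaf (77, 4059))))))))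

def twoVia189 : Janko.Tree (ℕ × ℕ) :=
  (.node (.node (.node (.node (.node (.node (.leaf (0, 0)) (.leaf (1, 2095))) (.node (.leaf (1, 1071)) (.leaf (77, 2430)))) (.node (.node (.leaf (1, 559)) (.leaf (71, 2607))) (.node (.leaf (0, 0)) (.leaf (76, 3062))))) (.node (.node (.node (.leaf (1, 303)) (.leaf (0, 0))) (.node (.leaf (1, 1327)) (.leaf (77, 3021)))) (.node (.node (.leaf (1, 1269)) (.leaf (77, 1474))) (.node (.leaf (0, 0)) (.leaf (1, 3887)))))) (.node (.node (.node (.node (.leaf (0, 0)) (.leaf (1, 2223))) (.node (.leaf (0, 0)) (.leaf (67, 1232)))) (.node (.node (.leaf (1, 687)) (.leaf (77, 4012))) (.node (.leaf (1, 2396)) (.leaf (1, 3759))))) (.node (.node (.node (.leaf (24, 178)) (.leaf (67, 1783))) (.node (.leaf (1, 1455)) (.leaf (1, 3503)))) (.node (.node (.leaf (1, 943)) (.leaf (1, 2991))) (.node (.leaf (0, 0)) (.leaf (1, 4087))))))) (.node (.node (.node (.node (.node (.leaf (0, 0)) (.leaf (0, 0))) (.node (.leaf (1, 1135)) (.leaf (1, 3183)))) (.node (.node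 (.leaf (0, 0)) (.leaf (1, 2671))) (.node (.leaf (0, 0)) (.leaf (1, 4001))))) (.node (.node (.node (.leaf (1, 367)) (.leaf (77, 3361))) (.node (.leaf (1, 1391)) (.leaf (1, 3439)))) (.node (.node (.leaf (0, 0)) (.leaf (1, 2927))) (.node (.leaf (77, 1281)) (.leaf (1, 3951)))))) (.node (.node (.node (.node (.leaf (0, 0)) (.leaf (0, 0))) (.node (.leaf (1, 1263)) (.leaf (1, 3311)))) (.node (.node (.leaf (67, 1153)) (.leaf (1, 2799))) (.node (.leaf (0, 0)) (.leaf (0, 0))))) (.node (.node (.node (.leaf (1, 495)) (.leaf (1, 2543))) (.node (.leaf (1, 1519)) (.leaf (67, 1527)))) (.node (.node (.leaf (0, 0)) (.leaf (68, 2993))) (.node (.leaf (0, 0)) (.leaf (1, 4079))))))))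

def twoVia190 : Janko.Tree (ℕ × ℕ) :=
  (.node (.node (.node (.node (.node (.node (.leaf (2, 97)) (.leaf (0, 0))) (.node (.leaf (6, 2309)) (.leaf (24, 3684)))) (.node (.node (.leaf (0, 0)) (.leaf (38, 3462))) (.node (.leaf (6, 1583)) (.leaf (2, 3631))))) (.node (.node (.node (.leaf (0, 0)) (.leaf (2, 3051))) (.node (.leaf (77, 1304)) (.leaf (54, 3380)))) (.node (.node (.leaf (7, 1274)) (.leaf (2, 2863))) (.node (.leaf (2, 2548)) (.leaf (32, 2887)))))) (.node (.node (.node (.node (.leaf (7, 320)) (.leaf (0, 0))) (.node (.leaf (6, 1254)) (.leaf (71, 3786)))) (.node (.node (.leaf (0, 0)) (.leaf (6, 2735))) (.node (.leaf (61, 858)) (.leaf (75, 2531))))) (.node (.node (.node (.leaf (2, 431)) (.leaf (2, 3181))) (.node (.leaf (0, 0)) (.leaf (0, 0)))) (.node (.node (.leaf (0, 0)) (.leaf (77, 2518))) (.node (.leaf (7, 2686)) (.leaf (2, 4015))))))) (.node (.node (.node (.node (.node (.leaf (0, 0)) (.leaf (6, 2159))) (.node (.leaf (0, 0)) (.leaf (0, 0)))) (.node (.node (.leaf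 (6, 623)) (.leaf (0, 0))) (.node (.leaf (6, 1647)) (.leaf (75, 2806))))) (.node (.node (.node (.leaf (0, 0)) (.leaf (6, 2415))) (.node (.leaf (26, 893)) (.leaf (67, 3890)))) (.node (.node (.leaf (0, 0)) (.leaf (6, 2929))) (.node (.leaf (2, 1903)) (.leaf (77, 4062)))))) (.node (.node (.node (.node (.leaf (7, 418)) (.leaf (6, 3327))) (.node (.leaf (6, 2600)) (.leaf (2, 3311)))) (.node (.node (.leaf (75, 278)) (.leaf (0, 0))) (.node (.leaf (2, 1775)) (.leaf (77, 2606))))) (.node (.node (.node (.leaf (0, 0)) (.leaf (0, 0))) (.node (.leaf (77, 3695)) (.leaf (71, 2949)))) (.node (.node (.leaf (62, 1462)) (.leaf (24, 2361))) (.node (.leaf (2, 2746)) (.leaf (77, 2152))))))))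

def twoVia191 : Janko.Tree (ℕ × ℕ) :=
  (.node (.node (.node (.node (.node (.node (.leaf (3, 47)) (.leaf (0, 0))) (.node (.leaf (0, 0)) (.leaf (71, 2977)))) (.node (.node (.leaf (0, 0)) (.leaf (3, 2607))) (.node (.leaf (3, 1583)) (.leaf (3, 3631))))) (.node (.node (.node (.leaf (0, 0)) (.leaf (3, 2351))) (.node (.leaf (0, 0)) (.leaf (0, 0)))) (.node (.node (.leaf (3, 815)) (.leaf (7, 1461))) (.node (.leaf (3, 1839)) (.leaf (67, 2991)))))) (.node (.node (.node (.node (.leaf (3, 175)) (.leaf (59, 2230))) (.node (.leaf (0, 0)) (.leaf (3, 3247)))) (.node (.node (.leaf (0, 0)) (.leaf (3, 2735))) (.node (.leaf (3, 1711)) (.leaf (0, 0))))) (.node (.node (.node (.leaf (0, 0)) (.leaf (3, 2479))) (.node (.leaf (0, 0)) (.leaf (0, 0)))) (.node (.node (.leaf (73, 988)) (.leaf (77, 1810))) (.node (.leaf (3, 1967)) (.leaf (3, 4015))))))) (.node (.node (.node (.node (.node (.leaf (0, 0)) (.leaf (3, 2159))) (.node (.leaf (0, 0)) (.leaf (59, 3189)))) (.node (.node (.leaf (3, 623))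 (.leaf (0, 0))) (.node (.leaf (3, 1647)) (.leaf (3, 3695))))) (.node (.node (.node (.leaf (0, 0)) (.leaf (3, 2415))) (.node (.leaf (71, 2755)) (.leaf (0, 0)))) (.node (.node (.leaf (0, 0)) (.leaf (0, 0))) (.node (.leaf (45, 3298)) (.leaf (3, 3951)))))) (.node (.node (.node (.node (.leaf (3, 239)) (.leaf (0, 0))) (.node (.leaf (0, 0)) (.leaf (77, 449)))) (.node (.node (.leaf (3, 751)) (.leaf (0, 0))) (.node (.leaf (75, 2517)) (.leaf (3, 3823))))) (.node (.node (.node (.leaf (77, 1772)) (.leaf (0, 0))) (.node (.leaf (0, 0)) (.leaf (3, 3567)))) (.node (.node (.leaf (3, 1007)) (.leaf (3, 3055))) (.node (.leaf (3, 2031)) (.leaf (77, 2406))))))))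

def twoVia192 : Janko.Tree (ℕ × ℕ) :=
  (.node (.node (.node (.node (.node (.node (.leaf (0, 0)) (.leaf (0, 2096))) (.node (.leaf (0, 1072)) (.leaf (77, 3120)))) (.node (.node (.leaf (22, 2405)) (.leaf (4, 2608))) (.node (.leaf (0, 2250)) (.leaf (5, 3632))))) (.node (.node (.node (.leaf (77, 304)) (.leaf (0, 0))) (.node (.leaf (5, 1328)) (.leaf (0, 3867)))) (.node (.node (.leaf (0, 0)) (.leaf (7, 2864))) (.node (.leaf (77, 380)) (.leaf (77, 4081)))))) (.node (.node (.node (.node (.leaf (0, 0)) (.leaf (0, 2224))) (.node (.leaf (77, 493)) (.leaf (77, 982)))) (.node (.node (.leaf (5, 688)) (.leaf (73, 1376))) (.node (.leaf (66, 1712)) (.leaf (0, 3760))))) (.node (.node (.node (.leaf (0, 700)) (.leaf (4, 2480))) (.node (.leaf (0, 1456)) (.leaf (7, 3504)))) (.node (.node (.leaf (55, 394)) (.leaf (52, 3417))) (.node (.leaf (0, 0)) (.leaf (77, 2021))))))) (.node (.node (.node (.node (.node (.leaf (0, 214)) (.leaf (0, 2160))) (.node (.leaf (0, 1136)) (.leaf (0, 3184)))) (.node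 (.node (.leaf (77, 624)) (.leaf (77, 2906))) (.node (.leaf (77, 1637)) (.leaf (73, 2435))))) (.node (.node (.node (.leaf (0, 368)) (.leaf (61, 2416))) (.node (.leaf (43, 2026)) (.leaf (59, 2062)))) (.node (.node (.leaf (0, 1371)) (.leaf (73, 4092))) (.node (.leaf (77, 1904)) (.leaf (77, 3952)))))) (.node (.node (.node (.node (.leaf (0, 0)) (.leaf (75, 1046))) (.node (.leaf (5, 1264)) (.leaf (0, 3790)))) (.node (.node (.leaf (72, 1763)) (.leaf (0, 2800))) (.node (.leaf (5, 3161)) (.leaf (75, 568))))) (.node (.node (.node (.leaf (0, 496)) (.leaf (75, 2525))) (.node (.leaf (0, 1520)) (.leaf (0, 3568)))) (.node (.node (.leaf (59, 1006)) (.leaf (0, 3056))) (.node (.leaf (73, 2032)) (.leaf (72, 3649))))))))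

def twoVia193 : Janko.Tree (ℕ × ℕ) :=
  (.node (.node (.node (.node (.node (.node (.leaf (1, 48)) (.leaf (0, 0))) (.node (.leaf (0, 0)) (.leaf (0, 0)))) (.node (.node (.leaf (0, 0)) (.leaf (0, 0))) (.node (.leaf (1, 1584)) (.leaf (66, 3421))))) (.node (.node (.node (.leaf (0, 0)) (.leaf (1, 2352))) (.node (.leaf (62, 2531)) (.leaf (66, 3867)))) (.node (.node (.leaf (1, 816)) (.leaf (0, 0))) (.node (.leaf (1, 1840)) (.leaf (0, 0)))))) (.node (.node (.node (.node (.leaf (1, 176)) (.leaf (10, 4078))) (.node (.leaf (9, 1200)) (.leaf (1, 3248)))) (.node (.node (.leaf (0, 0)) (.leaf (1, 2736))) (.node (.leaf (1, 1712)) (.leaf (77, 3218))))) (.node (.node (.node (.leaf (0, 0)) (.leaf (50, 3165))) (.node (.leaf (77, 3491)) (.leaf (77, 3612)))) (.node (.node (.leaf (0, 0)) (.leaf (77, 3351))) (.node (.leaf (1, 1968)) (.leaf (1, 4016))))))) (.node (.node (.node (.node (.node (.leaf (0, 0)) (.leaf (0, 0))) (.node (.leaf (0, 0)) (.leaf (50, 2482)))) (.node (.node (.leaf (1, 624))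 (.leaf (0, 0))) (.node (.leaf (1, 1648)) (.leaf (1, 3696))))) (.node (.node (.node (.leaf (0, 0)) (.leaf (1, 2416))) (.node (.leaf (0, 0)) (.leaf (0, 0)))) (.node (.node (.leaf (0, 0)) (.leaf (67, 2197))) (.node (.leaf (1, 1904)) (.leaf (1, 3952)))))) (.node (.node (.node (.node (.leaf (1, 240)) (.leaf (9, 2288))) (.node (.leaf (0, 0)) (.leaf (77, 3886)))) (.node (.node (.leaf (1, 752)) (.leaf (0, 0))) (.node (.leaf (1, 1776)) (.leaf (1, 3824))))) (.node (.node (.node (.leaf (0, 0)) (.leaf (0, 0))) (.node (.leaf (71, 3626)) (.leaf (0, 0)))) (.node (.node (.leaf (0, 0)) (.leaf (77, 4037))) (.node (.leaf (1, 2032)) (.leaf (1, 4080))))))))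

def twoVia194 : Janko.Tree (ℕ × ℕ) :=
  (.node (.node (.node (.node (.node (.node (.leaf (0, 0)) (.leaf (76, 932))) (.node (.leaf (77, 1058)) (.leaf (6, 3120)))) (.node (.node (.leaf (77, 2405)) (.leaf (6, 2608))) (.node (.leaf (0, 0)) (.leaf (2, 3632))))) (.node (.node (.node (.leaf (77, 348)) (.leaf (71, 1663))) (.node (.leaf (62, 856)) (.leaf (71, 2711)))) (.node (.node (.leaf (6, 1893)) (.leaf (6, 2864))) (.node (.leaf (0, 0)) (.leaf (2, 3888)))))) (.node (.node (.node (.node (.leaf (55, 547)) (.leaf (7, 1538))) (.node (.leaf (2, 1200)) (.leaf (2, 3787)))) (.node (.node (.leaf (70, 2338)) (.leaf (0, 0))) (.node (.leaf (0, 0)) (.leaf (0, 0))))) (.node (.node (.node (.leaf (2, 701)) (.leaf (2, 2480))) (.node (.leaf (0, 0)) (.leaf (2, 3504)))) (.node (.node (.leaf (77, 949)) (.leaf (76, 1214))) (.node (.leaf (7, 2688)) (.leaf (77, 3393))))))) (.node (.node (.node (.node (.node (.leaf (2, 112)) (.leaf (23, 965))) (.node (.leaf (0, 0)) (.leaf (4, 2484)))) (.node (.node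 (.leaf (0, 0)) (.leaf (2, 2672))) (.node (.leaf (77, 1282)) (.leaf (70, 4045))))) (.node (.node (.node (.leaf (0, 0)) (.leaf (0, 0))) (.node (.leaf (6, 1392)) (.leaf (6, 3440)))) (.node (.node (.leaf (2, 880)) (.leaf (6, 2928))) (.node (.leaf (26, 1281)) (.leaf (77, 3826)))))) (.node (.node (.node (.node (.leaf (2, 414)) (.leaf (2, 2288))) (.node (.leaf (59, 757)) (.leaf (2, 3312)))) (.node (.node (.leaf (0, 0)) (.leaf (77, 806))) (.node (.leaf (0, 0)) (.leaf (13, 3302))))) (.node (.node (.node (.leaf (13, 507)) (.leaf (2, 2544))) (.node (.leaf (0, 0)) (.leaf (76, 3793)))) (.node (.node (.leaf (6, 1008)) (.leaf (0, 0))) (.node (.leaf (77, 2077)) (.leaf (74, 3888))))))))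

def twoVia195 : Janko.Tree (ℕ × ℕ) :=
  (.node (.node (.node (.node (.node (.node (.leaf (0, 0)) (.leaf (75, 1436))) (.node (.leaf (0, 0)) (.leaf (3, 3120)))) (.node (.node (.leaf (3, 560)) (.leaf (3, 2608))) (.node (.leaf (70, 2274)) (.leaf (3, 3632))))) (.node (.node (.node (.leaf (3, 304)) (.leaf (67, 1942))) (.node (.leaf (3, 1328)) (.leaf (3, 3376)))) (.node (.node (.leaf (0, 0)) (.leaf (3, 2864))) (.node (.leaf (0, 0)) (.leaf (67, 4080)))))) (.node (.node (.node (.node (.leaf (0, 0)) (.leaf (0, 0))) (.node (.leaf (77, 295)) (.leaf (0, 0)))) (.node (.node (.leaf (3, 688)) (.leaf (61, 557))) (.node (.leaf (61, 722)) (.leaf (76, 3294))))) (.node (.node (.node (.leaf (3, 432)) (.leaf (0, 0))) (.node (.leaf (0, 0)) (.leaf (7, 2134)))) (.node (.node (.leaf (3, 944)) (.leaf (3, 2992))) (.node (.leaf (0, 0)) (.leaf (68, 3604))))))) (.node (.node (.node (.node (.node (.leaf (0, 0)) (.leaf (71, 3918))) (.node (.leaf (59, 1128)) (.leaf (77, 3922)))) (.node (.node (.leaf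 (41, 353)) (.leaf (70, 2048))) (.node (.leaf (0, 0)) (.leaf (75, 3523))))) (.node (.node (.node (.leaf (77, 616)) (.leaf (57, 730))) (.node (.leaf (3, 1392)) (.leaf (3, 3440)))) (.node (.node (.leaf (0, 0)) (.leaf (3, 2928))) (.node (.leaf (66, 3661)) (.leaf (76, 3296)))))) (.node (.node (.node (.node (.leaf (0, 0)) (.leaf (75, 2647))) (.node (.leaf (3, 1264)) (.leaf (76, 3799)))) (.node (.node (.leaf (0, 0)) (.leaf (73, 3819))) (.node (.leaf (0, 0)) (.leaf (77, 907))))) (.node (.node (.node (.leaf (0, 0)) (.leaf (77, 3231))) (.node (.leaf (0, 0)) (.leaf (70, 3797)))) (.node (.node (.leaf (3, 1008)) (.leaf (0, 0))) (.node (.leaf (67, 2030)) (.leaf (70, 3214))))))))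

def twoVia196 : Janko.Tree (ℕ × ℕ) :=
  (.node (.node (.node (.node (.node (.node (.leaf (0, 49)) (.leaf (72, 3477))) (.node (.leaf (76, 1056)) (.leaf (0, 0)))) (.node (.node (.leaf (0, 0)) (.leaf (73, 2609))) (.node (.leaf (75, 1585)) (.leaf (77, 1799))))) (.node (.node (.node (.leaf (0, 0)) (.leaf (0, 2353))) (.node (.leaf (59, 1327)) (.leaf (77, 1999)))) (.node (.node (.leaf (77, 1794)) (.leaf (0, 0))) (.node (.leaf (75, 1811)) (.leaf (0, 4031)))))) (.node (.node (.node (.node (.leaf (7, 88)) (.leaf (0, 2952))) (.node (.leaf (0, 1789)) (.leaf (75, 920)))) (.node (.node (.leaf (62, 180)) (.leaf (45, 2026))) (.node (.leaf (4, 1713)) (.leaf (0, 4028))))) (.node (.node (.node (.leaf (0, 0)) (.leaf (0, 2481))) (.node (.leaf (0, 2125)) (.leaf (77, 4020)))) (.node (.node (.leaf (0, 0)) (.leaf (0, 0))) (.node (.leaf (7, 1331)) (.leaf (61, 4017))))))) (.node (.node (.node (.node (.node (.leaf (7, 214)) (.leaf (77, 2161))) (.node (.leaf (0, 1713)) (.leaf (76, 2400)))) (.node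 (.node (.leaf (0, 625)) (.leaf (77, 3075))) (.node (.leaf (0, 1649)) (.leaf (0, 3697))))) (.node (.node (.node (.leaf (0, 613)) (.leaf (0, 2417))) (.node (.leaf (4, 1393)) (.leaf (0, 3441)))) (.node (.node (.leaf (7, 1371)) (.leaf (43, 3255))) (.node (.leaf (43, 2609)) (.leaf (73, 3953)))))) (.node (.node (.node (.node (.leaf (7, 125)) (.leaf (0, 3002))) (.node (.leaf (75, 1231)) (.leaf (61, 1870)))) (.node (.node (.leaf (4, 753)) (.leaf (62, 1407))) (.node (.leaf (5, 1777)) (.leaf (77, 3825))))) (.node (.node (.node (.leaf (0, 803)) (.leaf (73, 2545))) (.node (.leaf (0, 2201)) (.leaf (7, 3569)))) (.node (.node (.leaf (0, 0)) (.leaf (0, 3634))) (.node (.leaf (0, 2033)) (.leaf (74, 2762))))))))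

def twoVia197 : Janko.Tree (ℕ × ℕ) :=
  (.node (.node (.node (.node (.node (.node (.leaf (0, 0)) (.leaf (1, 2819))) (.node (.leaf (24, 669)) (.leaf (1, 3121)))) (.node (.node (.leaf (1, 561)) (.leaf (1, 2609))) (.node (.leaf (1, 1585)) (.leaf (1, 3633))))) (.node (.node (.node (.leaf (1, 305)) (.leaf (74, 1711))) (.node (.leaf (0, 0)) (.leaf (77, 3541)))) (.node (.node (.leaf (0, 0)) (.leaf (1, 2865))) (.node (.leaf (0, 0)) (.leaf (77, 2208)))))) (.node (.node (.node (.node (.leaf (77, 862)) (.leaf (71, 2227))) (.node (.leaf (0, 0)) (.leaf (0, 0)))) (.node (.node (.leaf (0, 0)) (.leaf (75, 2859))) (.node (.leaf (77, 2105)) (.leaf (77, 4024))))) (.node (.node (.node (.leaf (1, 433)) (.leaf (0, 0))) (.node (.leaf (0, 0)) (.leaf (0, 0)))) (.node (.node (.leaf (1, 945)) (.leaf (1, 2993))) (.node (.leaf (67, 1334)) (.leaf (68, 1227))))))) (.node (.node (.node (.node (.node (.leaf (67, 211)) (.leaf (71, 2161))) (.node (.leaf (0, 0)) (.leaf (71, 3733)))) (.node (.node (.leaf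 (0, 0)) (.leaf (1, 3354))) (.node (.leaf (77, 2210)) (.leaf (77, 3143))))) (.node (.node (.node (.leaf (0, 0)) (.leaf (0, 0))) (.node (.leaf (0, 0)) (.leaf (77, 2844)))) (.node (.node (.leaf (67, 552)) (.leaf (0, 0))) (.node (.leaf (0, 0)) (.leaf (1, 3953)))))) (.node (.node (.node (.node (.leaf (77, 113)) (.leaf (77, 2847))) (.node (.leaf (1, 1265)) (.leaf (1, 3313)))) (.node (.node (.leaf (0, 0)) (.leaf (1, 2801))) (.node (.leaf (0, 0)) (.leaf (67, 3879))))) (.node (.node (.node (.leaf (77, 1902)) (.leaf (1, 2545))) (.node (.leaf (0, 0)) (.leaf (77, 3944)))) (.node (.node (.leaf (1, 1009)) (.leaf (0, 0))) (.node (.leaf (0, 0)) (.leaf (1, 4081))))))))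

def twoVia198 : Janko.Tree (ℕ × ℕ) :=
  (.node (.node (.node (.node (.node (.node (.leaf (6, 49)) (.leaf (2, 2097))) (.node (.leaf (2, 1073)) (.leaf (0, 0)))) (.node (.node (.leaf (0, 0)) (.leaf (0, 0))) (.node (.leaf (0, 0)) (.leaf (77, 2502))))) (.node (.node (.node (.leaf (0, 0)) (.leaf (6, 2353))) (.node (.leaf (6, 1329)) (.leaf (2, 3377)))) (.node (.node (.leaf (2, 817)) (.leaf (0, 0))) (.node (.leaf (2, 1841)) (.leaf (77, 2887)))))) (.node (.node (.node (.node (.leaf (2, 177)) (.leaf (7, 2952))) (.node (.leaf (77, 3745)) (.leaf (2, 3249)))) (.node (.node (.leaf (59, 327)) (.leaf (2, 2737))) (.node (.leaf (2, 1713)) (.leaf (2, 3761))))) (.node (.node (.node (.leaf (0, 0)) (.leaf (7, 3182))) (.node (.leaf (2, 1457)) (.leaf (6, 3505)))) (.node (.node (.leaf (0, 0)) (.leaf (0, 0))) (.node (.leaf (2, 1969)) (.leaf (71, 3737))))))) (.node (.node (.node (.node (.node (.leaf (7, 217)) (.leaf (2, 2161))) (.node (.leaf (2, 1137)) (.leaf (2, 3185)))) (.node (.node (.leaf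 (24, 985)) (.leaf (71, 1319))) (.node (.leaf (0, 0)) (.leaf (2, 3697))))) (.node (.node (.node (.leaf (2, 369)) (.leaf (77, 1158))) (.node (.leaf (2, 1393)) (.leaf (0, 0)))) (.node (.node (.leaf (7, 1374)) (.leaf (26, 2927))) (.node (.leaf (6, 1905)) (.leaf (75, 3791)))))) (.node (.node (.node (.node (.leaf (2, 241)) (.leaf (77, 1916))) (.node (.leaf (77, 3427)) (.leaf (26, 2624)))) (.node (.node (.leaf (2, 753)) (.leaf (77, 1409))) (.node (.leaf (77, 746)) (.leaf (6, 3825))))) (.node (.node (.node (.leaf (6, 497)) (.leaf (0, 0))) (.node (.leaf (2, 1521)) (.leaf (2, 3569)))) (.node (.node (.leaf (0, 0)) (.leaf (2, 3057))) (.node (.leaf (62, 2826)) (.leaf (74, 3884))))))))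

def twoVia199 : Janko.Tree (ℕ × ℕ) :=
  (.node (.node (.node (.node (.node (.node (.leaf (3, 49)) (.leaf (75, 1439))) (.node (.leaf (0, 0)) (.leaf (0, 0)))) (.node (.node (.leaf (0, 0)) (.leaf (59, 508))) (.node (.leaf (0, 0)) (.leaf (77, 719))))) (.node (.node (.node (.leaf (0, 0)) (.leaf (3, 2353))) (.node (.leaf (3, 1329)) (.leaf (3, 3377)))) (.node (.node (.leaf (0, 0)) (.leaf (0, 0))) (.node (.leaf (77, 2521)) (.leaf (3, 3889)))))) (.node (.node (.node (.node (.leaf (3, 177)) (.leaf (3, 2225))) (.node (.leaf (3, 1201)) (.leaf (71, 3316)))) (.node (.node (.leaf (3, 689)) (.leaf (43, 2736))) (.node (.leaf (3, 2382)) (.leaf (75, 4034))))) (.node (.node (.node (.leaf (0, 0)) (.leaf (3, 2481))) (.node (.leaf (0, 0)) (.leaf (3, 3505)))) (.node (.node (.leaf (0, 0)) (.leaf (0, 0))) (.node (.leaf (3, 1969)) (.leaf (3, 4017))))))) (.node (.node (.node (.node (.node (.leaf (3, 113)) (.leaf (3, 2161))) (.node (.leaf (0, 0)) (.leaf (3, 3185)))) (.node (.node (.leaf (0, 0))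 (.leaf (3, 2673))) (.node (.leaf (6, 2340)) (.leaf (75, 2183))))) (.node (.node (.node (.leaf (0, 0)) (.leaf (0, 0))) (.node (.leaf (0, 0)) (.leaf (6, 3902)))) (.node (.node (.leaf (3, 881)) (.leaf (3, 2929))) (.node (.leaf (3, 1905)) (.leaf (0, 0)))))) (.node (.node (.node (.node (.leaf (3, 241)) (.leaf (3, 2289))) (.node (.leaf (68, 3735)) (.leaf (43, 1788)))) (.node (.node (.leaf (0, 0)) (.leaf (67, 2766))) (.node (.leaf (3, 1777)) (.leaf (3, 3825))))) (.node (.node (.node (.leaf (3, 497)) (.leaf (71, 3785))) (.node (.leaf (0, 0)) (.leaf (7, 2230)))) (.node (.node (.leaf (0, 0)) (.leaf (0, 0))) (.node (.leaf (61, 1467)) (.leaf (77, 2051))))))))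

def twoVia200 : Janko.Tree (ℕ × ℕ) :=
  (.node (.node (.node (.node (.node (.node (.leaf (0, 0)) (.leaf (59, 1946))) (.node (.leaf (0, 1630)) (.leaf (0, 3122)))) (.node (.node (.leaf (0, 0)) (.leaf (0, 0))) (.node (.leaf (4, 1586)) (.leaf (4, 3634))))) (.node (.node (.node (.leaf (0, 306)) (.leaf (55, 2354))) (.node (.leaf (77, 1328)) (.leaf (5, 3378)))) (.node (.node (.leaf (0, 1264)) (.leaf (0, 2866))) (.node (.leaf (72, 791)) (.leaf (72, 2763)))))) (.node (.node (.node (.node (.leaf (73, 1357)) (.leaf (5, 2226))) (.node (.leaf (73, 1207)) (.leaf (73, 1885)))) (.node (.node (.leaf (0, 0)) (.leaf (5, 2738))) (.node (.leaf (77, 3699)) (.leaf (77, 3905))))) (.node (.node (.node (.leaf (73, 1876)) (.leaf (0, 0))) (.node (.leaf (7, 2125)) (.leaf (77, 2124)))) (.node (.node (.leaf (75, 367)) (.leaf (77, 1588))) (.node (.leaf (0, 1970)) (.leaf (61, 3406))))))) (.node (.node (.node (.node (.node (.leaf (72, 117)) (.leaf (0, 0))) (.node (.leaf (20, 1138)) (.leaf (75, 3331))))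 (.node (.node (.leaf (0, 995)) (.leaf (77, 2674))) (.node (.leaf (0, 2340)) (.leaf (61, 3698))))) (.node (.node (.node (.leaf (77, 938)) (.leaf (48, 2418))) (.node (.leaf (73, 1397)) (.leaf (0, 3902)))) (.node (.node (.leaf (73, 330)) (.leaf (0, 2930))) (.node (.leaf (4, 1906)) (.leaf (77, 2721)))))) (.node (.node (.node (.node (.leaf (5, 535)) (.leaf (72, 1045))) (.node (.leaf (75, 2545)) (.leaf (77, 3300)))) (.node (.node (.leaf (0, 754)) (.leaf (77, 1427))) (.node (.leaf (59, 298)) (.leaf (0, 3826))))) (.node (.node (.node (.leaf (0, 0)) (.leaf (75, 480))) (.node (.leaf (7, 2201)) (.leaf (5, 3570)))) (.node (.node (.leaf (0, 1010)) (.leaf (7, 3634))) (.node (.leaf (0, 0)) (.leaf (7, 3111))))))))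

def twoVia201 : Janko.Tree (ℕ × ℕ) :=
  (.node (.node (.node (.node (.node (.node (.leaf (1, 50)) (.leaf (0, 0))) (.node (.leaf (0, 0)) (.leaf (77, 2487)))) (.node (.node (.leaf (1, 562)) (.leaf (1, 2610))) (.node (.leaf (0, 0)) (.leaf (61, 3944))))) (.node (.node (.node (.leaf (0, 0)) (.leaf (1, 2354))) (.node (.leaf (1, 1330)) (.leaf (71, 3379)))) (.node (.node (.leaf (0, 0)) (.leaf (0, 0))) (.node (.leaf (1, 1842)) (.leaf (1, 3890)))))) (.node (.node (.node (.node (.leaf (0, 0)) (.leaf (0, 0))) (.node (.leaf (1, 1202)) (.leaf (1, 3250)))) (.node (.node (.leaf (1, 690)) (.leaf (77, 3107))) (.node (.leaf (1, 1714)) (.leaf (1, 4027))))) (.node (.node (.node (.leaf (0, 0)) (.leaf (1, 2482))) (.node (.leaf (1, 2124)) (.leaf (1, 3506)))) (.node (.node (.leaf (0, 0)) (.leaf (1, 2994))) (.node (.leaf (77, 1334)) (.leaf (77, 3501))))))) (.node (.node (.node (.node (.node (.leaf (1, 114)) (.leaf (1, 2162))) (.node (.leaf (1, 1138)) (.leaf (1, 3186)))) (.node (.node (.leaf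 (61, 1086)) (.leaf (1, 2674))) (.node (.leaf (0, 0)) (.leaf (0, 0))))) (.node (.node (.node (.leaf (67, 606)) (.leaf (1, 3099))) (.node (.leaf (0, 0)) (.leaf (77, 3902)))) (.node (.node (.leaf (1, 882)) (.leaf (0, 0))) (.node (.leaf (0, 0)) (.leaf (0, 0)))))) (.node (.node (.node (.node (.leaf (0, 0)) (.leaf (1, 2290))) (.node (.leaf (1, 1266)) (.leaf (1, 3314)))) (.node (.node (.leaf (0, 0)) (.leaf (1, 2802))) (.node (.leaf (0, 0)) (.leaf (76, 3305))))) (.node (.node (.node (.leaf (1, 498)) (.leaf (0, 0))) (.node (.leaf (1, 2200)) (.leaf (77, 2949)))) (.node (.node (.leaf (0, 0)) (.leaf (67, 1097))) (.node (.leaf (1, 2034)) (.leaf (76, 2024))))))))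

def twoVia202 : Janko.Tree (ℕ × ℕ) :=
  (.node (.node (.node (.node (.node (.node (.leaf (0, 0)) (.leaf (77, 2115))) (.node (.leaf (2, 1631)) (.leaf (0, 0)))) (.node (.node (.leaf (0, 0)) (.leaf (0, 0))) (.node (.leaf (2, 1586)) (.leaf (2, 3634))))) (.node (.node (.node (.leaf (0, 0)) (.leaf (0, 0))) (.node (.leaf (77, 2868)) (.leaf (7, 2706)))) (.node (.node (.leaf (2, 1278)) (.leaf (76, 1575))) (.node (.leaf (76, 1233)) (.leaf (32, 1405)))))) (.node (.node (.node (.node (.leaf (2, 178)) (.leaf (2, 2952))) (.node (.leaf (72, 491)) (.leaf (0, 0)))) (.node (.node (.leaf (0, 0)) (.leaf (75, 2237))) (.node (.leaf (2, 2398)) (.leaf (77, 2597))))) (.node (.node (.node (.leaf (2, 434)) (.leaf (4, 3184))) (.node (.leaf (7, 2128)) (.leaf (67, 3929)))) (.node (.node (.leaf (2, 946)) (.leaf (74, 2515))) (.node (.leaf (24, 2688)) (.leaf (2, 4018))))))) (.node (.node (.node (.node (.node (.leaf (0, 0)) (.leaf (0, 0))) (.node (.leaf (2, 1715)) (.leaf (70, 2485)))) (.node (.node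 (.leaf (77, 1506)) (.leaf (2, 3355))) (.node (.leaf (2, 1650)) (.leaf (77, 2916))))) (.node (.node (.node (.leaf (2, 615)) (.leaf (2, 2418))) (.node (.leaf (2, 2045)) (.leaf (2, 3442)))) (.node (.node (.leaf (0, 0)) (.leaf (6, 2930))) (.node (.leaf (2, 1906)) (.leaf (2, 3954)))))) (.node (.node (.node (.node (.leaf (2, 242)) (.leaf (74, 401))) (.node (.leaf (77, 3423)) (.leaf (69, 3264)))) (.node (.node (.leaf (7, 1187)) (.leaf (0, 0))) (.node (.leaf (77, 293)) (.leaf (77, 2600))))) (.node (.node (.node (.leaf (0, 0)) (.leaf (77, 1228))) (.node (.leaf (7, 2204)) (.leaf (24, 2954)))) (.node (.node (.leaf (0, 0)) (.leaf (7, 3637))) (.node (.leaf (0, 0)) (.leaf (2, 4082))))))))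

def twoVia203 : Janko.Tree (ℕ × ℕ) :=
  (.node (.node (.node (.node (.node (.node (.leaf (0, 0)) (.leaf (3, 2098))) (.node (.leaf (3, 1074)) (.leaf (59, 3116)))) (.node (.node (.leaf (0, 0)) (.leaf (0, 0))) (.node (.leaf (0, 0)) (.leaf (0, 0))))) (.node (.node (.node (.leaf (67, 838)) (.leaf (59, 1105))) (.node (.leaf (0, 0)) (.leaf (3, 3378)))) (.node (.node (.leaf (3, 818)) (.leaf (73, 1552))) (.node (.leaf (0, 0)) (.leaf (77, 1816)))))) (.node (.node (.node (.node (.leaf (0, 0)) (.leaf (3, 2226))) (.node (.leaf (0, 0)) (.leaf (67, 3315)))) (.node (.node (.leaf (0, 0)) (.leaf (3, 2738))) (.node (.leaf (77, 794)) (.leaf (3, 3762))))) (.node (.node (.node (.leaf (75, 471)) (.leaf (0, 0))) (.node (.leaf (3, 1458)) (.leaf (6, 2874)))) (.node (.node (.leaf (75, 1500)) (.leaf (0, 0))) (.node (.leaf (0, 0)) (.leaf (0, 0))))))) (.node (.node (.node (.node (.node (.leaf (0, 0)) (.leaf (0, 0))) (.node (.leaf (3, 1138)) (.leaf (67, 1828)))) (.node (.node (.leaf (3, 626)) (.leaf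 (0, 0))) (.node (.leaf (0, 0)) (.leaf (3, 3698))))) (.node (.node (.node (.leaf (3, 370)) (.leaf (0, 0))) (.node (.leaf (3, 1394)) (.leaf (0, 0)))) (.node (.node (.leaf (0, 0)) (.leaf (3, 2930))) (.node (.leaf (0, 0)) (.leaf (54, 2973)))))) (.node (.node (.node (.node (.leaf (0, 0)) (.leaf (0, 0))) (.node (.leaf (60, 3121)) (.leaf (65, 508)))) (.node (.node (.leaf (3, 754)) (.leaf (0, 0))) (.node (.leaf (3, 1778)) (.leaf (5, 4055))))) (.node (.node (.node (.leaf (0, 0)) (.leaf (3, 2546))) (.node (.leaf (3, 1522)) (.leaf (3, 3570)))) (.node (.node (.leaf (0, 0)) (.leaf (3, 3058))) (.node (.leaf (0, 0)) (.leaf (6, 3993))))))))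

def twoVia204 : Janko.Tree (ℕ × ℕ) :=
  (.node (.node (.node (.node (.node (.node (.leaf (0, 51)) (.leaf (0, 2821))) (.node (.leaf (0, 0)) (.leaf (0, 3690)))) (.node (.node (.leaf (0, 563)) (.leaf (57, 3298))) (.node (.leaf (0, 1587)) (.leaf (0, 3635))))) (.node (.node (.node (.leaf (0, 520)) (.leaf (0, 2355))) (.node (.leaf (0, 1331)) (.leaf (77, 2237)))) (.node (.node (.leaf (0, 0)) (.leaf (77, 2724))) (.node (.leaf (5, 1843)) (.leaf (53, 3419)))))) (.node (.node (.node (.node (.leaf (59, 249)) (.leaf (0, 0))) (.node (.leaf (5, 1203)) (.leaf (23, 2534)))) (.node (.node (.leaf (77, 2682)) (.leaf (77, 2739))) (.node (.leaf (7, 1715)) (.leaf (57, 1808))))) (.node (.node (.node (.leaf (72, 135)) (.leaf (7, 1782))) (.node (.leaf (0, 0)) (.leaf (0, 3507)))) (.node (.node (.leaf (59, 947)) (.leaf (5, 2995))) (.node (.leaf (0, 2690)) (.leaf (4, 4074))))))) (.node (.node (.node (.node (.node (.leaf (4, 115)) (.leaf (0, 2163))) (.node (.leaf (73, 445)) (.leaf (0, 3187))))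 (.node (.node (.leaf (72, 648)) (.leaf (77, 598))) (.node (.leaf (20, 1651)) (.leaf (44, 3699))))) (.node (.node (.node (.leaf (0, 371)) (.leaf (0, 3103))) (.node (.leaf (77, 1375)) (.leaf (20, 3443)))) (.node (.node (.leaf (4, 883)) (.leaf (7, 2931))) (.node (.leaf (73, 1910)) (.leaf (77, 2880)))))) (.node (.node (.node (.node (.leaf (7, 317)) (.leaf (5, 2291))) (.node (.leaf (0, 1267)) (.leaf (77, 3247)))) (.node (.node (.leaf (0, 0)) (.leaf (62, 1167))) (.node (.leaf (77, 1770)) (.leaf (45, 3827))))) (.node (.node (.node (.leaf (73, 2598)) (.leaf (12, 1226))) (.node (.leaf (0, 0)) (.leaf (77, 3571)))) (.node (.node (.leaf (0, 1551)) (.leaf (77, 3904))) (.node (.leaf (0, 2035)) (.leaf (77, 3829))))))))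

def twoVia205 : Janko.Tree (ℕ × ℕ) :=
  (.node (.node (.node (.node (.node (.node (.leaf (0, 0)) (.leaf (1, 2099))) (.node (.leaf (1, 1075)) (.leaf (77, 3690)))) (.node (.node (.leaf (0, 0)) (.leaf (0, 0))) (.node (.leaf (73, 2153)) (.leaf (0, 0))))) (.node (.node (.node (.leaf (0, 0)) (.leaf (77, 1663))) (.node (.leaf (77, 1993)) (.leaf (1, 3379)))) (.node (.node (.leaf (1, 819)) (.leaf (77, 3425))) (.node (.leaf (67, 2529)) (.leaf (1, 3891)))))) (.node (.node (.node (.node (.leaf (0, 0)) (.leaf (1, 2227))) (.node (.leaf (0, 0)) (.leaf (77, 3909)))) (.node (.node (.leaf (0, 0)) (.leaf (1, 2739))) (.node (.leaf (0, 0)) (.leaf (77, 2398))))) (.node (.node (.node (.leaf (1, 435)) (.leaf (70, 2479))) (.node (.leaf (1, 1459)) (.leaf (0, 0)))) (.node (.node (.leaf (1, 947)) (.leaf (77, 2300))) (.node (.leaf (0, 0)) (.leaf (61, 3928))))))) (.node (.node (.node (.node (.node (.leaf (0, 0)) (.leaf (0, 0))) (.node (.leaf (1, 1139)) (.leaf (61, 3995)))) (.node (.node (.leaf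 (1, 627)) (.leaf (0, 0))) (.node (.leaf (1, 2339)) (.leaf (1, 3699))))) (.node (.node (.node (.leaf (0, 0)) (.leaf (77, 2023))) (.node (.leaf (1, 1395)) (.leaf (77, 3897)))) (.node (.node (.leaf (67, 882)) (.leaf (1, 2931))) (.node (.leaf (0, 0)) (.leaf (10, 3955)))))) (.node (.node (.node (.node (.leaf (0, 0)) (.leaf (0, 0))) (.node (.leaf (0, 0)) (.leaf (0, 0)))) (.node (.node (.leaf (1, 755)) (.leaf (77, 4071))) (.node (.leaf (1, 1779)) (.leaf (10, 3827))))) (.node (.node (.node (.leaf (0, 0)) (.leaf (1, 2547))) (.node (.leaf (1, 1523)) (.leaf (0, 0)))) (.node (.node (.leaf (0, 0)) (.leaf (1, 3059))) (.node (.leaf (77, 3156)) (.leaf (1, 4083))))))))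

def twoVia206 : Janko.Tree (ℕ × ℕ) :=
  (.node (.node (.node (.node (.node (.node (.leaf (0, 0)) (.leaf (0, 0))) (.node (.leaf (0, 0)) (.leaf (2, 3123)))) (.node (.node (.leaf (0, 0)) (.leaf (2, 2611))) (.node (.leaf (7, 2279)) (.leaf (7, 3973))))) (.node (.node (.node (.leaf (2, 307)) (.leaf (75, 630))) (.node (.leaf (0, 0)) (.leaf (77, 2879)))) (.node (.node (.leaf (0, 0)) (.leaf (2, 2867))) (.node (.leaf (50, 1222)) (.leaf (46, 2768)))))) (.node (.node (.node (.node (.leaf (2, 325)) (.leaf (70, 3479))) (.node (.leaf (2, 1203)) (.leaf (77, 4093)))) (.node (.node (.leaf (2, 691)) (.leaf (0, 0))) (.node (.leaf (6, 1715)) (.leaf (77, 2449))))) (.node (.node (.node (.leaf (55, 889)) (.leaf (2, 2483))) (.node (.leaf (6, 2858)) (.leaf (77, 2234)))) (.node (.node (.leaf (76, 223)) (.leaf (77, 1211))) (.node (.leaf (6, 1971)) (.leaf (2, 4088))))))) (.node (.node (.node (.node (.node (.leaf (2, 115)) (.leaf (75, 966))) (.node (.leaf (0, 0)) (.leaf (77, 2591)))) (.node (.node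 (.leaf (72, 1468)) (.leaf (2, 2675))) (.node (.leaf (2, 2342)) (.leaf (0, 0))))) (.node (.node (.node (.leaf (0, 0)) (.leaf (2, 3104))) (.node (.leaf (77, 602)) (.leaf (2, 3903)))) (.node (.node (.leaf (2, 883)) (.leaf (0, 0))) (.node (.leaf (2, 2626)) (.leaf (71, 3564)))))) (.node (.node (.node (.node (.leaf (2, 423)) (.leaf (76, 1044))) (.node (.leaf (77, 920)) (.leaf (2, 3315)))) (.node (.node (.leaf (2, 1183)) (.leaf (50, 1748))) (.node (.leaf (0, 0)) (.leaf (77, 2743))))) (.node (.node (.node (.leaf (6, 499)) (.leaf (75, 1226))) (.node (.leaf (6, 2933)) (.leaf (2, 3571)))) (.node (.node (.leaf (2, 1011)) (.leaf (2, 3636))) (.node (.leaf (0, 0)) (.leaf (71, 3991))))))))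

def twoVia207 : Janko.Tree (ℕ × ℕ) :=
  (.node (.node (.node (.node (.node (.node (.leaf (0, 0)) (.leaf (0, 0))) (.node (.leaf (0, 0)) (.leaf (0, 0)))) (.node (.node (.leaf (0, 0)) (.leaf (54, 1903))) (.node (.leaf (3, 1587)) (.leaf (3, 3635))))) (.node (.node (.node (.leaf (0, 0)) (.leaf (0, 0))) (.node (.leaf (0, 0)) (.leaf (77, 1368)))) (.node (.node (.leaf (0, 0)) (.leaf (77, 2255))) (.node (.leaf (3, 1843)) (.leaf (77, 3192)))))) (.node (.node (.node (.node (.leaf (3, 179)) (.leaf (3, 2822))) (.node (.leaf (3, 1203)) (.leaf (3, 3251)))) (.node (.node (.leaf (75, 839)) (.leaf (0, 0))) (.node (.leaf (3, 1715)) (.leaf (3, 3763))))) (.node (.node (.node (.leaf (0, 0)) (.leaf (3, 2483))) (.node (.leaf (0, 0)) (.leaf (73, 2239)))) (.node (.node (.leaf (0, 0)) (.leaf (3, 2995))) (.node (.leaf (3, 1971)) (.leaf (3, 4019))))))) (.node (.node (.node (.node (.node (.leaf (0, 0)) (.leaf (0, 0))) (.node (.leaf (67, 2385)) (.leaf (59, 3183)))) (.node (.node (.leaf (0, 0))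 (.leaf (71, 2758))) (.node (.leaf (3, 1651)) (.leaf (56, 3698))))) (.node (.node (.node (.leaf (0, 0)) (.leaf (3, 2419))) (.node (.leaf (0, 0)) (.leaf (3, 3443)))) (.node (.node (.leaf (0, 0)) (.leaf (7, 2939))) (.node (.leaf (3, 1907)) (.leaf (3, 3955)))))) (.node (.node (.node (.node (.leaf (3, 243)) (.leaf (3, 2291))) (.node (.leaf (0, 0)) (.leaf (71, 3799)))) (.node (.node (.leaf (0, 0)) (.leaf (3, 2803))) (.node (.leaf (0, 0)) (.leaf (3, 3827))))) (.node (.node (.node (.leaf (3, 499)) (.leaf (0, 0))) (.node (.leaf (0, 0)) (.leaf (0, 0)))) (.node (.node (.leaf (0, 0)) (.leaf (77, 3448))) (.node (.leaf (54, 2752)) (.leaf (0, 0))))))))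

def twoVia208 : Janko.Tree (ℕ × ℕ) :=
  (.node (.node (.node (.node (.node (.node (.leaf (0, 107)) (.leaf (74, 2103))) (.node (.leaf (75, 1045)) (.leaf (20, 3124)))) (.node (.node (.leaf (0, 906)) (.leaf (5, 2612))) (.node (.leaf (0, 0)) (.leaf (77, 4036))))) (.node (.node (.node (.leaf (75, 1942)) (.leaf (0, 3055))) (.node (.leaf (0, 1966)) (.leaf (0, 3380)))) (.node (.node (.leaf (0, 820)) (.leaf (73, 3930))) (.node (.leaf (75, 1820)) (.leaf (77, 2956)))))) (.node (.node (.node (.node (.leaf (0, 0)) (.leaf (0, 2228))) (.node (.leaf (0, 0)) (.leaf (62, 1810)))) (.node (.node (.leaf (0, 0)) (.leaf (55, 557))) (.node (.leaf (0, 1716)) (.leaf (12, 3764))))) (.node (.node (.node (.leaf (5, 436)) (.leaf (0, 2484))) (.node (.leaf (0, 1460)) (.leaf (61, 2243)))) (.node (.node (.leaf (5, 948)) (.leaf (77, 3789))) (.node (.leaf (74, 1972)) (.leaf (66, 4020))))))) (.node (.node (.node (.node (.node (.leaf (0, 116)) (.leaf (74, 3321))) (.node (.leaf (4, 1140)) (.leaf (77, 1950))))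 (.node (.node (.leaf (7, 628)) (.leaf (76, 2676))) (.node (.leaf (0, 1652)) (.leaf (77, 3956))))) (.node (.node (.node (.leaf (0, 617)) (.leaf (0, 0))) (.node (.leaf (7, 1396)) (.leaf (5, 3444)))) (.node (.node (.leaf (0, 884)) (.leaf (0, 2932))) (.node (.leaf (5, 3306)) (.leaf (77, 2945)))))) (.node (.node (.node (.node (.leaf (74, 178)) (.leaf (77, 3332))) (.node (.leaf (77, 1268)) (.leaf (77, 3139)))) (.node (.node (.leaf (7, 462)) (.leaf (0, 2804))) (.node (.leaf (75, 791)) (.leaf (75, 3828))))) (.node (.node (.node (.leaf (77, 638)) (.leaf (77, 3763))) (.node (.leaf (77, 2917)) (.leaf (73, 4078)))) (.node (.node (.leaf (7, 1551)) (.leaf (0, 0))) (.node (.leaf (0, 2752)) (.leaf (77, 4084))))))))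

def twoVia209 : Janko.Tree (ℕ × ℕ) :=
  (.node (.node (.node (.node (.node (.node (.leaf (24, 107)) (.leaf (1, 2100))) (.node (.leaf (0, 0)) (.leaf (1, 3689)))) (.node (.node (.leaf (0, 0)) (.leaf (0, 0))) (.node (.leaf (1, 1588)) (.leaf (1, 3636))))) (.node (.node (.node (.leaf (67, 513)) (.leaf (68, 1310))) (.node (.leaf (0, 0)) (.leaf (0, 0)))) (.node (.node (.leaf (0, 0)) (.leaf (1, 3509))) (.node (.leaf (0, 0)) (.leaf (1, 3892)))))) (.node (.node (.node (.node (.leaf (1, 180)) (.leaf (77, 1540))) (.node (.leaf (1, 1204)) (.leaf (1, 3252)))) (.node (.node (.leaf (1, 692)) (.leaf (0, 0))) (.node (.leaf (74, 1005)) (.leaf (1, 3764))))) (.node (.node (.node (.leaf (0, 0)) (.leaf (77, 1785))) (.node (.leaf (0, 0)) (.leaf (75, 4029)))) (.node (.node (.leaf (0, 0)) (.leaf (1, 2996))) (.node (.leaf (1, 1972)) (.leaf (1, 4020))))))) (.node (.node (.node (.node (.node (.leaf (0, 0)) (.leaf (1, 2894))) (.node (.leaf (57, 2867)) (.leaf (74, 3911)))) (.node (.node (.leaf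 (0, 0)) (.leaf (1, 2676))) (.node (.leaf (77, 890)) (.leaf (0, 0))))) (.node (.node (.node (.leaf (0, 0)) (.leaf (1, 2420))) (.node (.leaf (0, 0)) (.leaf (0, 0)))) (.node (.node (.leaf (0, 0)) (.leaf (59, 2224))) (.node (.leaf (1, 1908)) (.leaf (1, 3956)))))) (.node (.node (.node (.node (.leaf (1, 244)) (.leaf (0, 0))) (.node (.leaf (0, 0)) (.leaf (1, 3316)))) (.node (.node (.leaf (69, 1173)) (.leaf (0, 0))) (.node (.leaf (0, 0)) (.leaf (1, 3828))))) (.node (.node (.node (.leaf (1, 500)) (.leaf (0, 0))) (.node (.leaf (0, 0)) (.leaf (67, 1535)))) (.node (.node (.leaf (1, 1549)) (.leaf (1, 3060))) (.node (.leaf (0, 0)) (.leaf (1, 4095))))))))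

def twoVia210 : Janko.Tree (ℕ × ℕ) :=
  (.node (.node (.node (.node (.node (.node (.leaf (2, 52)) (.leaf (31, 1436))) (.node (.leaf (2, 1076)) (.leaf (2, 3691)))) (.node (.node (.leaf (2, 564)) (.leaf (7, 1895))) (.node (.leaf (77, 4010)) (.leaf (13, 3057))))) (.node (.node (.node (.leaf (2, 522)) (.leaf (45, 2226))) (.node (.leaf (2, 1332)) (.leaf (6, 3380)))) (.node (.node (.leaf (70, 1283)) (.leaf (77, 1549))) (.node (.leaf (6, 1844)) (.leaf (68, 2057)))))) (.node (.node (.node (.node (.leaf (0, 0)) (.leaf (0, 0))) (.node (.leaf (71, 1689)) (.leaf (77, 1811)))) (.node (.node (.leaf (0, 0)) (.leaf (2, 2740))) (.node (.leaf (2, 1716)) (.leaf (53, 3710))))) (.node (.node (.node (.leaf (62, 257)) (.leaf (24, 3184))) (.node (.leaf (54, 952)) (.leaf (2, 3508)))) (.node (.node (.leaf (59, 599)) (.leaf (77, 1611))) (.node (.leaf (74, 843)) (.leaf (67, 3741))))))) (.node (.node (.node (.node (.node (.leaf (7, 221)) (.leaf (2, 2164))) (.node (.leaf (2, 1140)) (.leaf (2,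 3188)))) (.node (.node (.leaf (6, 628)) (.leaf (0, 0))) (.node (.leaf (0, 0)) (.leaf (6, 3700))))) (.node (.node (.node (.leaf (2, 372)) (.leaf (0, 0))) (.node (.leaf (6, 1396)) (.leaf (77, 3129)))) (.node (.node (.leaf (7, 1377)) (.leaf (7, 2205))) (.node (.leaf (77, 1379)) (.leaf (75, 2567)))))) (.node (.node (.node (.node (.leaf (75, 247)) (.leaf (2, 2292))) (.node (.leaf (2, 1268)) (.leaf (71, 3892)))) (.node (.node (.leaf (2, 756)) (.leaf (77, 2582))) (.node (.leaf (2, 1780)) (.leaf (77, 2989))))) (.node (.node (.node (.leaf (0, 0)) (.leaf (6, 2548))) (.node (.leaf (2, 1524)) (.leaf (2, 3958)))) (.node (.node (.leaf (7, 1554)) (.leaf (71, 3965))) (.node (.leaf (2, 2036)) (.leaf (67, 4007))))))))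

def twoVia211 : Janko.Tree (ℕ × ℕ) :=
  (.node (.node (.node (.node (.node (.node (.leaf (0, 0)) (.leaf (0, 0))) (.node (.leaf (77, 1600)) (.leaf (3, 3124)))) (.node (.node (.leaf (0, 0)) (.leaf (3, 2612))) (.node (.leaf (0, 0)) (.leaf (71, 4055))))) (.node (.node (.node (.leaf (3, 308)) (.leaf (3, 2356))) (.node (.leaf (0, 0)) (.leaf (5, 3022)))) (.node (.node (.leaf (77, 480)) (.leaf (3, 2868))) (.node (.leaf (3, 1844)) (.leaf (67, 3787)))))) (.node (.node (.node (.node (.leaf (0, 0)) (.leaf (59, 2223))) (.node (.leaf (67, 716)) (.leaf (75, 1175)))) (.node (.node (.leaf (0, 0)) (.leaf (55, 334))) (.node (.leaf (3, 2385)) (.leaf (0, 0))))) (.node (.node (.node (.leaf (3, 436)) (.leaf (71, 3989))) (.node (.leaf (3, 1460)) (.leaf (44, 1547)))) (.node (.node (.leaf (3, 948)) (.leaf (0, 0))) (.node (.leaf (0, 0)) (.leaf (54, 3183))))))) (.node (.node (.node (.node (.node (.leaf (3, 116)) (.leaf (67, 2162))) (.node (.leaf (45, 2381)) (.leaf (0, 0)))) (.node (.node (.leaf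 (3, 628)) (.leaf (68, 2046))) (.node (.leaf (0, 0)) (.leaf (3, 3700))))) (.node (.node (.node (.leaf (77, 647)) (.leaf (0, 0))) (.node (.leaf (3, 1396)) (.leaf (3, 3444)))) (.node (.node (.leaf (3, 884)) (.leaf (0, 0))) (.node (.leaf (0, 0)) (.leaf (70, 3250)))))) (.node (.node (.node (.node (.leaf (0, 0)) (.leaf (75, 1290))) (.node (.leaf (0, 0)) (.leaf (71, 2812)))) (.node (.node (.leaf (3, 756)) (.leaf (61, 2083))) (.node (.leaf (77, 1244)) (.leaf (0, 0))))) (.node (.node (.node (.leaf (61, 50)) (.leaf (3, 2548))) (.node (.leaf (0, 0)) (.leaf (3, 3572)))) (.node (.node (.leaf (3, 1012)) (.leaf (0, 0))) (.node (.leaf (52, 3852)) (.leaf (3, 4084))))))))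

def twoVia212 : Janko.Tree (ℕ × ℕ) :=
  (.node (.node (.node (.node (.node (.node (.leaf (7, 107)) (.leaf (77, 999))) (.node (.leaf (72, 417)) (.leaf (23, 1422)))) (.node (.node (.leaf (7, 906)) (.leaf (17, 2613))) (.node (.leaf (7, 1036)) (.leaf (7, 3056))))) (.node (.node (.node (.leaf (0, 309)) (.leaf (0, 0))) (.node (.leaf (7, 1966)) (.leaf (7, 3381)))) (.node (.node (.leaf (7, 2608)) (.leaf (73, 1464))) (.node (.leaf (77, 1843)) (.leaf (59, 3307)))))) (.node (.node (.node (.node (.leaf (0, 181)) (.leaf (0, 2955))) (.node (.leaf (17, 1205)) (.leaf (77, 2217)))) (.node (.node (.leaf (0, 693)) (.leaf (0, 2741))) (.node (.leaf (77, 712)) (.leaf (5, 3765))))) (.node (.node (.node (.leaf (59, 435)) (.leaf (77, 3069))) (.node (.leaf (0, 0)) (.leaf (20, 3509)))) (.node (.node (.leaf (0, 949)) (.leaf (0, 2997))) (.node (.leaf (59, 2669)) (.leaf (73, 3192))))))) (.node (.node (.node (.node (.node (.leaf (0, 0)) (.leaf (0, 2897))) (.node (.leaf (77, 3215)) (.leaf (20, 3189))))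 (.node (.node (.leaf (54, 1443)) (.leaf (23, 1941))) (.node (.leaf (0, 2343)) (.leaf (0, 3701))))) (.node (.node (.node (.leaf (7, 617)) (.leaf (77, 3672))) (.node (.leaf (4, 2735)) (.leaf (77, 3445)))) (.node (.node (.leaf (0, 0)) (.leaf (0, 3560))) (.node (.leaf (7, 1909)) (.leaf (77, 3957)))))) (.node (.node (.node (.node (.leaf (0, 245)) (.leaf (5, 2293))) (.node (.leaf (0, 1885)) (.leaf (77, 2336)))) (.node (.node (.leaf (5, 797)) (.leaf (77, 2925))) (.node (.leaf (0, 0)) (.leaf (75, 2413))))) (.node (.node (.node (.leaf (0, 501)) (.leaf (62, 1570))) (.node (.leaf (5, 1525)) (.leaf (77, 2219)))) (.node (.node (.leaf (0, 0)) (.leaf (77, 2499))) (.node (.leaf (15, 3374)) (.leaf (73, 3692))))))))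

def twoVia213 : Janko.Tree (ℕ × ℕ) :=
  (.node (.node (.node (.node (.node (.node (.leaf (0, 0)) (.leaf (0, 0))) (.node (.leaf (1, 1077)) (.leaf (0, 0)))) (.node (.node (.leaf (1, 565)) (.leaf (74, 1908))) (.node (.leaf (77, 3596)) (.leaf (71, 3571))))) (.node (.node (.node (.leaf (0, 0)) (.leaf (1, 2357))) (.node (.leaf (1, 1965)) (.leaf (77, 3866)))) (.node (.node (.leaf (1, 821)) (.leaf (1, 2869))) (.node (.leaf (1, 1845)) (.leaf (1, 3893)))))) (.node (.node (.node (.node (.leaf (0, 0)) (.leaf (0, 0))) (.node (.leaf (0, 0)) (.leaf (67, 2550)))) (.node (.node (.leaf (77, 2333)) (.leaf (74, 2027))) (.node (.leaf (1, 1717)) (.leaf (0, 0))))) (.node (.node (.node (.leaf (0, 0)) (.leaf (0, 0))) (.node (.leaf (1, 1461)) (.leaf (10, 3509)))) (.node (.node (.leaf (0, 0)) (.leaf (77, 4075))) (.node (.leaf (0, 0)) (.leaf (1, 4021))))))) (.node (.node (.node (.node (.node (.leaf (1, 117)) (.leaf (77, 3652))) (.node (.leaf (1, 1141)) (.leaf (10, 3189)))) (.node (.node (.leaf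 (1, 629)) (.leaf (71, 3751))) (.node (.leaf (0, 0)) (.leaf (77, 1797))))) (.node (.node (.node (.leaf (1, 373)) (.leaf (0, 0))) (.node (.leaf (1, 1397)) (.leaf (1, 3445)))) (.node (.node (.leaf (1, 885)) (.leaf (66, 1298))) (.node (.leaf (0, 0)) (.leaf (1, 3957)))))) (.node (.node (.node (.node (.leaf (0, 0)) (.leaf (0, 0))) (.node (.leaf (67, 814)) (.leaf (1, 3317)))) (.node (.node (.leaf (0, 0)) (.leaf (77, 3428))) (.node (.leaf (1, 1781)) (.leaf (1, 3829))))) (.node (.node (.node (.leaf (0, 0)) (.leaf (1, 2549))) (.node (.leaf (0, 0)) (.leaf (1, 3573)))) (.node (.node (.leaf (1, 1013)) (.leaf (1, 3061))) (.node (.leaf (1, 2751)) (.leaf (1, 4085))))))))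

def twoVia214 : Janko.Tree (ℕ × ℕ) :=
  (.node (.node (.node (.node (.node (.node (.leaf (7, 109)) (.leaf (77, 2103))) (.node (.leaf (77, 1054)) (.leaf (77, 736)))) (.node (.node (.leaf (7, 909)) (.leaf (2, 2613))) (.node (.leaf (2, 1589)) (.leaf (2, 3637))))) (.node (.node (.node (.leaf (0, 0)) (.leaf (0, 0))) (.node (.leaf (7, 1969)) (.leaf (2, 3381)))) (.node (.node (.leaf (0, 0)) (.leaf (74, 1671))) (.node (.leaf (77, 3460)) (.leaf (77, 3765)))))) (.node (.node (.node (.node (.leaf (6, 181)) (.leaf (2, 2229))) (.node (.leaf (2, 1205)) (.leaf (77, 3568)))) (.node (.node (.leaf (0, 0)) (.leaf (0, 0))) (.node (.leaf (77, 1464)) (.leaf (76, 1215))))) (.node (.node (.node (.leaf (6, 437)) (.leaf (6, 2485))) (.node (.leaf (0, 0)) (.leaf (54, 2243)))) (.node (.node (.leaf (6, 1004)) (.leaf (0, 0))) (.node (.leaf (6, 1973)) (.leaf (77, 3900))))))) (.node (.node (.node (.node (.node (.leaf (55, 115)) (.leaf (77, 3475))) (.node (.leaf (26, 724)) (.leaf (2, 3740)))) (.node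 (.node (.leaf (0, 0)) (.leaf (62, 848))) (.node (.leaf (2, 1653)) (.leaf (2, 3701))))) (.node (.node (.node (.leaf (77, 1582)) (.leaf (2, 2421))) (.node (.leaf (0, 0)) (.leaf (67, 2786)))) (.node (.node (.leaf (7, 1379)) (.leaf (7, 3560))) (.node (.leaf (6, 1909)) (.leaf (13, 3571)))))) (.node (.node (.node (.node (.leaf (6, 245)) (.leaf (77, 1920))) (.node (.leaf (2, 1887)) (.leaf (71, 3426)))) (.node (.node (.leaf (2, 757)) (.leaf (2, 2805))) (.node (.leaf (0, 0)) (.leaf (66, 3665))))) (.node (.node (.node (.leaf (77, 466)) (.leaf (68, 1839))) (.node (.leaf (2, 2208)) (.leaf (2, 3957)))) (.node (.node (.leaf (6, 2245)) (.leaf (76, 2486))) (.node (.leaf (61, 689)) (.leaf (77, 3263))))))))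

def twoVia215 : Janko.Tree (ℕ × ℕ) :=
  (.node (.node (.node (.node (.node (.node (.leaf (3, 53)) (.leaf (3, 2101))) (.node (.leaf (0, 0)) (.leaf (3, 3125)))) (.node (.node (.leaf (3, 565)) (.leaf (0, 0))) (.node (.leaf (3, 1589)) (.leaf (3, 3637))))) (.node (.node (.node (.leaf (0, 0)) (.leaf (0, 0))) (.node (.leaf (3, 1333)) (.leaf (3, 3381)))) (.node (.node (.leaf (0, 0)) (.leaf (77, 2160))) (.node (.leaf (0, 0)) (.leaf (67, 1412)))))) (.node (.node (.node (.node (.leaf (3, 181)) (.leaf (0, 0))) (.node (.leaf (0, 0)) (.leaf (3, 3253)))) (.node (.node (.leaf (0, 0)) (.leaf (0, 0))) (.node (.leaf (76, 2375)) (.leaf (3, 3765))))) (.node (.node (.node (.leaf (3, 437)) (.leaf (3, 2485))) (.node (.leaf (0, 0)) (.leaf (3, 3509)))) (.node (.node (.leaf (0, 0)) (.leaf (0, 0))) (.node (.leaf (3, 1973)) (.leaf (67, 4009))))))) (.node (.node (.node (.node (.node (.leaf (0, 0)) (.leaf (3, 2165))) (.node (.leaf (75, 2547)) (.leaf (3, 3189)))) (.node (.node (.leaf (75, 2097))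 (.leaf (3, 2677))) (.node (.leaf (0, 0)) (.leaf (77, 3123))))) (.node (.node (.node (.leaf (3, 373)) (.leaf (77, 2151))) (.node (.leaf (73, 2736)) (.leaf (0, 0)))) (.node (.node (.leaf (0, 0)) (.leaf (3, 2933))) (.node (.leaf (3, 1909)) (.leaf (71, 4034)))))) (.node (.node (.node (.node (.leaf (3, 245)) (.leaf (3, 2293))) (.node (.leaf (3, 1269)) (.leaf (70, 3785)))) (.node (.node (.leaf (0, 0)) (.leaf (0, 0))) (.node (.leaf (0, 0)) (.leaf (77, 1731))))) (.node (.node (.node (.leaf (0, 0)) (.leaf (0, 0))) (.node (.leaf (3, 1525)) (.leaf (75, 3760)))) (.node (.node (.leaf (0, 0)) (.leaf (61, 3290))) (.node (.leaf (3, 2037)) (.leaf (75, 3214))))))))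

def twoVia216 : Janko.Tree (ℕ × ℕ) :=
  (.node (.node (.node (.node (.node (.node (.leaf (0, 0)) (.leaf (31, 929))) (.node (.leaf (5, 1078)) (.leaf (0, 0)))) (.node (.node (.leaf (73, 189)) (.leaf (59, 1284))) (.node (.leaf (50, 399)) (.leaf (0, 3638))))) (.node (.node (.node (.leaf (0, 524)) (.leaf (0, 2358))) (.node (.leaf (0, 0)) (.leaf (5, 3382)))) (.node (.node (.leaf (0, 0)) (.leaf (77, 1320))) (.node (.leaf (0, 1846)) (.leaf (77, 3812)))))) (.node (.node (.node (.node (.leaf (74, 45)) (.leaf (55, 1002))) (.node (.leaf (5, 1206)) (.leaf (77, 3254)))) (.node (.node (.leaf (0, 1096)) (.leaf (0, 3403))) (.node (.leaf (77, 2528)) (.leaf (0, 3766))))) (.node (.node (.node (.leaf (0, 0)) (.leaf (0, 0))) (.node (.leaf (12, 2234)) (.leaf (0, 3510)))) (.node (.node (.leaf (77, 381)) (.leaf (0, 3601))) (.node (.leaf (77, 1750)) (.leaf (77, 4022))))))) (.node (.node (.node (.node (.node (.leaf (7, 55)) (.leaf (5, 3531))) (.node (.leaf (43, 1700)) (.leaf (4, 3190)))) (.node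 (.node (.leaf (77, 550)) (.leaf (62, 1294))) (.node (.leaf (7, 2343)) (.leaf (77, 3702))))) (.node (.node (.node (.leaf (23, 1511)) (.leaf (14, 1158))) (.node (.leaf (0, 1398)) (.leaf (61, 3446)))) (.node (.node (.leaf (7, 551)) (.leaf (5, 2934))) (.node (.leaf (0, 2605)) (.leaf (61, 1537)))))) (.node (.node (.node (.node (.leaf (77, 246)) (.leaf (0, 2294))) (.node (.leaf (14, 1270)) (.leaf (62, 2160)))) (.node (.node (.leaf (7, 758)) (.leaf (61, 3912))) (.node (.leaf (0, 1782)) (.leaf (77, 3037))))) (.node (.node (.node (.leaf (62, 1191)) (.leaf (77, 2927))) (.node (.leaf (0, 0)) (.leaf (77, 2225)))) (.node (.node (.leaf (5, 1014)) (.leaf (77, 695))) (.node (.leaf (76, 891)) (.leaf (76, 2446))))))))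

def twoVia217 : Janko.Tree (ℕ × ℕ) :=
  (.node (.node (.node (.node (.node (.node (.leaf (1, 54)) (.leaf (1, 2102))) (.node (.leaf (67, 1609)) (.leaf (1, 3126)))) (.node (.node (.leaf (1, 566)) (.leaf (0, 0))) (.node (.leaf (0, 0)) (.leaf (77, 3896))))) (.node (.node (.node (.leaf (0, 0)) (.leaf (0, 0))) (.node (.leaf (1, 1334)) (.leaf (77, 2711)))) (.node (.node (.leaf (1, 822)) (.leaf (77, 3357))) (.node (.leaf (77, 2579)) (.leaf (77, 3864)))))) (.node (.node (.node (.node (.leaf (1, 182)) (.leaf (67, 1542))) (.node (.leaf (0, 0)) (.leaf (1, 3254)))) (.node (.node (.leaf (0, 0)) (.leaf (0, 0))) (.node (.leaf (1, 1718)) (.leaf (0, 0))))) (.node (.node (.node (.leaf (1, 438)) (.leaf (1, 2486))) (.node (.leaf (1, 1462)) (.leaf (1, 3510)))) (.node (.node (.leaf (9, 950)) (.leaf (77, 3597))) (.node (.leaf (1, 1974)) (.leaf (1, 4022))))))) (.node (.node (.node (.node (.node (.leaf (0, 0)) (.leaf (1, 2166))) (.node (.leaf (0, 0)) (.leaf (77, 1800)))) (.node (.node (.leaf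 (0, 0)) (.leaf (1, 2678))) (.node (.leaf (67, 1090)) (.leaf (1, 3702))))) (.node (.node (.node (.leaf (1, 374)) (.leaf (1, 2422))) (.node (.leaf (0, 0)) (.leaf (75, 3777)))) (.node (.node (.leaf (62, 874)) (.leaf (0, 0))) (.node (.leaf (1, 1910)) (.leaf (70, 3958)))))) (.node (.node (.node (.node (.leaf (1, 246)) (.leaf (77, 1431))) (.node (.leaf (1, 1270)) (.leaf (1, 3318)))) (.node (.node (.leaf (0, 0)) (.leaf (10, 2806))) (.node (.leaf (77, 3726)) (.leaf (1, 3830))))) (.node (.node (.node (.leaf (1, 805)) (.leaf (0, 0))) (.node (.leaf (1, 1526)) (.leaf (1, 3574)))) (.node (.node (.leaf (0, 0)) (.leaf (1, 3062))) (.node (.leaf (1, 2038)) (.leaf (1, 4086))))))))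

def twoVia218 : Janko.Tree (ℕ × ℕ) :=
  (.node (.node (.node (.node (.node (.node (.leaf (0, 0)) (.leaf (6, 3478))) (.node (.leaf (62, 687)) (.leaf (0, 0)))) (.node (.node (.leaf (0, 0)) (.leaf (2, 3306))) (.node (.leaf (2, 1590)) (.leaf (50, 3077))))) (.node (.node (.node (.leaf (2, 310)) (.leaf (2, 2358))) (.node (.leaf (6, 2689)) (.leaf (44, 865)))) (.node (.node (.leaf (0, 0)) (.leaf (2, 2870))) (.node (.leaf (0, 0)) (.leaf (77, 4029)))))) (.node (.node (.node (.node (.leaf (0, 0)) (.leaf (2, 2957))) (.node (.leaf (2, 1795)) (.leaf (6, 3256)))) (.node (.node (.leaf (2, 694)) (.leaf (2, 2742))) (.node (.leaf (77, 1650)) (.leaf (71, 2378))))) (.node (.node (.node (.leaf (0, 0)) (.leaf (0, 0))) (.node (.leaf (75, 218)) (.leaf (77, 951)))) (.node (.node (.leaf (2, 950)) (.leaf (2, 2998))) (.node (.leaf (77, 1546)) (.leaf (67, 3753))))))) (.node (.node (.node (.node (.node (.leaf (2, 118)) (.leaf (0, 0))) (.node (.leaf (6, 1142)) (.leaf (2, 3190)))) (.node (.node (.leaf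 (77, 635)) (.leaf (77, 1295))) (.node (.leaf (7, 2346)) (.leaf (44, 1555))))) (.node (.node (.node (.leaf (0, 0)) (.leaf (0, 0))) (.node (.leaf (0, 0)) (.leaf (6, 3446)))) (.node (.node (.leaf (2, 886)) (.leaf (2, 3560))) (.node (.leaf (0, 0)) (.leaf (6, 3958)))))) (.node (.node (.node (.node (.leaf (0, 0)) (.leaf (24, 2995))) (.node (.leaf (0, 0)) (.leaf (77, 2163)))) (.node (.node (.leaf (2, 1192)) (.leaf (2, 3465))) (.node (.leaf (0, 0)) (.leaf (70, 3315))))) (.node (.node (.node (.leaf (2, 502)) (.leaf (2, 2550))) (.node (.leaf (0, 0)) (.leaf (77, 3794)))) (.node (.node (.leaf (59, 588)) (.leaf (54, 3050))) (.node (.leaf (0, 0)) (.leaf (2, 4095))))))))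

def twoVia219 : Janko.Tree (ℕ × ℕ) :=
  (.node (.node (.node (.node (.node (.node (.leaf (0, 0)) (.leaf (0, 0))) (.node (.leaf (3, 1078)) (.leaf (0, 0)))) (.node (.node (.leaf (0, 0)) (.leaf (3, 2614))) (.node (.leaf (59, 2647)) (.leaf (5, 3974))))) (.node (.node (.node (.leaf (77, 554)) (.leaf (54, 3634))) (.node (.leaf (0, 0)) (.leaf (3, 3382)))) (.node (.node (.leaf (0, 0)) (.leaf (0, 0))) (.node (.leaf (0, 0)) (.leaf (3, 3894)))))) (.node (.node (.node (.node (.leaf (73, 200)) (.leaf (3, 2230))) (.node (.leaf (3, 1206)) (.leaf (0, 0)))) (.node (.node (.leaf (0, 0)) (.leaf (0, 0))) (.node (.leaf (61, 1812)) (.leaf (3, 3766))))) (.node (.node (.node (.leaf (0, 0)) (.leaf (0, 0))) (.node (.leaf (0, 0)) (.leaf (77, 2471)))) (.node (.node (.leaf (77, 220)) (.leaf (68, 1590))) (.node (.leaf (0, 0)) (.leaf (71, 3968))))))) (.node (.node (.node (.node (.node (.leaf (3, 118)) (.leaf (0, 0))) (.node (.leaf (3, 1142)) (.leaf (7, 1787)))) (.node (.node (.leaf (3, 630)) (.leaf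 (75, 400))) (.node (.leaf (3, 1654)) (.leaf (76, 3583))))) (.node (.node (.node (.leaf (0, 0)) (.leaf (0, 0))) (.node (.leaf (61, 1737)) (.leaf (3, 3446)))) (.node (.node (.leaf (3, 886)) (.leaf (3, 2934))) (.node (.leaf (71, 3470)) (.leaf (3, 3958)))))) (.node (.node (.node (.node (.leaf (77, 852)) (.leaf (43, 3599))) (.node (.leaf (0, 0)) (.leaf (77, 1484)))) (.node (.node (.leaf (3, 758)) (.leaf (3, 2806))) (.node (.leaf (0, 0)) (.leaf (70, 3238))))) (.node (.node (.node (.leaf (0, 0)) (.leaf (0, 0))) (.node (.leaf (0, 0)) (.leaf (0, 0)))) (.node (.node (.leaf (3, 1014)) (.leaf (54, 1666))) (.node (.leaf (61, 891)) (.leaf (71, 3674))))))))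

def twoVia220 : Janko.Tree (ℕ × ℕ) :=
  (.node (.node (.node (.node (.node (.node (.leaf (0, 55)) (.leaf (0, 2103))) (.node (.leaf (59, 1077)) (.leaf (0, 3127)))) (.node (.node (.leaf (4, 567)) (.leaf (59, 2615))) (.node (.leaf (23, 823)) (.leaf (21, 3639))))) (.node (.node (.node (.leaf (7, 524)) (.leaf (5, 2359))) (.node (.leaf (77, 2669)) (.leaf (0, 3383)))) (.node (.node (.leaf (0, 823)) (.leaf (61, 2871))) (.node (.leaf (0, 2556)) (.leaf (64, 3975)))))) (.node (.node (.node (.node (.leaf (0, 183)) (.leaf (4, 2231))) (.node (.leaf (0, 0)) (.leaf (62, 3567)))) (.node (.node (.leaf (7, 1096)) (.leaf (7, 3403))) (.node (.leaf (54, 1719)) (.leaf (65, 3416))))) (.node (.node (.node (.leaf (0, 439)) (.leaf (0, 2487))) (.node (.leaf (5, 1463)) (.leaf (0, 3511)))) (.node (.node (.leaf (0, 1463)) (.leaf (7, 3601))) (.node (.leaf (0, 1975)) (.leaf (0, 4023))))))) (.node (.node (.node (.node (.node (.leaf (25, 654)) (.leaf (77, 2167))) (.node (.leaf (4, 1143)) (.leaf (7,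 3191)))) (.node (.node (.leaf (0, 0)) (.leaf (77, 2975))) (.node (.leaf (4, 1655)) (.leaf (75, 2501))))) (.node (.node (.node (.leaf (4, 375)) (.leaf (5, 2423))) (.node (.leaf (0, 2051)) (.leaf (0, 3447)))) (.node (.node (.leaf (0, 887)) (.leaf (77, 3795))) (.node (.leaf (62, 1911)) (.leaf (73, 3951)))))) (.node (.node (.node (.node (.leaf (0, 247)) (.leaf (37, 2295))) (.node (.leaf (4, 1271)) (.leaf (62, 3319)))) (.node (.node (.leaf (74, 293)) (.leaf (73, 1430))) (.node (.leaf (0, 2480)) (.leaf (0, 3831))))) (.node (.node (.node (.leaf (0, 810)) (.leaf (33, 2551))) (.node (.leaf (77, 1279)) (.leaf (77, 3133)))) (.node (.node (.leaf (76, 2071)) (.leaf (73, 1677))) (.node (.leaf (4, 2039)) (.leaf (77, 3786))))))))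

def twoVia221 : Janko.Tree (ℕ × ℕ) :=
  (.node (.node (.node (.node (.node (.node (.leaf (0, 0)) (.leaf (0, 0))) (.node (.leaf (0, 0)) (.leaf (0, 0)))) (.node (.node (.leaf (0, 0)) (.leaf (1, 2615))) (.node (.leaf (73, 3211)) (.leaf (10, 3639))))) (.node (.node (.node (.leaf (67, 484)) (.leaf (0, 0))) (.node (.leaf (0, 0)) (.leaf (77, 3683)))) (.node (.node (.leaf (0, 0)) (.leaf (0, 0))) (.node (.leaf (0, 0)) (.leaf (1, 3895)))))) (.node (.node (.node (.node (.leaf (0, 0)) (.leaf (77, 1542))) (.node (.leaf (1, 1207)) (.leaf (67, 2552)))) (.node (.node (.leaf (1, 1095)) (.leaf (67, 3302))) (.node (.leaf (0, 0)) (.leaf (1, 3767))))) (.node (.node (.node (.leaf (0, 0)) (.leaf (74, 1787))) (.node (.leaf (0, 0)) (.leaf (1, 3673)))) (.node (.node (.leaf (0, 0)) (.leaf (1, 3600))) (.node (.leaf (77, 1337)) (.leaf (77, 3757))))))) (.node (.node (.node (.node (.node (.leaf (0, 0)) (.leaf (1, 2167))) (.node (.leaf (0, 0)) (.leaf (0, 0)))) (.node (.node (.leaf (1, 631)) (.leaf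 (67, 1960))) (.node (.leaf (77, 1090)) (.leaf (0, 0))))) (.node (.node (.node (.leaf (0, 0)) (.leaf (0, 0))) (.node (.leaf (0, 0)) (.leaf (77, 3970)))) (.node (.node (.leaf (0, 0)) (.leaf (1, 2935))) (.node (.leaf (1, 1911)) (.leaf (10, 3959)))))) (.node (.node (.node (.node (.leaf (0, 0)) (.leaf (1, 2295))) (.node (.leaf (53, 1395)) (.leaf (77, 2710)))) (.node (.node (.leaf (1, 759)) (.leaf (1, 2807))) (.node (.leaf (0, 0)) (.leaf (77, 4028))))) (.node (.node (.node (.leaf (0, 0)) (.leaf (1, 3253))) (.node (.leaf (1, 1527)) (.leaf (1, 3575)))) (.node (.node (.leaf (1, 1015)) (.leaf (1, 3063))) (.node (.leaf (74, 3852)) (.leaf (10, 4087))))))))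

def twoVia222 : Janko.Tree (ℕ × ℕ) :=
  (.node (.node (.node (.node (.node (.node (.leaf (0, 0)) (.leaf (48, 2654))) (.node (.leaf (6, 1079)) (.leaf (77, 3591)))) (.node (.node (.leaf (2, 567)) (.leaf (77, 4001))) (.node (.leaf (76, 703)) (.leaf (70, 3971))))) (.node (.node (.node (.leaf (77, 1395)) (.leaf (7, 1669))) (.node (.leaf (2, 1335)) (.leaf (0, 0)))) (.node (.node (.leaf (0, 0)) (.leaf (2, 3511))) (.node (.leaf (2, 1847)) (.leaf (77, 2761)))))) (.node (.node (.node (.node (.leaf (24, 322)) (.leaf (2, 2231))) (.node (.leaf (0, 0)) (.leaf (6, 3255)))) (.node (.node (.leaf (7, 1099)) (.leaf (7, 3406))) (.node (.leaf (6, 1719)) (.leaf (77, 1148))))) (.node (.node (.node (.leaf (0, 0)) (.leaf (0, 0))) (.node (.leaf (76, 201)) (.leaf (6, 3511)))) (.node (.node (.leaf (77, 379)) (.leaf (74, 712))) (.node (.leaf (0, 0)) (.leaf (0, 0))))))) (.node (.node (.node (.node (.node (.leaf (2, 119)) (.leaf (77, 3520))) (.node (.leaf (2, 1143)) (.leaf (6, 3191)))) (.node (.node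 (.leaf (0, 0)) (.leaf (77, 3853))) (.node (.leaf (2, 1655)) (.leaf (6, 3703))))) (.node (.node (.node (.leaf (2, 375)) (.leaf (77, 1149))) (.node (.leaf (2, 1399)) (.leaf (6, 3447)))) (.node (.node (.leaf (24, 1379)) (.leaf (77, 3912))) (.node (.leaf (0, 0)) (.leaf (77, 2965)))))) (.node (.node (.node (.node (.leaf (13, 258)) (.leaf (77, 2457))) (.node (.leaf (2, 1271)) (.leaf (77, 3471)))) (.node (.node (.leaf (74, 765)) (.leaf (0, 0))) (.node (.leaf (2, 1783)) (.leaf (0, 0))))) (.node (.node (.node (.leaf (2, 811)) (.leaf (2, 3255))) (.node (.leaf (0, 0)) (.leaf (77, 3700)))) (.node (.node (.leaf (77, 3662)) (.leaf (77, 658))) (.node (.leaf (2, 2039)) (.leaf (27, 4022))))))))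

def twoVia223 : Janko.Tree (ℕ × ℕ) :=
  (.node (.node (.node (.node (.node (.node (.leaf (0, 0)) (.leaf (0, 0))) (.node (.leaf (3, 1079)) (.leaf (73, 3584)))) (.node (.node (.leaf (0, 0)) (.leaf (73, 2807))) (.node (.leaf (3, 1591)) (.leaf (3, 3639))))) (.node (.node (.node (.leaf (3, 311)) (.leaf (3, 2359))) (.node (.leaf (0, 0)) (.leaf (0, 0)))) (.node (.node (.leaf (0, 0)) (.leaf (3, 2871))) (.node (.leaf (0, 0)) (.leaf (75, 1724)))))) (.node (.node (.node (.node (.leaf (0, 0)) (.leaf (54, 1541))) (.node (.leaf (0, 0)) (.leaf (3, 3255)))) (.node (.node (.leaf (3, 695)) (.leaf (3, 2743))) (.node (.leaf (3, 1719)) (.leaf (66, 2520))))) (.node (.node (.node (.leaf (0, 0)) (.leaf (59, 2481))) (.node (.leaf (3, 1463)) (.leaf (3, 3511)))) (.node (.node (.leaf (3, 951)) (.leaf (3, 2999))) (.node (.leaf (6, 2695)) (.leaf (77, 3819))))))) (.node (.node (.node (.node (.node (.leaf (0, 0)) (.leaf (68, 2155))) (.node (.leaf (0, 0)) (.leaf (3, 3191)))) (.node (.node (.leaf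 (0, 0)) (.leaf (3, 2679))) (.node (.leaf (0, 0)) (.leaf (3, 3703))))) (.node (.node (.node (.leaf (0, 0)) (.leaf (3, 2423))) (.node (.leaf (77, 2154)) (.leaf (3, 3447)))) (.node (.node (.leaf (0, 0)) (.leaf (77, 4070))) (.node (.leaf (0, 0)) (.leaf (3, 3959)))))) (.node (.node (.node (.node (.leaf (0, 0)) (.leaf (0, 0))) (.node (.leaf (0, 0)) (.leaf (3, 3319)))) (.node (.node (.leaf (0, 0)) (.leaf (59, 1430))) (.node (.leaf (0, 0)) (.leaf (0, 0))))) (.node (.node (.node (.leaf (3, 503)) (.leaf (3, 2551))) (.node (.leaf (0, 0)) (.leaf (77, 1570)))) (.node (.node (.leaf (75, 612)) (.leaf (68, 4014))) (.node (.leaf (3, 2737)) (.leaf (3, 4087))))))))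

def twoVia224 : Janko.Tree (ℕ × ℕ) :=
  (.node (.node (.node (.node (.node (.node (.leaf (0, 115)) (.leaf (77, 2104))) (.node (.leaf (77, 3180)) (.leaf (62, 1733)))) (.node (.node (.leaf (0, 568)) (.leaf (0, 2616))) (.node (.leaf (74, 1592)) (.leaf (77, 2003))))) (.node (.node (.node (.leaf (23, 1322)) (.leaf (76, 2360))) (.node (.leaf (5, 1336)) (.leaf (0, 3869)))) (.node (.node (.leaf (0, 1290)) (.leaf (77, 2872))) (.node (.leaf (7, 2556)) (.leaf (0, 3896)))))) (.node (.node (.node (.node (.leaf (0, 333)) (.leaf (77, 1813))) (.node (.leaf (0, 1208)) (.leaf (23, 3795)))) (.node (.node (.leaf (0, 0)) (.leaf (75, 591))) (.node (.leaf (73, 1720)) (.leaf (74, 2449))))) (.node (.node (.node (.leaf (0, 714)) (.leaf (0, 3190))) (.node (.leaf (0, 0)) (.leaf (57, 1470)))) (.node (.node (.leaf (72, 359)) (.leaf (59, 1294))) (.node (.leaf (0, 2695)) (.leaf (0, 4089))))))) (.node (.node (.node (.node (.node (.leaf (72, 1922)) (.leaf (62, 1158))) (.node (.leaf (73, 1147)) (.leaf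 (0, 0)))) (.node (.node (.leaf (77, 1538)) (.leaf (4, 2680))) (.node (.leaf (0, 1656)) (.leaf (61, 2981))))) (.node (.node (.node (.leaf (0, 376)) (.leaf (0, 2424))) (.node (.leaf (77, 1164)) (.leaf (7, 3448)))) (.node (.node (.leaf (0, 1382)) (.leaf (75, 1498))) (.node (.leaf (4, 1912)) (.leaf (77, 2865)))))) (.node (.node (.node (.node (.leaf (0, 429)) (.leaf (75, 1766))) (.node (.leaf (0, 1272)) (.leaf (0, 0)))) (.node (.node (.leaf (0, 760)) (.leaf (4, 2808))) (.node (.leaf (7, 2480)) (.leaf (0, 4057))))) (.node (.node (.node (.leaf (0, 0)) (.leaf (77, 2462))) (.node (.leaf (77, 2476)) (.leaf (77, 1869)))) (.node (.node (.leaf (75, 910)) (.leaf (4, 3064))) (.node (.leaf (75, 375)) (.leaf (5, 4088))))))))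

def twoVia225 : Janko.Tree (ℕ × ℕ) :=
  (.node (.node (.node (.node (.node (.node (.leaf (0, 0)) (.leaf (24, 1436))) (.node (.leaf (1, 1080)) (.leaf (1, 3128)))) (.node (.node (.leaf (0, 0)) (.leaf (0, 0))) (.node (.leaf (1, 1592)) (.leaf (1, 3640))))) (.node (.node (.node (.leaf (1, 312)) (.leaf (1, 2360))) (.node (.leaf (0, 0)) (.leaf (0, 0)))) (.node (.node (.leaf (0, 0)) (.leaf (1, 2872))) (.node (.leaf (1, 2555)) (.leaf (77, 2374)))))) (.node (.node (.node (.node (.leaf (0, 0)) (.leaf (1, 2232))) (.node (.leaf (0, 0)) (.leaf (0, 0)))) (.node (.node (.leaf (1, 696)) (.leaf (1, 2744))) (.node (.leaf (1, 1720)) (.leaf (1, 3768))))) (.node (.node (.node (.leaf (0, 0)) (.leaf (77, 3190))) (.node (.leaf (1, 1464)) (.leaf (1, 3512)))) (.node (.node (.leaf (1, 952)) (.leaf (0, 0))) (.node (.leaf (0, 0)) (.leaf (77, 3832))))))) (.node (.node (.node (.node (.node (.leaf (0, 0)) (.leaf (0, 0))) (.node (.leaf (0, 0)) (.leaf (1, 3192)))) (.node (.node (.leaf (0, 0)) (.leaf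 (77, 1960))) (.node (.leaf (0, 0)) (.leaf (1, 3704))))) (.node (.node (.node (.leaf (0, 0)) (.leaf (77, 2035))) (.node (.leaf (10, 1400)) (.leaf (1, 3448)))) (.node (.node (.leaf (0, 0)) (.leaf (0, 0))) (.node (.leaf (0, 0)) (.leaf (1, 3960)))))) (.node (.node (.node (.node (.leaf (77, 1139)) (.leaf (0, 0))) (.node (.leaf (0, 0)) (.leaf (1, 3320)))) (.node (.node (.leaf (0, 0)) (.leaf (77, 2145))) (.node (.leaf (1, 2479)) (.leaf (67, 2634))))) (.node (.node (.node (.leaf (1, 504)) (.leaf (1, 2552))) (.node (.leaf (0, 0)) (.leaf (1, 3576)))) (.node (.node (.leaf (1, 1016)) (.leaf (0, 0))) (.node (.leaf (1, 2040)) (.leaf (77, 4074))))))))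

def twoVia226 : Janko.Tree (ℕ × ℕ) :=
  (.node (.node (.node (.node (.node (.node (.leaf (2, 56)) (.leaf (2, 2104))) (.node (.leaf (77, 3195)) (.leaf (77, 1735)))) (.node (.node (.leaf (7, 913)) (.leaf (62, 3427))) (.node (.leaf (74, 1594)) (.leaf (77, 1050))))) (.node (.node (.node (.leaf (0, 0)) (.leaf (77, 3172))) (.node (.leaf (2, 1973)) (.leaf (2, 3384)))) (.node (.node (.leaf (2, 824)) (.leaf (0, 0))) (.node (.leaf (7, 2559)) (.leaf (6, 3896)))))) (.node (.node (.node (.node (.leaf (6, 184)) (.leaf (26, 1542))) (.node (.leaf (77, 1207)) (.leaf (26, 3254)))) (.node (.node (.leaf (6, 1668)) (.leaf (2, 3405))) (.node (.leaf (0, 0)) (.leaf (36, 3216))))) (.node (.node (.node (.leaf (2, 440)) (.leaf (2, 2488))) (.node (.leaf (71, 2011)) (.leaf (71, 3100)))) (.node (.node (.leaf (72, 379)) (.leaf (77, 1296))) (.node (.leaf (2, 1976)) (.leaf (2, 4024))))))) (.node (.node (.node (.node (.node (.leaf (2, 227)) (.leaf (2, 2168))) (.node (.leaf (2, 1719)) (.leaf (0, 0))))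 (.node (.node (.leaf (2, 632)) (.leaf (2, 2680))) (.node (.leaf (7, 2347)) (.leaf (0, 0))))) (.node (.node (.node (.leaf (7, 623)) (.leaf (76, 1420))) (.node (.leaf (77, 3106)) (.leaf (0, 0)))) (.node (.node (.leaf (6, 888)) (.leaf (76, 1498))) (.node (.leaf (2, 1912)) (.leaf (65, 3674)))))) (.node (.node (.node (.node (.leaf (6, 248)) (.leaf (6, 2296))) (.node (.leaf (7, 1890)) (.leaf (0, 0)))) (.node (.node (.leaf (6, 760)) (.leaf (2, 2808))) (.node (.leaf (7, 2483)) (.leaf (2, 3832))))) (.node (.node (.node (.leaf (0, 0)) (.leaf (2, 3254))) (.node (.leaf (2, 1528)) (.leaf (54, 3569)))) (.node (.node (.leaf (71, 2240)) (.leaf (2, 3064))) (.node (.leaf (2, 2753)) (.leaf (6, 4088))))))))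

def twoVia227 : Janko.Tree (ℕ × ℕ) :=
  (.node (.node (.node (.node (.node (.node (.leaf (0, 0)) (.leaf (0, 0))) (.node (.leaf (0, 0)) (.leaf (75, 1149)))) (.node (.node (.leaf (3, 568)) (.leaf (59, 2806))) (.node (.leaf (0, 0)) (.leaf (77, 1179))))) (.node (.node (.node (.leaf (0, 0)) (.leaf (77, 2432))) (.node (.leaf (3, 1336)) (.leaf (0, 0)))) (.node (.node (.leaf (0, 0)) (.leaf (0, 0))) (.node (.leaf (3, 1848)) (.leaf (3, 3896)))))) (.node (.node (.node (.node (.leaf (3, 184)) (.leaf (70, 2956))) (.node (.leaf (67, 1189)) (.leaf (3, 3256)))) (.node (.node (.leaf (0, 0)) (.leaf (66, 3450))) (.node (.leaf (71, 2321)) (.leaf (75, 2280))))) (.node (.node (.node (.leaf (0, 0)) (.leaf (0, 0))) (.node (.leaf (3, 2018)) (.leaf (60, 2150)))) (.node (.node (.leaf (0, 0)) (.leaf (3, 3000))) (.node (.leaf (0, 0)) (.leaf (75, 3778))))))) (.node (.node (.node (.node (.node (.leaf (3, 120)) (.leaf (0, 0))) (.node (.leaf (3, 1144)) (.leaf (0, 0)))) (.node (.node (.leaf (77, 931))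 (.leaf (0, 0))) (.node (.leaf (3, 1656)) (.leaf (59, 2980))))) (.node (.node (.node (.leaf (3, 376)) (.leaf (3, 2424))) (.node (.leaf (3, 1400)) (.leaf (59, 3454)))) (.node (.node (.leaf (3, 888)) (.leaf (3, 2936))) (.node (.leaf (0, 0)) (.leaf (76, 1897)))))) (.node (.node (.node (.node (.leaf (3, 248)) (.leaf (3, 2296))) (.node (.leaf (3, 1272)) (.leaf (0, 0)))) (.node (.node (.leaf (3, 760)) (.leaf (77, 3442))) (.node (.leaf (3, 1784)) (.leaf (77, 837))))) (.node (.node (.node (.leaf (0, 0)) (.leaf (0, 0))) (.node (.leaf (0, 0)) (.leaf (66, 1358)))) (.node (.node (.leaf (73, 2071)) (.leaf (6, 3393))) (.node (.leaf (66, 2936)) (.leaf (3, 4088))))))))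

def twoVia228 : Janko.Tree (ℕ × ℕ) :=
  (.node (.node (.node (.node (.node (.node (.leaf (7, 115)) (.leaf (0, 2829))) (.node (.leaf (0, 1081)) (.leaf (11, 1753)))) (.node (.node (.leaf (0, 0)) (.leaf (66, 3576))) (.node (.leaf (0, 1593)) (.leaf (77, 3641))))) (.node (.node (.node (.leaf (4, 313)) (.leaf (0, 2361))) (.node (.leaf (0, 0)) (.leaf (7, 3869)))) (.node (.node (.leaf (7, 1290)) (.leaf (75, 2483))) (.node (.leaf (0, 0)) (.leaf (7, 3897)))))) (.node (.node (.node (.node (.leaf (0, 0)) (.leaf (0, 2951))) (.node (.leaf (77, 474)) (.leaf (0, 3257)))) (.node (.node (.leaf (49, 178)) (.leaf (0, 0))) (.node (.leaf (75, 1566)) (.leaf (0, 3769))))) (.node (.node (.node (.leaf (7, 714)) (.leaf (59, 2479))) (.node (.leaf (5, 1465)) (.leaf (0, 3748)))) (.node (.node (.leaf (5, 953)) (.leaf (25, 3001))) (.node (.leaf (20, 1977)) (.leaf (77, 4025))))))) (.node (.node (.node (.node (.node (.leaf (77, 71)) (.leaf (20, 2169))) (.node (.leaf (77, 1125)) (.leaf (0, 3193))))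 (.node (.node (.leaf (77, 633)) (.leaf (0, 2681))) (.node (.leaf (0, 0)) (.leaf (77, 3791))))) (.node (.node (.node (.leaf (0, 0)) (.leaf (75, 1409))) (.node (.leaf (72, 1403)) (.leaf (0, 3449)))) (.node (.node (.leaf (75, 92)) (.leaf (77, 2905))) (.node (.leaf (0, 1913)) (.leaf (0, 3961)))))) (.node (.node (.node (.node (.leaf (0, 0)) (.leaf (5, 2297))) (.node (.leaf (0, 0)) (.leaf (77, 1914)))) (.node (.node (.leaf (75, 779)) (.leaf (76, 2809))) (.node (.leaf (0, 0)) (.leaf (7, 4057))))) (.node (.node (.node (.leaf (75, 189)) (.leaf (0, 2553))) (.node (.leaf (77, 3808)) (.leaf (73, 2234)))) (.node (.node (.leaf (0, 1017)) (.leaf (76, 702))) (.node (.leaf (7, 2041)) (.leaf (4, 4089))))))))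

def twoVia229 : Janko.Tree (ℕ × ℕ) :=
  (.node (.node (.node (.node (.node (.node (.leaf (1, 57)) (.leaf (77, 1713))) (.node (.leaf (77, 993)) (.leaf (1, 3129)))) (.node (.node (.leaf (1, 569)) (.leaf (1, 2617))) (.node (.leaf (0, 0)) (.leaf (1, 3641))))) (.node (.node (.node (.leaf (0, 0)) (.leaf (0, 0))) (.node (.leaf (1, 1337)) (.leaf (67, 1347)))) (.node (.node (.leaf (1, 1288)) (.leaf (77, 2307))) (.node (.leaf (1, 1849)) (.leaf (1, 3897)))))) (.node (.node (.node (.node (.leaf (1, 185)) (.leaf (0, 0))) (.node (.leaf (1, 1209)) (.leaf (0, 0)))) (.node (.node (.leaf (0, 0)) (.leaf (1, 2745))) (.node (.leaf (0, 0)) (.leaf (77, 3440))))) (.node (.node (.node (.leaf (1, 712)) (.leaf (1, 3189))) (.node (.leaf (0, 0)) (.leaf (77, 3748)))) (.node (.node (.leaf (0, 0)) (.leaf (1, 3001))) (.node (.leaf (1, 2694)) (.leaf (77, 3271))))))) (.node (.node (.node (.node (.node (.leaf (1, 121)) (.leaf (57, 731))) (.node (.leaf (1, 1145)) (.leaf (0, 0)))) (.node (.node (.leaf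 (1, 633)) (.leaf (0, 0))) (.node (.leaf (1, 1657)) (.leaf (0, 0))))) (.node (.node (.node (.leaf (1, 377)) (.leaf (77, 1959))) (.node (.leaf (1, 1401)) (.leaf (50, 2790)))) (.node (.node (.leaf (1, 889)) (.leaf (1, 2937))) (.node (.leaf (73, 2508)) (.leaf (77, 3583)))))) (.node (.node (.node (.node (.leaf (1, 249)) (.leaf (56, 2279))) (.node (.leaf (1, 1273)) (.leaf (1, 3321)))) (.node (.node (.leaf (1, 761)) (.leaf (0, 0))) (.node (.leaf (1, 1785)) (.leaf (77, 4058))))) (.node (.node (.node (.leaf (0, 0)) (.leaf (67, 1935))) (.node (.leaf (1, 2214)) (.leaf (1, 3577)))) (.node (.node (.leaf (0, 0)) (.leaf (1, 3065))) (.node (.leaf (0, 0)) (.leaf (16, 4024))))))))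

def twoVia230 : Janko.Tree (ℕ × ℕ) :=
  (.node (.node (.node (.node (.node (.node (.leaf (7, 118)) (.leaf (2, 2830))) (.node (.leaf (0, 0)) (.leaf (0, 0)))) (.node (.node (.leaf (55, 1425)) (.leaf (0, 0))) (.node (.leaf (6, 1593)) (.leaf (77, 2485))))) (.node (.node (.node (.leaf (2, 313)) (.leaf (24, 3055))) (.node (.leaf (0, 0)) (.leaf (7, 3872)))) (.node (.node (.leaf (7, 1293)) (.leaf (2, 2873))) (.node (.leaf (6, 3260)) (.leaf (0, 0)))))) (.node (.node (.node (.node (.leaf (76, 1908)) (.leaf (6, 2233))) (.node (.leaf (75, 260)) (.leaf (6, 3257)))) (.node (.node (.leaf (2, 869)) (.leaf (77, 2732))) (.node (.leaf (61, 442)) (.leaf (77, 1407))))) (.node (.node (.node (.leaf (7, 717)) (.leaf (2, 3191))) (.node (.leaf (77, 590)) (.leaf (2, 3513)))) (.node (.node (.leaf (2, 953)) (.leaf (75, 1294))) (.node (.leaf (2, 2697)) (.leaf (77, 3344))))))) (.node (.node (.node (.node (.node (.leaf (74, 99)) (.leaf (2, 2901))) (.node (.leaf (77, 1566)) (.leaf (61, 1262)))) (.node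 (.node (.leaf (6, 1463)) (.leaf (7, 3359))) (.node (.leaf (7, 2349)) (.leaf (2, 3705))))) (.node (.node (.node (.leaf (2, 619)) (.leaf (2, 2425))) (.node (.leaf (0, 0)) (.leaf (4, 2792)))) (.node (.node (.leaf (77, 247)) (.leaf (0, 0))) (.node (.leaf (7, 2634)) (.leaf (77, 1606)))))) (.node (.node (.node (.node (.leaf (0, 0)) (.leaf (76, 752))) (.node (.leaf (7, 1892)) (.leaf (74, 2160)))) (.node (.node (.leaf (0, 0)) (.leaf (6, 2809))) (.node (.leaf (6, 3185)) (.leaf (77, 3778))))) (.node (.node (.node (.leaf (2, 505)) (.leaf (54, 2529))) (.node (.leaf (2, 2216)) (.leaf (71, 3992)))) (.node (.node (.leaf (15, 0)) (.leaf (77, 1866))) (.node (.leaf (6, 2041)) (.leaf (2, 4089))))))))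

def twoVia231 : Janko.Tree (ℕ × ℕ) :=
  (.node (.node (.node (.node (.node (.node (.leaf (3, 57)) (.leaf (3, 2105))) (.node (.leaf (0, 0)) (.leaf (0, 0)))) (.node (.node (.leaf (0, 0)) (.leaf (0, 0))) (.node (.leaf (3, 1593)) (.leaf (41, 3782))))) (.node (.node (.node (.leaf (0, 0)) (.leaf (3, 2668))) (.node (.leaf (0, 0)) (.leaf (3, 3385)))) (.node (.node (.leaf (3, 825)) (.leaf (3, 3506))) (.node (.leaf (0, 0)) (.leaf (7, 3902)))))) (.node (.node (.node (.node (.leaf (77, 1972)) (.leaf (3, 2233))) (.node (.leaf (0, 0)) (.leaf (3, 3257)))) (.node (.node (.leaf (3, 697)) (.leaf (0, 0))) (.node (.leaf (3, 1721)) (.leaf (3, 3769))))) (.node (.node (.node (.leaf (3, 441)) (.leaf (3, 2489))) (.node (.leaf (3, 1465)) (.leaf (54, 3504)))) (.node (.node (.leaf (3, 953)) (.leaf (0, 0))) (.node (.leaf (3, 1977)) (.leaf (3, 4025))))))) (.node (.node (.node (.node (.node (.leaf (0, 0)) (.leaf (3, 2169))) (.node (.leaf (0, 0)) (.leaf (73, 1878)))) (.node (.node (.leaf (0, 0))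 (.leaf (3, 2681))) (.node (.leaf (0, 0)) (.leaf (65, 2250))))) (.node (.node (.node (.leaf (0, 0)) (.leaf (77, 2067))) (.node (.leaf (62, 561)) (.leaf (77, 591)))) (.node (.node (.leaf (0, 0)) (.leaf (0, 0))) (.node (.leaf (3, 1913)) (.leaf (77, 3584)))))) (.node (.node (.node (.node (.leaf (0, 0)) (.leaf (3, 2297))) (.node (.leaf (0, 0)) (.leaf (0, 0)))) (.node (.node (.leaf (73, 781)) (.leaf (3, 2809))) (.node (.leaf (0, 0)) (.leaf (3, 3833))))) (.node (.node (.node (.leaf (77, 735)) (.leaf (3, 2553))) (.node (.leaf (3, 1529)) (.leaf (77, 1480)))) (.node (.node (.leaf (0, 0)) (.leaf (65, 1679))) (.node (.leaf (3, 2041)) (.leaf (52, 2745))))))))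

def twoVia232 : Janko.Tree (ℕ × ℕ) :=
  (.node (.node (.node (.node (.node (.node (.leaf (73, 42)) (.leaf (77, 943))) (.node (.leaf (0, 1640)) (.leaf (62, 917)))) (.node (.node (.leaf (7, 340)) (.leaf (77, 2820))) (.node (.leaf (0, 1594)) (.leaf (0, 3642))))) (.node (.node (.node (.leaf (0, 314)) (.leaf (4, 2362))) (.node (.leaf (0, 0)) (.leaf (54, 3544)))) (.node (.node (.leaf (22, 826)) (.leaf (66, 2874))) (.node (.leaf (77, 3244)) (.leaf (0, 3898)))))) (.node (.node (.node (.node (.leaf (0, 186)) (.leaf (0, 0))) (.node (.leaf (0, 0)) (.leaf (7, 3258)))) (.node (.node (.leaf (0, 0)) (.leaf (0, 2746))) (.node (.leaf (77, 1397)) (.leaf (77, 3770))))) (.node (.node (.node (.leaf (0, 0)) (.leaf (11, 3812))) (.node (.leaf (73, 1475)) (.leaf (77, 3514)))) (.node (.node (.leaf (0, 0)) (.leaf (5, 3002))) (.node (.leaf (0, 1978)) (.leaf (65, 4026))))))) (.node (.node (.node (.node (.node (.leaf (0, 122)) (.leaf (74, 2170))) (.node (.leaf (7, 1146)) (.leaf (77, 2369)))) (.node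 (.node (.leaf (5, 634)) (.leaf (0, 0))) (.node (.leaf (7, 1089)) (.leaf (0, 3706))))) (.node (.node (.node (.leaf (7, 210)) (.leaf (0, 0))) (.node (.leaf (4, 1402)) (.leaf (75, 3491)))) (.node (.node (.leaf (59, 720)) (.leaf (72, 1522))) (.node (.leaf (0, 0)) (.leaf (77, 3962)))))) (.node (.node (.node (.node (.leaf (0, 325)) (.leaf (0, 0))) (.node (.leaf (7, 813)) (.leaf (5, 3322)))) (.node (.node (.leaf (0, 762)) (.leaf (4, 2810))) (.node (.leaf (0, 1786)) (.leaf (58, 1914))))) (.node (.node (.node (.leaf (73, 508)) (.leaf (75, 2511))) (.node (.leaf (77, 621)) (.leaf (4, 3578)))) (.node (.node (.leaf (77, 1018)) (.leaf (77, 725))) (.node (.leaf (0, 2042)) (.leaf (56, 4090))))))))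

def twoVia233 : Janko.Tree (ℕ × ℕ) :=
  (.node (.node (.node (.node (.node (.node (.leaf (1, 58)) (.leaf (1, 2106))) (.node (.leaf (0, 0)) (.leaf (77, 2749)))) (.node (.node (.leaf (77, 2072)) (.leaf (0, 0))) (.node (.leaf (0, 0)) (.leaf (76, 3070))))) (.node (.node (.node (.leaf (0, 0)) (.leaf (71, 3011))) (.node (.leaf (1, 1338)) (.leaf (1, 3386)))) (.node (.node (.leaf (1, 826)) (.leaf (1, 3514))) (.node (.leaf (0, 0)) (.leaf (1, 3898)))))) (.node (.node (.node (.node (.leaf (0, 0)) (.leaf (1, 2234))) (.node (.leaf (1, 1210)) (.leaf (1, 3258)))) (.node (.node (.leaf (1, 698)) (.leaf (0, 0))) (.node (.leaf (1, 1722)) (.leaf (1, 3770))))) (.node (.node (.node (.leaf (1, 442)) (.leaf (0, 0))) (.node (.leaf (1, 1466)) (.leaf (10, 3514)))) (.node (.node (.leaf (1, 954)) (.leaf (0, 0))) (.node (.leaf (77, 3834)) (.leaf (77, 2984))))))) (.node (.node (.node (.node (.node (.leaf (0, 0)) (.leaf (1, 2170))) (.node (.leaf (0, 0)) (.leaf (77, 3660)))) (.node (.node (.leaf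 (0, 0)) (.leaf (1, 2682))) (.node (.leaf (77, 2396)) (.leaf (0, 0))))) (.node (.node (.node (.leaf (77, 65)) (.leaf (1, 2426))) (.node (.leaf (0, 0)) (.leaf (77, 3038)))) (.node (.node (.leaf (0, 0)) (.leaf (10, 2938))) (.node (.leaf (1, 1914)) (.leaf (1, 3962)))))) (.node (.node (.node (.node (.leaf (0, 0)) (.leaf (1, 2298))) (.node (.leaf (67, 816)) (.leaf (77, 2655)))) (.node (.node (.leaf (0, 0)) (.leaf (77, 3466))) (.node (.leaf (0, 0)) (.leaf (77, 3485))))) (.node (.node (.node (.leaf (1, 506)) (.leaf (1, 2554))) (.node (.leaf (1, 1530)) (.leaf (0, 0)))) (.node (.node (.leaf (0, 0)) (.leaf (0, 0))) (.node (.leaf (1, 2623)) (.leaf (1, 4090))))))))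

def twoVia234 : Janko.Tree (ℕ × ℕ) :=
  (.node (.node (.node (.node (.node (.node (.leaf (0, 0)) (.leaf (0, 0))) (.node (.leaf (2, 1082)) (.leaf (50, 1422)))) (.node (.node (.leaf (2, 570)) (.leaf (2, 2618))) (.node (.leaf (55, 658)) (.leaf (77, 2171))))) (.node (.node (.node (.leaf (7, 530)) (.leaf (2, 2362))) (.node (.leaf (0, 0)) (.leaf (2, 3871)))) (.node (.node (.leaf (0, 0)) (.leaf (67, 3506))) (.node (.leaf (2, 1850)) (.leaf (4, 3437)))))) (.node (.node (.node (.node (.leaf (77, 2775)) (.leaf (0, 0))) (.node (.leaf (0, 0)) (.leaf (0, 0)))) (.node (.node (.leaf (0, 0)) (.leaf (6, 2746))) (.node (.leaf (71, 3754)) (.leaf (0, 0))))) (.node (.node (.node (.leaf (6, 1130)) (.leaf (59, 817))) (.node (.leaf (77, 515)) (.leaf (28, 3929)))) (.node (.node (.leaf (75, 2101)) (.leaf (76, 658))) (.node (.leaf (0, 0)) (.leaf (75, 2191))))))) (.node (.node (.node (.node (.node (.leaf (6, 122)) (.leaf (77, 1155))) (.node (.leaf (6, 1146)) (.leaf (2, 3194)))) (.node (.node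 (.leaf (59, 394)) (.leaf (7, 3361))) (.node (.leaf (2, 1658)) (.leaf (72, 2515))))) (.node (.node (.node (.leaf (2, 378)) (.leaf (0, 0))) (.node (.leaf (2, 1402)) (.leaf (2, 3450)))) (.node (.node (.leaf (6, 890)) (.leaf (76, 2089))) (.node (.leaf (77, 3919)) (.leaf (13, 3585)))))) (.node (.node (.node (.node (.leaf (6, 250)) (.leaf (0, 0))) (.node (.leaf (2, 1274)) (.leaf (77, 961)))) (.node (.node (.leaf (55, 276)) (.leaf (2, 2810))) (.node (.leaf (54, 1202)) (.leaf (77, 1486))))) (.node (.node (.node (.leaf (0, 0)) (.leaf (58, 1212))) (.node (.leaf (6, 2944)) (.leaf (2, 3578)))) (.node (.node (.leaf (2, 1018)) (.leaf (2, 3066))) (.node (.leaf (2, 2042)) (.leaf (71, 4029))))))))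

def twoVia235 : Janko.Tree (ℕ × ℕ) :=
  (.node (.node (.node (.node (.node (.node (.leaf (0, 0)) (.leaf (0, 0))) (.node (.leaf (0, 0)) (.leaf (3, 3130)))) (.node (.node (.leaf (3, 570)) (.leaf (71, 2617))) (.node (.leaf (0, 0)) (.leaf (75, 3017))))) (.node (.node (.node (.leaf (3, 314)) (.leaf (7, 1102))) (.node (.leaf (0, 0)) (.leaf (61, 2908)))) (.node (.node (.leaf (75, 1598)) (.leaf (3, 2874))) (.node (.leaf (0, 0)) (.leaf (77, 937)))))) (.node (.node (.node (.node (.leaf (0, 0)) (.leaf (0, 0))) (.node (.leaf (0, 0)) (.leaf (7, 3266)))) (.node (.node (.leaf (0, 0)) (.leaf (3, 2746))) (.node (.leaf (70, 2317)) (.leaf (0, 0))))) (.node (.node (.node (.leaf (0, 0)) (.leaf (3, 2490))) (.node (.leaf (69, 2820)) (.leaf (3, 3514)))) (.node (.node (.leaf (61, 554)) (.leaf (3, 3002))) (.node (.leaf (0, 0)) (.leaf (3, 4026))))))) (.node (.node (.node (.node (.node (.leaf (3, 122)) (.leaf (0, 0))) (.node (.leaf (3, 1146)) (.leaf (77, 2610)))) (.node (.node (.leaf (3, 634))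 (.leaf (0, 0))) (.node (.leaf (3, 1658)) (.leaf (71, 3622))))) (.node (.node (.node (.leaf (3, 378)) (.leaf (0, 0))) (.node (.leaf (77, 2063)) (.leaf (3, 3450)))) (.node (.node (.leaf (3, 890)) (.leaf (3, 2938))) (.node (.leaf (0, 0)) (.leaf (77, 3595)))))) (.node (.node (.node (.node (.leaf (3, 250)) (.leaf (0, 0))) (.node (.leaf (3, 1274)) (.leaf (3, 3322)))) (.node (.node (.leaf (0, 0)) (.leaf (0, 0))) (.node (.leaf (3, 1786)) (.leaf (3, 3834))))) (.node (.node (.node (.leaf (0, 0)) (.leaf (67, 2448))) (.node (.leaf (0, 0)) (.leaf (77, 1351)))) (.node (.node (.leaf (0, 0)) (.leaf (6, 3391))) (.node (.leaf (3, 2740)) (.leaf (77, 2206))))))))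

def twoVia236 : Janko.Tree (ℕ × ℕ) :=
  (.node (.node (.node (.node (.node (.node (.leaf (4, 59)) (.leaf (75, 2093))) (.node (.leaf (7, 1640)) (.leaf (0, 3131)))) (.node (.node (.leaf (12, 1422)) (.leaf (77, 2619))) (.node (.leaf (0, 2286)) (.leaf (77, 3400))))) (.node (.node (.node (.leaf (0, 0)) (.leaf (77, 4039))) (.node (.leaf (0, 1339)) (.leaf (0, 0)))) (.node (.node (.leaf (4, 827)) (.leaf (73, 2875))) (.node (.leaf (5, 1851)) (.leaf (75, 2857)))))) (.node (.node (.node (.node (.leaf (77, 166)) (.leaf (0, 2235))) (.node (.leaf (0, 1211)) (.leaf (0, 3259)))) (.node (.node (.leaf (15, 249)) (.leaf (11, 1475))) (.node (.leaf (4, 1723)) (.leaf (0, 3771))))) (.node (.node (.node (.leaf (77, 889)) (.leaf (0, 0))) (.node (.leaf (0, 1467)) (.leaf (77, 3515)))) (.node (.node (.leaf (17, 955)) (.leaf (0, 3003))) (.node (.leaf (0, 2698)) (.leaf (77, 1890))))))) (.node (.node (.node (.node (.node (.leaf (0, 0)) (.leaf (0, 2171))) (.node (.leaf (4, 2380)) (.leaf (73, 4021))))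 (.node (.node (.leaf (0, 635)) (.leaf (7, 1959))) (.node (.leaf (0, 1659)) (.leaf (36, 3707))))) (.node (.node (.node (.leaf (7, 589)) (.leaf (0, 2427))) (.node (.leaf (0, 0)) (.leaf (77, 3304)))) (.node (.node (.leaf (0, 0)) (.leaf (4, 2939))) (.node (.leaf (7, 1286)) (.leaf (62, 1583)))))) (.node (.node (.node (.node (.leaf (77, 179)) (.leaf (77, 1052))) (.node (.leaf (0, 1275)) (.leaf (77, 3554)))) (.node (.node (.leaf (0, 1198)) (.leaf (73, 2812))) (.node (.leaf (0, 0)) (.leaf (77, 2851))))) (.node (.node (.node (.leaf (5, 507)) (.leaf (77, 2557))) (.node (.leaf (0, 1531)) (.leaf (77, 1009)))) (.node (.node (.leaf (0, 1559)) (.leaf (5, 3067))) (.node (.leaf (77, 881)) (.leaf (77, 4091))))))))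

def twoVia237 : Janko.Tree (ℕ × ℕ) :=
  (.node (.node (.node (.node (.node (.node (.leaf (0, 0)) (.leaf (0, 0))) (.node (.leaf (1, 1639)) (.leaf (0, 0)))) (.node (.node (.leaf (0, 0)) (.leaf (1, 3310))) (.node (.leaf (71, 1602)) (.leaf (1, 3643))))) (.node (.node (.node (.leaf (1, 315)) (.leaf (1, 2363))) (.node (.leaf (77, 1741)) (.leaf (1, 3387)))) (.node (.node (.leaf (0, 0)) (.leaf (1, 2875))) (.node (.leaf (0, 0)) (.leaf (77, 3624)))))) (.node (.node (.node (.node (.leaf (24, 71)) (.leaf (0, 0))) (.node (.leaf (0, 0)) (.leaf (59, 2579)))) (.node (.node (.leaf (1, 699)) (.leaf (1, 2747))) (.node (.leaf (0, 0)) (.leaf (77, 4023))))) (.node (.node (.node (.leaf (0, 0)) (.leaf (1, 2491))) (.node (.leaf (0, 0)) (.leaf (75, 3665)))) (.node (.node (.leaf (0, 0)) (.leaf (0, 0))) (.node (.leaf (0, 0)) (.leaf (10, 4027))))))) (.node (.node (.node (.node (.node (.leaf (1, 123)) (.leaf (0, 0))) (.node (.leaf (1, 1147)) (.leaf (1, 3744)))) (.node (.node (.leaf (0, 0)) (.leaf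 (62, 3359))) (.node (.leaf (77, 2060)) (.leaf (9, 3707))))) (.node (.node (.node (.leaf (0, 0)) (.leaf (77, 3989))) (.node (.leaf (1, 1403)) (.leaf (1, 3451)))) (.node (.node (.leaf (1, 891)) (.leaf (77, 1103))) (.node (.leaf (77, 3831)) (.leaf (28, 3963)))))) (.node (.node (.node (.node (.leaf (1, 251)) (.leaf (1, 2299))) (.node (.leaf (0, 0)) (.leaf (1, 3323)))) (.node (.node (.leaf (67, 1739)) (.leaf (0, 0))) (.node (.leaf (1, 1787)) (.leaf (10, 3835))))) (.node (.node (.node (.leaf (0, 0)) (.leaf (67, 1847))) (.node (.leaf (75, 999)) (.leaf (1, 3579)))) (.node (.node (.leaf (67, 645)) (.leaf (77, 3443))) (.node (.leaf (1, 2043)) (.leaf (27, 4091))))))))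

def twoVia238 : Janko.Tree (ℕ × ℕ) :=
  (.node (.node (.node (.node (.node (.node (.leaf (2, 59)) (.leaf (2, 2107))) (.node (.leaf (7, 1643)) (.leaf (71, 3699)))) (.node (.node (.leaf (2, 571)) (.leaf (54, 2578))) (.node (.leaf (59, 401)) (.leaf (13, 3073))))) (.node (.node (.node (.leaf (2, 526)) (.leaf (77, 3892))) (.node (.leaf (0, 0)) (.leaf (77, 4082)))) (.node (.node (.leaf (2, 827)) (.leaf (0, 0))) (.node (.leaf (2, 2563)) (.leaf (2, 3899)))))) (.node (.node (.node (.node (.leaf (2, 187)) (.leaf (0, 0))) (.node (.leaf (0, 0)) (.leaf (7, 2560)))) (.node (.node (.leaf (77, 555)) (.leaf (77, 4073))) (.node (.leaf (2, 1723)) (.leaf (0, 0))))) (.node (.node (.node (.leaf (2, 443)) (.leaf (0, 0))) (.node (.leaf (77, 329)) (.leaf (2, 3515)))) (.node (.node (.leaf (2, 955)) (.leaf (77, 3948))) (.node (.leaf (2, 1979)) (.leaf (71, 3762))))))) (.node (.node (.node (.node (.node (.leaf (0, 0)) (.leaf (6, 2171))) (.node (.leaf (0, 0)) (.leaf (50, 3745)))) (.node (.node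 (.leaf (77, 593)) (.leaf (2, 2683))) (.node (.leaf (24, 2349)) (.leaf (2, 3707))))) (.node (.node (.node (.leaf (2, 379)) (.leaf (0, 0))) (.node (.leaf (76, 3227)) (.leaf (2, 3905)))) (.node (.node (.leaf (0, 0)) (.leaf (2, 2939))) (.node (.leaf (2, 1915)) (.leaf (6, 3963)))))) (.node (.node (.node (.node (.leaf (0, 0)) (.leaf (75, 1050))) (.node (.leaf (24, 1892)) (.leaf (77, 1937)))) (.node (.node (.leaf (59, 149)) (.leaf (2, 3468))) (.node (.leaf (0, 0)) (.leaf (77, 3499))))) (.node (.node (.node (.leaf (59, 81)) (.leaf (77, 1509))) (.node (.leaf (0, 0)) (.leaf (59, 2602)))) (.node (.node (.leaf (2, 1561)) (.leaf (75, 1799))) (.node (.leaf (59, 700)) (.leaf (6, 4091))))))))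

def twoVia239 : Janko.Tree (ℕ × ℕ) :=
  (.node (.node (.node (.node (.node (.node (.leaf (0, 0)) (.leaf (3, 2107))) (.node (.leaf (3, 1083)) (.leaf (61, 741)))) (.node (.node (.leaf (77, 2016)) (.leaf (3, 2619))) (.node (.leaf (3, 1595)) (.leaf (70, 1699))))) (.node (.node (.node (.leaf (0, 0)) (.leaf (77, 3841))) (.node (.leaf (0, 0)) (.leaf (0, 0)))) (.node (.node (.leaf (75, 511)) (.leaf (56, 2871))) (.node (.leaf (3, 1851)) (.leaf (3, 3899)))))) (.node (.node (.node (.node (.leaf (0, 0)) (.leaf (60, 2017))) (.node (.leaf (0, 0)) (.leaf (0, 0)))) (.node (.node (.leaf (0, 0)) (.leaf (59, 601))) (.node (.leaf (71, 2318)) (.leaf (77, 835))))) (.node (.node (.node (.leaf (0, 0)) (.leaf (0, 0))) (.node (.leaf (61, 2142)) (.leaf (75, 3782)))) (.node (.node (.leaf (0, 0)) (.leaf (3, 3003))) (.node (.leaf (0, 0)) (.leaf (3, 4027))))))) (.node (.node (.node (.node (.node (.leaf (0, 0)) (.leaf (3, 2171))) (.node (.leaf (73, 2381)) (.leaf (3, 3195)))) (.node (.node (.leaf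 (0, 0)) (.leaf (3, 2683))) (.node (.leaf (0, 0)) (.leaf (75, 3225))))) (.node (.node (.node (.leaf (0, 0)) (.leaf (0, 0))) (.node (.leaf (77, 3227)) (.leaf (67, 3092)))) (.node (.node (.leaf (0, 0)) (.leaf (7, 1526))) (.node (.leaf (3, 1915)) (.leaf (3, 3963)))))) (.node (.node (.node (.node (.leaf (73, 500)) (.leaf (0, 0))) (.node (.leaf (0, 0)) (.leaf (0, 0)))) (.node (.node (.leaf (3, 763)) (.leaf (3, 2811))) (.node (.leaf (0, 0)) (.leaf (3, 3835))))) (.node (.node (.node (.leaf (3, 507)) (.leaf (3, 2555))) (.node (.leaf (0, 0)) (.leaf (49, 2602)))) (.node (.node (.leaf (3, 1019)) (.leaf (3, 3067))) (.node (.leaf (76, 2730)) (.leaf (3, 4091))))))))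

def twoVia240 : Janko.Tree (ℕ × ℕ) :=
  (.node (.node (.node (.node (.node (.node (.leaf (0, 60)) (.leaf (72, 936))) (.node (.leaf (0, 0)) (.leaf (75, 1848)))) (.node (.node (.leaf (0, 0)) (.leaf (73, 2620))) (.node (.leaf (0, 0)) (.leaf (76, 3645))))) (.node (.node (.node (.leaf (7, 170)) (.leaf (7, 2364))) (.node (.leaf (0, 1981)) (.leaf (76, 2144)))) (.node (.node (.leaf (0, 0)) (.leaf (4, 2876))) (.node (.leaf (0, 0)) (.leaf (77, 4083)))))) (.node (.node (.node (.node (.leaf (0, 337)) (.leaf (0, 2963))) (.node (.leaf (0, 1806)) (.leaf (0, 3795)))) (.node (.node (.leaf (5, 700)) (.leaf (73, 1382))) (.node (.leaf (0, 1724)) (.leaf (0, 4034))))) (.node (.node (.node (.leaf (0, 707)) (.leaf (0, 2492))) (.node (.leaf (75, 201)) (.leaf (77, 3994)))) (.node (.node (.leaf (0, 1465)) (.leaf (65, 3142))) (.node (.leaf (7, 2698)) (.leaf (4, 4028))))))) (.node (.node (.node (.node (.node (.leaf (0, 0)) (.leaf (0, 2172))) (.node (.leaf (0, 0)) (.leaf (0, 3745)))) (.node (.node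 (.leaf (76, 590)) (.leaf (0, 2684))) (.node (.leaf (0, 2351)) (.leaf (77, 3939))))) (.node (.node (.node (.leaf (7, 588)) (.leaf (0, 3115))) (.node (.leaf (77, 562)) (.leaf (0, 3452)))) (.node (.node (.leaf (0, 892)) (.leaf (75, 688))) (.node (.leaf (11, 654)) (.leaf (15, 2976)))))) (.node (.node (.node (.node (.leaf (0, 252)) (.leaf (5, 2300))) (.node (.leaf (0, 1895)) (.leaf (0, 3324)))) (.node (.node (.leaf (0, 0)) (.leaf (61, 2616))) (.node (.leaf (72, 764)) (.leaf (4, 3836))))) (.node (.node (.node (.leaf (0, 0)) (.leaf (4, 2556))) (.node (.leaf (0, 2218)) (.leaf (48, 1549)))) (.node (.node (.leaf (73, 392)) (.leaf (0, 3068))) (.node (.leaf (77, 2044)) (.leaf (73, 3807))))))))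

def twoVia241 : Janko.Tree (ℕ × ℕ) :=
  (.node (.node (.node (.node (.node (.node (.leaf (0, 0)) (.leaf (1, 2108))) (.node (.leaf (1, 1084)) (.leaf (62, 3339)))) (.node (.node (.leaf (1, 572)) (.leaf (1, 2620))) (.node (.leaf (1, 1596)) (.leaf (1, 3644))))) (.node (.node (.node (.leaf (70, 310)) (.leaf (0, 0))) (.node (.leaf (0, 0)) (.leaf (1, 3388)))) (.node (.node (.leaf (1, 828)) (.leaf (77, 3986))) (.node (.leaf (1, 1852)) (.leaf (0, 0)))))) (.node (.node (.node (.node (.leaf (0, 0)) (.leaf (77, 2963))) (.node (.leaf (0, 0)) (.leaf (66, 1048)))) (.node (.node (.leaf (0, 0)) (.leaf (1, 2748))) (.node (.leaf (0, 0)) (.leaf (77, 3337))))) (.node (.node (.node (.leaf (0, 0)) (.leaf (0, 0))) (.node (.leaf (1, 1468)) (.leaf (1, 3516)))) (.node (.node (.leaf (0, 0)) (.leaf (1, 3004))) (.node (.leaf (67, 1340)) (.leaf (62, 4023))))))) (.node (.node (.node (.node (.node (.leaf (1, 124)) (.leaf (0, 0))) (.node (.leaf (1, 1148)) (.leaf (1, 3196)))) (.node (.node (.leaf (24,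 358)) (.leaf (77, 3101))) (.node (.leaf (0, 0)) (.leaf (66, 3704))))) (.node (.node (.node (.leaf (0, 0)) (.leaf (0, 0))) (.node (.leaf (1, 1404)) (.leaf (30, 2794)))) (.node (.node (.leaf (0, 0)) (.leaf (1, 2940))) (.node (.leaf (0, 0)) (.leaf (1, 3964)))))) (.node (.node (.node (.node (.leaf (0, 0)) (.leaf (74, 2878))) (.node (.leaf (0, 0)) (.leaf (77, 4089)))) (.node (.node (.leaf (1, 764)) (.leaf (1, 2812))) (.node (.leaf (1, 1788)) (.leaf (40, 3831))))) (.node (.node (.node (.leaf (1, 508)) (.leaf (17, 1847))) (.node (.leaf (0, 0)) (.leaf (77, 2697)))) (.node (.node (.leaf (1, 1020)) (.leaf (41, 1688))) (.node (.leaf (1, 2044)) (.leaf (1, 4092))))))))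

def twoVia242 : Janko.Tree (ℕ × ℕ) :=
  (.node (.node (.node (.node (.node (.node (.leaf (7, 122)) (.leaf (77, 1929))) (.node (.leaf (6, 2334)) (.leaf (2, 3132)))) (.node (.node (.leaf (0, 0)) (.leaf (0, 0))) (.node (.leaf (0, 0)) (.leaf (6, 3644))))) (.node (.node (.node (.leaf (2, 316)) (.leaf (6, 2364))) (.node (.leaf (2, 1340)) (.leaf (77, 2017)))) (.node (.node (.leaf (6, 1921)) (.leaf (2, 2876))) (.node (.leaf (0, 0)) (.leaf (76, 3199)))))) (.node (.node (.node (.node (.leaf (2, 338)) (.leaf (2, 2236))) (.node (.leaf (2, 1212)) (.leaf (7, 3795)))) (.node (.node (.leaf (6, 700)) (.leaf (77, 1278))) (.node (.leaf (0, 0)) (.leaf (2, 3772))))) (.node (.node (.node (.leaf (2, 721)) (.leaf (2, 2492))) (.node (.leaf (62, 220)) (.leaf (36, 2732)))) (.node (.node (.leaf (2, 1469)) (.leaf (77, 477))) (.node (.leaf (7, 2701)) (.leaf (2, 4028))))))) (.node (.node (.node (.node (.node (.leaf (0, 0)) (.leaf (77, 3094))) (.node (.leaf (0, 0)) (.leaf (77, 1678)))) (.node (.node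 (.leaf (2, 636)) (.leaf (24, 3361))) (.node (.leaf (6, 1660)) (.leaf (77, 2511))))) (.node (.node (.node (.leaf (2, 628)) (.leaf (2, 2428))) (.node (.leaf (0, 0)) (.leaf (74, 3980)))) (.node (.node (.leaf (0, 0)) (.leaf (77, 1580))) (.node (.leaf (2, 1916)) (.leaf (77, 2981)))))) (.node (.node (.node (.node (.leaf (77, 174)) (.leaf (77, 749))) (.node (.leaf (6, 1276)) (.leaf (0, 0)))) (.node (.node (.leaf (0, 0)) (.leaf (0, 0))) (.node (.leaf (75, 293)) (.leaf (2, 3836))))) (.node (.node (.node (.leaf (63, 489)) (.leaf (2, 2556))) (.node (.leaf (2, 1532)) (.leaf (2, 3580)))) (.node (.node (.leaf (0, 0)) (.leaf (77, 2376))) (.node (.leaf (77, 1906)) (.leaf (77, 3882))))))))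

def twoVia243 : Janko.Tree (ℕ × ℕ) :=
  (.node (.node (.node (.node (.node (.node (.leaf (3, 60)) (.leaf (0, 0))) (.node (.leaf (0, 0)) (.leaf (0, 0)))) (.node (.node (.leaf (0, 0)) (.leaf (61, 3298))) (.node (.leaf (0, 0)) (.leaf (3, 3644))))) (.node (.node (.node (.leaf (3, 316)) (.leaf (3, 2364))) (.node (.leaf (0, 0)) (.leaf (77, 2794)))) (.node (.node (.leaf (0, 0)) (.leaf (77, 1996))) (.node (.leaf (0, 0)) (.leaf (3, 3900)))))) (.node (.node (.node (.node (.leaf (3, 188)) (.leaf (77, 2745))) (.node (.leaf (0, 0)) (.leaf (3, 3260)))) (.node (.node (.leaf (3, 700)) (.leaf (61, 1383))) (.node (.leaf (77, 2506)) (.leaf (0, 0))))) (.node (.node (.node (.leaf (3, 444)) (.leaf (61, 3286))) (.node (.leaf (0, 0)) (.leaf (3, 3516)))) (.node (.node (.leaf (3, 956)) (.leaf (66, 1599))) (.node (.leaf (3, 1980)) (.leaf (75, 1291))))))) (.node (.node (.node (.node (.node (.leaf (0, 0)) (.leaf (77, 2695))) (.node (.leaf (0, 0)) (.leaf (61, 3291)))) (.node (.node (.leaf (0,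 0)) (.leaf (0, 0))) (.node (.leaf (3, 1660)) (.leaf (3, 3708))))) (.node (.node (.node (.leaf (3, 380)) (.leaf (0, 0))) (.node (.leaf (62, 562)) (.leaf (59, 3448)))) (.node (.node (.leaf (73, 884)) (.leaf (77, 1724))) (.node (.leaf (76, 1551)) (.leaf (20, 3591)))))) (.node (.node (.node (.node (.leaf (0, 0)) (.leaf (3, 2300))) (.node (.leaf (3, 1276)) (.leaf (0, 0)))) (.node (.node (.leaf (0, 0)) (.leaf (73, 3912))) (.node (.leaf (0, 0)) (.leaf (77, 1823))))) (.node (.node (.node (.leaf (71, 490)) (.leaf (0, 0))) (.node (.leaf (0, 0)) (.leaf (77, 646)))) (.node (.node (.leaf (0, 0)) (.leaf (77, 2153))) (.node (.leaf (77, 2586)) (.leaf (3, 4092))))))))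

def twoVia244 : Janko.Tree (ℕ × ℕ) :=
  (.node (.node (.node (.node (.node (.node (.leaf (7, 26)) (.leaf (5, 2109))) (.node (.leaf (77, 2314)) (.leaf (73, 3134)))) (.node (.node (.leaf (0, 573)) (.leaf (77, 2546))) (.node (.leaf (0, 1597)) (.leaf (0, 3645))))) (.node (.node (.node (.leaf (5, 423)) (.leaf (77, 1095))) (.node (.leaf (7, 1981)) (.leaf (77, 864)))) (.node (.node (.leaf (75, 1922)) (.leaf (77, 2877))) (.node (.leaf (77, 1029)) (.leaf (77, 3769)))))) (.node (.node (.node (.node (.leaf (0, 0)) (.leaf (60, 2962))) (.node (.leaf (7, 1806)) (.leaf (5, 3261)))) (.node (.node (.leaf (59, 699)) (.leaf (0, 2749))) (.node (.leaf (0, 2406)) (.leaf (77, 1535))))) (.node (.node (.node (.leaf (0, 0)) (.leaf (75, 2470))) (.node (.leaf (59, 1027)) (.leaf (77, 3517)))) (.node (.node (.leaf (0, 0)) (.leaf (77, 3005))) (.node (.leaf (4, 1981)) (.leaf (77, 4076))))))) (.node (.node (.node (.node (.node (.leaf (0, 125)) (.leaf (73, 3523))) (.node (.leaf (0, 1149)) (.leaf (76,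 1070)))) (.node (.node (.leaf (0, 1007)) (.leaf (0, 3363))) (.node (.leaf (4, 1661)) (.leaf (0, 3709))))) (.node (.node (.node (.leaf (77, 358)) (.leaf (7, 3115))) (.node (.leaf (4, 1405)) (.leaf (77, 1963)))) (.node (.node (.leaf (0, 1390)) (.leaf (7, 2941))) (.node (.leaf (59, 511)) (.leaf (77, 3874)))))) (.node (.node (.node (.node (.leaf (77, 540)) (.leaf (59, 420))) (.node (.leaf (77, 1277)) (.leaf (0, 3836)))) (.node (.node (.leaf (0, 765)) (.leaf (0, 0))) (.node (.leaf (5, 1789)) (.leaf (0, 3837))))) (.node (.node (.node (.leaf (0, 509)) (.leaf (0, 2557))) (.node (.leaf (7, 2218)) (.leaf (0, 3581)))) (.node (.node (.leaf (4, 1021)) (.leaf (77, 3734))) (.node (.leaf (54, 2045)) (.leaf (77, 3968))))))))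

def twoVia245 : Janko.Tree (ℕ × ℕ) :=
  (.node (.node (.node (.node (.node (.node (.leaf (0, 0)) (.leaf (67, 2650))) (.node (.leaf (0, 0)) (.leaf (10, 3133)))) (.node (.node (.leaf (0, 0)) (.leaf (1, 2621))) (.node (.leaf (0, 0)) (.leaf (77, 4065))))) (.node (.node (.node (.leaf (0, 0)) (.leaf (1, 2365))) (.node (.leaf (1, 1980)) (.leaf (1, 3389)))) (.node (.node (.leaf (0, 0)) (.leaf (0, 0))) (.node (.leaf (1, 1853)) (.leaf (1, 3901)))))) (.node (.node (.node (.node (.leaf (1, 189)) (.leaf (1, 2961))) (.node (.leaf (1, 1804)) (.leaf (0, 0)))) (.node (.node (.leaf (0, 0)) (.leaf (77, 1134))) (.node (.leaf (0, 0)) (.leaf (77, 3573))))) (.node (.node (.node (.leaf (1, 445)) (.leaf (1, 2493))) (.node (.leaf (0, 0)) (.leaf (1, 3517)))) (.node (.node (.leaf (1, 957)) (.leaf (1, 3005))) (.node (.leaf (77, 850)) (.leaf (0, 0))))))) (.node (.node (.node (.node (.node (.leaf (0, 0)) (.leaf (71, 2173))) (.node (.leaf (0, 0)) (.leaf (77, 3030)))) (.node (.node (.leaf (0, 0))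 (.leaf (0, 0))) (.node (.leaf (77, 3103)) (.leaf (1, 3709))))) (.node (.node (.node (.leaf (1, 381)) (.leaf (1, 3114))) (.node (.leaf (0, 0)) (.leaf (77, 2316)))) (.node (.node (.leaf (0, 0)) (.leaf (0, 0))) (.node (.leaf (56, 2512)) (.leaf (67, 1131)))))) (.node (.node (.node (.node (.leaf (1, 431)) (.leaf (0, 0))) (.node (.leaf (1, 1277)) (.leaf (67, 1919)))) (.node (.node (.leaf (0, 0)) (.leaf (1, 2813))) (.node (.leaf (0, 0)) (.leaf (77, 2727))))) (.node (.node (.node (.leaf (0, 0)) (.leaf (0, 0))) (.node (.leaf (67, 1001)) (.leaf (77, 2966)))) (.node (.node (.leaf (53, 1145)) (.leaf (1, 3069))) (.node (.leaf (0, 0)) (.leaf (1, 4093))))))))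

def twoVia246 : Janko.Tree (ℕ × ℕ) :=
  (.node (.node (.node (.node (.node (.node (.leaf (2, 61)) (.leaf (76, 934))) (.node (.leaf (2, 1085)) (.leaf (2, 3700)))) (.node (.node (.leaf (24, 915)) (.leaf (13, 1900))) (.node (.leaf (72, 1290)) (.leaf (6, 3645))))) (.node (.node (.node (.leaf (2, 317)) (.leaf (54, 3631))) (.node (.leaf (7, 1984)) (.leaf (54, 3377)))) (.node (.node (.leaf (6, 829)) (.leaf (6, 2877))) (.node (.leaf (0, 0)) (.leaf (77, 3711)))))) (.node (.node (.node (.node (.leaf (0, 0)) (.leaf (75, 2144))) (.node (.leaf (7, 1809)) (.leaf (2, 3795)))) (.node (.node (.leaf (6, 701)) (.leaf (0, 0))) (.node (.leaf (2, 1725)) (.leaf (2, 4035))))) (.node (.node (.node (.leaf (0, 0)) (.leaf (68, 1791))) (.node (.leaf (6, 1469)) (.leaf (67, 3931)))) (.node (.node (.leaf (0, 0)) (.leaf (74, 1590))) (.node (.leaf (2, 1981)) (.leaf (77, 3286))))))) (.node (.node (.node (.node (.node (.leaf (0, 0)) (.leaf (71, 2888))) (.node (.leaf (0, 0)) (.leaf (2, 3197)))) (.node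 (.node (.leaf (2, 1008)) (.leaf (6, 2685))) (.node (.leaf (2, 1661)) (.leaf (67, 3141))))) (.node (.node (.node (.leaf (77, 384)) (.leaf (7, 3118))) (.node (.leaf (2, 1405)) (.leaf (2, 3453)))) (.node (.node (.leaf (2, 893)) (.leaf (6, 2941))) (.node (.leaf (77, 3211)) (.leaf (71, 3574)))))) (.node (.node (.node (.node (.leaf (2, 253)) (.leaf (77, 415))) (.node (.leaf (74, 491)) (.leaf (2, 3325)))) (.node (.node (.leaf (54, 79)) (.leaf (0, 0))) (.node (.leaf (76, 276)) (.leaf (77, 3926))))) (.node (.node (.node (.leaf (77, 1239)) (.leaf (7, 3257))) (.node (.leaf (7, 2221)) (.leaf (77, 2967)))) (.node (.node (.leaf (2, 1021)) (.leaf (77, 1702))) (.node (.leaf (6, 2045)) (.leaf (77, 2507))))))))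

def twoVia247 : Janko.Tree (ℕ × ℕ) :=
  (.node (.node (.node (.node (.node (.node (.leaf (3, 61)) (.leaf (3, 2109))) (.node (.leaf (0, 0)) (.leaf (3, 3133)))) (.node (.node (.leaf (0, 0)) (.leaf (65, 3991))) (.node (.leaf (0, 0)) (.leaf (3, 3645))))) (.node (.node (.node (.leaf (0, 0)) (.leaf (69, 2003))) (.node (.leaf (3, 1341)) (.leaf (54, 1992)))) (.node (.node (.leaf (3, 829)) (.leaf (3, 2877))) (.node (.leaf (0, 0)) (.leaf (0, 0)))))) (.node (.node (.node (.node (.leaf (0, 0)) (.leaf (3, 2237))) (.node (.leaf (3, 1213)) (.leaf (3, 3261)))) (.node (.node (.leaf (3, 701)) (.leaf (6, 3410))) (.node (.leaf (71, 1488)) (.leaf (3, 3773))))) (.node (.node (.node (.leaf (0, 0)) (.leaf (69, 2453))) (.node (.leaf (3, 1469)) (.leaf (77, 3065)))) (.node (.node (.leaf (0, 0)) (.leaf (77, 827))) (.node (.leaf (0, 0)) (.leaf (3, 4029))))))) (.node (.node (.node (.node (.node (.leaf (0, 0)) (.leaf (3, 2173))) (.node (.leaf (77, 1730)) (.leaf (0, 0)))) (.node (.node (.leaf (3,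 637)) (.leaf (3, 2685))) (.node (.leaf (0, 0)) (.leaf (75, 3220))))) (.node (.node (.node (.leaf (0, 0)) (.leaf (3, 2429))) (.node (.leaf (75, 339)) (.leaf (0, 0)))) (.node (.node (.leaf (0, 0)) (.leaf (3, 2941))) (.node (.leaf (3, 1917)) (.leaf (3, 3965)))))) (.node (.node (.node (.node (.leaf (0, 0)) (.leaf (3, 2301))) (.node (.leaf (0, 0)) (.leaf (77, 1303)))) (.node (.node (.leaf (0, 0)) (.leaf (0, 0))) (.node (.leaf (3, 1789)) (.leaf (3, 3837))))) (.node (.node (.node (.leaf (71, 1908)) (.leaf (3, 2557))) (.node (.leaf (3, 1533)) (.leaf (77, 2964)))) (.node (.node (.leaf (0, 0)) (.leaf (77, 1743))) (.node (.leaf (3, 2045)) (.leaf (70, 3980))))))))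

def twoVia248 : Janko.Tree (ℕ × ℕ) :=
  (.node (.node (.node (.node (.node (.node (.leaf (0, 0)) (.leaf (59, 2108))) (.node (.leaf (5, 1086)) (.leaf (73, 1756)))) (.node (.node (.leaf (0, 922)) (.leaf (77, 3815))) (.node (.leaf (75, 2642)) (.leaf (5, 3646))))) (.node (.node (.node (.leaf (7, 318)) (.leaf (0, 2366))) (.node (.leaf (0, 0)) (.leaf (73, 2003)))) (.node (.node (.leaf (0, 830)) (.leaf (0, 2878))) (.node (.leaf (60, 3279)) (.leaf (4, 3902)))))) (.node (.node (.node (.node (.leaf (0, 190)) (.leaf (0, 2962))) (.node (.leaf (72, 2448)) (.leaf (77, 3560)))) (.node (.node (.leaf (0, 0)) (.leaf (0, 3410))) (.node (.leaf (77, 914)) (.leaf (77, 1548))))) (.node (.node (.node (.leaf (0, 446)) (.leaf (62, 1121))) (.node (.leaf (0, 0)) (.leaf (77, 3518)))) (.node (.node (.leaf (0, 958)) (.leaf (77, 3006))) (.node (.leaf (0, 1982)) (.leaf (77, 4030))))))) (.node (.node (.node (.node (.node (.leaf (0, 238)) (.leaf (77, 2174))) (.node (.leaf (0, 1728)) (.leaf (73, 3208))))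 (.node (.node (.leaf (0, 0)) (.leaf (0, 2686))) (.node (.leaf (0, 1662)) (.leaf (77, 3768))))) (.node (.node (.node (.leaf (0, 382)) (.leaf (0, 0))) (.node (.leaf (0, 0)) (.leaf (5, 3454)))) (.node (.node (.leaf (60, 1397)) (.leaf (0, 0))) (.node (.leaf (74, 1044)) (.leaf (4, 3966)))))) (.node (.node (.node (.node (.leaf (0, 436)) (.leaf (77, 2169))) (.node (.leaf (59, 1794)) (.leaf (7, 3836)))) (.node (.node (.leaf (76, 804)) (.leaf (0, 2814))) (.node (.leaf (0, 0)) (.leaf (75, 2678))))) (.node (.node (.node (.leaf (58, 606)) (.leaf (0, 0))) (.node (.leaf (4, 1534)) (.leaf (77, 3582)))) (.node (.node (.leaf (0, 1022)) (.leaf (0, 0))) (.node (.leaf (73, 2046)) (.leaf (77, 3949))))))))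

def twoVia249 : Janko.Tree (ℕ × ℕ) :=
  (.node (.node (.node (.node (.node (.node (.leaf (1, 62)) (.leaf (0, 0))) (.node (.leaf (0, 0)) (.leaf (1, 3134)))) (.node (.node (.leaf (0, 0)) (.leaf (0, 0))) (.node (.leaf (1, 2288)) (.leaf (1, 3646))))) (.node (.node (.node (.leaf (0, 0)) (.leaf (0, 0))) (.node (.leaf (1, 1342)) (.leaf (1, 3390)))) (.node (.node (.leaf (0, 0)) (.leaf (77, 2087))) (.node (.leaf (0, 0)) (.leaf (77, 940)))))) (.node (.node (.node (.node (.leaf (0, 0)) (.leaf (1, 2238))) (.node (.leaf (1, 1214)) (.leaf (1, 3262)))) (.node (.node (.leaf (1, 702)) (.leaf (0, 0))) (.node (.leaf (10, 1726)) (.leaf (1, 3774))))) (.node (.node (.node (.leaf (0, 0)) (.leaf (1, 2494))) (.node (.leaf (1, 1470)) (.leaf (0, 0)))) (.node (.node (.leaf (0, 0)) (.leaf (1, 3006))) (.node (.leaf (0, 0)) (.leaf (1, 4030))))))) (.node (.node (.node (.node (.node (.leaf (0, 0)) (.leaf (1, 2174))) (.node (.leaf (0, 0)) (.leaf (0, 0)))) (.node (.node (.leaf (1, 638)) (.leaf (0,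 0))) (.node (.leaf (0, 0)) (.leaf (0, 0))))) (.node (.node (.node (.leaf (0, 0)) (.leaf (1, 2430))) (.node (.leaf (1, 1406)) (.leaf (10, 3454)))) (.node (.node (.leaf (67, 1387)) (.leaf (1, 2942))) (.node (.leaf (1, 1918)) (.leaf (17, 3597)))))) (.node (.node (.node (.node (.leaf (0, 0)) (.leaf (1, 2302))) (.node (.leaf (0, 0)) (.leaf (1, 3835)))) (.node (.node (.leaf (1, 1200)) (.leaf (0, 0))) (.node (.leaf (1, 1790)) (.leaf (1, 3838))))) (.node (.node (.node (.leaf (0, 0)) (.leaf (1, 2558))) (.node (.leaf (67, 3571)) (.leaf (1, 3582)))) (.node (.node (.leaf (0, 0)) (.leaf (1, 3070))) (.node (.leaf (1, 2046)) (.leaf (10, 4094))))))))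

def twoVia250 : Janko.Tree (ℕ × ℕ) :=
  (.node (.node (.node (.node (.node (.node (.leaf (0, 0)) (.leaf (6, 2110))) (.node (.leaf (2, 1647)) (.leaf (0, 0)))) (.node (.node (.leaf (6, 574)) (.leaf (6, 2622))) (.node (.leaf (2, 1598)) (.leaf (77, 3588))))) (.node (.node (.node (.leaf (2, 535)) (.leaf (0, 0))) (.node (.leaf (6, 2705)) (.leaf (77, 1106)))) (.node (.node (.leaf (0, 0)) (.leaf (2, 2878))) (.node (.leaf (2, 1854)) (.leaf (2, 3902)))))) (.node (.node (.node (.node (.leaf (0, 0)) (.leaf (77, 3693))) (.node (.leaf (0, 0)) (.leaf (77, 391)))) (.node (.node (.leaf (0, 0)) (.leaf (2, 2750))) (.node (.leaf (77, 4066)) (.leaf (77, 3126))))) (.node (.node (.node (.leaf (70, 726)) (.leaf (0, 0))) (.node (.leaf (0, 0)) (.leaf (2, 3518)))) (.node (.node (.leaf (74, 2117)) (.leaf (70, 3924))) (.node (.leaf (7, 2702)) (.leaf (71, 4070))))))) (.node (.node (.node (.node (.node (.leaf (2, 126)) (.leaf (77, 2185))) (.node (.leaf (2, 1150)) (.leaf (2, 3746)))) (.node (.node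 (.leaf (0, 0)) (.leaf (6, 2686))) (.node (.leaf (7, 2353)) (.leaf (2, 3710))))) (.node (.node (.node (.leaf (6, 382)) (.leaf (6, 3685))) (.node (.leaf (23, 2775)) (.leaf (2, 3907)))) (.node (.node (.leaf (2, 1392)) (.leaf (70, 2945))) (.node (.leaf (6, 2291)) (.leaf (2, 3966)))))) (.node (.node (.node (.node (.leaf (2, 437)) (.leaf (0, 0))) (.node (.leaf (6, 1278)) (.leaf (77, 3724)))) (.node (.node (.leaf (2, 766)) (.leaf (67, 961))) (.node (.leaf (70, 1201)) (.leaf (77, 1392))))) (.node (.node (.node (.leaf (77, 966)) (.leaf (7, 3259))) (.node (.leaf (2, 1534)) (.leaf (74, 1019)))) (.node (.node (.leaf (7, 1564)) (.leaf (77, 1703))) (.node (.leaf (0, 0)) (.leaf (67, 4072))))))))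

def twoVia251 : Janko.Tree (ℕ × ℕ) :=
  (.node (.node (.node (.node (.node (.node (.leaf (0, 0)) (.leaf (3, 2110))) (.node (.leaf (3, 1086)) (.leaf (60, 1756)))) (.node (.node (.leaf (3, 574)) (.leaf (3, 2622))) (.node (.leaf (75, 1916)) (.leaf (25, 3592))))) (.node (.node (.node (.leaf (3, 318)) (.leaf (60, 3390))) (.node (.leaf (0, 0)) (.leaf (67, 3328)))) (.node (.node (.leaf (0, 0)) (.leaf (77, 2133))) (.node (.leaf (0, 0)) (.leaf (7, 2784)))))) (.node (.node (.node (.node (.leaf (41, 137)) (.leaf (77, 2635))) (.node (.leaf (77, 3144)) (.leaf (68, 3792)))) (.node (.node (.leaf (0, 0)) (.leaf (3, 3389))) (.node (.leaf (3, 1726)) (.leaf (0, 0))))) (.node (.node (.node (.leaf (77, 231)) (.leaf (0, 0))) (.node (.leaf (0, 0)) (.leaf (77, 1632)))) (.node (.node (.leaf (77, 2795)) (.leaf (70, 4059))) (.node (.leaf (3, 1982)) (.leaf (77, 3703))))))) (.node (.node (.node (.node (.node (.leaf (0, 0)) (.leaf (0, 0))) (.node (.leaf (76, 2073)) (.leaf (3, 3198)))) (.node (.node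 (.leaf (0, 0)) (.leaf (3, 2686))) (.node (.leaf (3, 1662)) (.leaf (75, 1806))))) (.node (.node (.node (.leaf (3, 382)) (.leaf (0, 0))) (.node (.leaf (71, 923)) (.leaf (3, 3454)))) (.node (.node (.leaf (3, 894)) (.leaf (0, 0))) (.node (.leaf (0, 0)) (.leaf (68, 3609)))))) (.node (.node (.node (.node (.leaf (3, 254)) (.leaf (0, 0))) (.node (.leaf (3, 1278)) (.leaf (3, 3326)))) (.node (.node (.leaf (77, 1620)) (.leaf (67, 2889))) (.node (.leaf (45, 1692)) (.leaf (77, 3403))))) (.node (.node (.node (.leaf (3, 510)) (.leaf (0, 0))) (.node (.leaf (0, 0)) (.leaf (51, 3069)))) (.node (.node (.leaf (3, 1022)) (.leaf (77, 3543))) (.node (.leaf (70, 1337)) (.leaf (3, 4094))))))))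

def twoVia252 : Janko.Tree (ℕ × ℕ) :=
  (.node (.node (.node (.node (.node (.node (.leaf (0, 63)) (.leaf (0, 2111))) (.node (.leaf (0, 0)) (.leaf (4, 3135)))) (.node (.node (.leaf (0, 0)) (.leaf (0, 2623))) (.node (.leaf (0, 2291)) (.leaf (77, 3406))))) (.node (.node (.node (.leaf (5, 437)) (.leaf (0, 3064))) (.node (.leaf (0, 1343)) (.leaf (4, 3391)))) (.node (.node (.leaf (0, 1300)) (.leaf (77, 1383))) (.node (.leaf (75, 998)) (.leaf (7, 3903)))))) (.node (.node (.node (.node (.leaf (0, 344)) (.leaf (5, 2239))) (.node (.leaf (4, 1215)) (.leaf (77, 4014)))) (.node (.node (.leaf (0, 703)) (.leaf (20, 2751))) (.node (.leaf (4, 1733)) (.leaf (77, 1625))))) (.node (.node (.node (.leaf (7, 1699)) (.leaf (0, 2495))) (.node (.leaf (0, 1471)) (.leaf (77, 2149)))) (.node (.node (.leaf (77, 1892)) (.leaf (62, 1186))) (.node (.leaf (0, 0)) (.leaf (75, 3975))))))) (.node (.node (.node (.node (.node (.leaf (7, 238)) (.leaf (7, 2175))) (.node (.leaf (77, 1411)) (.leaf (56, 3199))))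 (.node (.node (.leaf (77, 1261)) (.leaf (7, 2687))) (.node (.leaf (0, 0)) (.leaf (75, 1211))))) (.node (.node (.node (.leaf (77, 383)) (.leaf (73, 3687))) (.node (.leaf (0, 2053)) (.leaf (4, 3455)))) (.node (.node (.leaf (4, 2042)) (.leaf (77, 2585))) (.node (.leaf (0, 1919)) (.leaf (0, 3967)))))) (.node (.node (.node (.node (.leaf (0, 0)) (.leaf (77, 1829))) (.node (.leaf (0, 0)) (.leaf (61, 3327)))) (.node (.node (.leaf (0, 1203)) (.leaf (74, 2893))) (.node (.leaf (0, 1791)) (.leaf (23, 2287))))) (.node (.node (.node (.leaf (0, 0)) (.leaf (7, 1846))) (.node (.leaf (0, 1535)) (.leaf (0, 0)))) (.node (.node (.leaf (0, 0)) (.leaf (73, 3071))) (.node (.leaf (75, 1892)) (.leaf (65, 4090))))))))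

def twoVia253 : Janko.Tree (ℕ × ℕ) :=
  (.node (.node (.node (.node (.node (.node (.leaf (0, 0)) (.leaf (77, 2857))) (.node (.leaf (1, 1087)) (.leaf (77, 2500)))) (.node (.node (.leaf (1, 575)) (.leaf (74, 1868))) (.node (.leaf (75, 2291)) (.leaf (1, 3965))))) (.node (.node (.node (.leaf (1, 319)) (.leaf (71, 2718))) (.node (.leaf (72, 1792)) (.leaf (0, 0)))) (.node (.node (.leaf (0, 0)) (.leaf (1, 2879))) (.node (.leaf (1, 2569)) (.leaf (77, 3633)))))) (.node (.node (.node (.node (.leaf (0, 0)) (.leaf (0, 0))) (.node (.leaf (0, 0)) (.leaf (0, 0)))) (.node (.node (.leaf (0, 0)) (.leaf (67, 2036))) (.node (.leaf (1, 1727)) (.leaf (67, 3775))))) (.node (.node (.node (.leaf (1, 447)) (.leaf (0, 0))) (.node (.leaf (0, 0)) (.leaf (1, 3519)))) (.node (.node (.leaf (1, 959)) (.leaf (77, 2228))) (.node (.leaf (1, 1983)) (.leaf (1, 4031))))))) (.node (.node (.node (.node (.node (.leaf (1, 127)) (.leaf (0, 0))) (.node (.leaf (1, 1726)) (.leaf (1, 3199)))) (.node (.node (.leaf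 (0, 0)) (.leaf (1, 2687))) (.node (.leaf (1, 1663)) (.leaf (0, 0))))) (.node (.node (.node (.leaf (1, 383)) (.leaf (0, 0))) (.node (.leaf (0, 0)) (.leaf (76, 594)))) (.node (.node (.leaf (1, 895)) (.leaf (69, 2227))) (.node (.leaf (0, 0)) (.leaf (77, 4068)))))) (.node (.node (.node (.node (.leaf (1, 255)) (.leaf (1, 2303))) (.node (.leaf (1, 1279)) (.leaf (0, 0)))) (.node (.node (.leaf (0, 0)) (.leaf (1, 3472))) (.node (.leaf (0, 0)) (.leaf (0, 0))))) (.node (.node (.node (.leaf (1, 511)) (.leaf (1, 3255))) (.node (.leaf (0, 0)) (.leaf (1, 3583)))) (.node (.node (.leaf (1, 1023)) (.leaf (1, 3071))) (.node (.leaf (0, 0)) (.leaf (10, 4095))))))))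

def twoVia254 : Janko.Tree (ℕ × ℕ) :=
  (.node (.node (.node (.node (.node (.node (.leaf (0, 0)) (.leaf (0, 0))) (.node (.leaf (0, 0)) (.leaf (2, 3135)))) (.node (.node (.leaf (77, 821)) (.leaf (2, 2623))) (.node (.leaf (77, 2647)) (.leaf (70, 2390))))) (.node (.node (.node (.leaf (74, 327)) (.leaf (2, 2367))) (.node (.leaf (0, 0)) (.leaf (2, 3391)))) (.node (.node (.leaf (2, 831)) (.leaf (44, 1367))) (.node (.leaf (2, 2571)) (.leaf (6, 3903)))))) (.node (.node (.node (.node (.leaf (2, 191)) (.leaf (77, 2243))) (.node (.leaf (2, 1215)) (.leaf (76, 1824)))) (.node (.node (.leaf (0, 0)) (.leaf (61, 1134))) (.node (.leaf (0, 0)) (.leaf (2, 3775))))) (.node (.node (.node (.leaf (0, 0)) (.leaf (77, 160))) (.node (.leaf (0, 0)) (.leaf (71, 2882)))) (.node (.node (.leaf (77, 331)) (.leaf (77, 1184))) (.node (.leaf (7, 2704)) (.leaf (77, 3212))))))) (.node (.node (.node (.node (.node (.leaf (7, 241)) (.leaf (6, 2175))) (.node (.leaf (77, 3664)) (.leaf (0, 0)))) (.node (.node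 (.leaf (2, 639)) (.leaf (0, 0))) (.node (.leaf (70, 1943)) (.leaf (77, 2515))))) (.node (.node (.node (.leaf (0, 0)) (.leaf (2, 2431))) (.node (.leaf (2, 1407)) (.leaf (2, 3455)))) (.node (.node (.leaf (0, 0)) (.leaf (6, 2943))) (.node (.leaf (6, 1919)) (.leaf (77, 1481)))))) (.node (.node (.node (.node (.leaf (0, 0)) (.leaf (77, 3112))) (.node (.leaf (0, 0)) (.leaf (77, 1046)))) (.node (.node (.leaf (77, 817)) (.leaf (2, 2815))) (.node (.leaf (77, 759)) (.leaf (77, 1290))))) (.node (.node (.node (.leaf (0, 0)) (.leaf (2, 2559))) (.node (.leaf (7, 2222)) (.leaf (77, 3570)))) (.node (.node (.leaf (7, 1566)) (.leaf (77, 3053))) (.node (.leaf (62, 1375)) (.leaf (67, 4086))))))))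

def twoVia255 : Janko.Tree (ℕ × ℕ) :=
  (.node (.node (.node (.node (.node (.node (.leaf (0, 0)) (.leaf (0, 0))) (.node (.leaf (0, 0)) (.leaf (77, 3677)))) (.node (.node (.leaf (77, 3439)) (.leaf (3, 3300))) (.node (.leaf (3, 1599)) (.leaf (3, 3647))))) (.node (.node (.node (.leaf (0, 0)) (.leaf (3, 2755))) (.node (.leaf (0, 0)) (.leaf (3, 3391)))) (.node (.node (.leaf (0, 0)) (.leaf (76, 3397))) (.node (.leaf (3, 1855)) (.leaf (3, 3903)))))) (.node (.node (.node (.node (.leaf (0, 0)) (.leaf (3, 2239))) (.node (.leaf (77, 3142)) (.leaf (3, 3263)))) (.node (.node (.leaf (0, 0)) (.leaf (3, 2751))) (.node (.leaf (62, 730)) (.leaf (0, 0))))) (.node (.node (.node (.leaf (0, 0)) (.leaf (3, 2495))) (.node (.leaf (67, 1379)) (.leaf (71, 2100)))) (.node (.node (.leaf (0, 0)) (.leaf (3, 3007))) (.node (.leaf (0, 0)) (.leaf (75, 1476))))))) (.node (.node (.node (.node (.node (.leaf (3, 127)) (.leaf (3, 2175))) (.node (.leaf (3, 1151)) (.leaf (0, 0)))) (.node (.node (.leaf (77,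 921)) (.leaf (7, 2695))) (.node (.leaf (0, 0)) (.leaf (3, 3711))))) (.node (.node (.node (.leaf (77, 1446)) (.leaf (3, 2431))) (.node (.leaf (0, 0)) (.leaf (7, 2077)))) (.node (.node (.leaf (0, 0)) (.leaf (3, 2943))) (.node (.leaf (3, 1919)) (.leaf (3, 3967)))))) (.node (.node (.node (.node (.leaf (0, 0)) (.leaf (0, 0))) (.node (.leaf (0, 0)) (.leaf (3, 3327)))) (.node (.node (.leaf (3, 767)) (.leaf (77, 822))) (.node (.leaf (3, 1791)) (.leaf (3, 3839))))) (.node (.node (.node (.leaf (0, 0)) (.leaf (3, 2559))) (.node (.leaf (3, 1535)) (.leaf (66, 3967)))) (.node (.node (.leaf (0, 0)) (.leaf (73, 3812))) (.node (.leaf (3, 2047)) (.leaf (3, 4095))))))))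

def twoVia : Janko.Tree (ℕ × ℕ) := (.node (.node (.node (.node (.node (.node (.node (.node twoVia0 twoVia128) (.node twoVia64 twoVia192)) (.node (.node twoVia32 twoVia160) (.node twoVia96 twoVia224))) (.node (.node (.node twoVia16 twoVia144) (.node twoVia80 twoVia208)) (.node (.node twoVia48 twoVia176) (.node twoVia112 twoVia240)))) (.node (.node (.node (.node twoVia8 twoVia136) (.node twoVia72 twoVia200)) (.node (.node twoVia40 twoVia168) (.node twoVia104 twoVia232))) (.node (.node (.node twoVia24 twoVia152) (.node twoVia88 twoVia216)) (.node (.node twoVia56 twoVia184) (.node twoVia120 twoVia248))))) (.node (.node (.node (.node (.node twoVia4 twoVia132) (.node twoVia68 twoVia196)) (.node (.node twoVia36 twoVia164) (.node twoVia100 twoVia228))) (.node (.node (.node twoVia20 twoVia148) (.node twoVia84 twoVia212)) (.node (.node twoVia52 twoVia180) (.node twoVia116 twoVia244)))) (.node (.node (.node (.node twoVia12 twoVia140) (.node twoVia76 twoVia204)) (.node (.node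 twoVia44 twoVia172) (.node twoVia108 twoVia236))) (.node (.node (.node twoVia28 twoVia156) (.node twoVia92 twoVia220)) (.node (.node twoVia60 twoVia188) (.node twoVia124 twoVia252)))))) (.node (.node (.node (.node (.node (.node twoVia2 twoVia130) (.node twoVia66 twoVia194)) (.node (.node twoVia34 twoVia162) (.node twoVia98 twoVia226))) (.node (.node (.node twoVia18 twoVia146) (.node twoVia82 twoVia210)) (.node (.node twoVia50 twoVia178) (.node twoVia114 twoVia242)))) (.node (.node (.node (.node twoVia10 twoVia138) (.node twoVia74 twoVia202)) (.node (.node twoVia42 twoVia170) (.node twoVia106 twoVia234))) (.node (.node (.node twoVia26 twoVia154) (.node twoVia90 twoVia218)) (.node (.node twoVia58 twoVia186) (.node twoVia122 twoVia250))))) (.node (.node (.node (.node (.node twoVia6 twoVia134) (.node twoVia70 twoVia198)) (.node (.node twoVia38 twoVia166) (.node twoVia102 twoVia230))) (.node (.node (.node twoVia22 twoVia150) (.node twoVia86 twoVia214)) (.node (.node twoVia54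 twoVia182) (.node twoVia118 twoVia246)))) (.node (.node (.node (.node twoVia14 twoVia142) (.node twoVia78 twoVia206)) (.node (.node twoVia46 twoVia174) (.node twoVia110 twoVia238))) (.node (.node (.node twoVia30 twoVia158) (.node twoVia94 twoVia222)) (.node (.node twoVia62 twoVia190) (.node twoVia126 twoVia254))))))) (.node (.node (.node (.node (.node (.node (.node twoVia1 twoVia129) (.node twoVia65 twoVia193)) (.node (.node twoVia33 twoVia161) (.node twoVia97 twoVia225))) (.node (.node (.node twoVia17 twoVia145) (.node twoVia81 twoVia209)) (.node (.node twoVia49 twoVia177) (.node twoVia113 twoVia241)))) (.node (.node (.node (.node twoVia9 twoVia137) (.node twoVia73 twoVia201)) (.node (.node twoVia41 twoVia169) (.node twoVia105 twoVia233))) (.node (.node (.node twoVia25 twoVia153) (.node twoVia89 twoVia217)) (.node (.node twoVia57 twoVia185) (.node twoVia121 twoVia249))))) (.node (.node (.node (.node (.node twoVia5 twoVia133) (.node twoVia69 twoVia197)) (.node (.node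 twoVia37 twoVia165) (.node twoVia101 twoVia229))) (.node (.node (.node twoVia21 twoVia149) (.node twoVia85 twoVia213)) (.node (.node twoVia53 twoVia181) (.node twoVia117 twoVia245)))) (.node (.node (.node (.node twoVia13 twoVia141) (.node twoVia77 twoVia205)) (.node (.node twoVia45 twoVia173) (.node twoVia109 twoVia237))) (.node (.node (.node twoVia29 twoVia157) (.node twoVia93 twoVia221)) (.node (.node twoVia61 twoVia189) (.node twoVia125 twoVia253)))))) (.node (.node (.node (.node (.node (.node twoVia3 twoVia131) (.node twoVia67 twoVia195)) (.node (.node twoVia35 twoVia163) (.node twoVia99 twoVia227))) (.node (.node (.node twoVia19 twoVia147) (.node twoVia83 twoVia211)) (.node (.node twoVia51 twoVia179) (.node twoVia115 twoVia243)))) (.node (.node (.node (.node twoVia11 twoVia139) (.node twoVia75 twoVia203)) (.node (.node twoVia43 twoVia171) (.node twoVia107 twoVia235))) (.node (.node (.node twoVia27 twoVia155) (.node twoVia91 twoVia219)) (.node (.node twoVia59 twoVia187)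 (.node twoVia123 twoVia251))))) (.node (.node (.node (.node (.node twoVia7 twoVia135) (.node twoVia71 twoVia199)) (.node (.node twoVia39 twoVia167) (.node twoVia103 twoVia231))) (.node (.node (.node twoVia23 twoVia151) (.node twoVia87 twoVia215)) (.node (.node twoVia55 twoVia183) (.node twoVia119 twoVia247)))) (.node (.node (.node (.node twoVia15 twoVia143) (.node twoVia79 twoVia207)) (.node (.node twoVia47 twoVia175) (.node twoVia111 twoVia239))) (.node (.node (.node twoVia31 twoVia159) (.node twoVia95 twoVia223)) (.node (.node twoVia63 twoVia191) (.node twoVia127 twoVia255))))))))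

def twoOrd0 : Janko.Tree (ℕ) :=
  (.node (.node (.node (.node (.node (.node (.node (.leaf 3941) (.leaf 3535)) (.node (.leaf 4077) (.leaf 3942))) (.node (.node (.leaf 2464) (.leaf 2297)) (.node (.leaf 1771) (.leaf 1605)))) (.node (.node (.node (.leaf 2833) (.leaf 3486)) (.node (.leaf 3488) (.leaf 3921))) (.node (.node (.leaf 1447) (.leaf 2110)) (.node (.leaf 936) (.leaf 1446))))) (.node (.node (.node (.node (.leaf 1604) (.leaf 2296)) (.node (.leaf 1049) (.leaf 1603))) (.node (.node (.leaf 1531) (.leaf 2218)) (.node (.leaf 2219) (.leaf 2946)))) (.node (.node (.node (.leaf 1443) (.leaf 935)) (.node (.leaf 934) (.leaf 583))) (.node (.node (.leaf 1693) (.leaf 1120)) (.node (.leaf 2380) (.leaf 1694)))))) (.node (.node (.node (.node (.node (.leaf 3103) (.leaf 1661)) (.node (.leaf 2463) (.leaf 3569))) (.node (.node (.leaf 3607) (.leaf 2901)) (.node (.leaf 3944) (.leaf 1050)))) (.node (.node (.node (.leaf 1121) (.leaf 2835)) (.node (.leaf 584) (.leaf 3492))) (.node (.node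 (.leaf 2107) (.leaf 2831)) (.node (.leaf 3072) (.leaf 2104))))) (.node (.node (.node (.node (.leaf 1093) (.leaf 2902)) (.node (.leaf 2947) (.leaf 2295))) (.node (.node (.leaf 2169) (.leaf 3008)) (.node (.leaf 661) (.leaf 3538)))) (.node (.node (.node (.leaf 2165) (.leaf 710)) (.node (.leaf 2841) (.leaf 350))) (.node (.node (.leaf 2106) (.leaf 1444)) (.node (.leaf 1442) (.leaf 2381))))))) (.node (.node (.node (.node (.node (.node (.leaf 3010) (.leaf 2298)) (.node (.leaf 3611) (.leaf 3011))) (.node (.node (.leaf 3666) (.leaf 3534)) (.node (.leaf 3102) (.leaf 2900)))) (.node (.node (.node (.leaf 2895) (.leaf 3485)) (.node (.leaf 2162) (.leaf 2894))) (.node (.node (.leaf 1448) (.leaf 2112)) (.node (.leaf 2113) (.leaf 2839))))) (.node (.node (.node (.node (.leaf 1491) (.leaf 2171)) (.node (.leaf 968) (.leaf 1490))) (.node (.node (.leaf 1671) (.leaf 2362)) (.node (.leaf 2354) (.leaf 3054)))) (.node (.node (.node (.leaf 1713) (.leaf 1136)) (.node (.leaf 2382) (.leaf 1696)))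 (.node (.node (.leaf 1449) (.leaf 938)) (.node (.leaf 965) (.leaf 605)))))) (.node (.node (.node (.node (.node (.leaf 3161) (.leaf 2955)) (.node (.leaf 2417) (.leaf 2353))) (.node (.node (.leaf 3537) (.leaf 1606)) (.node (.leaf 3969) (.leaf 2168)))) (.node (.node (.node (.leaf 937) (.leaf 2838)) (.node (.leaf 1695) (.leaf 2164))) (.node (.node (.leaf 2399) (.leaf 2830)) (.node (.leaf 1484) (.leaf 3487))))) (.node (.node (.node (.node (.leaf 2228) (.leaf 3007)) (.node (.leaf 1662) (.leaf 2170))) (.node (.node (.leaf 1051) (.leaf 2903)) (.node (.leaf 1489) (.leaf 3608)))) (.node (.node (.node (.leaf 2114) (.leaf 585)) (.node (.leaf 1485) (.leaf 1122))) (.node (.node (.leaf 2105) (.leaf 1712)) (.node (.leaf 2832) (.leaf 964))))))))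

def twoOrd1 : Janko.Tree (ℕ) :=
  (.node (.node (.node (.node (.node (.node (.node (.leaf 4088) (.leaf 4019)) (.node (.leaf 4018) (.leaf 3738))) (.node (.node (.leaf 3676) (.leaf 3993)) (.node (.leaf 3988) (.leaf 4082)))) (.node (.node (.node (.leaf 4090) (.leaf 4069)) (.node (.leaf 4072) (.leaf 4094))) (.node (.node (.leaf 2784) (.leaf 3442)) (.node (.leaf 3443) (.leaf 3903))))) (.node (.node (.node (.node (.leaf 3881) (.leaf 4065)) (.node (.leaf 3407) (.leaf 3873))) (.node (.node (.leaf 2487) (.leaf 3190)) (.node (.leaf 3183) (.leaf 3739)))) (.node (.node (.node (.leaf 3813) (.leaf 3286)) (.node (.leaf 3633) (.leaf 3071))) (.node (.node (.leaf 2810) (.leaf 2090)) (.node (.leaf 3468) (.leaf 2811)))))) (.node (.node (.node (.node (.node (.leaf 3171) (.leaf 3690)) (.node (.leaf 3669) (.leaf 3182))) (.node (.node (.leaf 4064) (.leaf 3880)) (.node (.leaf 3849) (.leaf 4058)))) (.node (.node (.node (.leaf 2068) (.leaf 2995)) (.node (.leaf 3067) (.leaf 4070))) (.node (.node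 (.leaf 4029) (.leaf 3900)) (.node (.leaf 3916) (.leaf 3632))))) (.node (.node (.node (.node (.leaf 3122) (.leaf 3730)) (.node (.leaf 2481) (.leaf 3987))) (.node (.node (.leaf 3404) (.leaf 3870)) (.node (.leaf 3877) (.leaf 3345)))) (.node (.node (.node (.leaf 2294) (.leaf 1431)) (.node (.leaf 3915) (.leaf 2379))) (.node (.node (.leaf 4051) (.leaf 3812)) (.node (.leaf 3053) (.leaf 3469))))))) (.node (.node (.node (.node (.node (.node (.leaf 3844) (.leaf 3336)) (.node (.leaf 4061) (.leaf 3845))) (.node (.node (.leaf 2466) (.leaf 3163)) (.node (.leaf 3164) (.leaf 3724)))) (.node (.node (.node (.leaf 3765) (.leaf 3599)) (.node (.leaf 3220) (.leaf 2994))) (.node (.node (.leaf 2783) (.leaf 3440)) (.node (.leaf 2067) (.leaf 2782))))) (.node (.node (.node (.node (.leaf 3836) (.leaf 3324)) (.node (.leaf 3395) (.leaf 3837))) (.node (.node (.leaf 2427) (.leaf 3115)) (.node (.leaf 3116) (.leaf 3682)))) (.node (.node (.node (.leaf 3854) (.leaf 3428)) (.node (.leaf 3419) (.leaf 2770)))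 (.node (.node (.leaf 3711) (.leaf 3196)) (.node (.leaf 3144) (.leaf 3710)))))) (.node (.node (.node (.node (.node (.leaf 3105) (.leaf 2480)) (.node (.leaf 3725) (.leaf 3997))) (.node (.node (.leaf 3344) (.leaf 3831)) (.node (.leaf 3869) (.leaf 3403)))) (.node (.node (.node (.leaf 2373) (.leaf 3901)) (.node (.leaf 1412) (.leaf 2280))) (.node (.node (.leaf 4030) (.leaf 3048)) (.node (.leaf 3764) (.leaf 3439))))) (.node (.node (.node (.node (.leaf 1782) (.leaf 3668)) (.node (.leaf 3683) (.leaf 4013))) (.node (.node (.leaf 4057) (.leaf 2659)) (.node (.leaf 2741) (.leaf 3383)))) (.node (.node (.node (.leaf 4011) (.leaf 2492)) (.node (.leaf 2449) (.leaf 2058))) (.node (.node (.leaf 3349) (.leaf 3893)) (.node (.leaf 3890) (.leaf 4010))))))))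

def twoOrd2 : Janko.Tree (ℕ) :=
  (.node (.node (.node (.node (.node (.node (.node (.leaf 388) (.leaf 639)) (.node (.leaf 455) (.leaf 740))) (.node (.node (.leaf 1018) (.leaf 643)) (.node (.leaf 1561) (.leaf 1019)))) (.node (.node (.node (.leaf 1076) (.leaf 681)) (.node (.leaf 1294) (.leaf 826))) (.node (.node (.leaf 1080) (.leaf 1267)) (.node (.leaf 1639) (.leaf 1885))))) (.node (.node (.node (.node (.leaf 1877) (.leaf 1260)) (.node (.leaf 2597) (.leaf 1878))) (.node (.node (.leaf 2291) (.leaf 2638)) (.node (.leaf 1597) (.leaf 1918)))) (.node (.node (.node (.leaf 1959) (.leaf 2680)) (.node (.leaf 2681) (.leaf 3359))) (.node (.node (.leaf 1743) (.leaf 1426)) (.node (.leaf 1162) (.leaf 918)))))) (.node (.node (.node (.node (.node (.leaf 2419) (.leaf 1094)) (.node (.leaf 1776) (.leaf 1422))) (.node (.node (.leaf 2684) (.leaf 424)) (.node (.leaf 2287) (.leaf 2654)))) (.node (.node (.node (.leaf 711) (.leaf 3319)) (.node (.leaf 351) (.leaf 228))) (.node (.node (.leaf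 251) (.leaf 1881)) (.node (.leaf 98) (.leaf 662))))) (.node (.node (.node (.node (.leaf 692) (.leaf 3104)) (.node (.leaf 1746) (.leaf 2470))) (.node (.node (.leaf 691) (.leaf 3361)) (.node (.leaf 2103) (.leaf 2640)))) (.node (.node (.node (.leaf 2897) (.leaf 438)) (.node (.leaf 401) (.leaf 196))) (.node (.node (.leaf 2599) (.leaf 434)) (.node (.leaf 403) (.leaf 191))))))) (.node (.node (.node (.node (.node (.node (.leaf 82) (.leaf 163)) (.node (.leaf 38) (.leaf 81))) (.node (.node (.leaf 316) (.leaf 172)) (.node (.leaf 171) (.leaf 87)))) (.node (.node (.node (.leaf 3555) (.leaf 2923)) (.node (.leaf 2988) (.leaf 2272))) (.node (.node (.leaf 2209) (.leaf 2800)) (.node (.leaf 2938) (.leaf 3297))))) (.node (.node (.node (.node (.leaf 970) (.leaf 1493)) (.node (.leaf 608) (.leaf 969))) (.node (.node (.leaf 967) (.leaf 607)) (.node (.leaf 606) (.leaf 365)))) (.node (.node (.node (.leaf 1137) (.leaf 722)) (.node (.leaf 1715) (.leaf 1138))) (.node (.node (.leaf 1102) (.leaf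 1672)) (.node (.leaf 1673) (.leaf 2364)))))) (.node (.node (.node (.node (.node (.leaf 2471) (.leaf 2079)) (.node (.leaf 1735) (.leaf 1664))) (.node (.node (.leaf 3002) (.leaf 3339)) (.node (.leaf 3363) (.leaf 519)))) (.node (.node (.node (.leaf 587) (.leaf 402)) (.node (.leaf 1124) (.leaf 2633))) (.node (.node (.leaf 192) (.leaf 1053)) (.node (.leaf 275) (.leaf 2602))))) (.node (.node (.node (.node (.leaf 2431) (.leaf 3170)) (.node (.leaf 1095) (.leaf 2418))) (.node (.node (.leaf 2829) (.leaf 3327)) (.node (.leaf 838) (.leaf 3859)))) (.node (.node (.node (.leaf 660) (.leaf 352)) (.node (.leaf 2163) (.leaf 712))) (.node (.node (.leaf 663) (.leaf 346)) (.node (.leaf 3295) (.leaf 470))))))))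

def twoOrd3 : Janko.Tree (ℕ) :=
  (.node (.node (.node (.node (.node (.node (.node (.leaf 1) (.leaf 6)) (.node (.leaf 7) (.leaf 18))) (.node (.node (.leaf 795) (.leaf 508)) (.node (.leaf 489) (.leaf 788)))) (.node (.node (.node (.leaf 4079) (.leaf 4085)) (.node (.leaf 4080) (.leaf 4067))) (.node (.node (.leaf 995) (.leaf 651)) (.node (.leaf 625) (.leaf 985))))) (.node (.node (.node (.node (.leaf 107) (.leaf 51)) (.node (.leaf 207) (.leaf 108))) (.node (.node (.leaf 2167) (.leaf 2888)) (.node (.leaf 2407) (.leaf 2154)))) (.node (.node (.node (.leaf 3251) (.leaf 3084)) (.node (.leaf 2547) (.leaf 3244))) (.node (.node (.leaf 429) (.leaf 258)) (.node (.leaf 247) (.leaf 138)))))) (.node (.node (.node (.node (.node (.leaf 2472) (.leaf 3123)) (.node (.leaf 3107) (.leaf 63))) (.node (.node (.leaf 3968) (.leaf 3457)) (.node (.leaf 3414) (.leaf 3049)))) (.node (.node (.node (.leaf 1413) (.leaf 2281)) (.node (.leaf 2374) (.leaf 3755))) (.node (.node (.leaf 8) (.leaf 26)) (.node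 (.leaf 30) (.leaf 3833))))) (.node (.node (.node (.node (.leaf 2432) (.leaf 3172)) (.node (.leaf 129) (.leaf 3671))) (.node (.node (.leaf 3909) (.leaf 4014)) (.node (.leaf 2352) (.leaf 3885)))) (.node (.node (.node (.leaf 1602) (.leaf 923)) (.node (.leaf 3978) (.leaf 1692))) (.node (.node (.leaf 59) (.leaf 21)) (.node (.leaf 3397) (.leaf 67))))))) (.node (.node (.node (.node (.node (.node (.leaf 116) (.leaf 221)) (.node (.leaf 55) (.leaf 115))) (.node (.node (.leaf 2240) (.leaf 2435)) (.node (.leaf 2965) (.leaf 2248)))) (.node (.node (.node (.leaf 3312) (.leaf 2620)) (.node (.leaf 3037) (.leaf 3298))) (.node (.node (.leaf 418) (.leaf 239)) (.node (.leaf 238) (.leaf 125))))) (.node (.node (.node (.node (.leaf 3325) (.leaf 2639)) (.node (.leaf 2730) (.leaf 3326))) (.node (.node (.leaf 3606) (.leaf 3745)) (.node (.leaf 3709) (.leaf 3216)))) (.node (.node (.node (.leaf 3421) (.leaf 2801)) (.node (.leaf 2763) (.leaf 3420))) (.node (.node (.leaf 1744) (.leaf 2428)) (.node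 (.leaf 2429) (.leaf 3118)))))) (.node (.node (.node (.node (.node (.leaf 2420) (.leaf 130)) (.node (.leaf 3173) (.leaf 3691))) (.node (.node (.leaf 3886) (.leaf 2345)) (.node (.leaf 4022) (.leaf 3910)))) (.node (.node (.node (.leaf 1684) (.leaf 4002)) (.node (.leaf 908) (.leaf 1588))) (.node (.node (.leaf 68) (.leaf 3320)) (.node (.leaf 22) (.leaf 60))))) (.node (.node (.node (.node (.leaf 245) (.leaf 3106)) (.node (.leaf 3124) (.leaf 3731))) (.node (.node (.leaf 2665) (.leaf 3986)) (.node (.leaf 4005) (.leaf 4087)))) (.node (.node (.node (.leaf 3940) (.leaf 1790)) (.node (.leaf 1761) (.leaf 1406))) (.node (.node (.leaf 3832) (.leaf 136)) (.node (.leaf 122) (.leaf 49))))))))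

def twoOrd4 : Janko.Tree (ℕ) :=
  (.node (.node (.node (.node (.node (.node (.node (.leaf 2552) (.leaf 2119)) (.node (.leaf 3413) (.leaf 3811))) (.node (.node (.leaf 1241) (.leaf 1015)) (.node (.leaf 1977) (.leaf 1282)))) (.node (.node (.node (.leaf 3014) (.leaf 3248)) (.node (.leaf 3571) (.leaf 3073))) (.node (.node (.leaf 1517) (.leaf 1835)) (.node (.leaf 2332) (.leaf 1565))))) (.node (.node (.node (.node (.leaf 1237) (.leaf 943)) (.node (.leaf 3580) (.leaf 3744))) (.node (.node (.leaf 3697) (.leaf 2123)) (.node (.leaf 2045) (.leaf 2588)))) (.node (.node (.node (.leaf 1495) (.leaf 1833)) (.node (.leaf 3301) (.leaf 2975))) (.node (.node (.leaf 2477) (.leaf 3427)) (.node (.leaf 2223) (.leaf 1700)))))) (.node (.node (.node (.node (.node (.leaf 1845) (.leaf 641)) (.node (.leaf 2694) (.leaf 3284))) (.node (.node (.leaf 1841) (.leaf 2849)) (.node (.leaf 2757) (.leaf 1901)))) (.node (.node (.node (.leaf 1078) (.leaf 2545)) (.node (.leaf 1641) (.leaf 3643))) (.node (.node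 (.leaf 3540) (.leaf 2544)) (.node (.leaf 3957) (.leaf 1022))))) (.node (.node (.node (.node (.leaf 3143) (.leaf 2853)) (.node (.leaf 2756) (.leaf 3195))) (.node (.node (.leaf 1840) (.leaf 589)) (.node (.leaf 3853) (.leaf 3285)))) (.node (.node (.node (.leaf 3112) (.leaf 2769)) (.node (.leaf 1535) (.leaf 3589))) (.node (.node (.leaf 1055) (.leaf 2543)) (.node (.leaf 3816) (.leaf 1126))))))) (.node (.node (.node (.node (.node (.node (.leaf 3708) (.leaf 1014)) (.node (.leaf 3471) (.leaf 506))) (.node (.node (.leaf 1242) (.leaf 2127)) (.node (.leaf 856) (.leaf 3659)))) (.node (.node (.node (.leaf 2909) (.leaf 821)) (.node (.leaf 3636) (.leaf 1563))) (.node (.node (.leaf 1637) (.leaf 3426)) (.node (.leaf 2202) (.leaf 3078))))) (.node (.node (.node (.node (.leaf 2549) (.leaf 3497)) (.node (.leaf 1941) (.leaf 2904))) (.node (.node (.leaf 1243) (.leaf 355)) (.node (.leaf 2166) (.leaf 1199)))) (.node (.node (.node (.leaf 666) (.leaf 924)) (.node (.leaf 4052) (.leaf 715))) (.node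 (.node (.leaf 3687) (.leaf 3245)) (.node (.leaf 1097) (.leaf 3962)))))) (.node (.node (.node (.node (.node (.leaf 792) (.leaf 1457)) (.node (.leaf 532) (.leaf 298))) (.node (.node (.leaf 4004) (.leaf 1557)) (.node (.leaf 3918) (.leaf 3982)))) (.node (.node (.node (.leaf 2198) (.leaf 3892)) (.node (.leaf 2931) (.leaf 2254))) (.node (.node (.leaf 2305) (.leaf 509)) (.node (.leaf 3057) (.leaf 2387))))) (.node (.node (.node (.node (.leaf 1849) (.leaf 592)) (.node (.leaf 1486) (.leaf 2172))) (.node (.node (.leaf 1839) (.leaf 2847)) (.node (.leaf 2663) (.leaf 1788)))) (.node (.node (.node (.leaf 3187) (.leaf 2542)) (.node (.leaf 1666) (.leaf 1128))) (.node (.node (.leaf 973) (.leaf 1432)) (.node (.leaf 3826) (.leaf 3585))))))))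

def twoOrd5 : Janko.Tree (ℕ) :=
  (.node (.node (.node (.node (.node (.node (.node (.leaf 3864) (.leaf 3309)) (.node (.leaf 3256) (.leaf 2850))) (.node (.node (.leaf 1337) (.leaf 819)) (.node (.leaf 791) (.leaf 1502)))) (.node (.node (.node (.leaf 3958) (.leaf 3644)) (.node (.leaf 3613) (.leaf 3788))) (.node (.node (.leaf 1649) (.leaf 1030)) (.node (.leaf 989) (.leaf 1233))))) (.node (.node (.node (.node (.leaf 3850) (.leaf 3192)) (.node (.leaf 789) (.leaf 612))) (.node (.node (.leaf 1393) (.leaf 1868)) (.node (.leaf 3262) (.leaf 2854)))) (.node (.node (.node (.leaf 3823) (.leaf 3590)) (.node (.leaf 971) (.leaf 1231))) (.node (.node (.leaf 1541) (.leaf 1139)) (.node (.leaf 3179) (.leaf 2812)))))) (.node (.node (.node (.node (.node (.leaf 857) (.leaf 507)) (.node (.leaf 487) (.leaf 2128))) (.node (.node (.leaf 4063) (.leaf 3829)) (.node (.leaf 3792) (.leaf 2180)))) (.node (.node (.node (.leaf 2210) (.leaf 1576)) (.node (.leaf 1516) (.leaf 4040))) (.node (.node (.leaf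 3637) (.leaf 3079)) (.node (.leaf 3019) (.leaf 786))))) (.node (.node (.node (.node (.leaf 2044) (.leaf 2587)) (.node (.leaf 2561) (.leaf 368))) (.node (.node (.leaf 3347) (.leaf 2490)) (.node (.leaf 1236) (.leaf 3498)))) (.node (.node (.node (.leaf 1103) (.leaf 723)) (.node (.leaf 3736) (.leaf 1832))) (.node (.node (.leaf 4055) (.leaf 3963)) (.node (.leaf 609) (.leaf 2091))))))) (.node (.node (.node (.node (.node (.node (.leaf 3857) (.leaf 818)) (.node (.leaf 3140) (.leaf 640))) (.node (.node (.leaf 1336) (.leaf 3283)) (.node (.leaf 1848) (.leaf 2858)))) (.node (.node (.node (.leaf 3778) (.leaf 1020)) (.node (.leaf 3544) (.leaf 1285))) (.node (.node (.leaf 1520) (.leaf 3184)) (.node (.leaf 1077) (.leaf 2768))))) (.node (.node (.node (.node (.leaf 2664) (.leaf 3311)) (.node (.leaf 3253) (.leaf 3926))) (.node (.node (.leaf 2899) (.leaf 1789)) (.node (.leaf 1760) (.leaf 197)))) (.node (.node (.node (.leaf 4089) (.leaf 439)) (.node (.leaf 404) (.leaf 1405))) (.node (.node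 (.leaf 693) (.leaf 3989)) (.node (.leaf 3995) (.leaf 3786)))))) (.node (.node (.node (.node (.node (.leaf 1974) (.leaf 2584)) (.node (.leaf 2555) (.leaf 389))) (.node (.node (.leaf 3358) (.leaf 1279)) (.node (.leaf 2447) (.leaf 3499)))) (.node (.node (.node (.leaf 1081) (.leaf 3726)) (.node (.leaf 682) (.leaf 1910))) (.node (.node (.leaf 4034) (.leaf 644)) (.node (.leaf 3946) (.leaf 2056))))) (.node (.node (.node (.node (.leaf 3370) (.leaf 2491)) (.node (.leaf 2448) (.leaf 3502))) (.node (.node (.leaf 3348) (.leaf 2618)) (.node (.leaf 2551) (.leaf 353)))) (.node (.node (.node (.leaf 1000) (.leaf 3684)) (.node (.leaf 3679) (.leaf 2057))) (.node (.node (.leaf 4028) (.leaf 713)) (.node (.leaf 664) (.leaf 3247))))))))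

def twoOrd6 : Janko.Tree (ℕ) :=
  (.node (.node (.node (.node (.node (.node (.node (.leaf 3101) (.leaf 243)) (.node (.leaf 3001) (.leaf 2078))) (.node (.node (.leaf 2023) (.leaf 1663)) (.node (.leaf 1189) (.leaf 1933)))) (.node (.node (.node (.leaf 134) (.leaf 2601)) (.node (.leaf 47) (.leaf 120))) (.node (.node (.leaf 1123) (.leaf 2710)) (.node (.leaf 586) (.leaf 1052))))) (.node (.node (.node (.node (.leaf 1092) (.leaf 2704)) (.node (.leaf 2828) (.leaf 3169))) (.node (.node (.leaf 425) (.leaf 3667)) (.node (.leaf 1165) (.leaf 1920)))) (.node (.node (.node (.leaf 2014) (.leaf 706)) (.node (.leaf 229) (.leaf 101))) (.node (.node (.leaf 3532) (.leaf 254)) (.node (.leaf 659) (.leaf 345)))))) (.node (.node (.node (.node (.node (.leaf 1560) (.leaf 391)) (.node (.leaf 2241) (.leaf 1167))) (.node (.node (.leaf 219) (.leaf 1013)) (.node (.leaf 265) (.leaf 646)))) (.node (.node (.node (.leaf 684) (.leaf 1884)) (.node (.leaf 1083) (.leaf 512))) (.node (.node (.leaf 1636) (.leaf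 416)) (.node (.leaf 1922) (.leaf 2606))))) (.node (.node (.node (.node (.leaf 3004) (.leaf 3323)) (.node (.leaf 2290) (.leaf 2598))) (.node (.node (.leaf 1363) (.leaf 1876)) (.node (.leaf 3293) (.leaf 1290)))) (.node (.node (.node (.leaf 2426) (.leaf 2082)) (.node (.leaf 736) (.leaf 3685))) (.node (.node (.leaf 2425) (.leaf 1981)) (.node (.leaf 3360) (.leaf 1425))))))) (.node (.node (.node (.node (.node (.node (.leaf 3605) (.leaf 2698)) (.node (.leaf 3860) (.leaf 2346))) (.node (.node (.leaf 2008) (.leaf 2799)) (.node (.leaf 1156) (.leaf 306)))) (.node (.node (.node (.leaf 105) (.leaf 1589)) (.node (.leaf 148) (.leaf 1912))) (.node (.node (.leaf 909) (.leaf 233)) (.node (.leaf 1685) (.leaf 3296))))) (.node (.node (.node (.node (.leaf 3132) (.leaf 3838)) (.node (.leaf 1310) (.leaf 3099))) (.node (.node (.leaf 3121) (.leaf 3729)) (.node (.leaf 695) (.leaf 3990)))) (.node (.node (.node (.leaf 406) (.leaf 575)) (.node (.leaf 3818) (.leaf 441))) (.node (.node (.leaf 1048)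 (.leaf 199)) (.node (.leaf 2896) (.leaf 764)))))) (.node (.node (.node (.node (.node (.leaf 490) (.leaf 90)) (.node (.leaf 315) (.leaf 162))) (.node (.node (.leaf 45) (.leaf 300)) (.node (.leaf 16) (.leaf 41)))) (.node (.node (.node (.leaf 1525) (.leaf 3461)) (.node (.leaf 2212) (.leaf 1581))) (.node (.node (.leaf 3950) (.leaf 2191)) (.node (.leaf 3595) (.leaf 3819))))) (.node (.node (.node (.node (.leaf 1488) (.leaf 370)) (.node (.leaf 966) (.leaf 1492))) (.node (.node (.leaf 611) (.leaf 2155)) (.node (.leaf 366) (.leaf 205)))) (.node (.node (.node (.leaf 697) (.leaf 2363)) (.node (.leaf 1105) (.leaf 725))) (.node (.node (.leaf 1714) (.leaf 444)) (.node (.leaf 2400) (.leaf 3062))))))))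

def twoOrd7 : Janko.Tree (ℕ) :=
  (.node (.node (.node (.node (.node (.node (.node (.leaf 3604) (.leaf 2798)) (.node (.leaf 2760) (.leaf 128))) (.node (.node (.leaf 1777) (.leaf 2655)) (.node (.leaf 2738) (.leaf 2356)))) (.node (.node (.node (.leaf 20) (.leaf 58)) (.node (.leaf 66) (.leaf 3210))) (.node (.node (.leaf 940) (.leaf 1608)) (.node (.leaf 1698) (.leaf 3382))))) (.node (.node (.node (.node (.leaf 3484) (.leaf 3728)) (.node (.leaf 1660) (.leaf 3378))) (.node (.node (.leaf 1747) (.leaf 2641)) (.node (.leaf 244) (.leaf 3416)))) (.node (.node (.node (.leaf 121) (.leaf 48)) (.node (.leaf 2732) (.leaf 1118))) (.node (.node (.leaf 1047) (.leaf 574)) (.node (.leaf 3650) (.leaf 135)))))) (.node (.node (.node (.node (.node (.leaf 533) (.leaf 299)) (.node (.leaf 286) (.leaf 42))) (.node (.node (.leaf 5) (.leaf 17)) (.node (.leaf 19) (.leaf 484)))) (.node (.node (.node (.leaf 1526) (.leaf 1033)) (.node (.leaf 994) (.leaf 3888))) (.node (.node (.leaf 3954) (.leaf 3999))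 (.node (.leaf 3975) (.leaf 1510))))) (.node (.node (.node (.node (.leaf 1487) (.leaf 2173)) (.node (.leaf 1725) (.leaf 208))) (.node (.node (.leaf 206) (.leaf 106)) (.node (.leaf 367) (.leaf 1477)))) (.node (.node (.node (.leaf 698) (.leaf 445)) (.node (.leaf 428) (.leaf 2540))) (.node (.node (.leaf 2722) (.leaf 2395)) (.node (.leaf 1837) (.leaf 257))))))) (.node (.node (.node (.node (.node (.node (.leaf 3515) (.leaf 1653)) (.node (.leaf 3753) (.leaf 3373))) (.node (.node (.leaf 1736) (.leaf 246)) (.node (.leaf 2726) (.leaf 3460)))) (.node (.node (.node (.leaf 137) (.leaf 2634)) (.node (.leaf 50) (.leaf 1037))) (.node (.node (.leaf 1110) (.leaf 3693)) (.node (.leaf 564) (.leaf 123))))) (.node (.node (.node (.node (.leaf 1943) (.leaf 3665)) (.node (.leaf 3700) (.leaf 4016))) (.node (.node (.leaf 426) (.leaf 3670)) (.node (.leaf 3689) (.leaf 4015)))) (.node (.node (.node (.leaf 4024) (.leaf 255)) (.node (.leaf 230) (.leaf 903))) (.node (.node (.leaf 3531) (.leaf 1201))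 (.node (.leaf 1176) (.leaf 102)))))) (.node (.node (.node (.node (.node (.leaf 1548) (.leaf 1750)) (.node (.leaf 2252) (.leaf 220))) (.node (.node (.leaf 222) (.leaf 392)) (.node (.leaf 114) (.leaf 1556)))) (.node (.node (.node (.leaf 685) (.leaf 419)) (.node (.leaf 417) (.leaf 2605))) (.node (.node (.leaf 2644) (.leaf 1899)) (.node (.leaf 2330) (.leaf 237))))) (.node (.node (.node (.node (.leaf 3003) (.leaf 3193)) (.node (.leaf 3141) (.leaf 3835))) (.node (.node (.leaf 3761) (.leaf 1919)) (.node (.leaf 2012) (.leaf 2511)))) (.node (.node (.node (.leaf 1163) (.leaf 3117)) (.node (.leaf 3114) (.leaf 2765))) (.node (.node (.leaf 3851) (.leaf 2081)) (.node (.leaf 2053) (.leaf 2702))))))))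

def twoOrd8 : Janko.Tree (ℕ) :=
  (.node (.node (.node (.node (.node (.node (.node (.leaf 2672) (.leaf 1951)) (.node (.leaf 2048) (.leaf 2673))) (.node (.node (.leaf 2667) (.leaf 2101)) (.node (.leaf 2096) (.leaf 1440)))) (.node (.node (.node (.leaf 1247) (.leaf 1854)) (.node (.leaf 1855) (.leaf 2571))) (.node (.node (.leaf 2453) (.leaf 1792)) (.node (.leaf 1763) (.leaf 2452))))) (.node (.node (.node (.node (.leaf 1319) (.leaf 1952)) (.node (.leaf 931) (.leaf 1439))) (.node (.node (.leaf 2675) (.leaf 1953)) (.node (.leaf 2049) (.leaf 1397)))) (.node (.node (.node (.leaf 1248) (.leaf 798)) (.node (.leaf 1762) (.leaf 1178))) (.node (.node (.leaf 1249) (.leaf 1858)) (.node (.leaf 1859) (.leaf 2576)))))) (.node (.node (.node (.node (.node (.leaf 1945) (.leaf 2826)) (.node (.leaf 2821) (.leaf 3354))) (.node (.node (.leaf 3355) (.leaf 1318)) (.node (.leaf 1396) (.leaf 932)))) (.node (.node (.node (.leaf 3149) (.leaf 1203)) (.node (.leaf 1179) (.leaf 1863))) (.node (.node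 (.leaf 797) (.leaf 2570)) (.node (.leaf 2569) (.leaf 3146))))) (.node (.node (.node (.node (.leaf 3357) (.leaf 1320)) (.node (.leaf 2759) (.leaf 2100))) (.node (.node (.leaf 844) (.leaf 2674)) (.node (.leaf 580) (.leaf 897)))) (.node (.node (.node (.leaf 799) (.leaf 2575)) (.node (.leaf 1252) (.leaf 746))) (.node (.node (.leaf 1856) (.leaf 492)) (.node (.leaf 2450) (.leaf 3270))))))) (.node (.node (.node (.node (.node (.node (.leaf 1395) (.leaf 959)) (.node (.leaf 2047) (.leaf 1475))) (.node (.node (.leaf 2666) (.leaf 1950)) (.node (.leaf 1944) (.leaf 1317)))) (.node (.node (.node (.leaf 1246) (.leaf 1791)) (.node (.leaf 796) (.leaf 1202))) (.node (.node (.leaf 1253) (.leaf 1862)) (.node (.leaf 1865) (.leaf 2580))))) (.node (.node (.node (.node (.leaf 525) (.leaf 335)) (.node (.leaf 309) (.leaf 524))) (.node (.node (.leaf 3855) (.leaf 3482)) (.node (.leaf 3519) (.leaf 3856)))) (.node (.node (.node (.leaf 3714) (.leaf 3269)) (.node (.leaf 3272) (.leaf 3802))) (.node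 (.node (.leaf 494) (.leaf 290)) (.node (.leaf 289) (.leaf 156)))))) (.node (.node (.node (.node (.node (.leaf 3350) (.leaf 2671)) (.node (.leaf 1311) (.leaf 2150))) (.node (.node (.leaf 896) (.leaf 602)) (.node (.leaf 2758) (.leaf 843)))) (.node (.node (.node (.leaf 801) (.leaf 1251)) (.node (.leaf 2582) (.leaf 765))) (.node (.node (.leaf 1853) (.leaf 2493)) (.node (.leaf 491) (.leaf 3271))))) (.node (.node (.node (.node (.leaf 3353) (.leaf 2825)) (.node (.leaf 2882) (.leaf 845))) (.node (.node (.leaf 846) (.leaf 559)) (.node (.leaf 523) (.leaf 3356)))) (.node (.node (.node (.leaf 800) (.leaf 495)) (.node (.leaf 493) (.leaf 3276))) (.node (.node (.leaf 3147) (.leaf 2568)) (.node (.leaf 2572) (.leaf 288))))))))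

def twoOrd9 : Janko.Tree (ℕ) :=
  (.node (.node (.node (.node (.node (.node (.node (.leaf 3965) (.leaf 4078)) (.node (.leaf 3593) (.leaf 3953))) (.node (.node (.leaf 2501) (.leaf 1797)) (.node (.leaf 2360) (.leaf 1706)))) (.node (.node (.node (.leaf 2872) (.leaf 3513)) (.node (.leaf 3514) (.leaf 3929))) (.node (.node (.leaf 1472) (.leaf 957)) (.node (.leaf 2147) (.leaf 1473))))) (.node (.node (.node (.node (.leaf 3081) (.leaf 3639)) (.node (.leaf 2390) (.leaf 3060))) (.node (.node (.leaf 3701) (.leaf 3134)) (.node (.leaf 3561) (.leaf 2980)))) (.node (.node (.node (.leaf 2960) (.leaf 2234)) (.node (.leaf 3516) (.leaf 2961))) (.node (.node (.leaf 1461) (.leaf 2133)) (.node (.leaf 2134) (.leaf 2864)))))) (.node (.node (.node (.node (.node (.leaf 3135) (.leaf 2500)) (.node (.leaf 1669) (.leaf 3560))) (.node (.node (.leaf 3647) (.leaf 3959)) (.node (.leaf 2979) (.leaf 1132)))) (.node (.node (.node (.leaf 1065) (.leaf 600)) (.node (.leaf 2879) (.leaf 3505))) (.node (.node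 (.leaf 2140) (.leaf 3025)) (.node (.leaf 2874) (.leaf 2144))))) (.node (.node (.node (.node (.leaf 3205) (.leaf 2442)) (.node (.leaf 2934) (.leaf 2359))) (.node (.node (.leaf 3592) (.leaf 3971)) (.node (.leaf 1703) (.leaf 2259)))) (.node (.node (.node (.leaf 948) (.leaf 1614)) (.node (.leaf 2862) (.leaf 2237))) (.node (.node (.leaf 2322) (.leaf 1544)) (.node (.leaf 2877) (.leaf 3506))))))) (.node (.node (.node (.node (.node (.node (.leaf 1704) (.leaf 1131)) (.node (.leaf 2391) (.leaf 1705))) (.node (.node (.leaf 1538) (.leaf 2224)) (.node (.leaf 2226) (.leaf 2952)))) (.node (.node (.node (.leaf 1469) (.leaf 956)) (.node (.leaf 955) (.leaf 599))) (.node (.node (.leaf 1622) (.leaf 2315)) (.node (.leaf 1064) (.leaf 1621))))) (.node (.node (.node (.node (.leaf 1566) (.leaf 1025)) (.node (.leaf 2257) (.leaf 1569))) (.node (.node (.leaf 1644) (.leaf 2333)) (.node (.leaf 2335) (.leaf 3040)))) (.node (.node (.node (.leaf 1630) (.leaf 2307)) (.node (.leaf 1072) (.leaf 1613)))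 (.node (.node (.leaf 1460) (.leaf 1007)) (.node (.leaf 947) (.leaf 635)))))) (.node (.node (.node (.node (.node (.leaf 1100) (.leaf 2932)) (.node (.leaf 2953) (.leaf 2392))) (.node (.node (.leaf 2258) (.leaf 718)) (.node (.leaf 3082) (.leaf 3574)))) (.node (.node (.node (.leaf 2236) (.leaf 2861)) (.node (.leaf 671) (.leaf 360))) (.node (.node (.leaf 2141) (.leaf 1470)) (.node (.leaf 1468) (.leaf 2314))))) (.node (.node (.node (.node (.leaf 2205) (.leaf 1667)) (.node (.leaf 3041) (.leaf 2260))) (.node (.node (.leaf 1129) (.leaf 1568)) (.node (.leaf 2978) (.leaf 3628)))) (.node (.node (.node (.leaf 2131) (.leaf 1545)) (.node (.leaf 593) (.leaf 1058))) (.node (.node (.leaf 2143) (.leaf 2873)) (.node (.leaf 1629) (.leaf 1006))))))))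

def twoOrd10 : Janko.Tree (ℕ) :=
  (.node (.node (.node (.node (.node (.node (.node (.leaf 1917) (.leaf 1362)) (.node (.leaf 1289) (.leaf 1916))) (.node (.node (.leaf 3549) (.leaf 3759)) (.node (.leaf 3817) (.leaf 4027)))) (.node (.node (.node (.leaf 1741) (.leaf 1161)) (.node (.leaf 1160) (.leaf 735))) (.node (.node (.leaf 3423) (.leaf 3680)) (.node (.leaf 3686) (.leaf 3996))))) (.node (.node (.node (.node (.leaf 1011) (.leaf 638)) (.node (.leaf 1554) (.leaf 1012))) (.node (.node (.leaf 1016) (.leaf 1170)) (.node (.leaf 1169) (.leaf 741)))) (.node (.node (.node (.leaf 1075) (.leaf 1634)) (.node (.leaf 1635) (.leaf 2328))) (.node (.node (.leaf 1925) (.leaf 1638)) (.node (.leaf 1295) (.leaf 1924)))))) (.node (.node (.node (.node (.node (.leaf 1313) (.leaf 2139)) (.node (.leaf 2099) (.leaf 2647))) (.node (.node (.leaf 690) (.leaf 1734)) (.node (.leaf 1754) (.leaf 2457)))) (.node (.node (.node (.leaf 3024) (.leaf 767)) (.node (.leaf 747) (.leaf 189))) (.node (.node (.leaf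 2632) (.leaf 433)) (.node (.leaf 399) (.leaf 581))))) (.node (.node (.node (.node (.leaf 2870) (.leaf 877)) (.node (.leaf 1926) (.leaf 2823))) (.node (.node (.leaf 2415) (.leaf 1090)) (.node (.leaf 3145) (.leaf 1171)))) (.node (.node (.node (.leaf 709) (.leaf 3275)) (.node (.leaf 341) (.leaf 460))) (.node (.node (.leaf 704) (.leaf 2016)) (.node (.leaf 349) (.leaf 655))))))) (.node (.node (.node (.node (.node (.node (.leaf 963) (.leaf 1483)) (.node (.leaf 604) (.leaf 962))) (.node (.node (.leaf 980) (.leaf 1151)) (.node (.leaf 1150) (.leaf 730)))) (.node (.node (.node (.leaf 1135) (.leaf 1710)) (.node (.leaf 1711) (.leaf 2365))) (.node (.node (.leaf 2005) (.leaf 1357)) (.node (.leaf 1717) (.leaf 2006))))) (.node (.node (.node (.node (.leaf 311) (.leaf 185)) (.node (.leaf 169) (.leaf 310))) (.node (.node (.leaf 292) (.leaf 158)) (.node (.leaf 157) (.leaf 79)))) (.node (.node (.node (.leaf 3546) (.leaf 3801)) (.node (.leaf 3803) (.leaf 3565))) (.node (.node (.leaf 3563)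 (.leaf 2937)) (.node (.leaf 2987) (.leaf 3564)))))) (.node (.node (.node (.node (.node (.leaf 2824) (.leaf 2007)) (.node (.leaf 839) (.leaf 2871))) (.node (.node (.leaf 2440) (.leaf 3154)) (.node (.leaf 1091) (.leaf 1155)))) (.node (.node (.node (.leaf 673) (.leaf 342)) (.node (.leaf 3281) (.leaf 471))) (.node (.node (.leaf 656) (.leaf 362)) (.node (.leaf 1911) (.leaf 705))))) (.node (.node (.node (.node (.leaf 2648) (.leaf 3481)) (.node (.leaf 3511) (.leaf 1312))) (.node (.node (.leaf 3713) (.leaf 1755)) (.node (.leaf 1733) (.leaf 1658)))) (.node (.node (.node (.leaf 570) (.leaf 748)) (.node (.leaf 766) (.leaf 3805))) (.node (.node (.leaf 582) (.leaf 1043)) (.node (.leaf 1116) (.leaf 2631))))))))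

def twoOrd11 : Janko.Tree (ℕ) :=
  (.node (.node (.node (.node (.node (.node (.node (.leaf 363) (.leaf 448)) (.node (.leaf 603) (.leaf 729))) (.node (.node (.leaf 979) (.leaf 1499)) (.node (.leaf 614) (.leaf 974)))) (.node (.node (.node (.leaf 1134) (.leaf 1356)) (.node (.leaf 720) (.leaf 868))) (.node (.node (.leaf 1141) (.leaf 1675)) (.node (.leaf 1228) (.leaf 1824))))) (.node (.node (.node (.node (.leaf 77) (.leaf 36)) (.node (.leaf 154) (.leaf 78))) (.node (.node (.leaf 323) (.leaf 184)) (.node (.leaf 176) (.leaf 94)))) (.node (.node (.node (.leaf 3545) (.leaf 2936)) (.node (.leaf 2911) (.leaf 2207))) (.node (.node (.leaf 2270) (.leaf 2940)) (.node (.leaf 2762) (.leaf 3214)))))) (.node (.node (.node (.node (.node (.leaf 2443) (.leaf 1800)) (.node (.leaf 1101) (.leaf 1398))) (.node (.node (.leaf 2749) (.leaf 2366)) (.node (.leaf 422) (.leaf 2748)))) (.node (.node (.node (.leaf 672) (.leaf 361)) (.node (.leaf 3388) (.leaf 249))) (.node (.node (.leaf 226) (.leaf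 96)) (.node (.leaf 1802) (.leaf 719))))) (.node (.node (.node (.node (.leaf 2503) (.leaf 1756)) (.node (.leaf 2051) (.leaf 1668))) (.node (.node (.leaf 3064) (.leaf 3410)) (.node (.leaf 3379) (.leaf 547)))) (.node (.node (.node (.leaf 594) (.leaf 1059)) (.node (.leaf 431) (.leaf 2733))) (.node (.node (.leaf 187) (.leaf 268)) (.node (.leaf 1130) (.leaf 2507))))))) (.node (.node (.node (.node (.node (.node (.leaf 1807) (.leaf 2514)) (.node (.leaf 1211) (.leaf 1806))) (.node (.node (.leaf 2370) (.leaf 1678)) (.node (.leaf 2731) (.leaf 2013)))) (.node (.node (.node (.leaf 2035) (.leaf 2752)) (.node (.leaf 2703) (.leaf 3377))) (.node (.node (.leaf 1745) (.leaf 1164)) (.node (.leaf 1402) (.leaf 899))))) (.node (.node (.node (.node (.leaf 1023) (.leaf 647)) (.node (.leaf 1567) (.leaf 1026))) (.node (.node (.leaf 1008) (.leaf 637)) (.node (.leaf 636) (.leaf 386)))) (.node (.node (.node (.leaf 1074) (.leaf 1631)) (.node (.leaf 679) (.leaf 1073))) (.node (.node (.leaf 1084)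 (.leaf 1642)) (.node (.leaf 1645) (.leaf 2334)))))) (.node (.node (.node (.node (.node (.leaf 696) (.leaf 1737)) (.node (.leaf 3136) (.leaf 2504))) (.node (.node (.leaf 689) (.leaf 2142)) (.node (.leaf 3374) (.leaf 2727)))) (.node (.node (.node (.leaf 2963) (.leaf 432)) (.node (.leaf 409) (.leaf 202))) (.node (.node (.leaf 2508) (.leaf 442)) (.node (.leaf 398) (.leaf 188))))) (.node (.node (.node (.node (.leaf 2421) (.leaf 1098)) (.node (.leaf 3207) (.leaf 2444))) (.node (.node (.leaf 2876) (.leaf 876)) (.node (.leaf 3393) (.leaf 3866)))) (.node (.node (.node (.leaf 701) (.leaf 2235)) (.node (.leaf 356) (.leaf 667))) (.node (.node (.leaf 716) (.leaf 3213)) (.node (.leaf 338) (.leaf 459))))))))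

def twoOrd12 : Janko.Tree (ℕ) :=
  (.node (.node (.node (.node (.node (.node (.node (.leaf 1453) (.leaf 3254)) (.node (.leaf 3310) (.leaf 3865))) (.node (.node (.leaf 1503) (.leaf 1844)) (.node (.leaf 1905) (.leaf 2697)))) (.node (.node (.node (.leaf 3787) (.leaf 2302)) (.node (.leaf 2384) (.leaf 2950))) (.node (.node (.leaf 2538) (.leaf 2176)) (.node (.leaf 2256) (.leaf 3039))))) (.node (.node (.node (.node (.leaf 1454) (.leaf 790)) (.node (.leaf 3313) (.leaf 2964))) (.node (.node (.leaf 1455) (.leaf 3129)) (.node (.leaf 1869) (.leaf 1394)))) (.node (.node (.node (.leaf 1232) (.leaf 2175)) (.node (.leaf 2255) (.leaf 3038))) (.node (.node (.leaf 3789) (.leaf 2303)) (.node (.leaf 2385) (.leaf 2951)))))) (.node (.node (.node (.node (.node (.leaf 2184) (.leaf 2554)) (.node (.leaf 2624) (.leaf 3371))) (.node (.node (.leaf 942) (.leaf 2550)) (.node (.leaf 2619) (.leaf 3372)))) (.node (.node (.node (.leaf 3242) (.leaf 2907)) (.node (.leaf 2977) (.leaf 2222))) (.node (.node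 (.leaf 3246) (.leaf 1610)) (.node (.leaf 1699) (.leaf 3627))))) (.node (.node (.node (.node (.leaf 944) (.leaf 2438)) (.node (.leaf 2585) (.leaf 2239))) (.node (.node (.leaf 2121) (.leaf 1238)) (.node (.leaf 2622) (.leaf 2046)))) (.node (.node (.node (.leaf 3249) (.leaf 1611)) (.node (.leaf 3075) (.leaf 2331))) (.node (.node (.leaf 1834) (.leaf 2906)) (.node (.leaf 1564) (.leaf 3573))))))) (.node (.node (.node (.node (.node (.node (.leaf 1452) (.leaf 3252)) (.node (.leaf 817) (.leaf 2892))) (.node (.node (.leaf 1459) (.leaf 1847)) (.node (.leaf 3094) (.leaf 1335)))) (.node (.node (.node (.leaf 1284) (.leaf 2177)) (.node (.leaf 2253) (.leaf 3059))) (.node (.node (.leaf 3783) (.leaf 2301)) (.node (.leaf 2389) (.leaf 2930))))) (.node (.node (.node (.node (.leaf 2913) (.leaf 3131)) (.node (.leaf 3098) (.leaf 1321))) (.node (.node (.leaf 591) (.leaf 793)) (.node (.leaf 802) (.leaf 2898)))) (.node (.node (.node (.leaf 1234) (.leaf 1057)) (.node (.leaf 1127) (.leaf 3952)))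 (.node (.node (.leaf 3785) (.leaf 3539)) (.node (.leaf 3587) (.leaf 1665)))))) (.node (.node (.node (.node (.node (.leaf 946) (.leaf 2558)) (.node (.leaf 2410) (.leaf 2160))) (.node (.node (.leaf 2118) (.leaf 2548)) (.node (.leaf 1277) (.leaf 1972)))) (.node (.node (.node (.leaf 3241) (.leaf 3013)) (.node (.leaf 1702) (.leaf 2358))) (.node (.node (.leaf 1908) (.leaf 1497)) (.node (.leaf 2972) (.leaf 3558))))) (.node (.node (.node (.node (.leaf 945) (.leaf 488)) (.node (.leaf 496) (.leaf 847))) (.node (.node (.leaf 2181) (.leaf 3699)) (.node (.leaf 3664) (.leaf 3533)))) (.node (.node (.node (.leaf 4039) (.leaf 2905)) (.node (.leaf 2973) (.leaf 3559))) (.node (.node (.leaf 787) (.leaf 1612)) (.node (.leaf 1701) (.leaf 2357))))))))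

def twoOrd13 : Janko.Tree (ℕ) :=
  (.node (.node (.node (.node (.node (.node (.node (.leaf 2617) (.leaf 3369)) (.node (.leaf 2120) (.leaf 3791))) (.node (.node (.leaf 1281) (.leaf 1976)) (.node (.leaf 977) (.leaf 1240)))) (.node (.node (.node (.leaf 3074) (.leaf 3572)) (.node (.leaf 3316) (.leaf 3015))) (.node (.node (.leaf 1577) (.leaf 2340)) (.node (.leaf 1827) (.leaf 1496))))) (.node (.node (.node (.node (.leaf 3743) (.leaf 3507)) (.node (.leaf 976) (.leaf 486))) (.node (.node (.leaf 1255) (.leaf 895)) (.node (.leaf 2124) (.leaf 3698)))) (.node (.node (.node (.leaf 2976) (.leaf 3626)) (.node (.leaf 785) (.leaf 1494))) (.node (.node (.leaf 1716) (.leaf 2231)) (.node (.leaf 3470) (.leaf 3016)))))) (.node (.node (.node (.node (.node (.leaf 1904) (.leaf 2696)) (.node (.leaf 613) (.leaf 3260))) (.node (.node (.leaf 1897) (.leaf 2692)) (.node (.leaf 2848) (.leaf 1838)))) (.node (.node (.node (.leaf 1140) (.leaf 1674)) (.node (.leaf 2537) (.leaf 3612))) (.node (.node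 (.leaf 3586) (.leaf 3951)) (.node (.leaf 2628) (.leaf 972))))) (.node (.node (.node (.node (.leaf 803) (.leaf 558)) (.node (.leaf 1458) (.leaf 285))) (.node (.node (.leaf 3985) (.leaf 3930)) (.node (.leaf 1500) (.leaf 4003)))) (.node (.node (.node (.leaf 2268) (.leaf 2939)) (.node (.leaf 3917) (.leaf 2174))) (.node (.node (.leaf 2388) (.leaf 3058)) (.node (.leaf 483) (.leaf 2306))))))) (.node (.node (.node (.node (.node (.node (.leaf 1278) (.leaf 3528)) (.node (.leaf 941) (.leaf 3707))) (.node (.node (.leaf 3660) (.leaf 1973)) (.node (.leaf 2130) (.leaf 2559)))) (.node (.node (.node (.leaf 1562) (.leaf 3235)) (.node (.leaf 1909) (.leaf 2910))) (.node (.node (.leaf 2484) (.leaf 2201)) (.node (.leaf 3422) (.leaf 1609))))) (.node (.node (.node (.node (.leaf 2621) (.leaf 1954)) (.node (.leaf 3500) (.leaf 2981))) (.node (.node (.leaf 1254) (.leaf 2238)) (.node (.leaf 354) (.leaf 1175)))) (.node (.node (.node (.leaf 714) (.leaf 4023)) (.node (.leaf 902) (.leaf 665))) (.node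 (.node (.leaf 3672) (.leaf 1096)) (.node (.leaf 3317) (.leaf 3945)))))) (.node (.node (.node (.node (.node (.leaf 3194) (.leaf 2693)) (.node (.leaf 2859) (.leaf 3142))) (.node (.node (.leaf 1898) (.leaf 3852)) (.node (.leaf 588) (.leaf 3255)))) (.node (.node (.node (.leaf 3119) (.leaf 1534)) (.node (.leaf 2764) (.leaf 3542))) (.node (.node (.leaf 1125) (.leaf 3760)) (.node (.leaf 2629) (.leaf 1054))))) (.node (.node (.node (.node (.leaf 1866) (.leaf 1547)) (.node (.leaf 590) (.leaf 2261))) (.node (.node (.leaf 1900) (.leaf 2676)) (.node (.leaf 2851) (.leaf 1759)))) (.node (.node (.node (.leaf 3167) (.leaf 1640)) (.node (.leaf 2630) (.leaf 1056))) (.node (.node (.leaf 1021) (.leaf 3771)) (.node (.leaf 1404) (.leaf 3541))))))))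

def twoOrd14 : Janko.Tree (ℕ) :=
  (.node (.node (.node (.node (.node (.node (.node (.leaf 423) (.leaf 2416)) (.node (.leaf 2439) (.leaf 3332))) (.node (.node (.leaf 1946) (.leaf 1467)) (.node (.leaf 1438) (.leaf 1767)))) (.node (.node (.node (.leaf 3211) (.leaf 250)) (.node (.leaf 227) (.leaf 97))) (.node (.node (.leaf 2313) (.leaf 1204)) (.node (.leaf 1180) (.leaf 933))))) (.node (.node (.node (.node (.leaf 1985) (.leaf 1657)) (.node (.leaf 3712) (.leaf 3480))) (.node (.node (.leaf 3417) (.leaf 548)) (.node (.leaf 1296) (.leaf 742)))) (.node (.node (.node (.leaf 1115) (.leaf 1367)) (.node (.leaf 195) (.leaf 269))) (.node (.node (.leaf 437) (.leaf 3756)) (.node (.leaf 569) (.leaf 1042)))))) (.node (.node (.node (.node (.node (.leaf 2916) (.leaf 3217)) (.node (.leaf 3294) (.leaf 2637))) (.node (.node (.leaf 2512) (.leaf 872)) (.node (.leaf 823) (.leaf 3762)))) (.node (.node (.node (.leaf 2766) (.leaf 3113)) (.node (.leaf 3120) (.leaf 452))) (.node (.node (.leaf 1339)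 (.leaf 1742)) (.node (.leaf 1740) (.leaf 3858))))) (.node (.node (.node (.node (.leaf 642) (.leaf 1753)) (.node (.leaf 1749) (.leaf 1549))) (.node (.node (.leaf 1553) (.leaf 387)) (.node (.leaf 1024) (.leaf 456)))) (.node (.node (.node (.leaf 2604) (.leaf 1079)) (.node (.leaf 827) (.leaf 1643))) (.node (.node (.leaf 680) (.leaf 2327)) (.node (.leaf 2324) (.leaf 2643))))))) (.node (.node (.node (.node (.node (.node (.leaf 1978) (.leaf 3718)) (.node (.leaf 1654) (.leaf 3512))) (.node (.node (.leaf 3459) (.leaf 1359)) (.node (.leaf 520) (.leaf 732)))) (.node (.node (.node (.leaf 1038) (.leaf 203)) (.node (.leaf 1286) (.leaf 276))) (.node (.node (.leaf 410) (.leaf 565)) (.node (.leaf 3810) (.leaf 1111))))) (.node (.node (.node (.node (.leaf 3547) (.leaf 2441)) (.node (.leaf 2414) (.leaf 1942))) (.node (.node (.leaf 3333) (.leaf 3688)) (.node (.leaf 3673) (.leaf 1099)))) (.node (.node (.node (.leaf 904) (.leaf 668)) (.node (.leaf 717) (.leaf 4025))) (.node (.node (.leaf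 357) (.leaf 1177)) (.node (.leaf 1200) (.leaf 3318)))))) (.node (.node (.node (.node (.node (.leaf 615) (.leaf 1726)) (.node (.leaf 1729) (.leaf 1482))) (.node (.node (.leaf 1478) (.leaf 975)) (.node (.leaf 364) (.leaf 449)))) (.node (.node (.node (.leaf 2541) (.leaf 869)) (.node (.leaf 1142) (.leaf 1676))) (.node (.node (.leaf 721) (.leaf 2398)) (.node (.leaf 2396) (.leaf 2723))))) (.node (.node (.node (.node (.leaf 177) (.leaf 287)) (.node (.leaf 291) (.leaf 526))) (.node (.node (.leaf 485) (.leaf 95)) (.node (.leaf 86) (.leaf 37)))) (.node (.node (.node (.leaf 3889) (.leaf 2208)) (.node (.leaf 2271) (.leaf 2941))) (.node (.node (.leaf 2912) (.leaf 4026)) (.node (.leaf 4047) (.leaf 3955))))))))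

def twoOrd15 : Janko.Tree (ℕ) :=
  (.node (.node (.node (.node (.node (.node (.node (.leaf 3130) (.leaf 3063)) (.node (.leaf 242) (.leaf 2050))) (.node (.node (.leaf 1949) (.leaf 1208)) (.node (.leaf 1670) (.leaf 2033)))) (.node (.node (.node (.leaf 119) (.leaf 46)) (.node (.leaf 2506) (.leaf 133))) (.node (.node (.leaf 1066) (.leaf 601)) (.node (.leaf 2716) (.leaf 1133))))) (.node (.node (.node (.node (.leaf 3640) (.leaf 3883)) (.node (.leaf 2706) (.leaf 2350))) (.node (.node (.leaf 1927) (.leaf 1172)) (.node (.leaf 2761) (.leaf 327)))) (.node (.node (.node (.leaf 100) (.leaf 144)) (.node (.leaf 1689) (.leaf 2017))) (.node (.node (.leaf 916) (.leaf 1595)) (.node (.leaf 253) (.leaf 3212)))))) (.node (.node (.node (.node (.node (.leaf 1505) (.leaf 2161)) (.node (.leaf 369) (.leaf 1148))) (.node (.node (.leaf 204) (.leaf 261)) (.node (.leaf 960) (.leaf 610)))) (.node (.node (.node (.leaf 724) (.leaf 1104)) (.node (.leaf 1830) (.leaf 542))) (.node (.node (.leaf 1708)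 (.leaf 2003)) (.node (.leaf 443) (.leaf 2533))))) (.node (.node (.node (.node (.leaf 497) (.leaf 334)) (.node (.leaf 89) (.leaf 155))) (.node (.node (.leaf 40) (.leaf 15)) (.node (.leaf 284) (.leaf 44)))) (.node (.node (.node (.leaf 1580) (.leaf 2211)) (.node (.leaf 3418) (.leaf 1524))) (.node (.node (.leaf 3947) (.leaf 3562)) (.node (.leaf 2179) (.leaf 3758))))))) (.node (.node (.node (.node (.node (.node (.leaf 1088) (.leaf 2875)) (.node (.leaf 2699) (.leaf 3208))) (.node (.node (.leaf 427) (.leaf 1157)) (.node (.leaf 3702) (.leaf 2009)))) (.node (.node (.node (.leaf 1913) (.leaf 256)) (.node (.leaf 653) (.leaf 104))) (.node (.node (.leaf 3579) (.leaf 702)) (.node (.leaf 232) (.leaf 339))))) (.node (.node (.node (.node (.leaf 3100) (.leaf 1369)) (.node (.leaf 3876) (.leaf 3133))) (.node (.node (.leaf 3108) (.leaf 694)) (.node (.leaf 3752) (.leaf 3998)))) (.node (.node (.node (.leaf 440) (.leaf 3757)) (.node (.leaf 562) (.leaf 405))) (.node (.node (.leaf 1108) (.leaf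 2962)) (.node (.leaf 198) (.leaf 745)))))) (.node (.node (.node (.node (.node (.leaf 3065) (.leaf 2369)) (.node (.leaf 3396) (.leaf 2513))) (.node (.node (.leaf 1291) (.leaf 3218)) (.node (.leaf 1805) (.leaf 1364)))) (.node (.node (.node (.leaf 2430) (.leaf 737)) (.node (.leaf 2054) (.leaf 3681))) (.node (.node (.leaf 2424) (.leaf 3412)) (.node (.leaf 1982) (.leaf 1401))))) (.node (.node (.node (.node (.leaf 1546) (.leaf 1009)) (.node (.leaf 390) (.leaf 1570))) (.node (.node (.leaf 645) (.leaf 393)) (.node (.leaf 2245) (.leaf 218)))) (.node (.node (.node (.leaf 686) (.leaf 1082)) (.node (.leaf 2336) (.leaf 683))) (.node (.node (.leaf 1632) (.leaf 2323)) (.node (.leaf 415) (.leaf 3035))))))))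

def twoOrd16 : Janko.Tree (ℕ) :=
  (.node (.node (.node (.node (.node (.node (.node (.leaf 500) (.leaf 808)) (.node (.leaf 343) (.leaf 571))) (.node (.node (.leaf 1268) (.leaf 812)) (.node (.leaf 1887) (.leaf 1269)))) (.node (.node (.node (.leaf 1326) (.leaf 850)) (.node (.leaf 1044) (.leaf 657))) (.node (.node (.leaf 1330) (.leaf 1017)) (.node (.leaf 1965) (.leaf 1559))))) (.node (.node (.node (.node (.leaf 1261) (.leaf 807)) (.node (.leaf 1880) (.leaf 1262))) (.node (.node (.leaf 1266) (.leaf 920)) (.node (.leaf 919) (.leaf 572)))) (.node (.node (.node (.leaf 1325) (.leaf 1960)) (.node (.leaf 1961) (.leaf 2683))) (.node (.node (.leaf 1599) (.leaf 1964)) (.node (.leaf 1045) (.leaf 1598)))))) (.node (.node (.node (.node (.node (.leaf 1886) (.leaf 503)) (.node (.leaf 2596) (.leaf 917))) (.node (.node (.leaf 294) (.leaf 1263)) (.node (.leaf 190) (.leaf 815)))) (.node (.node (.node (.leaf 853) (.leaf 1558)) (.node (.leaf 1333) (.leaf 400))) (.node (.node (.leaf 1962)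 (.leaf 528)) (.node (.leaf 1596) (.leaf 2251))))) (.node (.node (.node (.node (.leaf 811) (.leaf 1427)) (.node (.leaf 1423) (.leaf 1875))) (.node (.node (.leaf 1879) (.leaf 499)) (.node (.leaf 1274) (.leaf 344)))) (.node (.node (.node (.leaf 2249) (.leaf 1329)) (.node (.leaf 658) (.leaf 1969))) (.node (.node (.leaf 849) (.leaf 2682)) (.node (.leaf 2679) (.leaf 2288))))))) (.node (.node (.node (.node (.node (.node (.leaf 161) (.leaf 296)) (.node (.leaf 80) (.leaf 160))) (.node (.node (.leaf 2595) (.leaf 2080)) (.node (.leaf 3292) (.leaf 2603)))) (.node (.node (.node (.leaf 2985) (.leaf 2265)) (.node (.leaf 3364) (.leaf 2971))) (.node (.node (.leaf 530) (.leaf 314)) (.node (.leaf 313) (.leaf 170))))) (.node (.node (.node (.node (.leaf 1273) (.leaf 816)) (.node (.leaf 1893) (.leaf 1276))) (.node (.node (.leaf 1258) (.leaf 806)) (.node (.leaf 805) (.leaf 498)))) (.node (.node (.node (.leaf 1324) (.leaf 1957)) (.node (.leaf 848) (.leaf 1323))) (.node (.node (.leaf 1334)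 (.leaf 1968)) (.node (.leaf 1971) (.leaf 2689)))))) (.node (.node (.node (.node (.node (.leaf 1874) (.leaf 1424)) (.node (.leaf 2607) (.leaf 295))) (.node (.node (.leaf 297) (.leaf 504)) (.node (.leaf 159) (.leaf 1882)))) (.node (.node (.node (.leaf 854) (.leaf 531)) (.node (.leaf 529) (.leaf 2250))) (.node (.node (.leaf 2289) (.leaf 1573)) (.node (.leaf 2685) (.leaf 312))))) (.node (.node (.node (.node (.leaf 1872) (.leaf 1259)) (.node (.leaf 502) (.leaf 1896))) (.node (.node (.leaf 814) (.leaf 505)) (.node (.leaf 2600) (.leaf 293)))) (.node (.node (.node (.leaf 855) (.leaf 1332)) (.node (.leaf 2691) (.leaf 852))) (.node (.node (.leaf 1958) (.leaf 2678)) (.node (.leaf 527) (.leaf 3362))))))))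

def twoOrd17 : Janko.Tree (ℕ) :=
  (.node (.node (.node (.node (.node (.node (.node (.leaf 0) (.leaf 3)) (.node (.leaf 4) (.leaf 12))) (.node (.node (.leaf 626) (.leaf 396)) (.node (.leaf 377) (.leaf 619)))) (.node (.node (.node (.leaf 4093) (.leaf 4071)) (.node (.leaf 4066) (.leaf 4081))) (.node (.node (.leaf 1245) (.leaf 820)) (.node (.leaf 794) (.leaf 1235))))) (.node (.node (.node (.node (.leaf 52) (.leaf 23)) (.node (.leaf 109) (.leaf 53))) (.node (.node (.leaf 248) (.leaf 139)) (.node (.leaf 131) (.leaf 69)))) (.node (.node (.node (.leaf 3780) (.leaf 3263)) (.node (.leaf 3238) (.leaf 2562))) (.node (.node (.leaf 2625) (.leaf 3267)) (.node (.leaf 3089) (.leaf 2887)))))) (.node (.node (.node (.node (.node (.leaf 421) (.leaf 224)) (.node (.leaf 211) (.leaf 29))) (.node (.node (.leaf 2) (.leaf 11)) (.node (.leaf 13) (.leaf 372)))) (.node (.node (.node (.leaf 1852) (.leaf 1283)) (.node (.leaf 1244) (.leaf 3979))) (.node (.node (.leaf 4045) (.leaf 3908)) (.node (.leaf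 3884) (.leaf 1836))))) (.node (.node (.node (.node (.leaf 385) (.leaf 259)) (.node (.leaf 64) (.leaf 110))) (.node (.node (.leaf 27) (.leaf 9)) (.node (.leaf 209) (.leaf 31)))) (.node (.node (.node (.leaf 1906) (.leaf 2566)) (.node (.leaf 3653) (.leaf 1850))) (.node (.node (.leaf 4038) (.leaf 3797)) (.node (.leaf 2534) (.leaf 3523))))))) (.node (.node (.node (.node (.node (.node (.leaf 57) (.leaf 118)) (.node (.leaf 25) (.leaf 56))) (.node (.node (.leaf 241) (.leaf 127)) (.node (.leaf 126) (.leaf 62)))) (.node (.node (.node (.leaf 3790) (.leaf 3250)) (.node (.leaf 3315) (.leaf 2627))) (.node (.node (.leaf 2564) (.leaf 3127)) (.node (.leaf 3265) (.leaf 2970))))) (.node (.node (.node (.node (.leaf 236) (.leaf 140)) (.node (.leaf 124) (.leaf 235))) (.node (.node (.leaf 217) (.leaf 113)) (.node (.leaf 112) (.leaf 54)))) (.node (.node (.node (.leaf 3781) (.leaf 3566)) (.node (.leaf 3568) (.leaf 3800))) (.node (.node (.leaf 3798) (.leaf 3264)) (.node (.leaf 3314) (.leaf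 3799)))))) (.node (.node (.node (.node (.node (.leaf 378) (.leaf 65)) (.node (.leaf 240) (.leaf 117))) (.node (.node (.leaf 32) (.leaf 225)) (.node (.leaf 10) (.leaf 28)))) (.node (.node (.node (.leaf 1851) (.leaf 3696)) (.node (.leaf 2567) (.leaf 1907))) (.node (.node (.leaf 4041) (.leaf 2546)) (.node (.leaf 3830) (.leaf 3584))))) (.node (.node (.node (.node (.leaf 132) (.leaf 212)) (.node (.leaf 216) (.leaf 414))) (.node (.node (.leaf 373) (.leaf 70)) (.node (.leaf 61) (.leaf 24)))) (.node (.node (.node (.leaf 3980) (.leaf 2563)) (.node (.leaf 2626) (.leaf 3268))) (.node (.node (.leaf 3239) (.leaf 3935)) (.node (.leaf 3956) (.leaf 4046))))))))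

def twoOrd18 : Janko.Tree (ℕ) :=
  (.node (.node (.node (.node (.node (.node (.node (.leaf 4032) (.leaf 3770)) (.node (.leaf 4091) (.leaf 4033))) (.node (.node (.leaf 2109) (.leaf 2652)) (.node (.leaf 1445) (.leaf 1931)))) (.node (.node (.node (.leaf 3160) (.leaf 3721)) (.node (.leaf 3723) (.leaf 4012))) (.node (.node (.leaf 1773) (.leaf 2465)) (.node (.leaf 1186) (.leaf 1772))))) (.node (.node (.node (.node (.leaf 1069) (.leaf 1626)) (.node (.leaf 1181) (.leaf 1765))) (.node (.node (.leaf 2320) (.leaf 1627)) (.node (.leaf 1723) (.leaf 1147)))) (.node (.node (.node (.leaf 998) (.leaf 629)) (.node (.leaf 1436) (.leaf 928))) (.node (.node (.leaf 999) (.leaf 1532)) (.node (.leaf 1533) (.leaf 2221)))))) (.node (.node (.node (.node (.node (.leaf 1519) (.leaf 810)) (.node (.leaf 2339) (.leaf 2957))) (.node (.node (.leaf 1515) (.leaf 3176)) (.node (.leaf 2402) (.leaf 1575)))) (.node (.node (.node (.leaf 1328) (.leaf 2190)) (.node (.leaf 1967) (.leaf 3878))) (.node (.node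 (.leaf 3775) (.leaf 2189)) (.node (.leaf 4048) (.leaf 1272))))) (.node (.node (.node (.node (.leaf 1194) (.leaf 2083)) (.node (.leaf 2230) (.leaf 2594))) (.node (.node (.leaf 2476) (.leaf 988)) (.node (.leaf 2267) (.leaf 1720)))) (.node (.node (.node (.leaf 2922) (.leaf 1937)) (.node (.leaf 3402) (.leaf 2686))) (.node (.node (.leaf 1508) (.leaf 3233)) (.node (.leaf 1890) (.leaf 3808))))))) (.node (.node (.node (.node (.node (.node (.leaf 3609) (.leaf 3009)) (.node (.leaf 3970) (.leaf 3610))) (.node (.node (.leaf 2111) (.leaf 2836)) (.node (.leaf 2837) (.leaf 3489)))) (.node (.node (.node (.leaf 3530) (.leaf 3834)) (.node (.leaf 2893) (.leaf 3321))) (.node (.node (.leaf 3110) (.leaf 3675)) (.node (.leaf 2422) (.leaf 3109))))) (.node (.node (.node (.node (.leaf 1892) (.leaf 1275)) (.node (.leaf 2612) (.leaf 1895))) (.node (.node (.leaf 1970) (.leaf 2688)) (.node (.leaf 2690) (.leaf 3367)))) (.node (.node (.node (.leaf 1956) (.leaf 2662)) (.node (.leaf 1322) (.leaf 1939)))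 (.node (.node (.leaf 1786) (.leaf 1257)) (.node (.leaf 1197) (.leaf 804)))))) (.node (.node (.node (.node (.node (.leaf 1648) (.leaf 2229)) (.node (.leaf 2200) (.leaf 501))) (.node (.node (.leaf 3031) (.leaf 1029)) (.node (.leaf 2092) (.leaf 3734)))) (.node (.node (.node (.leaf 1331) (.leaf 3491)) (.node (.leaf 851) (.leaf 1584))) (.node (.node (.leaf 3943) (.leaf 813)) (.node (.leaf 4037) (.leaf 2411))))) (.node (.node (.node (.node (.leaf 1540) (.leaf 1873)) (.node (.leaf 759) (.leaf 2616))) (.node (.node (.leaf 1574) (.leaf 2321)) (.node (.leaf 3178) (.leaf 1433)))) (.node (.node (.node (.leaf 2840) (.leaf 1966)) (.node (.leaf 2275) (.leaf 1306))) (.node (.node (.leaf 1271) (.leaf 3536)) (.node (.leaf 1730) (.leaf 3776))))))))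

def twoOrd19 : Janko.Tree (ℕ) :=
  (.node (.node (.node (.node (.node (.node (.node (.leaf 4074) (.leaf 3928)) (.node (.leaf 3927) (.leaf 3503))) (.node (.node (.leaf 3441) (.leaf 3902)) (.node (.leaf 3897) (.leaf 4068)))) (.node (.node (.node (.leaf 4076) (.leaf 4083)) (.node (.leaf 4086) (.leaf 4095))) (.node (.node (.leaf 3111) (.leaf 3677)) (.node (.leaf 3678) (.leaf 3994))))) (.node (.node (.node (.node (.leaf 3408) (.leaf 3874)) (.node (.leaf 2745) (.leaf 3387))) (.node (.node (.leaf 3466) (.leaf 2807)) (.node (.leaf 3796) (.leaf 3307)))) (.node (.node (.node (.leaf 3287) (.leaf 2589)) (.node (.leaf 3751) (.leaf 3288))) (.node (.node (.leaf 1787) (.leaf 2488)) (.node (.leaf 2489) (.leaf 3191)))))) (.node (.node (.node (.node (.node (.leaf 688) (.leaf 395)) (.node (.leaf 375) (.leaf 2483))) (.node (.node (.leaf 3972) (.leaf 3594)) (.node (.leaf 3557) (.leaf 2535)))) (.node (.node (.node (.leaf 2565) (.leaf 1902)) (.node (.leaf 1842) (.leaf 3949))) (.node (.node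 (.leaf 3872) (.leaf 3406)) (.node (.leaf 3346) (.leaf 617))))) (.node (.node (.node (.node (.leaf 634) (.leaf 446)) (.node (.leaf 1784) (.leaf 210))) (.node (.node (.leaf 3894) (.leaf 4021)) (.node (.leaf 1826) (.leaf 3912)))) (.node (.node (.node (.leaf 2623) (.leaf 3266)) (.node (.leaf 4008) (.leaf 2529))) (.node (.node (.leaf 2743) (.leaf 3385)) (.node (.leaf 371) (.leaf 2661))))))) (.node (.node (.node (.node (.node (.node (.leaf 3337) (.leaf 2653)) (.node (.leaf 3846) (.leaf 3338))) (.node (.node (.leaf 3431) (.leaf 3769)) (.node (.leaf 2775) (.leaf 3227)))) (.node (.node (.node (.leaf 3222) (.leaf 3720)) (.node (.leaf 2517) (.leaf 3221))) (.node (.node (.leaf 1774) (.leaf 2467)) (.node (.leaf 2468) (.leaf 3166))))) (.node (.node (.node (.node (.leaf 413) (.leaf 260)) (.node (.leaf 234) (.leaf 412))) (.node (.node (.leaf 3620) (.leaf 3717)) (.node (.leaf 3754) (.leaf 3621)))) (.node (.node (.node (.leaf 3479) (.leaf 2942)) (.node (.leaf 2945) (.leaf 3567))) (.node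 (.node (.leaf 382) (.leaf 215)) (.node (.leaf 214) (.leaf 111)))))) (.node (.node (.node (.node (.node (.leaf 623) (.leaf 1783)) (.node (.leaf 420) (.leaf 223))) (.node (.node (.leaf 3913) (.leaf 1883)) (.node (.leaf 4009) (.leaf 3891)))) (.node (.node (.node (.leaf 2553) (.leaf 3983)) (.node (.leaf 3258) (.leaf 2609))) (.node (.node (.leaf 2660) (.leaf 397)) (.node (.leaf 3384) (.leaf 2742))))) (.node (.node (.node (.node (.leaf 1195) (.leaf 376)) (.node (.leaf 384) (.leaf 678))) (.node (.node (.leaf 2536) (.leaf 3464)) (.node (.leaf 3429) (.leaf 3768)))) (.node (.node (.node (.leaf 3948) (.leaf 3232)) (.node (.leaf 3300) (.leaf 3794))) (.node (.node (.leaf 618) (.leaf 1938)) (.node (.leaf 2027) (.leaf 2712))))))))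

def twoOrd20 : Janko.Tree (ℕ) :=
  (.node (.node (.node (.node (.node (.node (.node (.leaf 2774) (.leaf 318)) (.node (.leaf 3328) (.leaf 2433))) (.node (.node (.leaf 1697) (.leaf 1989)) (.node (.leaf 939) (.leaf 1607)))) (.node (.node (.node (.leaf 179) (.leaf 2246)) (.node (.leaf 72) (.leaf 165))) (.node (.node (.leaf 1373) (.leaf 2355)) (.node (.leaf 755) (.leaf 1302))))) (.node (.node (.node (.node (.leaf 1659) (.leaf 1983)) (.node (.leaf 3477) (.leaf 3715))) (.node (.node (.leaf 3652) (.leaf 436)) (.node (.leaf 1046) (.leaf 573)))) (.node (.node (.node (.leaf 1365) (.leaf 1117)) (.node (.leaf 270) (.leaf 194))) (.node (.node (.leaf 549) (.leaf 3521)) (.node (.leaf 738) (.leaf 1292)))))) (.node (.node (.node (.node (.node (.leaf 2064) (.leaf 1344)) (.node (.leaf 1450) (.leaf 1748))) (.node (.node (.leaf 2329) (.leaf 536)) (.node (.leaf 2642) (.leaf 2299)))) (.node (.node (.node (.leaf 880) (.leaf 2992)) (.node (.leaf 463) (.leaf 303))) (.node (.node (.leaf 326)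 (.leaf 1555)) (.node (.leaf 143) (.leaf 831))))) (.node (.node (.node (.node (.leaf 3197) (.leaf 708)) (.node (.leaf 1600) (.leaf 3150))) (.node (.node (.leaf 2060) (.leaf 1340)) (.node (.leaf 2818) (.leaf 921)))) (.node (.node (.node (.leaf 878) (.leaf 2948)) (.node (.leaf 453) (.leaf 348))) (.node (.node (.leaf 873) (.leaf 1690)) (.node (.leaf 461) (.leaf 824))))))) (.node (.node (.node (.node (.node (.node (.leaf 3750) (.leaf 1979)) (.node (.leaf 3518) (.leaf 3046))) (.node (.node (.leaf 1410) (.leaf 321)) (.node (.leaf 2371) (.leaf 3695)))) (.node (.node (.node (.leaf 182) (.leaf 2279)) (.node (.leaf 75) (.leaf 1287))) (.node (.node (.leaf 1360) (.leaf 3458)) (.node (.leaf 733) (.leaf 168))))) (.node (.node (.node (.node (.leaf 2773) (.leaf 1119)) (.node (.leaf 3641) (.leaf 2806))) (.node (.node (.leaf 2781) (.leaf 863)) (.node (.leaf 3517) (.leaf 3907)))) (.node (.node (.node (.leaf 552) (.leaf 3522)) (.node (.leaf 731) (.leaf 517))) (.node (.node (.leaf 1358)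 (.leaf 3289)) (.node (.leaf 273) (.leaf 576)))))) (.node (.node (.node (.node (.node (.leaf 2065) (.leaf 175)) (.node (.leaf 2846) (.leaf 3456))) (.node (.node (.leaf 3977) (.leaf 2700)) (.node (.leaf 3931) (.leaf 4001)))) (.node (.node (.node (.leaf 2010) (.leaf 3911)) (.node (.leaf 1158) (.leaf 1914))) (.node (.node (.leaf 93) (.leaf 2993)) (.node (.leaf 35) (.leaf 85))))) (.node (.node (.node (.node (.leaf 2066) (.leaf 1348)) (.node (.leaf 2880) (.leaf 2089))) (.node (.node (.leaf 3203) (.leaf 707)) (.node (.leaf 3066) (.leaf 3631)))) (.node (.node (.node (.leaf 870) (.leaf 2590)) (.node (.leaf 468) (.leaf 836))) (.node (.node (.leaf 885) (.leaf 2886)) (.node (.leaf 450) (.leaf 347))))))))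

def twoOrd21 : Janko.Tree (ℕ) :=
  (.node (.node (.node (.node (.node (.node (.node (.leaf 3839) (.leaf 3125)) (.node (.leaf 3087) (.leaf 173))) (.node (.node (.leaf 1451) (.leaf 2300)) (.node (.leaf 2383) (.leaf 2711)))) (.node (.node (.node (.leaf 33) (.leaf 83)) (.node (.leaf 91) (.leaf 2883))) (.node (.node (.leaf 1190) (.leaf 1934)) (.node (.leaf 2024) (.leaf 3055))))) (.node (.node (.node (.node (.leaf 3875) (.leaf 3648)) (.node (.leaf 2351) (.leaf 2705))) (.node (.node (.leaf 1601) (.leaf 922)) (.node (.leaf 3088) (.leaf 252)))) (.node (.node (.node (.leaf 145) (.leaf 99)) (.node (.leaf 2015) (.leaf 1691))) (.node (.node (.leaf 1166) (.leaf 1921)) (.node (.leaf 328) (.leaf 2885)))))) (.node (.node (.node (.node (.node (.leaf 2117) (.leaf 2796)) (.node (.leaf 2780) (.leaf 88))) (.node (.node (.leaf 4059) (.leaf 3692)) (.node (.leaf 3649) (.leaf 3376)))) (.node (.node (.node (.leaf 1739) (.leaf 2636)) (.node (.leaf 2729) (.leaf 3520))) (.node (.node (.leaf 14)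 (.leaf 39)) (.node (.leaf 43) (.leaf 3598))))) (.node (.node (.node (.node (.leaf 2148) (.leaf 1430)) (.node (.leaf 2406) (.leaf 1994))) (.node (.node (.leaf 3391) (.leaf 3083)) (.node (.leaf 3052) (.leaf 435)))) (.node (.node (.node (.leaf 763) (.leaf 1309)) (.node (.leaf 543) (.leaf 2378))) (.node (.node (.leaf 262) (.leaf 193)) (.node (.leaf 1380) (.leaf 2152))))))) (.node (.node (.node (.node (.node (.node (.leaf 3840) (.leaf 2343)) (.node (.leaf 3625) (.leaf 2701))) (.node (.node (.leaf 1682) (.leaf 3126)) (.node (.leaf 906) (.leaf 231)))) (.node (.node (.node (.leaf 150) (.leaf 1915)) (.node (.leaf 103) (.leaf 1586))) (.node (.node (.leaf 1159) (.leaf 308)) (.node (.leaf 2011) (.leaf 2969))))) (.node (.node (.node (.node (.leaf 3782) (.leaf 2086)) (.node (.leaf 2059) (.leaf 1616))) (.node (.node (.leaf 3006) (.leaf 3453)) (.node (.leaf 3438) (.leaf 1349)))) (.node (.node (.node (.leaf 1154) (.leaf 837)) (.node (.leaf 886) (.leaf 3934))) (.node (.node (.leaf 469)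 (.leaf 927)) (.node (.leaf 950) (.leaf 2991)))))) (.node (.node (.node (.node (.node (.leaf 2116) (.leaf 2434)) (.node (.leaf 1409) (.leaf 1990))) (.node (.node (.leaf 3329) (.leaf 3012)) (.node (.leaf 3036) (.leaf 407)))) (.node (.node (.node (.leaf 756) (.leaf 514)) (.node (.leaf 1374) (.leaf 2278))) (.node (.node (.leaf 267) (.leaf 1303)) (.node (.leaf 200) (.leaf 2247))))) (.node (.node (.node (.node (.leaf 2293) (.leaf 3716)) (.node (.leaf 3746) (.leaf 1062))) (.node (.node (.leaf 3478) (.leaf 1429)) (.node (.leaf 1407) (.leaf 1984)))) (.node (.node (.node (.leaf 739) (.leaf 579)) (.node (.leaf 597) (.leaf 3570))) (.node (.node (.leaf 751) (.leaf 1293)) (.node (.leaf 1366) (.leaf 2276))))))))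

def twoOrd22 : Janko.Tree (ℕ) :=
  (.node (.node (.node (.node (.node (.node (.node (.leaf 2197) (.leaf 2474)) (.node (.leaf 3086) (.leaf 3576))) (.node (.node (.leaf 991) (.leaf 1265)) (.node (.leaf 1651) (.leaf 1032)))) (.node (.node (.node (.leaf 3341) (.leaf 2921)) (.node (.leaf 3806) (.leaf 3400))) (.node (.node (.leaf 1843) (.leaf 1509)) (.node (.leaf 2687) (.leaf 1891))))) (.node (.node (.node (.node (.leaf 1780) (.leaf 621)) (.node (.leaf 2986) (.leaf 3291))) (.node (.node (.leaf 1781) (.leaf 2802)) (.node (.leaf 1543) (.leaf 1144)))) (.node (.node (.node (.leaf 982) (.leaf 2530)) (.node (.leaf 2610) (.leaf 3365))) (.node (.node (.leaf 3554) (.leaf 2658)) (.node (.leaf 2740) (.leaf 3278)))))) (.node (.node (.node (.node (.node (.leaf 2776) (.leaf 1987)) (.node (.leaf 2108) (.leaf 3804))) (.node (.node (.leaf 3842) (.leaf 3228)) (.node (.leaf 4035) (.leaf 1300)))) (.node (.node (.node (.leaf 1371) (.leaf 3162)) (.node (.leaf 753) (.leaf 3727))) (.node (.node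 (.leaf 2462) (.leaf 3158)) (.node (.leaf 3399) (.leaf 2459))))) (.node (.node (.node (.node (.leaf 3030) (.leaf 1070)) (.node (.leaf 2404) (.leaf 2455))) (.node (.node (.leaf 675) (.leaf 2319)) (.node (.leaf 749) (.leaf 728)))) (.node (.node (.node (.leaf 630) (.leaf 2220)) (.node (.leaf 1002) (.leaf 577))) (.node (.node (.leaf 1530) (.leaf 380)) (.node (.leaf 2095) (.leaf 2943))))))) (.node (.node (.node (.node (.node (.node (.leaf 3622) (.leaf 649)) (.node (.leaf 2813) (.leaf 809))) (.node (.node (.leaf 1086) (.leaf 2956)) (.node (.leaf 1522) (.leaf 3185)))) (.node (.node (.node (.leaf 3543) (.leaf 1270)) (.node (.leaf 3779) (.leaf 1035))) (.node (.node (.leaf 1846) (.leaf 2857)) (.node (.leaf 1327) (.leaf 3095))))) (.node (.node (.node (.node (.leaf 2266) (.leaf 1628)) (.node (.leaf 3735) (.leaf 3308))) (.node (.node (.leaf 1004) (.leaf 2593)) (.node (.leaf 466) (.leaf 925)))) (.node (.node (.node (.leaf 883) (.leaf 3932)) (.node (.leaf 1152) (.leaf 834))) (.node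 (.node (.leaf 3437) (.leaf 1346)) (.node (.leaf 2990) (.leaf 4036)))))) (.node (.node (.node (.node (.node (.leaf 2778) (.leaf 2125)) (.node (.leaf 3490) (.leaf 3906))) (.node (.node (.leaf 3017) (.leaf 3596)) (.node (.leaf 3634) (.leaf 3076)))) (.node (.node (.node (.leaf 2728) (.leaf 3992)) (.node (.leaf 1738) (.leaf 2635))) (.node (.node (.leaf 3939) (.leaf 3375)) (.node (.leaf 3529) (.leaf 3674))))) (.node (.node (.node (.node (.leaf 2560) (.leaf 1993)) (.node (.leaf 3368) (.leaf 2615))) (.node (.node (.leaf 1379) (.leaf 1894)) (.node (.leaf 3305) (.leaf 3863)))) (.node (.node (.node (.leaf 2486) (.leaf 1871)) (.node (.leaf 762) (.leaf 1308))) (.node (.node (.leaf 2498) (.leaf 3200)) (.node (.leaf 1955) (.leaf 1256))))))))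

def twoOrd23 : Janko.Tree (ℕ) :=
  (.node (.node (.node (.node (.node (.node (.node (.leaf 3629) (.leaf 2982)) (.node (.leaf 2929) (.leaf 3177))) (.node (.node (.leaf 1087) (.leaf 650)) (.node (.leaf 622) (.leaf 1828)))) (.node (.node (.node (.leaf 4049) (.leaf 3879)) (.node (.leaf 3848) (.leaf 3553))) (.node (.node (.leaf 1975) (.leaf 1280)) (.node (.leaf 1239) (.leaf 983))))) (.node (.node (.node (.node (.leaf 3508) (.leaf 3742)) (.node (.leaf 1226) (.leaf 374))) (.node (.node (.leaf 1005) (.leaf 726)) (.node (.leaf 2479) (.leaf 3463)))) (.node (.node (.node (.leaf 3303) (.leaf 3861)) (.node (.leaf 616) (.leaf 1820))) (.node (.node (.leaf 2042) (.leaf 2586)) (.node (.leaf 3705) (.leaf 3343)))))) (.node (.node (.node (.node (.node (.leaf 2844) (.leaf 3455)) (.node (.leaf 3434) (.leaf 2855))) (.node (.node (.leaf 3973) (.leaf 3645)) (.node (.leaf 3614) (.leaf 3967)))) (.node (.node (.node (.leaf 2423) (.leaf 3322)) (.node (.leaf 3394) (.leaf 4084))) (.node (.node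 (.leaf 3938) (.leaf 3991)) (.node (.leaf 4007) (.leaf 3867))))) (.node (.node (.node (.node (.leaf 2878) (.leaf 2087)) (.node (.leaf 3261) (.leaf 2714))) (.node (.node (.leaf 3827) (.leaf 4062)) (.node (.leaf 2029) (.leaf 2614)))) (.node (.node (.node (.leaf 1198) (.leaf 1940)) (.node (.leaf 3189) (.leaf 2592))) (.node (.node (.leaf 2677) (.leaf 1870)) (.node (.leaf 3204) (.leaf 3741))))))) (.node (.node (.node (.node (.node (.node (.leaf 3473) (.leaf 1264)) (.node (.leaf 3706) (.leaf 394))) (.node (.node (.leaf 992) (.leaf 2482)) (.node (.leaf 687) (.leaf 3424)))) (.node (.node (.node (.leaf 3236) (.leaf 652)) (.node (.leaf 3871) (.leaf 1889))) (.node (.node (.leaf 1963) (.leaf 3661)) (.node (.leaf 2557) (.leaf 3405))))) (.node (.node (.node (.node (.leaf 3240) (.leaf 2804)) (.node (.leaf 2771) (.leaf 1071))) (.node (.node (.leaf 760) (.leaf 624)) (.node (.leaf 633) (.leaf 3225)))) (.node (.node (.node (.leaf 984) (.leaf 1307)) (.node (.leaf 1377) (.leaf 4043))) (.node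 (.node (.leaf 3550) (.leaf 3774)) (.node (.leaf 3822) (.leaf 1991)))))) (.node (.node (.node (.node (.node (.leaf 2834) (.leaf 3282)) (.node (.leaf 2062) (.leaf 2708))) (.node (.node (.leaf 3772) (.leaf 1932)) (.node (.leaf 4060) (.leaf 2523)))) (.node (.node (.node (.leaf 1187) (.leaf 3165)) (.node (.leaf 2021) (.leaf 2519))) (.node (.node (.leaf 2754) (.leaf 3157)) (.node (.leaf 1810) (.leaf 3722))))) (.node (.node (.node (.node (.leaf 3026) (.leaf 3152)) (.node (.leaf 3209) (.leaf 676))) (.node (.node (.leaf 677) (.leaf 447)) (.node (.leaf 411) (.leaf 3029)))) (.node (.node (.node (.leaf 631) (.leaf 383)) (.node (.leaf 381) (.leaf 2949))) (.node (.node (.leaf 2820) (.leaf 2213)) (.node (.leaf 2217) (.leaf 213))))))))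

def twoOrd24 : Janko.Tree (ℕ) :=
  (.node (.node (.node (.node (.node (.node (.node (.leaf 1591) (.leaf 1112)) (.node (.leaf 1039) (.leaf 1590))) (.node (.node (.leaf 3784) (.leaf 3524)) (.node (.leaf 3582) (.leaf 3936)))) (.node (.node (.node (.leaf 1415) (.leaf 911)) (.node (.leaf 910) (.leaf 566))) (.node (.node (.leaf 3658) (.leaf 3445)) (.node (.leaf 3451) (.leaf 3905))))) (.node (.node (.node (.node (.leaf 1551) (.leaf 1010)) (.node (.leaf 2242) (.leaf 1552))) (.node (.node (.leaf 2646) (.leaf 2283)) (.node (.leaf 1923) (.leaf 1592)))) (.node (.node (.node (.leaf 1633) (.leaf 2325)) (.node (.leaf 2326) (.leaf 3032))) (.node (.node (.leaf 1417) (.leaf 1752)) (.node (.leaf 912) (.leaf 1168)))))) (.node (.node (.node (.node (.node (.leaf 3243) (.leaf 2890)) (.node (.leaf 2967) (.leaf 2282))) (.node (.node (.leaf 2157) (.leaf 703)) (.node (.leaf 654) (.leaf 3527)))) (.node (.node (.node (.leaf 3093) (.leaf 2786)) (.node (.leaf 2793) (.leaf 340))) (.node (.node (.leaf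 1089) (.leaf 1416)) (.node (.leaf 1414) (.leaf 3623))))) (.node (.node (.node (.node (.leaf 3331) (.leaf 2996)) (.node (.leaf 2645) (.leaf 2243))) (.node (.node (.leaf 1113) (.leaf 1550)) (.node (.leaf 2966) (.leaf 1040)))) (.node (.node (.node (.leaf 2071) (.leaf 2437)) (.node (.leaf 567) (.leaf 3450))) (.node (.node (.leaf 2070) (.leaf 1655)) (.node (.leaf 3033) (.leaf 1751))))))) (.node (.node (.node (.node (.node (.node (.leaf 1481) (.leaf 2159)) (.node (.leaf 961) (.leaf 1480))) (.node (.node (.leaf 2725) (.leaf 2004)) (.node (.leaf 2376) (.leaf 1687)))) (.node (.node (.node (.leaf 1709) (.leaf 2397)) (.node (.leaf 2348) (.leaf 3050))) (.node (.node (.leaf 1419) (.leaf 914)) (.node (.leaf 1728) (.leaf 1149))))) (.node (.node (.node (.node (.leaf 2998) (.leaf 2284)) (.node (.leaf 2375) (.leaf 2999))) (.node (.node (.leaf 3841) (.leaf 3510)) (.node (.leaf 3474) (.leaf 2889)))) (.node (.node (.node (.leaf 3656) (.leaf 3128)) (.node (.leaf 3090) (.leaf 3655))) (.node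 (.node (.leaf 1418) (.leaf 2073)) (.node (.leaf 2074) (.leaf 2791)))))) (.node (.node (.node (.node (.node (.leaf 3392) (.leaf 2724)) (.node (.leaf 3069) (.leaf 2158))) (.node (.node (.leaf 1041) (.leaf 2891)) (.node (.leaf 1479) (.leaf 1114)))) (.node (.node (.node (.leaf 2075) (.leaf 568)) (.node (.leaf 2409) (.leaf 3446))) (.node (.node (.leaf 2069) (.leaf 3085)) (.node (.leaf 1656) (.leaf 1727))))) (.node (.node (.node (.node (.leaf 3330) (.leaf 2866)) (.node (.leaf 2814) (.leaf 3600))) (.node (.node (.leaf 3526) (.leaf 1593)) (.node (.leaf 1686) (.leaf 2156)))) (.node (.node (.node (.leaf 913) (.leaf 2790)) (.node (.leaf 2787) (.leaf 3092))) (.node (.node (.leaf 3616) (.leaf 2436)) (.node (.leaf 2408) (.leaf 2347))))))))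

def twoOrd25 : Janko.Tree (ℕ) :=
  (.node (.node (.node (.node (.node (.node (.node (.leaf 475) (.leaf 336)) (.node (.leaf 772) (.leaf 560))) (.node (.node (.leaf 1229) (.leaf 1825)) (.node (.leaf 783) (.leaf 1224)))) (.node (.node (.node (.leaf 1384) (.leaf 1106)) (.node (.leaf 889) (.leaf 699))) (.node (.node (.leaf 1391) (.leaf 2001)) (.node (.leaf 978) (.leaf 1498))))) (.node (.node (.node (.node (.leaf 152) (.leaf 76)) (.node (.leaf 282) (.leaf 153))) (.node (.node (.leaf 2522) (.leaf 3215)) (.node (.leaf 2052) (.leaf 2509)))) (.node (.node (.node (.leaf 2924) (.leaf 3411)) (.node (.leaf 2192) (.leaf 2917))) (.node (.node (.leaf 541) (.leaf 333)) (.node (.leaf 322) (.leaf 183)))))) (.node (.node (.node (.node (.node (.leaf 1831) (.leaf 2516)) (.node (.leaf 481) (.leaf 898))) (.node (.node (.leaf 279) (.leaf 186)) (.node (.leaf 1210) (.leaf 779)))) (.node (.node (.node (.leaf 893) (.leaf 1354)) (.node (.leaf 1504) (.leaf 430))) (.node (.node (.leaf 2034) (.leaf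 1677)) (.node (.leaf 555) (.leaf 2178))))) (.node (.node (.node (.node (.leaf 1813) (.leaf 2528)) (.node (.leaf 1399) (.leaf 283))) (.node (.node (.leaf 281) (.leaf 151)) (.node (.leaf 479) (.leaf 1803)))) (.node (.node (.node (.leaf 867) (.leaf 557)) (.node (.leaf 540) (.leaf 2185))) (.node (.node (.leaf 2367) (.leaf 2750)) (.node (.leaf 1511) (.leaf 332))))))) (.node (.node (.node (.node (.node (.node (.leaf 1213) (.leaf 1809)) (.node (.leaf 773) (.leaf 1212))) (.node (.node (.leaf 1230) (.leaf 901)) (.node (.leaf 900) (.leaf 561)))) (.node (.node (.node (.leaf 1385) (.leaf 2036)) (.node (.leaf 2037) (.leaf 2720))) (.node (.node (.leaf 1679) (.leaf 1107)) (.node (.leaf 2043) (.leaf 1680))))) (.node (.node (.node (.node (.leaf 1220) (.leaf 1819)) (.node (.leaf 777) (.leaf 1219))) (.node (.node (.leaf 1217) (.leaf 776)) (.node (.leaf 775) (.leaf 477)))) (.node (.node (.node (.leaf 1387) (.leaf 891)) (.node (.leaf 2041) (.leaf 1388))) (.node (.node (.leaf 1352) (.leaf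 1998)) (.node (.leaf 1999) (.leaf 2719)))))) (.node (.node (.node (.node (.node (.leaf 784) (.leaf 1400)) (.node (.leaf 1403) (.leaf 1808))) (.node (.node (.leaf 1804) (.leaf 1225)) (.node (.leaf 476) (.leaf 337)))) (.node (.node (.node (.leaf 2186) (.leaf 700)) (.node (.leaf 1392) (.leaf 2002))) (.node (.node (.leaf 890) (.leaf 2753)) (.node (.leaf 2751) (.leaf 2368))))) (.node (.node (.node (.node (.leaf 1814) (.leaf 482)) (.node (.leaf 1216) (.leaf 1818))) (.node (.node (.leaf 780) (.leaf 2510)) (.node (.leaf 478) (.leaf 280)))) (.node (.node (.node (.leaf 866) (.leaf 2718)) (.node (.leaf 1355) (.leaf 894))) (.node (.node (.leaf 2040) (.leaf 556)) (.node (.leaf 2755) (.leaf 3389))))))))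

def twoOrd26 : Janko.Tree (ℕ) :=
  (.node (.node (.node (.node (.node (.node (.node (.leaf 2317) (.leaf 1625)) (.node (.leaf 1722) (.leaf 2318))) (.node (.node (.leaf 2312) (.leaf 2456)) (.node (.leaf 2451) (.leaf 1766)))) (.node (.node (.node (.leaf 997) (.leaf 1528)) (.node (.leaf 1529) (.leaf 2216))) (.node (.node (.leaf 2098) (.leaf 1466)) (.node (.leaf 1437) (.leaf 2097))))) (.node (.node (.node (.node (.leaf 1930) (.leaf 2651)) (.node (.leaf 1299) (.leaf 1929))) (.node (.node (.leaf 1857) (.leaf 2573)) (.node (.leaf 2574) (.leaf 3273)))) (.node (.node (.node (.leaf 1769) (.leaf 1185)) (.node (.leaf 1184) (.leaf 752))) (.node (.node (.leaf 2019) (.leaf 1370)) (.node (.leaf 2735) (.leaf 2020)))))) (.node (.node (.node (.node (.node (.leaf 2539) (.leaf 2199)) (.node (.leaf 2269) (.leaf 3044))) (.node (.node (.leaf 1192) (.leaf 2195)) (.node (.leaf 2264) (.leaf 3045)))) (.node (.node (.node (.leaf 2915) (.leaf 3234)) (.node (.leaf 3304) (.leaf 2577))) (.node (.node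 (.leaf 2919) (.leaf 1936)) (.node (.leaf 2025) (.leaf 3862))))) (.node (.node (.node (.node (.leaf 2816) (.leaf 3180)) (.node (.leaf 2401) (.leaf 2868))) (.node (.node (.leaf 1514) (.leaf 758)) (.node (.leaf 3618) (.leaf 2958)))) (.node (.node (.node (.leaf 2785) (.leaf 3096)) (.node (.leaf 1861) (.leaf 3824))) (.node (.node (.leaf 1305) (.leaf 2188)) (.node (.leaf 3581) (.leaf 1376))))))) (.node (.node (.node (.node (.node (.node (.leaf 2030) (.leaf 1381)) (.node (.leaf 2746) (.leaf 2031))) (.node (.node (.leaf 1864) (.leaf 2579)) (.node (.leaf 2581) (.leaf 3279)))) (.node (.node (.node (.leaf 1795) (.leaf 1206)) (.node (.leaf 1205) (.leaf 768))) (.node (.node (.leaf 1948) (.leaf 2670)) (.node (.leaf 1314) (.leaf 1947))))) (.node (.node (.node (.node (.leaf 3601) (.leaf 2997)) (.node (.leaf 3068) (.leaf 3602))) (.node (.node (.leaf 2072) (.leaf 2788)) (.node (.leaf 2789) (.leaf 3447)))) (.node (.node (.node (.leaf 3619) (.leaf 3663)) (.node (.leaf 3654) (.leaf 3097)))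 (.node (.node (.leaf 3476) (.leaf 2869)) (.node (.leaf 2817) (.leaf 3475)))))) (.node (.node (.node (.node (.node (.leaf 2867) (.leaf 2338)) (.node (.leaf 3186) (.leaf 2815))) (.node (.node (.leaf 1572) (.leaf 3617)) (.node (.leaf 757) (.leaf 2928)))) (.node (.node (.node (.leaf 2792) (.leaf 1860)) (.node (.leaf 3091) (.leaf 3777))) (.node (.node (.leaf 1375) (.leaf 3525)) (.node (.leaf 2274) (.leaf 1304))))) (.node (.node (.node (.node (.leaf 3043) (.leaf 2136)) (.node (.leaf 2093) (.leaf 3737))) (.node (.node (.leaf 3021) (.leaf 2263)) (.node (.leaf 2196) (.leaf 465)))) (.node (.node (.node (.leaf 1250) (.leaf 3449)) (.node (.leaf 3444) (.leaf 2412))) (.node (.node (.leaf 3937) (.leaf 882)) (.node (.leaf 833) (.leaf 2920))))))))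

def twoOrd27 : Janko.Tree (ℕ) :=
  (.node (.node (.node (.node (.node (.node (.node (.leaf 4056) (.leaf 4092)) (.node (.leaf 3828) (.leaf 4044))) (.node (.node (.leaf 2146) (.leaf 1471)) (.node (.leaf 2715) (.leaf 2032)))) (.node (.node (.node (.leaf 3199) (.leaf 3748)) (.node (.leaf 3749) (.leaf 4020))) (.node (.node (.leaf 1798) (.leaf 1207)) (.node (.leaf 2502) (.leaf 1799))))) (.node (.node (.node (.node (.leaf 3646) (.leaf 3974)) (.node (.leaf 3080) (.leaf 3638))) (.node (.node (.leaf 2132) (.leaf 2863)) (.node (.leaf 2856) (.leaf 3504)))) (.node (.node (.node (.leaf 3578) (.leaf 2959)) (.node (.leaf 3868) (.leaf 3398))) (.node (.node (.leaf 3137) (.leaf 2445)) (.node (.leaf 3703) (.leaf 3138)))))) (.node (.node (.node (.node (.node (.leaf 1578) (.leaf 2341)) (.node (.leaf 782) (.leaf 2933))) (.node (.node (.leaf 1571) (.leaf 2337)) (.node (.leaf 3175) (.leaf 1512)))) (.node (.node (.node (.leaf 1390) (.leaf 2000)) (.node (.leaf 2182) (.leaf 3847))) (.node (.node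 (.leaf 3821) (.leaf 4042)) (.node (.leaf 2273) (.leaf 1222))))) (.node (.node (.node (.node (.leaf 1718) (.leaf 2232)) (.node (.leaf 2206) (.leaf 480))) (.node (.node (.leaf 3020) (.leaf 2135)) (.node (.leaf 986) (.leaf 3733)))) (.node (.node (.node (.leaf 1353) (.leaf 892)) (.node (.leaf 3501) (.leaf 1506))) (.node (.node (.leaf 3964) (.leaf 4054)) (.node (.leaf 778) (.leaf 2446))))))) (.node (.node (.node (.node (.node (.node (.leaf 1145) (.leaf 1209)) (.node (.leaf 1721) (.leaf 1801))) (.node (.node (.leaf 2311) (.leaf 1624)) (.node (.leaf 1618) (.leaf 1067)))) (.node (.node (.node (.leaf 996) (.leaf 1465)) (.node (.leaf 627) (.leaf 952))) (.node (.node (.leaf 1003) (.leaf 1536)) (.node (.leaf 1539) (.leaf 2225))))) (.node (.node (.node (.node (.leaf 1817) (.leaf 2526)) (.node (.leaf 1218) (.leaf 1816))) (.node (.node (.leaf 1997) (.leaf 2717)) (.node (.leaf 2709) (.leaf 3381)))) (.node (.node (.node (.leaf 2039) (.leaf 1386)) (.node (.leaf 2737) (.leaf 2022)))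 (.node (.node (.leaf 1775) (.leaf 1188)) (.node (.leaf 1215) (.leaf 774)))))) (.node (.node (.node (.node (.node (.leaf 1196) (.leaf 2203)) (.node (.leaf 2055) (.leaf 2515))) (.node (.node (.leaf 2473) (.leaf 2193)) (.node (.leaf 1027) (.leaf 1646)))) (.node (.node (.node (.leaf 2914) (.leaf 3340)) (.node (.leaf 2028) (.leaf 2713))) (.node (.node (.leaf 1582) (.leaf 1823)) (.node (.leaf 3299) (.leaf 3793))))) (.node (.node (.node (.node (.leaf 1523) (.leaf 761)) (.node (.leaf 1812) (.leaf 2527))) (.node (.node (.leaf 1513) (.leaf 3174)) (.node (.leaf 2308) (.leaf 1462)))) (.node (.node (.node (.leaf 2860) (.leaf 2187)) (.node (.leaf 1992) (.leaf 1378))) (.node (.node (.leaf 1223) (.leaf 1758)) (.node (.leaf 3591) (.leaf 3820))))))))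

def twoOrd28 : Janko.Tree (ℕ) :=
  (.node (.node (.node (.node (.node (.node (.node (.leaf 535) (.leaf 2061)) (.node (.leaf 2084) (.leaf 3005))) (.node (.node (.leaf 1620) (.leaf 1793)) (.node (.leaf 1764) (.leaf 1441)))) (.node (.node (.node (.leaf 2884) (.leaf 325)) (.node (.leaf 302) (.leaf 142))) (.node (.node (.leaf 2668) (.leaf 954)) (.node (.leaf 930) (.leaf 1183))))) (.node (.node (.node (.node (.leaf 1342) (.leaf 2349)) (.node (.leaf 3155) (.leaf 2842))) (.node (.node (.leaf 537) (.leaf 3432)) (.node (.leaf 915) (.leaf 1594)))) (.node (.node (.node (.leaf 1688) (.leaf 875)) (.node (.leaf 304) (.leaf 146))) (.node (.node (.leaf 3767) (.leaf 329)) (.node (.leaf 828) (.leaf 457)))))) (.node (.node (.node (.node (.node (.leaf 1063) (.leaf 2494)) (.node (.leaf 2454) (.leaf 2292))) (.node (.node (.leaf 859) (.leaf 1408)) (.node (.leaf 1428) (.leaf 2102)))) (.node (.node (.node (.leaf 3351) (.leaf 598)) (.node (.leaf 578) (.leaf 264))) (.node (.node (.leaf 2277)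 (.leaf 545)) (.node (.leaf 511) (.leaf 750))))) (.node (.node (.node (.node (.leaf 861) (.leaf 2777)) (.node (.leaf 1420) (.leaf 2115))) (.node (.node (.leaf 860) (.leaf 3034)) (.node (.leaf 2458) (.leaf 2285)))) (.node (.node (.node (.leaf 3224) (.leaf 550)) (.node (.leaf 513) (.leaf 271))) (.node (.node (.leaf 2244) (.leaf 546)) (.node (.leaf 515) (.leaf 266))))))) (.node (.node (.node (.node (.node (.node (.leaf 1338) (.leaf 3202)) (.node (.leaf 2344) (.leaf 2881))) (.node (.node (.leaf 539) (.leaf 907)) (.node (.leaf 3467) (.leaf 1683)))) (.node (.node (.node (.leaf 1587) (.leaf 331)) (.node (.leaf 822) (.leaf 149))) (.node (.node (.leaf 3814) (.leaf 871)) (.node (.leaf 307) (.leaf 451))))) (.node (.node (.node (.node (.leaf 1617) (.leaf 3430)) (.node (.leaf 3465) (.leaf 3925))) (.node (.node (.leaf 538) (.leaf 3435)) (.node (.leaf 3454) (.leaf 3924)))) (.node (.node (.node (.leaf 3933) (.leaf 330)) (.node (.leaf 305) (.leaf 1153))) (.node (.node (.leaf 3766) (.leaf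 951)) (.node (.leaf 926) (.leaf 147)))))) (.node (.node (.node (.node (.node (.leaf 865) (.leaf 1411)) (.node (.leaf 2809) (.leaf 2149))) (.node (.node (.leaf 858) (.leaf 2497)) (.node (.leaf 3047) (.leaf 2372)))) (.node (.node (.node (.leaf 3290) (.leaf 544)) (.node (.leaf 521) (.leaf 277))) (.node (.node (.leaf 2153) (.leaf 554)) (.node (.leaf 510) (.leaf 263))))) (.node (.node (.node (.node (.leaf 320) (.leaf 2779)) (.node (.leaf 2797) (.leaf 3496))) (.node (.node (.leaf 2310) (.leaf 3895)) (.node (.leaf 3914) (.leaf 4073)))) (.node (.node (.node (.leaf 4031) (.leaf 1464)) (.node (.leaf 1435) (.leaf 1732))) (.node (.node (.leaf 3597) (.leaf 181)) (.node (.leaf 167) (.leaf 74))))))))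

def twoOrd29 : Janko.Tree (ℕ) :=
  (.node (.node (.node (.node (.node (.node (.node (.leaf 2803) (.leaf 3390)) (.node (.leaf 317) (.leaf 2405))) (.node (.node (.leaf 1623) (.leaf 958)) (.node (.leaf 1996) (.leaf 1707)))) (.node (.node (.node (.leaf 164) (.leaf 71)) (.node (.leaf 2151) (.leaf 178))) (.node (.node (.leaf 1316) (.leaf 770)) (.node (.leaf 2361) (.leaf 1383))))) (.node (.node (.node (.node (.leaf 3719) (.leaf 3493)) (.node (.leaf 1986) (.leaf 3051))) (.node (.node (.leaf 1421) (.leaf 2286)) (.node (.leaf 319) (.leaf 3651)))) (.node (.node (.node (.leaf 166) (.leaf 73)) (.node (.leaf 2377) (.leaf 1368))) (.node (.node (.leaf 1297) (.leaf 743)) (.node (.leaf 3415) (.leaf 180)))))) (.node (.node (.node (.node (.node (.leaf 2088) (.leaf 1474)) (.node (.leaf 1351) (.leaf 1724))) (.node (.node (.leaf 2394) (.leaf 2721)) (.node (.leaf 534) (.leaf 2393)))) (.node (.node (.node (.leaf 841) (.leaf 473)) (.node (.leaf 3061) (.leaf 324))) (.node (.node (.leaf 301)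 (.leaf 141)) (.node (.leaf 1476) (.leaf 888))))) (.node (.node (.node (.node (.leaf 2077) (.leaf 2845)) (.node (.leaf 174) (.leaf 3436))) (.node (.node (.leaf 4000) (.leaf 3923)) (.node (.leaf 2707) (.leaf 3976)))) (.node (.node (.node (.leaf 1928) (.leaf 1173)) (.node (.leaf 3887) (.leaf 2018))) (.node (.node (.leaf 84) (.leaf 34)) (.node (.leaf 3070) (.leaf 92))))))) (.node (.node (.node (.node (.node (.node (.leaf 1652) (.leaf 3483)) (.node (.leaf 1980) (.leaf 3747))) (.node (.node (.leaf 3694) (.leaf 1109)) (.node (.leaf 408) (.leaf 563)))) (.node (.node (.node (.leaf 1288) (.leaf 278)) (.node (.leaf 1036) (.leaf 201))) (.node (.node (.leaf 522) (.leaf 734)) (.node (.leaf 3575) (.leaf 1361))))) (.node (.node (.node (.node (.leaf 2805) (.leaf 3603)) (.node (.leaf 1060) (.leaf 2772))) (.node (.node (.leaf 2794) (.leaf 3494)) (.node (.leaf 864) (.leaf 3899)))) (.node (.node (.node (.leaf 518) (.leaf 744)) (.node (.leaf 3583) (.leaf 553))) (.node (.node (.leaf 1298)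 (.leaf 274)) (.node (.leaf 3223) (.leaf 595)))))) (.node (.node (.node (.node (.node (.leaf 3151) (.leaf 1681)) (.node (.leaf 670) (.leaf 3198))) (.node (.node (.leaf 2085) (.leaf 2827)) (.node (.leaf 1341) (.leaf 905)))) (.node (.node (.node (.leaf 842) (.leaf 454)) (.node (.leaf 2954) (.leaf 359))) (.node (.node (.leaf 825) (.leaf 474)) (.node (.leaf 1585) (.leaf 874))))) (.node (.node (.node (.node (.leaf 2076) (.leaf 2843)) (.node (.leaf 1345) (.leaf 2063))) (.node (.node (.leaf 3156) (.leaf 3000)) (.node (.leaf 669) (.leaf 3624)))) (.node (.node (.node (.leaf 829) (.leaf 464)) (.node (.leaf 2518) (.leaf 881))) (.node (.node (.leaf 832) (.leaf 458)) (.node (.leaf 2968) (.leaf 358))))))))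

def twoOrd30 : Janko.Tree (ℕ) :=
  (.node (.node (.node (.node (.node (.node (.node (.leaf 1779) (.leaf 2927)) (.node (.leaf 2983) (.leaf 3630))) (.node (.node (.leaf 1829) (.leaf 1518)) (.node (.leaf 1579) (.leaf 2342)))) (.node (.node (.node (.leaf 3552) (.leaf 2657)) (.node (.leaf 2739) (.leaf 3277))) (.node (.node (.leaf 2183) (.leaf 2531)) (.node (.leaf 2611) (.leaf 3366))))) (.node (.node (.node (.node (.leaf 987) (.leaf 1193)) (.node (.leaf 3815) (.leaf 3509))) (.node (.node (.leaf 3462) (.leaf 2478)) (.node (.leaf 1719) (.leaf 2233)))) (.node (.node (.node (.leaf 1821) (.leaf 1507)) (.node (.leaf 2974) (.leaf 3302))) (.node (.node (.leaf 2122) (.leaf 3662)) (.node (.leaf 2578) (.leaf 2026)))))) (.node (.node (.node (.node (.node (.leaf 1619) (.leaf 3153)) (.node (.leaf 3148) (.leaf 3027))) (.node (.node (.leaf 3028) (.leaf 1068)) (.node (.leaf 1146) (.leaf 1182)))) (.node (.node (.node (.leaf 2822) (.leaf 953)) (.node (.leaf 929) (.leaf 1537))) (.node (.node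 (.leaf 628) (.leaf 2215)) (.node (.leaf 2214) (.leaf 2819))))) (.node (.node (.node (.node (.leaf 1343) (.leaf 3229)) (.node (.leaf 3274) (.leaf 2650))) (.node (.node (.leaf 2524) (.leaf 3335)) (.node (.leaf 830) (.leaf 3773)))) (.node (.node (.node (.leaf 2520) (.leaf 879)) (.node (.leaf 3168) (.leaf 462))) (.node (.node (.leaf 2461) (.leaf 1770)) (.node (.leaf 1768) (.leaf 2736))))))) (.node (.node (.node (.node (.node (.node (.leaf 1028) (.leaf 3763)) (.node (.leaf 1191) (.leaf 3472))) (.node (.node (.leaf 3425) (.leaf 1647)) (.node (.leaf 2485) (.leaf 2204)))) (.node (.node (.node (.leaf 1888) (.leaf 2908)) (.node (.leaf 1583) (.leaf 3237))) (.node (.node (.leaf 2129) (.leaf 2556)) (.node (.leaf 3657) (.leaf 1935))))) (.node (.node (.node (.node (.leaf 2309) (.leaf 2984)) (.node (.leaf 2926) (.leaf 4017))) (.node (.node (.leaf 3226) (.leaf 1463)) (.node (.leaf 1434) (.leaf 272)))) (.node (.node (.node (.leaf 4075) (.leaf 551)) (.node (.leaf 516) (.leaf 1731)))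 (.node (.node (.leaf 862) (.leaf 3898)) (.node (.leaf 3904) (.leaf 3551)))))) (.node (.node (.node (.node (.node (.leaf 1350) (.leaf 3259)) (.node (.leaf 3280) (.leaf 2747))) (.node (.node (.leaf 2613) (.leaf 887)) (.node (.leaf 3409) (.leaf 3809)))) (.node (.node (.node (.leaf 2591) (.leaf 3188)) (.node (.leaf 840) (.leaf 472))) (.node (.node (.leaf 2496) (.leaf 1796)) (.node (.leaf 1794) (.leaf 2669))))) (.node (.node (.node (.node (.leaf 1456) (.leaf 3433)) (.node (.leaf 3448) (.leaf 3922))) (.node (.node (.leaf 3966) (.leaf 2304)) (.node (.leaf 2386) (.leaf 3056)))) (.node (.node (.node (.leaf 3920) (.leaf 2137)) (.node (.leaf 2094) (.leaf 2413))) (.node (.node (.leaf 3022) (.leaf 3984)) (.node (.leaf 3981) (.leaf 3919))))))))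

def twoOrd31 : Janko.Tree (ℕ) :=
  (.node (.node (.node (.node (.node (.node (.node (.leaf 2262) (.leaf 3042)) (.node (.leaf 2475) (.leaf 3556))) (.node (.node (.leaf 1031) (.leaf 1650)) (.node (.leaf 1227) (.leaf 990)))) (.node (.node (.node (.leaf 3401) (.leaf 3807)) (.node (.leaf 2989) (.leaf 3342))) (.node (.node (.leaf 1903) (.leaf 2695)) (.node (.leaf 1501) (.leaf 1822))))) (.node (.node (.node (.node (.leaf 3615) (.leaf 2865)) (.node (.leaf 620) (.leaf 781))) (.node (.node (.leaf 1143) (.leaf 1542)) (.node (.leaf 2935) (.leaf 3181)))) (.node (.node (.node (.leaf 3588) (.leaf 3825)) (.node (.leaf 1221) (.leaf 981))) (.node (.node (.leaf 1867) (.leaf 1389)) (.node (.leaf 2852) (.leaf 3139)))))) (.node (.node (.node (.node (.node (.leaf 2808) (.leaf 2145)) (.node (.leaf 1995) (.leaf 3795))) (.node (.node (.leaf 3882) (.leaf 4050)) (.node (.leaf 3306) (.leaf 1382)))) (.node (.node (.node (.leaf 1315) (.leaf 769)) (.node (.leaf 3206) (.leaf 3740))) (.node (.node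 (.leaf 2495) (.leaf 3352)) (.node (.leaf 3201) (.leaf 2499))))) (.node (.node (.node (.node (.leaf 2795) (.leaf 3495)) (.node (.leaf 2126) (.leaf 3896))) (.node (.node (.leaf 3077) (.leaf 3635)) (.node (.leaf 3642) (.leaf 3018)))) (.node (.node (.node (.leaf 2649) (.leaf 1757)) (.node (.leaf 4006) (.leaf 2734))) (.node (.node (.leaf 3960) (.leaf 3577)) (.node (.leaf 3380) (.leaf 3704))))))) (.node (.node (.node (.node (.node (.node (.leaf 1778) (.leaf 2925)) (.node (.leaf 648) (.leaf 3219))) (.node (.node (.leaf 1785) (.leaf 1521)) (.node (.leaf 2767) (.leaf 1085)))) (.node (.node (.node (.leaf 1034) (.leaf 2532)) (.node (.leaf 2608) (.leaf 3386))) (.node (.node (.leaf 3548) (.leaf 2656)) (.node (.leaf 2744) (.leaf 3257))))) (.node (.node (.node (.node (.leaf 2194) (.leaf 3732)) (.node (.leaf 1615) (.leaf 3231))) (.node (.node (.leaf 993) (.leaf 467)) (.node (.leaf 2521) (.leaf 949)))) (.node (.node (.node (.leaf 835) (.leaf 1174)) (.node (.leaf 3961) (.leaf 884)))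 (.node (.node (.leaf 3452) (.leaf 2918)) (.node (.leaf 1347) (.leaf 4053)))))) (.node (.node (.node (.node (.node (.leaf 3023) (.leaf 2316)) (.node (.leaf 1061) (.leaf 2505))) (.node (.node (.leaf 727) (.leaf 771)) (.node (.leaf 2403) (.leaf 674)))) (.node (.node (.node (.leaf 632) (.leaf 1001)) (.node (.leaf 2227) (.leaf 596))) (.node (.node (.leaf 1527) (.leaf 2138)) (.node (.leaf 379) (.leaf 2944))))) (.node (.node (.node (.node (.leaf 2583) (.leaf 3334)) (.node (.leaf 1988) (.leaf 2525))) (.node (.node (.leaf 1301) (.leaf 3230)) (.node (.leaf 1815) (.leaf 3843)))) (.node (.node (.node (.leaf 2469) (.leaf 754)) (.node (.leaf 1811) (.leaf 1372))) (.node (.node (.leaf 2460) (.leaf 2038)) (.node (.leaf 3159) (.leaf 1214))))))))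

def twoOrd : Janko.Tree (ℕ) := (.node (.node (.node (.node (.node twoOrd0 twoOrd16) (.node twoOrd8 twoOrd24)) (.node (.node twoOrd4 twoOrd20) (.node twoOrd12 twoOrd28))) (.node (.node (.node twoOrd2 twoOrd18) (.node twoOrd10 twoOrd26)) (.node (.node twoOrd6 twoOrd22) (.node twoOrd14 twoOrd30)))) (.node (.node (.node (.node twoOrd1 twoOrd17) (.node twoOrd9 twoOrd25)) (.node (.node twoOrd5 twoOrd21) (.node twoOrd13 twoOrd29))) (.node (.node (.node twoOrd3 twoOrd19) (.node twoOrd11 twoOrd27)) (.node (.node twoOrd7 twoOrd23) (.node twoOrd15 twoOrd31)))))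

def twoRels : List (List ℕ) := [[0, 0],
  [1, 1],
  [2, 2],
  [3, 3],
  [0, 2, 0, 2],
  [0, 3, 0, 3],
  [2, 3, 2, 3],
  [0, 2, 3, 0, 3, 2],
  [0, 1, 0, 1, 0, 1, 0, 1],
  [1, 2, 1, 2, 1, 2, 1, 2],
  [1, 3, 1, 3, 1, 3, 1, 3],
  [0, 1, 0, 1, 0, 1, 2, 0, 2, 1],
  [0, 1, 0, 1, 0, 1, 3, 0, 3, 1],
  [1, 2, 1, 2, 1, 2, 1, 3, 2, 3],
  [0, 1, 0, 1, 0, 1, 2, 3, 0, 3, 2, 1],
  [0, 1, 0, 1, 0, 1, 3, 2, 0, 2, 3, 1],
  [0, 1, 0, 2, 1, 0, 2, 1, 0, 2, 1, 2],
  [0, 1, 0, 2, 1, 0, 2, 1, 2, 0, 1, 2],
  [0, 1, 0, 2, 1, 2, 0, 1, 2, 0, 1, 2],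
  [0, 1, 0, 3, 1, 0, 3, 1, 0, 3, 1, 3],
  [0, 1, 0, 3, 1, 0, 3, 1, 3, 0, 1, 3],
  [0, 1, 0, 3, 1, 3, 0, 1, 3, 0, 1, 3],
  [0, 1, 2, 0, 2, 1, 0, 1, 2, 0, 2, 1],
  [0, 1, 2, 0, 2, 1, 0, 1, 3, 0, 3, 1],
  [0, 1, 2, 1, 3, 2, 3, 1, 2, 1, 0, 2],
  [0, 1, 3, 0, 3, 1, 0, 1, 3, 0, 3, 1],
  [1, 2, 1, 3, 2, 3, 1, 2, 1, 3, 2, 3],
  [1, 2, 3, 1, 2, 3, 1, 2, 3, 1, 3, 2],
  [1, 2, 3, 1, 2, 3, 1, 3, 2, 1, 3, 2],
  [1, 2, 3, 1, 3, 2, 1, 3, 2, 1, 3, 2],
  [0, 1, 0, 1, 2, 1, 0, 2, 1, 0, 2, 1, 2, 1],
  [0, 1, 0, 1, 2, 1, 0, 2, 1, 2, 0, 1, 2, 1],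
  [0, 1, 0, 1, 2, 1, 2, 0, 1, 2, 0, 1, 2, 1],
  [0, 1, 0, 1, 3, 1, 0, 3, 1, 0, 3, 1, 3, 1],
  [0, 1, 0, 1, 3, 1, 0, 3, 1, 3, 0, 1, 3, 1],
  [0, 1, 0, 1, 3, 1, 3, 0, 1, 3, 0, 1, 3, 1],
  [0, 1, 0, 2, 1, 0, 1, 2, 1, 2, 1, 0, 1, 2],
  [0, 1, 0, 2, 1, 0, 2, 1, 3, 0, 3, 2, 1, 2],
  [0, 1, 0, 2, 1, 0, 2, 1, 3, 2, 3, 0, 1, 2],
  [0, 1, 0, 2, 1, 0, 3, 2, 3, 1, 2, 0, 1, 2],
  [0, 1, 0, 2, 1, 2, 3, 0, 3, 1, 2, 0, 1, 2],
  [0, 1, 0, 3, 1, 0, 1, 3, 1, 3, 1, 0, 1, 3],
  [0, 1, 0, 3, 1, 0, 2, 3, 2, 1, 3, 0, 1, 3],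
  [0, 1, 0, 3, 1, 0, 3, 1, 2, 0, 3, 2, 1, 3],
  [0, 1, 0, 3, 1, 0, 3, 1, 2, 3, 2, 0, 1, 3],
  [0, 1, 0, 3, 1, 2, 3, 0, 2, 1, 3, 0, 1, 3],
  [0, 1, 2, 0, 1, 2, 1, 0, 1, 2, 0, 1, 2, 1],
  [0, 1, 2, 0, 1, 3, 0, 2, 3, 1, 0, 2, 1, 2],
  [0, 1, 2, 0, 1, 3, 2, 0, 3, 1, 0, 2, 1, 2],
  [0, 1, 2, 0, 2, 1, 0, 1, 2, 3, 0, 3, 2, 1],
  [0, 1, 2, 0, 2, 1, 0, 1, 3, 2, 0, 2, 3, 1],
  [0, 1, 2, 0, 2, 3, 1, 0, 3, 1, 0, 3, 1, 3],
  [0, 1, 2, 0, 2, 3, 1, 0, 3, 1, 3, 0, 1, 3],
  [0, 1, 2, 1, 0, 2, 1, 0, 1, 2, 1, 0, 2, 1],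
  [0, 1, 2, 1, 3, 2, 3, 1, 2, 1, 0, 3, 2, 3],
  [0, 1, 2, 3, 0, 3, 2, 1, 0, 1, 3, 0, 3, 1],
  [0, 1, 3, 0, 1, 3, 1, 0, 1, 3, 0, 1, 3, 1],
  [0, 1, 3, 0, 1, 3, 2, 0, 2, 1, 0, 3, 1, 3],
  [0, 1, 3, 0, 2, 3, 1, 0, 2, 1, 0, 2, 1, 2],
  [0, 1, 3, 0, 3, 1, 0, 1, 3, 2, 0, 2, 3, 1],
  [0, 1, 3, 1, 0, 3, 1, 0, 1, 3, 1, 0, 3, 1],
  [0, 1, 3, 2, 0, 2, 1, 0, 3, 1, 0, 3, 1, 3],
  [0, 1, 3, 2, 0, 3, 1, 0, 2, 1, 0, 2, 1, 2],
  [0, 1, 3, 2, 1, 2, 3, 1, 2, 3, 1, 0, 2, 3],
  [0, 1, 3, 2, 1, 2, 3, 1, 2, 3, 1, 0, 3, 2],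
  [0, 1, 3, 2, 1, 3, 2, 1, 2, 3, 1, 0, 2, 3],
  [0, 1, 3, 2, 1, 3, 2, 1, 2, 3, 1, 0, 3, 2],
  [1, 2, 1, 2, 1, 2, 3, 1, 3, 1, 3, 1, 3, 2],
  [1, 2, 1, 2, 1, 3, 1, 2, 3, 1, 3, 2, 1, 3],
  [1, 2, 1, 3, 1, 2, 3, 1, 2, 1, 3, 1, 2, 3],
  [1, 2, 1, 3, 1, 3, 1, 2, 1, 3, 2, 1, 2, 3],
  [1, 2, 1, 3, 2, 1, 3, 1, 2, 1, 3, 2, 1, 3],
  [0, 1, 0, 1, 0, 1, 2, 1, 0, 1, 0, 1, 0, 1, 2, 1],
  [0, 1, 0, 1, 0, 1, 3, 1, 0, 1, 0, 1, 0, 1, 3, 1],
  [0, 1, 0, 1, 2, 1, 0, 1, 2, 1, 2, 1, 0, 1, 2, 1],
  [0, 1, 0, 1, 2, 1, 0, 2, 1, 3, 0, 3, 2, 1, 2, 1],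
  [0, 1, 0, 1, 2, 1, 0, 2, 1, 3, 2, 3, 0, 1, 2, 1],
  [0, 1, 0, 1, 2, 1, 0, 3, 2, 3, 1, 2, 0, 1, 2, 1]]

/-- the certificate -/
def twoCert : CentralLocal.Cert :=
  { act := actB baseB twoGens, one := oneB, N := 4096, k := 4, q := 0, rels := twoRels, P := 17,
    elt := twoElt, next := twoNext, word := twoWord, par := twoPar, L := twoL, kind := twoKind, rank := twoRank,
    via := twoVia, pv := [16384, 16385, 16386, 16387, 16388, 16389, 16390, 16392, 16393, 16394, 16400, 16403, 16411, 3915, 3988, 4070, 4261] }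

end Cfsg.Agent.Lie.OEightTwoMult
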