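import Cfsg.Agent.Lib.Lie.OEightTwoMult.TwoCert

/-!
Kernel checks of the edges, the tree and the orders of the table (generated).
-/

set_option autoImplicit false
set_option maxRecDepth 100000
set_option maxHeartbeats 0
set_option Elab.async false

namespace Cfsg.Agent.Lie.OEightTwoMult

open Cfsg.Agent.Lie PermCover

theorem two_edges0 : ((List.range 512).all fun i => twoCert.edgeCheck (Nat.add 0 i)) = true := by decide +kernel

theorem two_edges1 : ((List.range 512).all fun i => twoCert.edgeCheck (Nat.add 512 i)) = true := by decide +kernel

theorem two_edges2 : ((List.range 512).all fun i => twoCert.edgeCheck (Nat.add 1024 i)) = true := by decide +kernel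

theorem two_edges3 : ((List.range 512).all fun i => twoCert.edgeCheck (Nat.add 1536 i)) = true := by decide +kernel

theorem two_edges4 : ((List.range 512).all fun i => twoCert.edgeCheck (Nat.add 2048 i)) = true := by decide +kernel

theorem two_edges5 : ((List.range 512).all fun i => twoCert.edgeCheck (Nat.add 2560 i)) = true := by decide +kernel

theorem two_edges6 : ((List.range 512).all fun i => twoCert.edgeCheck (Nat.add 3072 i)) = true := by decide +kernel

theorem two_edges7 : ((List.range 512).all fun i => twoCert.edgeCheck (Nat.add 3584 i)) = true := by decide +kernel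

theorem two_edges : ∀ i < 4096, twoCert.edgeCheck i = true := by
  intro i hi
  by_cases h0 : i < 512
  · have := List.all_eq_true.1 two_edges0 (i - 0) (List.mem_range.2 (by omega)); rwa [show Nat.add 0 (i - 0) = i from Nat.add_sub_cancel' (by omega)] at this
  by_cases h1 : i < 1024
  · have := List.all_eq_true.1 two_edges1 (i - 512) (List.mem_range.2 (by omega)); rwa [show Nat.add 512 (i - 512) = i from Nat.add_sub_cancel' (by omega)] at this
  by_cases h2 : i < 1536
  · have := List.all_eq_true.1 two_edges2 (i - 1024) (List.mem_range.2 (by omega)); rwa [show Nat.add 1024 (i - 1024) = i from Nat.add_sub_cancel' (by omega)] at this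
  by_cases h3 : i < 2048
  · have := List.all_eq_true.1 two_edges3 (i - 1536) (List.mem_range.2 (by omega)); rwa [show Nat.add 1536 (i - 1536) = i from Nat.add_sub_cancel' (by omega)] at this
  by_cases h4 : i < 2560
  · have := List.all_eq_true.1 two_edges4 (i - 2048) (List.mem_range.2 (by omega)); rwa [show Nat.add 2048 (i - 2048) = i from Nat.add_sub_cancel' (by omega)] at this
  by_cases h5 : i < 3072
  · have := List.all_eq_true.1 two_edges5 (i - 2560) (List.mem_range.2 (by omega)); rwa [show Nat.add 2560 (i - 2560) = i from Nat.add_sub_cancel' (by omega)] at this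
  by_cases h6 : i < 3584
  · have := List.all_eq_true.1 two_edges6 (i - 3072) (List.mem_range.2 (by omega)); rwa [show Nat.add 3072 (i - 3072) = i from Nat.add_sub_cancel' (by omega)] at this
  have := List.all_eq_true.1 two_edges7 (i - 3584) (List.mem_range.2 (by omega)); rwa [show Nat.add 3584 (i - 3584) = i from Nat.add_sub_cancel' (by omega)] at this


theorem two_tree0 : ((List.range 512).all fun i => twoCert.treeCheck (Nat.add 0 i)) = true := by decide +kernel

theorem two_tree1 : ((List.range 512).all fun i => twoCert.treeCheck (Nat.add 512 i)) = true := by decide +kernel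

theorem two_tree2 : ((List.range 512).all fun i => twoCert.treeCheck (Nat.add 1024 i)) = true := by decide +kernel

theorem two_tree3 : ((List.range 512).all fun i => twoCert.treeCheck (Nat.add 1536 i)) = true := by decide +kernel

theorem two_tree4 : ((List.range 512).all fun i => twoCert.treeCheck (Nat.add 2048 i)) = true := by decide +kernel

theorem two_tree5 : ((List.range 512).all fun i => twoCert.treeCheck (Nat.add 2560 i)) = true := by decide +kernel

theorem two_tree6 : ((List.range 512).all fun i => twoCert.treeCheck (Nat.add 3072 i)) = true := by decide +kernel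

theorem two_tree7 : ((List.range 512).all fun i => twoCert.treeCheck (Nat.add 3584 i)) = true := by decide +kernel

theorem two_tree : ∀ i < 4096, twoCert.treeCheck i = true := by
  intro i hi
  by_cases h0 : i < 512
  · have := List.all_eq_true.1 two_tree0 (i - 0) (List.mem_range.2 (by omega)); rwa [show Nat.add 0 (i - 0) = i from Nat.add_sub_cancel' (by omega)] at this
  by_cases h1 : i < 1024
  · have := List.all_eq_true.1 two_tree1 (i - 512) (List.mem_range.2 (by omega)); rwa [show Nat.add 512 (i - 512) = i from Nat.add_sub_cancel' (by omega)] at this
  by_cases h2 : i < 1536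
  · have := List.all_eq_true.1 two_tree2 (i - 1024) (List.mem_range.2 (by omega)); rwa [show Nat.add 1024 (i - 1024) = i from Nat.add_sub_cancel' (by omega)] at this
  by_cases h3 : i < 2048
  · have := List.all_eq_true.1 two_tree3 (i - 1536) (List.mem_range.2 (by omega)); rwa [show Nat.add 1536 (i - 1536) = i from Nat.add_sub_cancel' (by omega)] at this
  by_cases h4 : i < 2560
  · have := List.all_eq_true.1 two_tree4 (i - 2048) (List.mem_range.2 (by omega)); rwa [show Nat.add 2048 (i - 2048) = i from Nat.add_sub_cancel' (by omega)] at this
  by_cases h5 : i < 3072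
  · have := List.all_eq_true.1 two_tree5 (i - 2560) (List.mem_range.2 (by omega)); rwa [show Nat.add 2560 (i - 2560) = i from Nat.add_sub_cancel' (by omega)] at this
  by_cases h6 : i < 3584
  · have := List.all_eq_true.1 two_tree6 (i - 3072) (List.mem_range.2 (by omega)); rwa [show Nat.add 3072 (i - 3072) = i from Nat.add_sub_cancel' (by omega)] at this
  have := List.all_eq_true.1 two_tree7 (i - 3584) (List.mem_range.2 (by omega)); rwa [show Nat.add 3584 (i - 3584) = i from Nat.add_sub_cancel' (by omega)] at this


theorem two_ord0 : ((List.range 512).all fun i => twoCert.ordCheck twoOrd (Nat.add 0 i)) = true := by decide +kernel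

theorem two_ord1 : ((List.range 512).all fun i => twoCert.ordCheck twoOrd (Nat.add 512 i)) = true := by decide +kernel

theorem two_ord2 : ((List.range 512).all fun i => twoCert.ordCheck twoOrd (Nat.add 1024 i)) = true := by decide +kernel

theorem two_ord3 : ((List.range 512).all fun i => twoCert.ordCheck twoOrd (Nat.add 1536 i)) = true := by decide +kernel

theorem two_ord4 : ((List.range 512).all fun i => twoCert.ordCheck twoOrd (Nat.add 2048 i)) = true := by decide +kernel

theorem two_ord5 : ((List.range 512).all fun i => twoCert.ordCheck twoOrd (Nat.add 2560 i)) = true := by decide +kernel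

theorem two_ord6 : ((List.range 512).all fun i => twoCert.ordCheck twoOrd (Nat.add 3072 i)) = true := by decide +kernel

theorem two_ord7 : ((List.range 512).all fun i => twoCert.ordCheck twoOrd (Nat.add 3584 i)) = true := by decide +kernel

theorem two_ord : ∀ i < 4096, twoCert.ordCheck twoOrd i = true := by
  intro i hi
  by_cases h0 : i < 512
  · have := List.all_eq_true.1 two_ord0 (i - 0) (List.mem_range.2 (by omega)); rwa [show Nat.add 0 (i - 0) = i from Nat.add_sub_cancel' (by omega)] at this
  by_cases h1 : i < 1024
  · have := List.all_eq_true.1 two_ord1 (i - 512) (List.mem_range.2 (by omega)); rwa [show Nat.add 512 (i - 512) = i from Nat.add_sub_cancel' (by omega)] at this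
  by_cases h2 : i < 1536
  · have := List.all_eq_true.1 two_ord2 (i - 1024) (List.mem_range.2 (by omega)); rwa [show Nat.add 1024 (i - 1024) = i from Nat.add_sub_cancel' (by omega)] at this
  by_cases h3 : i < 2048
  · have := List.all_eq_true.1 two_ord3 (i - 1536) (List.mem_range.2 (by omega)); rwa [show Nat.add 1536 (i - 1536) = i from Nat.add_sub_cancel' (by omega)] at this
  by_cases h4 : i < 2560
  · have := List.all_eq_true.1 two_ord4 (i - 2048) (List.mem_range.2 (by omega)); rwa [show Nat.add 2048 (i - 2048) = i from Nat.add_sub_cancel' (by omega)] at this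
  by_cases h5 : i < 3072
  · have := List.all_eq_true.1 two_ord5 (i - 2560) (List.mem_range.2 (by omega)); rwa [show Nat.add 2560 (i - 2560) = i from Nat.add_sub_cancel' (by omega)] at this
  by_cases h6 : i < 3584
  · have := List.all_eq_true.1 two_ord6 (i - 3072) (List.mem_range.2 (by omega)); rwa [show Nat.add 3072 (i - 3072) = i from Nat.add_sub_cancel' (by omega)] at this
  have := List.all_eq_true.1 two_ord7 (i - 3584) (List.mem_range.2 (by omega)); rwa [show Nat.add 3584 (i - 3584) = i from Nat.add_sub_cancel' (by omega)] at this

end Cfsg.Agent.Lie.OEightTwoMult
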