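import Cfsg.Agent.Lib.Lie.OEightTwoMult.TwoCert

/-!
Kernel checks of the first half of the variables of the table (generated).
-/

set_option autoImplicit false
set_option maxRecDepth 100000
set_option maxHeartbeats 0
set_option Elab.async false

namespace Cfsg.Agent.Lie.OEightTwoMult

open Cfsg.Agent.Lie PermCover

theorem two_vars0 : ((List.range 512).all fun i => twoCert.varCheck (Nat.add 0 i)) = true := by decide +kernel

theorem two_vars1 : ((List.range 512).all fun i => twoCert.varCheck (Nat.add 512 i)) = true := by decide +kernel

theorem two_vars2 : ((List.range 512).all fun i => twoCert.varCheck (Nat.add 1024 i)) = true := by decide +kernel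

theorem two_vars3 : ((List.range 512).all fun i => twoCert.varCheck (Nat.add 1536 i)) = true := by decide +kernel

theorem two_vars4 : ((List.range 512).all fun i => twoCert.varCheck (Nat.add 2048 i)) = true := by decide +kernel

theorem two_vars5 : ((List.range 512).all fun i => twoCert.varCheck (Nat.add 2560 i)) = true := by decide +kernel

theorem two_vars6 : ((List.range 512).all fun i => twoCert.varCheck (Nat.add 3072 i)) = true := by decide +kernel

theorem two_vars7 : ((List.range 512).all fun i => twoCert.varCheck (Nat.add 3584 i)) = true := by decide +kernel

theorem two_vars8 : ((List.range 512).all fun i => twoCert.varCheck (Nat.add 4096 i)) = true := by decide +kernel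

theorem two_vars9 : ((List.range 512).all fun i => twoCert.varCheck (Nat.add 4608 i)) = true := by decide +kernel

theorem two_vars10 : ((List.range 512).all fun i => twoCert.varCheck (Nat.add 5120 i)) = true := by decide +kernel

theorem two_vars11 : ((List.range 512).all fun i => twoCert.varCheck (Nat.add 5632 i)) = true := by decide +kernel

theorem two_vars12 : ((List.range 512).all fun i => twoCert.varCheck (Nat.add 6144 i)) = true := by decide +kernel

theorem two_vars13 : ((List.range 512).all fun i => twoCert.varCheck (Nat.add 6656 i)) = true := by decide +kernel

theorem two_vars14 : ((List.range 512).all fun i => twoCert.varCheck (Nat.add 7168 i)) = true := by decide +kernel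

theorem two_vars15 : ((List.range 512).all fun i => twoCert.varCheck (Nat.add 7680 i)) = true := by decide +kernel

end Cfsg.Agent.Lie.OEightTwoMult
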